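import Cfsg.Agent.MaxSub.FormBasic

/-!
# Elementary facts about unitary forms over finite fields: isotropic vectors
-/

set_option autoImplicit false
set_option linter.unusedSectionVars false

namespace CfsgLib.MaxSub

open Matrix Cfsg.Geo

variable {ι : Type} [Fintype ι] [DecidableEq ι] {F : Type*} [Field F]

section Field

variable {σ : F ≃+* F}

theorem exists_moved (hne : σ ≠ RingEquiv.refl F) : ∃ d : F, σ d ≠ d := by
  by_contra h
  push Not at h
  exact hne (RingEquiv.ext fun x => h x)

/-- A non-zero scalar of trace zero. -/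
theorem exists_traceZero (hne : σ ≠ RingEquiv.refl F) (hinv : ∀ a, σ (σ a) = a) :
    ∃ c : F, c ≠ 0 ∧ σ c = -c := by
  obtain ⟨d, hd⟩ := exists_moved hne
  exact ⟨σ d - d, sub_ne_zero.mpr hd, by rw [map_sub, hinv]; ring⟩

/-- The trace map is surjective onto the fixed field. -/
theorem trace_surjective (hne : σ ≠ RingEquiv.refl F) (hinv : ∀ a, σ (σ a) = a) {a : F}
    (ha : σ a = a) : ∃ t : F, t + σ t = a := by
  obtain ⟨l, hl⟩ : ∃ l : F, l + σ l ≠ 0 := by
    by_contra h
    push Not at h
    refine hne (RingEquiv.ext fun x => ?_)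
    have h1 : (2 : F) = 0 := by
      have h2 := h 1
      rw [map_one] at h2
      linear_combination h2
    show σ x = x
    linear_combination h x - x * h1
  refine ⟨a / (l + σ l) * l, ?_⟩
  have hfix : σ (l + σ l) = l + σ l := by rw [map_add, hinv, add_comm]
  rw [map_mul, map_div₀, ha, hfix, ← mul_add, div_mul_cancel₀ _ hl]

/-- Over a finite field the norm map is surjective onto the fixed field. -/
theorem norm_surjective [Finite F] (hne : σ ≠ RingEquiv.refl F) (hinv : ∀ a, σ (σ a) = a) {a : F}
    (ha : σ a = a) : ∃ t : F, t * σ t = a := by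
  classical
  rcases eq_or_ne a 0 with rfl | ha0
  · exact ⟨0, by simp⟩
  cases nonempty_fintype F
  let s : Fˣ →* Fˣ := Units.map σ.toRingHom.toMonoidHom
  have hs : ∀ x : Fˣ, (s x : F) = σ (x : F) := fun _ => rfl
  -- `N` is the norm, `T` the map `y ↦ y / σ y`, `E` the fixed units
  let N : Fˣ →* Fˣ := MonoidHom.id _ * s
  let T : Fˣ →* Fˣ := MonoidHom.id _ * s⁻¹
  have hN : ∀ x : Fˣ, (N x : F) = (x : F) * σ (x : F) := fun x => rfl
  have hT : ∀ x : Fˣ, (T x : F) = (x : F) * (σ (x : F))⁻¹ := fun x => by
    simp [T, hs]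
  let E : Subgroup Fˣ :=
    { carrier := {x | σ (x : F) = x}
      mul_mem' := fun {x y} hx hy => by
        simp only [Set.mem_ofPred_eq] at hx hy ⊢
        rw [Units.val_mul, map_mul, hx, hy]
      one_mem' := by simp
      inv_mem' := fun {x} hx => by
        simp only [Set.mem_ofPred_eq] at hx ⊢
        rw [Units.val_inv_eq_inv_val, map_inv₀, hx] }
  have hTker : T.ker = E := by
    ext x
    rw [MonoidHom.mem_ker, Units.ext_iff, hT, Units.val_one,
      mul_inv_eq_one₀ (by simp)]
    exact eq_comm
  have hNker : N.ker = T.range := by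
    ext x
    constructor
    · intro hx
      rw [MonoidHom.mem_ker, Units.ext_iff, hN, Units.val_one] at hx
      by_cases h1 : (x : F) = -1
      · obtain ⟨c, hc0, hc⟩ := exists_traceZero hne hinv
        refine ⟨Units.mk0 c hc0, Units.ext ?_⟩
        rw [hT, h1, Units.val_mk0, hc, inv_neg, mul_neg, mul_inv_cancel₀ hc0]
      · have h2 : (x : F) + 1 ≠ 0 := fun h => h1 (eq_neg_of_add_eq_zero_left h)
        refine ⟨Units.mk0 _ h2, Units.ext ?_⟩
        have h3 : σ ((x : F) + 1) ≠ 0 := (map_ne_zero_iff σ σ.injective).mpr h2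
        rw [hT, Units.val_mk0, mul_inv_eq_iff_eq_mul₀ h3, map_add, map_one]
        linear_combination -hx
    · rintro ⟨y, rfl⟩
      rw [MonoidHom.mem_ker, Units.ext_iff, hN, hT, Units.val_one, map_mul, map_inv₀, hinv]
      have : σ (y : F) ≠ 0 := by simp
      field_simp
  have hle : N.range ≤ E := by
    rintro _ ⟨x, rfl⟩
    show σ (N x : F) = N x
    rw [hN, map_mul, hinv, mul_comm]
  have hcard : Nat.card E ≤ Nat.card N.range := by
    have h1 := N.ker.card_mul_index
    have h2 := T.ker.card_mul_index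
    rw [Subgroup.index_ker] at h1 h2
    rw [hTker] at h2
    rw [hNker] at h1
    rw [← h2, mul_comm] at h1
    exact (Nat.eq_of_mul_eq_mul_right Nat.card_pos h1).ge
  have heq := Subgroup.eq_of_le_of_card_ge hle hcard
  have hmem : Units.mk0 a ha0 ∈ N.range := by rw [heq]; exact ha
  obtain ⟨x, hx⟩ := hmem
  exact ⟨x, by rw [← hN, hx, Units.val_mk0]⟩

end Field

variable {σ : F ≃+* F} {f : (ι → F) → (ι → F) → F}

theorem herm_self (hf : IsUnitaryForm σ f) (v : ι → F) : σ (f v v) = f v v := (hf.herm v v).symm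

theorem unitary_orth_symm (hf : IsUnitaryForm σ f) {u v : ι → F} (h : f u v = 0) : f v u = 0 := by
  rw [hf.herm, h, map_zero]

theorem unitary_ne_symm (hf : IsUnitaryForm σ f) {u v : ι → F} (h : f u v ≠ 0) : f v u ≠ 0 :=
  fun h' => h (unitary_orth_symm hf h')

/-- Moving a vector along an isotropic vector to an isotropic vector. -/
theorem exists_iso_shift (hf : IsUnitaryForm σ f) {z w : ι → F} (hz : f z z = 0)
    (hwz : f w z ≠ 0) : ∃ t : F, f (w + t • z) (w + t • z) = 0 ∧ f (w + t • z) z = f w z := by
  have hs := sesqForm_of_unitary hf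
  obtain ⟨m, hm⟩ := trace_surjective hf.ne_refl hf.involutive
    (a := - f w w) (by rw [map_neg, herm_self hf])
  have hne : f z w ≠ 0 := unitary_ne_symm hf hwz
  refine ⟨m / f z w, ?_, ?_⟩
  · rw [hs.add_left, hs.add_right, hs.add_right, hs.smul_left, hs.smul_right, hs.smul_left,
      hs.smul_right, hz, mul_zero, mul_zero, add_zero, map_div₀, ← hf.herm w z,
      div_mul_cancel₀ _ hne, div_mul_cancel₀ _ hwz]
    linear_combination hm
  · rw [hs.add_left, hs.smul_left, hz, mul_zero, add_zero]

/-- A subspace of dimension more than half contains a non-isotropic vector. -/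
theorem exists_noniso (hf : IsUnitaryForm σ f) (K : Submodule F (ι → F))
    (hK : Fintype.card ι < 2 * Module.finrank F K) : ∃ t ∈ K, f t t ≠ 0 := by
  by_contra hcon
  push Not at hcon
  have hs := sesqForm_of_unitary hf
  have horth : ∀ s ∈ K, ∀ t ∈ K, f s t = 0 := by
    intro s hsK t htK
    by_contra hne
    have key : ∀ l : F, l * f s t + σ (l * f s t) = 0 := by
      intro l
      have := hcon (l • s + t) (K.add_mem (K.smul_mem l hsK) htK)
      rw [hs.add_left, hs.add_right, hs.add_right, hs.smul_left, hs.smul_right, hs.smul_left,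
        hs.smul_right, hcon s hsK, hcon t htK, mul_zero, mul_zero, zero_add, add_zero,
        hf.herm t s, ← map_mul] at this
      exact this
    obtain ⟨m, hm⟩ := trace_surjective hf.ne_refl hf.involutive (a := (1 : F)) (map_one σ)
    have := key (m / f s t)
    rw [div_mul_cancel₀ _ hne, hm] at this
    exact one_ne_zero this
  obtain ⟨C, hC⟩ := Submodule.exists_isCompl K
  let b := Module.finBasis F C
  let L : K →ₗ[F] (Fin (Module.finrank F C) → F) :=
    { toFun := fun s i => f (s : ι → F) (b i : ι → F)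
      map_add' := fun s t => funext fun i => hs.add_left _ _ _
      map_smul' := fun c s => funext fun i => hs.smul_left _ _ _ }
  have hL : Function.Injective L := by
    rw [injective_iff_map_eq_zero]
    intro s hs0
    by_contra hne
    obtain ⟨x, hx⟩ := (hf.nondegenerate (s : ι → F) (by simpa using hne)).2
    refine hx ?_
    have hx' : x ∈ K ⊔ C := hC.sup_eq_top ▸ Submodule.mem_top
    obtain ⟨k, hk, c, hc, rfl⟩ := Submodule.mem_sup.mp hx'
    rw [hs.add_right, horth _ s.2 k hk, zero_add]
    have hrep := b.sum_repr ⟨c, hc⟩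
    have hc' : (∑ i, b.repr ⟨c, hc⟩ i • (b i : ι → F)) = c := by
      have h := congrArg C.subtype hrep
      simp only [map_sum, map_smul, Submodule.subtype_apply] at h
      exact h
    rw [← hc']
    let R : (ι → F) →+ F :=
      { toFun := fun y => f (s : ι → F) y
        map_zero' := hs.zero_right _
        map_add' := hs.add_right _ }
    show R _ = 0
    rw [map_sum]
    refine Finset.sum_eq_zero fun i _ => ?_
    show f (s : ι → F) _ = 0
    rw [hs.smul_right]
    have hi : f (s : ι → F) (b i : ι → F) = 0 := congrFun hs0 i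
    rw [hi, mul_zero]
  have h1 := LinearMap.finrank_le_finrank_of_injective hL
  rw [Module.finrank_fin_fun] at h1
  have h2 := Submodule.finrank_add_eq_of_isCompl hC
  rw [Module.finrank_pi] at h2
  omega

/-- A subspace of dimension at least two contains a non-zero isotropic vector. -/
theorem exists_iso_mem [Finite F] (hf : IsUnitaryForm σ f) (K : Submodule F (ι → F))
    (hK : 2 ≤ Module.finrank F K) : ∃ z ∈ K, z ≠ 0 ∧ f z z = 0 := by
  have hs := sesqForm_of_unitary hf
  have hbot : K ≠ ⊥ := by rintro rfl; simp at hK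
  obtain ⟨w, hw, hw0⟩ := Submodule.exists_mem_ne_zero_of_ne_bot hbot
  by_cases ha : f w w = 0
  · exact ⟨w, hw, hw0, ha⟩
  obtain ⟨v, hv, hvw⟩ : ∃ v ∈ K, v ∉ Submodule.span F {w} := by
    by_contra h
    push Not at h
    have := Submodule.finrank_mono (h : K ≤ Submodule.span F {w})
    rw [finrank_span_singleton hw0] at this
    omega
  set t := v - (f v w / f w w) • w with ht
  have htK : t ∈ K := K.sub_mem hv (K.smul_mem _ hw)
  have htw : f t w = 0 := by
    rw [ht, hs.sub_left, hs.smul_left, div_mul_cancel₀ _ ha, sub_self]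
  have ht0 : t ≠ 0 := fun h => hvw (Submodule.mem_span_singleton.mpr ⟨_, (sub_eq_zero.mp h).symm⟩)
  by_cases hb : f t t = 0
  · exact ⟨t, htK, ht0, hb⟩
  obtain ⟨l, hl⟩ := norm_surjective hf.ne_refl hf.involutive (a := - f t t / f w w)
    (by rw [map_div₀, map_neg, herm_self hf, herm_self hf])
  refine ⟨t + l • w, K.add_mem htK (K.smul_mem _ hw), fun h => hvw ?_, ?_⟩
  · have : v = (f v w / f w w - l) • w := by
      rw [ht] at h
      rw [sub_smul]
      linear_combination (norm := module) h
    exact Submodule.mem_span_singleton.mpr ⟨_, this.symm⟩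
  · rw [hs.add_left, hs.add_right, hs.add_right, hs.smul_right, hs.smul_left, hs.smul_left,
      hs.smul_right, htw, unitary_orth_symm hf htw, ← mul_assoc, hl, div_mul_cancel₀ _ ha]
    ring

/-- The common kernel of `k` dot products. -/
noncomputable def dotsKer {k : ℕ} (L : Fin k → ι → F) : Submodule F (ι → F) :=
  (Matrix.of L).mulVecLin.ker

theorem mem_dotsKer {k : ℕ} {L : Fin k → ι → F} {x : ι → F} :
    x ∈ dotsKer L ↔ ∀ i, L i ⬝ᵥ x = 0 := by
  rw [dotsKer, LinearMap.mem_ker, mulVecLin_apply, funext_iff]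
  rfl

theorem finrank_dotsKer {k : ℕ} (L : Fin k → ι → F) :
    Fintype.card ι ≤ Module.finrank F (dotsKer L) + k := by
  have h2 := (Matrix.of L).mulVecLin.finrank_range_add_finrank_ker
  have h3 := Submodule.finrank_le (LinearMap.range (Matrix.of L).mulVecLin)
  rw [Module.finrank_pi] at h2
  rw [Module.finrank_fin_fun] at h3
  change Fintype.card ι ≤ Module.finrank F (Matrix.of L).mulVecLin.ker + k
  omega

/-- An isotropic vector in `u⊥` (arbitrary `u`) not orthogonal to `v ∈ u⊥ \ F u`, in dimension
at least seven. -/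
theorem exists_iso_not_orth [Finite F] (hf : IsUnitaryForm σ f) (hn : 7 ≤ Fintype.card ι)
    {u v : ι → F} (hne : ∀ c : F, c • u ≠ v) :
    ∃ z, f z u = 0 ∧ f z z = 0 ∧ f z v ≠ 0 := by
  have hs := sesqForm_of_unitary hf
  obtain ⟨w, hwu, hwv⟩ := hs.exists_orth_not_orth hne
  have h := finrank_dotsKer ![leftVec f u, leftVec f v, leftVec f w]
  obtain ⟨t, ht, htt⟩ := exists_noniso hf
    (dotsKer ![leftVec f u, leftVec f v, leftVec f w]) (by omega)
  rw [mem_dotsKer] at ht
  have h0 : f t u = 0 := by have := ht 0; simpa [hs.dot_leftVec] using this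
  have h1 : f t v = 0 := by have := ht 1; simpa [hs.dot_leftVec] using this
  have h2 : f t w = 0 := by have := ht 2; simpa [hs.dot_leftVec] using this
  obtain ⟨l, hl⟩ := norm_surjective hf.ne_refl hf.involutive (a := - f w w / f t t)
    (by rw [map_div₀, map_neg, herm_self hf, herm_self hf])
  refine ⟨w + l • t, ?_, ?_, ?_⟩
  · rw [hs.add_left, hs.smul_left, hwu, h0, mul_zero, add_zero]
  · rw [hs.add_left, hs.add_right, hs.add_right, hs.smul_right, hs.smul_left, hs.smul_left,
      hs.smul_right, h2, unitary_orth_symm hf h2, ← mul_assoc, hl, div_mul_cancel₀ _ htt]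
    ring
  · rw [hs.add_left, hs.smul_left, hwv, h1, mul_zero, add_zero]; exact one_ne_zero

end CfsgLib.MaxSub
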