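import Cfsg.Agent.MaxSub.FormBasic
import Cfsg.Agent.MaxSub.UnitaryBasic

/-!
# Quadratic forms in odd characteristic: values, singular vectors, Siegel transformations
-/

set_option autoImplicit false
set_option linter.unusedSectionVars false

namespace CfsgLib.MaxSub

open Matrix Cfsg.Geo

variable {ι : Type} [Fintype ι] [DecidableEq ι] {F : Type*} [Field F]

/-- Two invertible matrices with the same action are equal. -/
theorem gl_ext {g h : GL ι F}
    (e : ∀ x, (g : Matrix ι ι F) *ᵥ x = (h : Matrix ι ι F) *ᵥ x) : g = h :=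
  Units.ext (Matrix.mulVec_injective (funext e))

theorem SesqForm.two_finrank_le {σ : F ≃+* F} {f : (ι → F) → (ι → F) → F} (hs : SesqForm σ f)
    (K : Submodule F (ι → F)) (horth : ∀ s ∈ K, ∀ t ∈ K, f s t = 0) :
    2 * Module.finrank F K ≤ Fintype.card ι := by
  obtain ⟨C, hC⟩ := Submodule.exists_isCompl K
  let b := Module.finBasis F C
  let L : K →ₗ[F] (Fin (Module.finrank F C) → F) :=
    { toFun := fun s i => f (s : ι → F) (b i : ι → F)
      map_add' := fun s t => funext fun i => hs.add_left _ _ _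
      map_smul' := fun c s => funext fun i => hs.smul_left _ _ _ }
  have hL : Function.Injective L := by
    rw [injective_iff_map_eq_zero]
    intro s hs0
    by_contra hne
    obtain ⟨x, hx⟩ := (hs.nondegenerate (s : ι → F) (by simpa using hne)).2
    refine hx ?_
    have hx' : x ∈ K ⊔ C := hC.sup_eq_top ▸ Submodule.mem_top
    obtain ⟨k, hk, c, hc, rfl⟩ := Submodule.mem_sup.mp hx'
    rw [hs.add_right, horth _ s.2 k hk, zero_add]
    have hrep := b.sum_repr ⟨c, hc⟩
    have hc' : (∑ i, b.repr ⟨c, hc⟩ i • (b i : ι → F)) = c := by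
      have h := congrArg C.subtype hrep
      simp only [map_sum, map_smul, Submodule.subtype_apply] at h
      exact h
    rw [← hc']
    let R : (ι → F) →+ F :=
      { toFun := fun y => f (s : ι → F) y
        map_zero' := hs.zero_right _
        map_add' := hs.add_right _ }
    show R _ = 0
    rw [map_sum]
    refine Finset.sum_eq_zero fun i _ => ?_
    show f (s : ι → F) _ = 0
    rw [hs.smul_right]
    have hi : f (s : ι → F) (b i : ι → F) = 0 := congrFun hs0 i
    rw [hi, mul_zero]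
  have h1 := LinearMap.finrank_le_finrank_of_injective hL
  rw [Module.finrank_fin_fun] at h1
  have h2 := Submodule.finrank_add_eq_of_isCompl hC
  rw [Module.finrank_pi] at h2
  omega

variable {Q : (ι → F) → F}

local notation "B" => QuadraticMap.polar Q

theorem quad_add (x y : ι → F) : Q (x + y) = Q x + Q y + B x y := by
  simp only [QuadraticMap.polar]; ring

theorem quad_zero (hQ : IsNondegenerateQuadraticForm Q) : Q 0 = 0 := by
  simpa using hQ.smul 0 0

theorem polar_symm (x y : ι → F) : B x y = B y x := by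
  simp only [QuadraticMap.polar, add_comm x y]; ring

theorem polar_self (hQ : IsNondegenerateQuadraticForm Q) (x : ι → F) : B x x = 2 * Q x := by
  simp only [QuadraticMap.polar]
  rw [show x + x = (2 : F) • x by rw [two_smul], hQ.smul]; ring

theorem leftVec_dot (hQ : IsNondegenerateQuadraticForm Q) (v x : ι → F) :
    leftVec B v ⬝ᵥ x = B x v :=
  (sesqForm_of_quadratic hQ).dot_leftVec v x

/-- A subspace of dimension more than half contains a non-singular vector. -/
theorem exists_nonsingular (hQ : IsNondegenerateQuadraticForm Q) (K : Submodule F (ι → F))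
    (hK : Fintype.card ι < 2 * Module.finrank F K) : ∃ t ∈ K, Q t ≠ 0 := by
  by_contra hcon
  push Not at hcon
  have := (sesqForm_of_quadratic hQ).two_finrank_le K fun s hs t ht => by
    simp only [QuadraticMap.polar]
    rw [hcon _ hs, hcon _ ht, hcon _ (K.add_mem hs ht)]; ring
  omega

theorem exists_sq_add_sq [Fintype F] (hodd : Odd (Fintype.card F)) {a b : F} (ha : a ≠ 0)
    (hb : b ≠ 0) (c : F) : ∃ x y : F, a * x ^ 2 + b * y ^ 2 = c := by
  obtain ⟨x, y, hxy⟩ := FiniteField.exists_root_sum_quadratic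
    (f := Polynomial.C a * Polynomial.X ^ 2)
    (g := Polynomial.C b * Polynomial.X ^ 2 - Polynomial.C c)
    (Polynomial.degree_C_mul_X_pow 2 ha)
    (by rw [Polynomial.degree_sub_C (by rw [Polynomial.degree_C_mul_X_pow 2 hb]; norm_num),
      Polynomial.degree_C_mul_X_pow 2 hb]; rfl)
    (Nat.odd_iff.mp hodd)
  refine ⟨x, y, ?_⟩
  simp at hxy
  linear_combination hxy

theorem two_ne_zero_of_odd [Fintype F] (hodd : Odd (Fintype.card F)) : (2 : F) ≠ 0 :=
  Ring.two_ne_zero fun h => by
    have : CharP F 2 := ringChar.of_eq h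
    obtain ⟨n, -, hn⟩ := FiniteField.card F 2
    rw [hn] at hodd
    exact absurd hodd (Nat.not_odd_iff_even.mpr (Nat.even_pow.mpr ⟨even_two, n.pos.ne'⟩))

/-- A subspace of dimension at least three contains a non-zero singular vector. -/
theorem exists_singular_mem [Fintype F] (hQ : IsNondegenerateQuadraticForm Q)
    (hodd : Odd (Fintype.card F)) (K : Submodule F (ι → F)) (hK : 3 ≤ Module.finrank F K) :
    ∃ z ∈ K, z ≠ 0 ∧ Q z = 0 := by
  have h2 := two_ne_zero_of_odd hodd
  have hs := sesqForm_of_quadratic hQ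
  by_contra hcon
  push Not at hcon
  have hmeet : ∀ {k : ℕ} (L : Fin k → ι → F), k < 3 → ∃ z ∈ K, z ∈ dotsKer L ∧ z ≠ 0 := by
    intro k L hk
    have h1 := Submodule.finrank_sup_add_finrank_inf_eq K (dotsKer L)
    have h3 := Submodule.finrank_le (K ⊔ dotsKer L)
    rw [Module.finrank_pi] at h3
    have h4 := finrank_dotsKer L
    have : K ⊓ dotsKer L ≠ ⊥ := by
      intro h; rw [h, finrank_bot] at h1; omega
    obtain ⟨z, hz, hz0⟩ := Submodule.exists_mem_ne_zero_of_ne_bot this
    exact ⟨z, hz.1, hz.2, hz0⟩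
  obtain ⟨t₁, ht1K, -, ht10⟩ := hmeet (k := 0) ![] (by norm_num)
  obtain ⟨t₂, ht2K, ht2, ht20⟩ := hmeet ![leftVec B t₁] (by norm_num)
  obtain ⟨t₃, ht3K, ht3, ht30⟩ := hmeet ![leftVec B t₁, leftVec B t₂] (by norm_num)
  rw [mem_dotsKer] at ht2 ht3
  have h21 : B t₂ t₁ = 0 := by have := ht2 0; simpa [leftVec_dot hQ] using this
  have h31 : B t₃ t₁ = 0 := by have := ht3 0; simpa [leftVec_dot hQ] using this
  have h32 : B t₃ t₂ = 0 := by have := ht3 1; simpa [leftVec_dot hQ] using this
  obtain ⟨x, y, hxy⟩ := exists_sq_add_sq hodd (hcon t₁ ht1K ht10) (hcon t₂ ht2K ht20) (- Q t₃)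
  set z := x • t₁ + y • t₂ + t₃ with hz
  have hzK : z ∈ K := K.add_mem (K.add_mem (K.smul_mem _ ht1K) (K.smul_mem _ ht2K)) ht3K
  have hz3 : B z t₃ = 2 * Q t₃ := by
    rw [hz, hs.add_left, hs.add_left, hs.smul_left, hs.smul_left, polar_symm t₁, polar_symm t₂,
      h31, h32, polar_self hQ]
    ring
  have hz0 : z ≠ 0 := fun h => by
    rw [h, hs.zero_left] at hz3
    exact hcon t₃ ht3K ht30 ((mul_eq_zero.mp hz3.symm).resolve_left h2)
  refine hcon z hzK hz0 ?_
  rw [hz, quad_add (Q := Q), quad_add (Q := Q), hQ.smul, hQ.smul, hs.add_left, hs.smul_left, hs.smul_left,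
    hs.smul_left, hs.smul_right, polar_symm t₁ t₂, polar_symm t₁ t₃, polar_symm t₂ t₃, h21, h31,
    h32]
  linear_combination hxy

/-- A subspace of dimension at least `n / 2 + 3 / 2` takes every value. -/
theorem exists_value [Fintype F] (hQ : IsNondegenerateQuadraticForm Q)
    (hodd : Odd (Fintype.card F)) (K : Submodule F (ι → F))
    (hK : Fintype.card ι + 2 < 2 * Module.finrank F K) (a : F) : ∃ t ∈ K, Q t = a := by
  have hs := sesqForm_of_quadratic hQ
  obtain ⟨t₁, ht1, hQ1⟩ := exists_nonsingular hQ K (by omega)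
  obtain ⟨t₂, ⟨ht2, ht2'⟩, hQ2⟩ := exists_nonsingular hQ (K ⊓ dotsKer ![leftVec B t₁]) (by
    have h1 := Submodule.finrank_sup_add_finrank_inf_eq K (dotsKer ![leftVec B t₁])
    have h3 := Submodule.finrank_le (K ⊔ dotsKer ![leftVec B t₁])
    rw [Module.finrank_pi] at h3
    have h4 := finrank_dotsKer ![leftVec B t₁]
    omega)
  rw [SetLike.mem_coe, mem_dotsKer] at ht2'
  have h21 : B t₂ t₁ = 0 := by have := ht2' 0; simpa [leftVec_dot hQ] using this
  obtain ⟨x, y, hxy⟩ := exists_sq_add_sq hodd hQ1 hQ2 a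
  refine ⟨x • t₁ + y • t₂, K.add_mem (K.smul_mem _ ht1) (K.smul_mem _ ht2), ?_⟩
  rw [quad_add (Q := Q), hQ.smul, hQ.smul, hs.smul_left, hs.smul_right, polar_symm t₁ t₂, h21]
  linear_combination hxy

/-- A singular vector in `u⊥` not orthogonal to `v ∉ F u`, in dimension at least nine. -/
theorem exists_singular_not_orth [Fintype F] (hQ : IsNondegenerateQuadraticForm Q)
    (hodd : Odd (Fintype.card F)) (hn : 9 ≤ Fintype.card ι) {u v : ι → F}
    (hne : ∀ c : F, c • u ≠ v) : ∃ z, B z u = 0 ∧ Q z = 0 ∧ B z v ≠ 0 := by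
  have hs := sesqForm_of_quadratic hQ
  obtain ⟨w, hwu, hwv⟩ := hs.exists_orth_not_orth hne
  obtain ⟨t, ht, hQt⟩ := exists_value hQ hodd
    (dotsKer ![leftVec B u, leftVec B v, leftVec B w])
    (by have := finrank_dotsKer ![leftVec B u, leftVec B v, leftVec B w]; omega) (- Q w)
  rw [mem_dotsKer] at ht
  have h0 : B t u = 0 := by have := ht 0; simpa [leftVec_dot hQ] using this
  have h1 : B t v = 0 := by have := ht 1; simpa [leftVec_dot hQ] using this
  have h2 : B t w = 0 := by have := ht 2; simpa [leftVec_dot hQ] using this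
  refine ⟨w + t, ?_, ?_, ?_⟩
  · rw [hs.add_left, hwu, h0, add_zero]
  · rw [quad_add (Q := Q), hQt, polar_symm w t, h2]; ring
  · rw [hs.add_left, hwv, h1, add_zero]; exact one_ne_zero

/-! ### Siegel transformations -/

/-- The Siegel transformation `x ↦ x + B(x,u) w - B(x,w) u - Q(w) B(x,u) u`. -/
noncomputable def sieg (Q : (ι → F) → F) (u w : ι → F) : GL ι F :=
  tv w (leftVec (QuadraticMap.polar Q) u) *
    tv (-u) (leftVec (QuadraticMap.polar Q) w + Q w • leftVec (QuadraticMap.polar Q) u)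

theorem sieg_mulVec (hQ : IsNondegenerateQuadraticForm Q) {u w : ι → F} (hu : Q u = 0)
    (huw : B w u = 0) (x : ι → F) :
    (sieg Q u w : Matrix ι ι F) *ᵥ x = x + B x u • w - (B x w + Q w * B x u) • u := by
  have hs := sesqForm_of_quadratic hQ
  have h1 : leftVec B u ⬝ᵥ w = 0 := by rw [leftVec_dot hQ, huw]
  have h2 : (leftVec B w + Q w • leftVec B u) ⬝ᵥ (-u) = 0 := by
    rw [add_dotProduct, smul_dotProduct, leftVec_dot hQ, leftVec_dot hQ, hs.neg_left, hs.neg_left,
      polar_self hQ, hu, polar_symm u w, huw]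
    simp
  rw [sieg, Units.val_mul, ← mulVec_mulVec, tv_mulVec h2, tv_mulVec h1, leftVec_dot hQ,
    add_dotProduct, smul_dotProduct, leftVec_dot hQ, leftVec_dot hQ, hs.add_left, hs.smul_left,
    hs.neg_left, polar_self hQ, hu]
  simp only [smul_eq_mul, smul_neg]
  simp
  abel

theorem sieg_quad (hQ : IsNondegenerateQuadraticForm Q) {u w : ι → F} (hu : Q u = 0)
    (huw : B w u = 0) (x : ι → F) : Q ((sieg Q u w : Matrix ι ι F) *ᵥ x) = Q x := by
  have hs := sesqForm_of_quadratic hQ
  rw [sieg_mulVec hQ hu huw, sub_eq_add_neg, ← neg_smul, quad_add (Q := Q), quad_add (Q := Q), hQ.smul, hQ.smul,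
    hs.add_left, hs.smul_left, hs.smul_right, hs.smul_right, hs.smul_right, huw, hu]
  simp only [RingEquiv.refl_apply]
  ring

theorem polar_of_isometry {g : GL ι F} (hg : ∀ x, Q ((g : Matrix ι ι F) *ᵥ x) = Q x)
    (x y : ι → F) : B ((g : Matrix ι ι F) *ᵥ x) ((g : Matrix ι ι F) *ᵥ y) = B x y := by
  simp only [QuadraticMap.polar, ← mulVec_add, hg]

theorem leftVec_conj_isometry (hQ : IsNondegenerateQuadraticForm Q) {g : GL ι F}
    (hg : ∀ x, Q ((g : Matrix ι ι F) *ᵥ x) = Q x) (v : ι → F) :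
    leftVec B v ᵥ* ((g⁻¹ : GL ι F) : Matrix ι ι F) =
      leftVec B ((g : Matrix ι ι F) *ᵥ v) := by
  have hs := sesqForm_of_quadratic hQ
  refine dotProduct_eq _ _ fun x => ?_
  rw [hs.dot_leftVec_conj, leftVec_dot hQ,
    ← polar_of_isometry hg (((g⁻¹ : GL ι F) : Matrix ι ι F) *ᵥ x) v, mulVec_mulVec, Units.mul_inv,
    one_mulVec]

theorem sieg_mem (hQ : IsNondegenerateQuadraticForm Q) {u w : ι → F} (hu : Q u = 0)
    (huw : B w u = 0) :
    sieg Q u w ∈ quadSimilarityGroup Q ⊓ specialLinear ι F :=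
  ⟨⟨1, fun x => by rw [sieg_quad hQ hu huw, Units.val_one, one_mul]⟩,
    (specialLinear ι F).mul_mem (tv_mem_specialLinear _ _) (tv_mem_specialLinear _ _)⟩

end CfsgLib.MaxSub
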