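import Cfsg.Agent.MaxSub.SymplecticSubspace
import Cfsg.Agent.MaxSub.QuadraticBasic

/-!
# In characteristic two the orthogonal group is maximal in the symplectic group
-/

set_option autoImplicit false
set_option linter.unusedSectionVars false

namespace CfsgLib.MaxSub

open Matrix Cfsg.Geo

variable {F : Type*} [Field F] [Fintype F] {m : ℕ}

local notation "V" => (Fin m ⊕ Fin m → F)
local notation "ω" => Cfsg.sympForm m F
local notation "Mat" => Matrix (Fin m ⊕ Fin m) (Fin m ⊕ Fin m) F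

theorem exists_sq_eq_of_even (h : ¬ Odd (Fintype.card F)) (a : F) : ∃ s : F, s * s = a := by
  have h2 : ringChar F = 2 :=
    FiniteField.even_card_iff_char_two.mpr (Nat.even_iff.mp (Nat.not_odd_iff_even.mp h))
  obtain ⟨s, hs⟩ := FiniteField.isSquare_of_char_two h2 a
  exact ⟨s, hs.symm⟩

theorem two_eq_zero_of_even (h : ¬ Odd (Fintype.card F)) : (2 : F) = 0 := by
  have h2 : ringChar F = 2 :=
    FiniteField.even_card_iff_char_two.mpr (Nat.even_iff.mp (Nat.not_odd_iff_even.mp h))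
  have := ringChar.of_eq h2
  exact CharTwo.two_eq_zero

/-- The isometry group of a quadratic form polarising to the symplectic form is maximal. -/
theorem isMaximalIn_orthogonal_sp (hm : 3 ≤ m) (heven : ¬ Odd (Fintype.card F)) (Q : V → F)
    (hQ : IsNondegenerateQuadraticForm Q) (hpol : ∀ u v, QuadraticMap.polar Q u v = ω u v) :
    IsMaximalIn (Cfsg.spGL m F) (quadSimilarityGroup Q ⊓ Cfsg.spGL m F) := by
  have hs := sesq_sympForm (m := m) (F := F)
  have h2 := two_eq_zero_of_even heven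
  have hsq := exists_sq_eq_of_even heven
  have hadd : ∀ x y : V, Q (x + y) = Q x + Q y + ω x y := fun x y => by
    rw [quad_add (Q := Q), hpol]
  have hval : ∀ {k : ℕ} (L : Fin k → V) (a : F), k ≤ 2 →
      ∃ t : V, (∀ i, ω t (L i) = 0) ∧ Q t = a := by
    intro k L a hk
    have h1 := finrank_dotsKer fun i => leftVec ω (L i)
    rw [Fintype.card_sum, Fintype.card_fin] at h1
    obtain ⟨t, ht, hQt⟩ := exists_nonsingular hQ (dotsKer fun i => leftVec ω (L i))
      (by rw [Fintype.card_sum, Fintype.card_fin]; omega)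
    obtain ⟨c, hc⟩ := hsq (a / Q t)
    refine ⟨c • t, fun i => ?_, by rw [hQ.smul, sq, hc, div_mul_cancel₀ _ hQt]⟩
    rw [hs.smul_left, ← hs.dot_leftVec, (mem_dotsKer.mp ht) i, mul_zero]
  have hT : ∀ (v : V) (x : V),
      Q ((spTv v 1 : Mat) *ᵥ x) = Q x + ω x v ^ 2 * (Q v + 1) := by
    intro v x
    rw [spTv_mulVec, one_mul, hadd, hQ.smul, hs.smul_right]
    simp only [RingEquiv.refl_apply]
    ring
  have hTH : ∀ v : V, Q v = 1 → spTv v 1 ∈ quadSimilarityGroup Q ⊓ Cfsg.spGL m F := fun v hv =>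
    ⟨⟨1, fun x => by
      rw [hT, hv, one_add_one_eq_two, h2, mul_zero, add_zero, Units.val_one, one_mul]⟩,
      spTv_mem v 1⟩
  refine isMaximalIn_of inf_le_right ?_ fun M hHM hMK g hg hg' => ?_
  · -- a transvection with singular non-zero centre is not an isometry
    obtain ⟨t₁, -, ht₁⟩ := hval (k := 0) ![] 1 (by norm_num)
    have ht₁0 : t₁ ≠ 0 := fun h => by
      rw [h, quad_zero hQ] at ht₁; exact zero_ne_one ht₁
    obtain ⟨z, hz⟩ := (isSymplecticForm_sympForm.nondegenerate t₁ ht₁0).2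
    obtain ⟨t₂, ht₂, ht₂Q⟩ := hval ![t₁, z] 1 (by norm_num)
    have h21 : ω t₂ t₁ = 0 := ht₂ 0
    have h2z : ω t₂ z = 0 := ht₂ 1
    have hv : Q (t₁ + t₂) = 0 := by
      rw [hadd, ht₁, ht₂Q, Forms.sympForm_swap t₂ t₁, h21, one_add_one_eq_two, h2]; simp
    refine ⟨spTv (t₁ + t₂) 1, spTv_mem _ _, fun h => ?_⟩
    obtain ⟨c, hc⟩ := h.1
    have e1 : Q ((spTv (t₁ + t₂) 1 : Mat) *ᵥ t₁) = c * Q t₁ := hc t₁
    rw [hT, hv, hs.add_right, Forms.sympForm_self, Forms.sympForm_swap t₂ t₁, h21, ht₁] at e1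
    have hc1 : (c : F) = 1 := by simpa using e1.symm
    have e2 : Q ((spTv (t₁ + t₂) 1 : Mat) *ᵥ z) = c * Q z := hc z
    rw [hT, hv, hc1, hs.add_right, Forms.sympForm_swap t₁ z, Forms.sympForm_swap t₂ z, h2z] at e2
    simp [hz] at e2
  have hgs : g ∈ Cfsg.spGL m F := hMK hg
  let P : V → Prop := fun u => spTv u 1 ∈ M
  have hP1 : ∀ u, Q u = 1 → P u := fun u hu => hHM (hTH u hu)
  have hmove : ∀ u w, P u → P w → P (u + ω u w • w) := by
    intro u w hu hw
    have h := M.mul_mem (M.mul_mem hw hu) (M.inv_mem hw)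
    rw [conj_spTv (spTv_mem w 1), spTv_mulVec, one_mul] at h
    exact h
  -- a centre with a new value of `Q`
  obtain ⟨u, hu0, hu1, huP⟩ : ∃ u : V, u ≠ 0 ∧ Q u ≠ 1 ∧ P u := by
    by_contra hcon
    push Not at hcon
    refine hg' ⟨⟨1, ?_⟩, hgs⟩
    have hlev : ∀ v, Q v = 1 → Q ((g : Mat) *ᵥ v) = 1 := by
      intro v hv
      by_contra h
      have hv0 : v ≠ 0 := fun e => by rw [e, quad_zero hQ] at hv; exact zero_ne_one hv
      refine hcon _ (fun e => hv0 (mulVec_eq_zero e)) h ?_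
      show spTv _ 1 ∈ M
      rw [← conj_spTv hgs]
      exact M.mul_mem (M.mul_mem hg (hP1 v hv)) (M.inv_mem hg)
    intro v
    rw [Units.val_one, one_mul]
    obtain ⟨s, hs'⟩ := hsq (Q v)
    rcases eq_or_ne s 0 with rfl | hs0
    · rw [mul_zero] at hs'
      by_contra hne
      obtain ⟨r, hr⟩ := hsq (Q ((g : Mat) *ᵥ v))
      have hr0 : r ≠ 0 := by rintro rfl; rw [mul_zero] at hr; exact hne (by rw [← hr, hs'])
      have hinj : Function.Injective fun x : {x : V // Q x = 1} =>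
          (⟨(g : Mat) *ᵥ x.1, hlev x.1 x.2⟩ : {x : V // Q x = 1}) := fun x y hxy =>
        Subtype.ext (mulVec_injective_iff_isUnit.mpr g.isUnit (congrArg Subtype.val hxy))
      obtain ⟨⟨u', hu'⟩, hue⟩ := (Finite.injective_iff_surjective.mp hinj)
        ⟨r⁻¹ • ((g : Mat) *ᵥ v), by
          rw [hQ.smul, ← hr]; field_simp⟩
      have hue' : (g : Mat) *ᵥ u' = (g : Mat) *ᵥ (r⁻¹ • v) := by
        rw [mulVec_smul]; exact congrArg Subtype.val hue
      rw [mulVec_injective_iff_isUnit.mpr g.isUnit hue', hQ.smul, ← hs', mul_zero] at hu'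
      exact zero_ne_one hu'
    · have := hlev (s⁻¹ • v) (by rw [hQ.smul, ← hs']; field_simp)
      rw [mulVec_smul, hQ.smul] at this
      field_simp at this
      rw [this, ← hs']
      ring
  set a := Q u with ha
  -- transitivity on the vectors of value `a`
  have hstep : ∀ p p', Q p = a → Q p' = a → ω p p' ≠ 0 → P p → P p' := by
    intro p p' hp hp' hne hPp
    obtain ⟨s, hs'⟩ := hsq (ω p p')
    have hs0 : s ≠ 0 := by rintro rfl; rw [mul_zero] at hs'; exact hne hs'.symm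
    have hw : Q (s⁻¹ • (p + p')) = 1 := by
      rw [hQ.smul, hadd, hp, hp', ← two_mul a, h2, zero_mul, zero_add, ← hs']
      field_simp
    have h := hmove p _ hPp (hP1 _ hw)
    have e : p + ω p (s⁻¹ • (p + p')) • s⁻¹ • (p + p') = p' := by
      rw [hs.smul_right, hs.add_right, Forms.sympForm_self, zero_add, smul_smul,
        RingEquiv.refl_apply,
        show s⁻¹ * ω p p' * s⁻¹ = 1 by rw [← hs']; field_simp, one_smul]
      have : p + p = 0 := by rw [← two_smul F p, h2, zero_smul]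
      rw [← add_assoc, this, zero_add]
    rwa [e] at h
  have htrans : ∀ p', p' ≠ 0 → Q p' = a → P p' := by
    intro p' hp'0 hp'
    obtain ⟨z₀, -, h1, h3⟩ := exists_nonorth_two (U := ⊤)
      (fun w _ h0 => by
        obtain ⟨x, hx⟩ := (isSymplecticForm_sympForm.nondegenerate w h0).2
        exact ⟨x, trivial, hx⟩) (Submodule.mem_top (x := u)) (Submodule.mem_top (x := p')) hu0 hp'0
    obtain ⟨t, t1, t2, hzQ⟩ : ∃ t : V, ω t u = 0 ∧ ω t p' = 0 ∧ Q (z₀ + t) = a := by
      by_cases hns : ∃ t : V, ω t u = 0 ∧ ω t p' = 0 ∧ ω z₀ t = 0 ∧ Q t ≠ 0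
      · obtain ⟨t, t1, t2, t3, htQ⟩ := hns
        obtain ⟨c, hc⟩ := hsq ((a + Q z₀) / Q t)
        refine ⟨c • t, by rw [hs.smul_left, t1, mul_zero], by rw [hs.smul_left, t2, mul_zero], ?_⟩
        rw [hadd, hQ.smul, hs.smul_right, t3, mul_zero, sq, hc, div_mul_cancel₀ _ htQ]
        linear_combination Q z₀ * h2
      push Not at hns
      -- the vectors orthogonal to `u` and `p'` are not totally isotropic
      obtain ⟨y, hy1, hy2, w, hw1, hw2, hyw⟩ : ∃ y : V, ω y u = 0 ∧ ω y p' = 0 ∧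
          ∃ w : V, ω w u = 0 ∧ ω w p' = 0 ∧ ω y w ≠ 0 := by
        by_contra hcon
        push Not at hcon
        have hK : ∀ x ∈ dotsKer (fun i => leftVec ω (![u, p'] i)), ω x u = 0 ∧ ω x p' = 0 := fun x hx =>
          ⟨(hs.dot_leftVec u x).symm.trans ((mem_dotsKer.mp hx) 0),
            (hs.dot_leftVec p' x).symm.trans ((mem_dotsKer.mp hx) 1)⟩
        have h1 := finrank_dotsKer fun i => leftVec ω (![u, p'] i)
        have h2' := hs.two_finrank_le _ fun x hx y' hy' =>
          hcon x (hK x hx).1 (hK x hx).2 y' (hK y' hy').1 (hK y' hy').2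
        simp only [Fintype.card_sum, Fintype.card_fin] at h1 h2'
        omega
      obtain ⟨y, hy1, hy2, l, hl1, hl2, hl3, hyl⟩ : ∃ y : V, ω y u = 0 ∧ ω y p' = 0 ∧
          ∃ l : V, ω l u = 0 ∧ ω l p' = 0 ∧ ω z₀ l = 0 ∧ ω y l ≠ 0 := by
        rcases eq_or_ne (ω z₀ w) 0 with h | h
        · exact ⟨y, hy1, hy2, w, hw1, hw2, h, hyw⟩
        refine ⟨w, hw1, hw2, y - (ω z₀ y / ω z₀ w) • w, by rw [hs.sub_left, hs.smul_left, hy1, hw1]; ring,
          by rw [hs.sub_left, hs.smul_left, hy2, hw2]; ring, ?_, ?_⟩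
        · rw [hs.sub_right, hs.smul_right, RingEquiv.refl_apply, div_mul_cancel₀ _ h, sub_self]
        · rw [hs.sub_right, hs.smul_right, Forms.sympForm_self, mul_zero, sub_zero, Forms.sympForm_swap y w]
          exact neg_ne_zero.mpr hyw
      have hl0 : Q l = 0 := hns l hl1 hl2 hl3
      refine ⟨y + ((a + Q (z₀ + y)) / ω y l) • l, by rw [hs.add_left, hs.smul_left, hy1, hl1]; ring,
        by rw [hs.add_left, hs.smul_left, hy2, hl2]; ring, ?_⟩
      rw [← add_assoc, hadd, hQ.smul, hl0, hs.smul_right, hs.add_left, hl3, zero_add, RingEquiv.refl_apply,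
        div_mul_cancel₀ _ hyl]
      linear_combination Q (z₀ + y) * h2
    refine hstep _ p' hzQ hp' ?_ (hstep u _ rfl hzQ ?_ huP)
    · rwa [hs.add_left, t2, add_zero]
    · rwa [hs.add_right, Forms.sympForm_swap t u, t1, neg_zero, add_zero]
  refine spGL_le_of_forall_spTv fun v c => ?_
  obtain ⟨r, hr⟩ := hsq c
  rw [← one_mul c, ← hr, ← spTv_smul]
  show P (r • v)
  generalize r • v = v
  rcases eq_or_ne v 0 with rfl | hv0
  · exact centreIn_zero M 1
  by_cases hb : Q v = a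
  · exact htrans v hv0 hb
  have h1a : 1 + a ≠ 0 := fun e => hu1 (by linear_combination e - h2)
  obtain ⟨s, hs'⟩ := hsq ((Q v + a) / (1 + a))
  have hs0 : s ≠ 0 := by
    rintro rfl
    rw [mul_zero, eq_comm, div_eq_zero_iff] at hs'
    exact hb (by linear_combination hs'.resolve_right h1a - a * h2)
  obtain ⟨w, hw⟩ := (isSymplecticForm_sympForm.nondegenerate v hv0).2
  obtain ⟨t, ht, htQ⟩ := hval ![v, (s / ω v w) • w] (a + Q ((s / ω v w) • w)) (by norm_num)
  set w₀ := (s / ω v w) • w with hw₀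
  clear_value w₀
  have t1 : ω t v = 0 := ht 0
  have t2 : ω t w₀ = 0 := ht 1
  have hvw : ω v w₀ = s := by
    rw [hw₀, hs.smul_right]; exact div_mul_cancel₀ _ hw
  set u₂ := w₀ + t with hu2
  have hu2Q : Q u₂ = a := by
    rw [hu2, hadd, htQ, Forms.sympForm_swap t w₀, t2]
    linear_combination Q w₀ * h2
  have hvu2 : ω v u₂ = s := by
    rw [hu2, hs.add_right, hvw, Forms.sympForm_swap t v, t1, neg_zero, add_zero]
  clear_value u₂
  have hu20 : u₂ ≠ 0 := fun e => hs0 (by rw [← hvu2, e, hs.zero_right])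
  have hu1Q : Q (v + s • u₂) = a := by
    rw [hadd, hQ.smul, hu2Q, hs.smul_right, hvu2, RingEquiv.refl_apply]
    rw [eq_div_iff h1a] at hs'
    linear_combination hs' + Q v * h2
  have hu10 : v + s • u₂ ≠ 0 := fun e => by
    have := congrArg (fun y => ω y u₂) e
    simp only [hs.zero_left, hs.add_left, hs.smul_left, hvu2, Forms.sympForm_self] at this
    exact hs0 (by simpa using this)
  have h := hmove _ _ (htrans _ hu10 hu1Q) (htrans _ hu20 hu2Q)
  rw [hs.add_left, hs.smul_left, hvu2, Forms.sympForm_self, mul_zero, add_zero, add_assoc,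
    ← add_smul, ← two_mul, h2, zero_mul, zero_smul, add_zero] at h
  exact h

end CfsgLib.MaxSub
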