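import Cfsg.Agent.MaxSub.NotMaximalLinear
import Cfsg.Agent.MaxSub.OrthogonalInSymplectic

/-!
# Decompositions into symplectic planes over two elements are not maximal
-/

set_option autoImplicit false
set_option linter.unusedSectionVars false

namespace CfsgLib.MaxSub

open Matrix Cfsg.Geo

section plane

variable {ι : Type} [Fintype ι] [DecidableEq ι] {F : Type*} [Field F] [Fintype F]

theorem SesqForm.sum_left {σ : F ≃+* F} {f : (ι → F) → (ι → F) → F} (hs : SesqForm σ f)
    {α : Type*} (s : Finset α) (g : α → ι → F) (y : ι → F) :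
    f (∑ i ∈ s, g i) y = ∑ i ∈ s, f (g i) y :=
  map_sum (AddMonoidHom.mk' (fun x => f x y) fun a b => hs.add_left a b y) g s

theorem SesqForm.sum_right {σ : F ≃+* F} {f : (ι → F) → (ι → F) → F} (hs : SesqForm σ f)
    {α : Type*} (s : Finset α) (g : α → ι → F) (y : ι → F) :
    f y (∑ i ∈ s, g i) = ∑ i ∈ s, f y (g i) :=
  map_sum (AddMonoidHom.mk' (fun x => f y x) fun a b => hs.add_right y a b) g s

/-- The quadratic form which is `x² + x y + y²` on every member of a decomposition into planes. -/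
def planeForm {t : ℕ} (a : Fin t → Fin 2 → ι → F) (x : ι → F) : F :=
  ∑ i, ((a i 0 ⬝ᵥ x) ^ 2 + (a i 0 ⬝ᵥ x) * (a i 1 ⬝ᵥ x) + (a i 1 ⬝ᵥ x) ^ 2)

theorem polar_planeForm {t : ℕ} (a : Fin t → Fin 2 → ι → F) (h2 : (2 : F) = 0) (x y : ι → F) :
    QuadraticMap.polar (planeForm a) x y =
      ∑ i, ((a i 0 ⬝ᵥ x) * (a i 1 ⬝ᵥ y) + (a i 1 ⬝ᵥ x) * (a i 0 ⬝ᵥ y)) := by
  simp only [QuadraticMap.polar, planeForm, ← Finset.sum_sub_distrib, dotProduct_add]
  refine Finset.sum_congr rfl fun i _ => ?_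
  linear_combination ((a i 0 ⬝ᵥ x) * (a i 0 ⬝ᵥ y) + (a i 1 ⬝ᵥ x) * (a i 1 ⬝ᵥ y)) * h2

/-- Over two elements, the stabiliser of a decomposition into planes preserves `planeForm`. -/
theorem planeForm_invariant (hq : Fintype.card F = 2) {t : ℕ} {D : Fin t → Submodule F (ι → F)}
    {b a : Fin t → Fin 2 → ι → F} (hb : ∀ i r, b i r ∈ D i) (hd : ∀ i, a i 0 ⬝ᵥ b i 0 = 1)
    (hzero : ∀ i j r, i ≠ j → ∀ x ∈ D j, a i r ⬝ᵥ x = 0)
    (hsum : ∀ x : ι → F, x = ∑ i, ∑ r, (a i r ⬝ᵥ x) • b i r) {g : GL ι F}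
    (hg : g ∈ decompositionStabilizer D) (x : ι → F) :
    planeForm a ((g : Matrix ι ι F) *ᵥ x) = planeForm a x := by
  classical
  have h20 := two_eq_zero_of_card_two hq
  obtain ⟨σ, hσ⟩ := hg
  obtain ⟨τ, hτ⟩ := (decompositionStabilizer D).inv_mem (⟨σ, hσ⟩ : g ∈ decompositionStabilizer D)
  have hval : ∀ p r : F, p ^ 2 + p * r + r ^ 2 = if p = 0 ∧ r = 0 then 0 else 1 := by
    intro p r
    rcases eq_or_ne p 0 with rfl | hp
    · rcases eq_or_ne r 0 with rfl | hr
      · simp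
      · rw [if_neg (fun h => hr h.2), eq_one_of_card_two hq hr]; ring
    · rcases eq_or_ne r 0 with rfl | hr
      · rw [if_neg (fun h => hp h.1), eq_one_of_card_two hq hp]; ring
      · rw [if_neg (fun h => hp h.1), eq_one_of_card_two hq hp, eq_one_of_card_two hq hr]
        linear_combination h20
  simp only [planeForm, hval]
  rw [← Equiv.sum_comp σ]
  refine Finset.sum_congr rfl fun i _ => ?_
  have hτi : τ (σ i) = i := by
    by_contra hne
    have hmem : b i 0 ∈ D (τ (σ i)) := by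
      rw [← hτ (σ i), ← hσ i, ← Submodule.map_comp, ← Matrix.toLin'_mul, Units.inv_mul,
        Matrix.toLin'_one, Submodule.map_id]
      exact hb i 0
    have := hzero i (τ (σ i)) 0 (Ne.symm hne) _ hmem
    rw [hd] at this
    exact one_ne_zero this
  by_cases hz : a i 0 ⬝ᵥ x = 0 ∧ a i 1 ⬝ᵥ x = 0
  · rw [if_pos hz, if_pos]
    constructor <;>
      rw [coords_of_stabilizes hb hzero hsum hσ x i _, Fin.sum_univ_two, hz.1, hz.2,
        zero_mul, zero_mul, add_zero]
  · rw [if_neg hz, if_neg]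
    intro hz'
    refine hz ?_
    have hx : x = ((g⁻¹ : GL ι F) : Matrix ι ι F) *ᵥ ((g : Matrix ι ι F) *ᵥ x) := by
      rw [mulVec_mulVec, Units.inv_mul, one_mulVec]
    constructor <;>
      rw [hx, ← hτi, coords_of_stabilizes hb hzero hsum hτ _ (σ i) _, Fin.sum_univ_two,
        hz'.1, hz'.2, zero_mul, zero_mul, add_zero]

end plane

variable {F : Type*} [Field F] [Fintype F] {m : ℕ}

local notation "V" => (Fin m ⊕ Fin m → F)
local notation "ω" => Cfsg.sympForm m F
local notation "Mat" => Matrix (Fin m ⊕ Fin m) (Fin m ⊕ Fin m) F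

/-- Over two elements the stabiliser of a decomposition into planes is contained in an orthogonal
group. -/
theorem not_maximal_spPlanes (hm : 4 ≤ m) (hq : Fintype.card F = 2) {t : ℕ}
    {D : Fin t → Submodule F (Fin m ⊕ Fin m → F)}
    (hD : IsNondegenerateMDecomposition (Cfsg.sympForm m F) 2 D) :
    ∃ K : Subgroup (GL (Fin m ⊕ Fin m) F),
      decompositionStabilizer D ⊓ Cfsg.spGL m F < K ∧ K < Cfsg.spGL m F := by
  obtain ⟨b, a, hb, hdual, hzero, hsum⟩ := exists_decompCoords hD.decomp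
  have hs := sesq_sympForm (m := m) (F := F)
  have h20 := two_eq_zero_of_card_two hq
  have hd : ∀ i r, a i r ⬝ᵥ b i r = 1 := fun i r => by rw [hdual, if_pos ⟨rfl, rfl⟩]
  have hd' : ∀ i j r s, i ≠ j → a i r ⬝ᵥ b j s = 0 := fun i j r s hij => by
    rw [hdual, if_neg fun h => hij h.1]
  have hd10 : ∀ i, a i 1 ⬝ᵥ b i 0 = 0 := fun i => by rw [hdual, if_neg]; simp
  have hd01 : ∀ i, a i 0 ⬝ᵥ b i 1 = 0 := fun i => by rw [hdual, if_neg]; simp
  have horth : ∀ i j r s, i ≠ j → ω (b i r) (b j s) = 0 := fun i j r s hij =>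
    hD.orthogonal i j hij _ (hb i r) _ (hb j s)
  have hneg : ∀ c : F, -c = c := fun c => by linear_combination (-c) * h20
  have hb01 : ∀ i, ω (b i 0) (b i 1) = 1 := by
    intro i
    refine eq_one_of_card_two hq fun h0 => ?_
    have hb0 : b i 0 ≠ 0 := fun h => by
      have := hd i 0; rw [h, dotProduct_zero] at this; exact zero_ne_one this
    obtain ⟨-, z, hz, hzw⟩ := hD.nondegenerate i _ (hb i 0) hb0
    refine hzw ?_
    rw [hsum z, hs.sum_right]
    refine Finset.sum_eq_zero fun j _ => ?_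
    rw [Fin.sum_univ_two, hs.add_right, hs.smul_right, hs.smul_right]
    rcases eq_or_ne i j with rfl | hij
    · rw [h0, Forms.sympForm_self, mul_zero, mul_zero, add_zero]
    · rw [horth i j 0 0 hij, horth i j 0 1 hij, mul_zero, mul_zero, add_zero]
  have hb10 : ∀ i, ω (b i 1) (b i 0) = 1 := fun i => by
    rw [Forms.sympForm_swap, hb01, hneg]
  set Q := planeForm a with hQdef
  have hpolb : ∀ x i, QuadraticMap.polar Q x (b i 0) = a i 1 ⬝ᵥ x ∧
      QuadraticMap.polar Q x (b i 1) = a i 0 ⬝ᵥ x := by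
    intro x i
    constructor <;>
    · rw [hQdef, polar_planeForm a h20, Finset.sum_eq_single i (fun j _ hji => by
        rw [hd' _ _ _ _ hji, hd' _ _ _ _ hji]; ring)
        (fun h => absurd (Finset.mem_univ i) h), hd]
      simp [hd01, hd10]
  have hωb : ∀ x i, ω x (b i 0) = a i 1 ⬝ᵥ x ∧ ω x (b i 1) = a i 0 ⬝ᵥ x := by
    intro x i
    constructor <;>
    · conv_lhs => rw [hsum x]
      rw [hs.sum_left, Finset.sum_eq_single i (fun j _ hji => by
        rw [Fin.sum_univ_two, hs.add_left, hs.smul_left, hs.smul_left, horth _ _ _ _ hji,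
          horth _ _ _ _ hji]; ring)
        (fun h => absurd (Finset.mem_univ i) h), Fin.sum_univ_two, hs.add_left, hs.smul_left,
        hs.smul_left, Forms.sympForm_self]
      simp [hb01, hb10]
  have hpol : ∀ u v, QuadraticMap.polar Q u v = ω u v := by
    intro u v
    rw [hQdef, polar_planeForm a h20]
    conv_rhs => rw [hsum v, hs.sum_right]
    refine Finset.sum_congr rfl fun i _ => ?_
    rw [Fin.sum_univ_two, hs.add_right, hs.smul_right, hs.smul_right, (hωb u i).1, (hωb u i).2]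
    simp only [RingEquiv.refl_apply]
    ring
  have hQ : IsNondegenerateQuadraticForm Q := by
    refine ⟨fun c x => ?_, ⟨?_, ?_, ?_, ?_⟩, fun x hx => ?_⟩
    · simp only [hQdef, planeForm, dotProduct_smul, smul_eq_mul, Finset.mul_sum]
      exact Finset.sum_congr rfl fun i _ => by ring
    · intro x y z; simp only [hpol, hs.add_left]
    · intro c x z; simp only [hpol, hs.smul_left]
    · intro z x y; simp only [hpol, hs.add_right]
    · intro c z x; simp only [hpol, hs.smul_right, RingEquiv.refl_apply]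
    · obtain ⟨⟨z, hz⟩, ⟨w, hw⟩⟩ := isSymplecticForm_sympForm.nondegenerate x hx
      exact ⟨⟨z, by rw [hpol]; exact hz⟩, ⟨w, by rw [hpol]; exact hw⟩⟩
  refine ⟨quadSimilarityGroup Q ⊓ Cfsg.spGL m F, ?_,
    (isMaximalIn_orthogonal_sp (by omega) (by rw [hq]; decide) Q hQ hpol).1⟩
  refine lt_of_le_of_ne (fun g hg => ⟨⟨1, fun x => ?_⟩, hg.2⟩) fun heq => ?_
  · rw [Units.val_one, one_mul]
    exact planeForm_invariant hq hb (fun i => hd i 0) hzero hsum hg.1 x
  have ht : 3 ≤ t := by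
    have := finrank_dotsKer (fun k : Fin (t * 2) =>
      a (finProdFinEquiv.symm k).1 (finProdFinEquiv.symm k).2)
    have hker : dotsKer (fun k : Fin (t * 2) =>
        a (finProdFinEquiv.symm k).1 (finProdFinEquiv.symm k).2) = ⊥ := by
      rw [eq_bot_iff]
      intro x hx
      rw [mem_dotsKer] at hx
      rw [Submodule.mem_bot, hsum x]
      refine Finset.sum_eq_zero fun i _ => Finset.sum_eq_zero fun r _ => ?_
      have := hx (finProdFinEquiv (i, r))
      rw [Equiv.symm_apply_apply] at this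
      rw [this, zero_smul]
    rw [hker, finrank_bot, Fintype.card_sum, Fintype.card_fin] at this
    omega
  obtain ⟨i₀, i₁, i₂, h01, h02, h12⟩ : ∃ i j k : Fin t, i ≠ j ∧ i ≠ k ∧ j ≠ k :=
    ⟨⟨0, by omega⟩, ⟨1, by omega⟩, ⟨2, by omega⟩, by simp, by simp, by simp⟩
  have hQb : ∀ i, Q (b i 0) = 1 := by
    intro i
    rw [hQdef, planeForm, Finset.sum_eq_single i (fun j _ hji => by
      rw [hd' _ _ _ _ hji, hd' _ _ _ _ hji]; ring)
      (fun h => absurd (Finset.mem_univ i) h), hd, hd10]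
    ring
  obtain ⟨v, hv⟩ : ∃ v, v = b i₀ 0 + b i₁ 0 + b i₂ 0 := ⟨_, rfl⟩
  have hQv : Q v = 1 := by
    rw [hv, quad_add (Q := Q), quad_add (Q := Q), hpol, hpol, hs.add_left,
      horth _ _ _ _ h01, horth _ _ _ _ h02, horth _ _ _ _ h12, hQb, hQb, hQb]
    linear_combination h20
  have hmem : spTv v 1 ∈ quadSimilarityGroup Q ⊓ Cfsg.spGL m F := by
    refine ⟨⟨1, fun x => ?_⟩, spTv_mem v 1⟩
    rw [spTv_mulVec, one_mul, quad_add (Q := Q), hpol, hQ.smul, hs.smul_right, hQv,
      Units.val_one, one_mul, RingEquiv.refl_apply]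
    linear_combination (ω x v) ^ 2 * h20
  rw [← heq] at hmem
  refine notMem_decompositionStabilizer hzero (j := i₁) (l := i₂) (r := 0) (s := 0) h12
    (hb i₀ 1) ?_ ?_ hmem.1
  all_goals
    rw [spTv_mulVec, one_mul, hv, hs.add_right, hs.add_right, hb10, horth _ _ _ _ h01,
      horth _ _ _ _ h02, add_zero, add_zero, one_smul, dotProduct_add, dotProduct_add,
      dotProduct_add]
  · rw [hd' _ _ _ _ (Ne.symm h01), hd' _ _ _ _ (Ne.symm h01), hd, hd' _ _ _ _ h12]
    simp
  · rw [hd' _ _ _ _ (Ne.symm h02), hd' _ _ _ _ (Ne.symm h02), hd' _ _ _ _ (Ne.symm h12), hd]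
    simp

end CfsgLib.MaxSub
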