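import Cfsg.Agent.MaxSub.AbelianSocle

/-!
# The symplectic-type group of a socle abelian modulo scalars, and its classes
-/

set_option autoImplicit false
set_option linter.unusedSectionVars false

namespace CfsgLib.MaxSub

open Matrix Cfsg.Geo CfsgLib.Aschbacher

variable {ι : Type} [Fintype ι] [DecidableEq ι] {F : Type*} [Field F]
variable {H E : Subgroup (GL ι F)} {r : ℕ} [Nonempty ι]

/-- The basic properties of the elements of exponent dividing `k` in `E`. -/
structure SocleCore (E R : Subgroup (GL ι F)) (k : ℕ) : Prop where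
  le : R ≤ E
  pow_eq_one : ∀ x ∈ R, x ^ k = 1
  mem_of_pow : ∀ x ∈ E, x ^ k = 1 → x ∈ R
  scale : ∀ x ∈ E, ∃ β : Fˣ, scHom ι F β * x ∈ R

/-- Some commutation scalar is non-trivial. -/
theorem exists_kappa_ne_one [Finite F] (hS : SocleData H E r) (hn : 2 ≤ Fintype.card ι)
    {κ : GL ι F → GL ι F → Fˣ} (hκ : ∀ x ∈ E, ∀ y ∈ E, x * y = scHom ι F (κ x y) * (y * x)) :
    ∃ x ∈ E, ∃ y ∈ E, κ x y ≠ 1 := by
  by_contra hall
  push Not at hall
  have hs : ∀ x ∈ E, x ∈ scalars ι F := fun x hx =>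
    mem_scalars_of_commute hS.absIrred fun y hy => by
      rw [hκ x hx y hy, hall x hx y hy, map_one, one_mul]
  obtain ⟨i, j, hij⟩ := Fintype.exists_pair_of_one_lt_card (α := ι) (by omega)
  obtain ⟨c, hc⟩ := commute_of_absIrred hS.absIrred (M := Matrix.single i j (1 : F)) fun x hx => by
    obtain ⟨d, hd⟩ := (mem_scalars_iff x).1 (hs x hx)
    rw [show mat x = (d : F) • 1 from hd, Matrix.smul_mul, Matrix.mul_smul, one_mul, mul_one]
  have h1 := congrFun (congrFun hc i) j
  simp [hij] at h1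

theorem exists_socleCore (hS : SocleData H E r) {k : ℕ}
    (hk : (r ≠ 2 ∧ k = r) ∨ (r = 2 ∧ k = 4))
    (hscale : ∀ x ∈ E, ∃ β : Fˣ, (scHom ι F β * x) ^ k = 1) :
    ∃ R, SocleCore E R k ∧ Normalizes H R := by
  obtain ⟨κ, hκ⟩ := hS.exists_kappa
  have hchoose : ∀ y ∈ E, ∀ x ∈ E, κ y x ^ k.choose 2 = 1 := by
    intro y hy x hx
    have h := kappa_pow_eq_one hS hκ hy hx
    rcases hk with ⟨hr2, rfl⟩ | ⟨rfl, rfl⟩
    · obtain ⟨u, hu⟩ :=
        hS.prime.dvd_choose_self two_ne_zero (lt_of_le_of_ne hS.prime.two_le (Ne.symm hr2))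
      rw [hu, pow_mul, h, one_pow]
    · rw [show Nat.choose 4 2 = 2 * 3 from rfl, pow_mul, h, one_pow]
  let R : Subgroup (GL ι F) :=
    { carrier := {x | x ∈ E ∧ x ^ k = 1}
      one_mem' := ⟨one_mem E, one_pow k⟩
      mul_mem' := fun {x y} hx hy => ⟨mul_mem hx.1 hy.1, by
        rw [pow_mul_socle hS hκ hx.1 hy.1, hx.2, hy.2, hchoose y hy.1 x hx.1, map_one, one_mul,
          one_mul]⟩
      inv_mem' := fun {x} hx => ⟨inv_mem hx.1, by rw [inv_pow, hx.2, inv_one]⟩ }
  refine ⟨R, ⟨fun x hx => hx.1, fun x hx => hx.2, fun x hx h => ⟨hx, h⟩, fun x hx => ?_⟩,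
    fun g hg x hx => ⟨hS.normal g hg x hx.1, by rw [conj_pow, hx.2, mul_one, mul_inv_cancel]⟩⟩
  obtain ⟨β, hβ⟩ := hscale x hx
  exact ⟨β, mul_mem (hS.scalars_le (scHom_mem β)) hx, hβ⟩

variable {R : Subgroup (GL ι F)} {k : ℕ}

theorem SocleCore.absIrred (hR : SocleCore E R k) (hS : SocleData H E r) :
    ActsAbsolutelyIrreducibly (matrixSet R) := by
  have key : ∀ x ∈ E, ∃ c : F, c ≠ 0 ∧ ∃ y ∈ R, mat x = c • mat y := by
    intro x hx
    obtain ⟨β, hβ⟩ := hR.scale x hx
    refine ⟨((β⁻¹ : Fˣ) : F), Units.ne_zero _, _, hβ, ?_⟩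
    rw [show mat (scHom ι F β * x) = mat (scHom ι F β) * mat x from Units.val_mul _ _, mat_scHom,
      Matrix.smul_mul, one_mul, smul_smul, Units.inv_mul, one_smul]
  refine ⟨actsIrreducibly_iff.2 fun W hW => actsIrreducibly_iff.1 hS.absIrred.1 W fun x hx => ?_,
    fun M hM => hS.absIrred.2 M (forall_matrixSet.2 fun x hx => ?_)⟩
  · obtain ⟨c, -, y, hy, hc⟩ := key x hx
    refine mem_subspaceStabilizer_iff.2 fun w hw => ?_
    rw [hc, Matrix.smul_mulVec]
    exact W.smul_mem c (mem_subspaceStabilizer_iff.1 (hW hy) w hw)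
  · obtain ⟨c, -, y, hy, hc⟩ := key x hx
    show M * mat x = mat x * M
    rw [hc, Matrix.mul_smul, Matrix.smul_mul, hM _ (mem_matrixSet hy)]

theorem SocleCore.scalar_root (hR : SocleCore E R k) {c : Fˣ} (h : scHom ι F c ∈ R) : c ^ k = 1 :=
  scHom_injective (ι := ι) (by rw [map_pow, hR.pow_eq_one _ h, map_one])

theorem SocleCore.kappa_root (hR : SocleCore E R k) {κ : GL ι F → GL ι F → Fˣ}
    (hκ : ∀ x ∈ E, ∀ y ∈ E, x * y = scHom ι F (κ x y) * (y * x)) {x y : GL ι F} (hx : x ∈ R)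
    (hy : y ∈ R) : κ x y ^ k = 1 := by
  refine hR.scalar_root ?_
  have : scHom ι F (κ x y) = x * y * x⁻¹ * y⁻¹ := by
    rw [hκ x (hR.le hx) y (hR.le hy)]; group
  rw [this]
  exact mul_mem (mul_mem (mul_mem hx hy) (inv_mem hx)) (inv_mem hy)

/-- `R` is monomial over the `k`-th roots of unity. -/
theorem SocleCore.monomial [Finite F] (hR : SocleCore E R k) (hS : SocleData H E r) (hk : 0 < k)
    {ζ : F} (hζ : IsPrimitiveRoot ζ k) :
    ∃ B : GL ι F, ∀ x ∈ R, IsRootMonomial k (mat B * mat x * mat B⁻¹) := by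
  classical
  obtain ⟨κ, hκ⟩ := hS.exists_kappa
  -- a maximal abelian subgroup
  let S : Set (Subgroup (GL ι F)) := {A | A ≤ R ∧ ∀ x ∈ A, ∀ y ∈ A, x * y = y * x}
  obtain ⟨A, ⟨hAR, hAc⟩, hAmax⟩ := (Set.toFinite S).exists_maximal
    ⟨⊥, bot_le, fun x hx y hy => by rw [Subgroup.mem_bot.1 hx, Subgroup.mem_bot.1 hy]⟩
  have hcent : ∀ y ∈ R, (∀ a ∈ A, a * y = y * a) → y ∈ A := by
    intro y hy hya
    have hpair : ∀ a ∈ (A : Set (GL ι F)) ∪ {y}, ∀ b ∈ (A : Set (GL ι F)) ∪ {y}, a * b = b * a := by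
      rintro a (ha | rfl) b (hb | rfl)
      · exact hAc a ha b hb
      · exact hya a ha
      · exact (hya b hb).symm
      · rfl
    have hle : Subgroup.closure ((A : Set (GL ι F)) ∪ {y}) ≤
        Subgroup.centralizer (Subgroup.closure ((A : Set (GL ι F)) ∪ {y}) : Set (GL ι F)) := by
      rw [Subgroup.closure_le]
      intro a ha
      rw [SetLike.mem_coe, Subgroup.centralizer_closure, Subgroup.mem_centralizer_iff]
      exact fun b hb => hpair b hb a ha
    have hmem : Subgroup.closure ((A : Set (GL ι F)) ∪ {y}) ∈ S :=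
      ⟨(Subgroup.closure_le _).2 (Set.union_subset hAR (Set.singleton_subset_iff.2 hy)),
        fun a ha b hb => Subgroup.mem_centralizer_iff.1 (hle hb) a ha⟩
    exact hAmax hmem (fun a ha => Subgroup.subset_closure (Or.inl ha))
      (Subgroup.subset_closure (Or.inr rfl))
  -- a common eigenvector
  let T : Set (Submodule F (ι → F)) := {W | W ≠ ⊥ ∧ ∀ a ∈ A, ∀ w ∈ W, mat a *ᵥ w ∈ W}
  obtain ⟨W, ⟨hW0, hWinv⟩, hWmin⟩ := (wellFounded_lt (α := Submodule F (ι → F))).has_min T
    ⟨⊤, top_ne_bot, fun _ _ _ _ => trivial⟩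
  have heig : ∀ a : A, ∃ c : F, c ^ k = 1 ∧ ∀ w ∈ W, mat a.1 *ᵥ w = c • w := by
    intro a
    have hne : ∃ c ∈ Polynomial.nthRootsFinset k (1 : F), ∃ w ∈ W, w ≠ 0 ∧ mat a.1 *ᵥ w = c • w := by
      by_contra hall
      push Not at hall
      obtain ⟨w, hw, hw0⟩ := Submodule.exists_mem_ne_zero_of_ne_bot hW0
      have key : ∀ s : Finset F, s ⊆ Polynomial.nthRootsFinset k (1 : F) →
          Polynomial.aeval (mat a.1) (∏ c ∈ s, (Polynomial.X - Polynomial.C c)) *ᵥ w ∈ W ∧
          Polynomial.aeval (mat a.1) (∏ c ∈ s, (Polynomial.X - Polynomial.C c)) *ᵥ w ≠ 0 := by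
        intro s
        induction s using Finset.induction_on with
        | empty => intro _; simpa using ⟨hw, hw0⟩
        | @insert c s hc ih =>
          intro hsub
          obtain ⟨h1, h2⟩ := ih fun x hx => hsub (Finset.mem_insert_of_mem hx)
          rw [Finset.prod_insert hc, map_mul, ← mulVec_mulVec, map_sub, Polynomial.aeval_X,
            Polynomial.aeval_C, Algebra.algebraMap_eq_smul_one, sub_mulVec, smul_mulVec, one_mulVec]
          exact ⟨W.sub_mem (hWinv a.1 a.2 _ h1) (W.smul_mem c h1), fun h => hall c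
            (hsub (Finset.mem_insert_self _ _)) _ h1 h2 (sub_eq_zero.1 h)⟩
      refine (key _ subset_rfl).2 ?_
      rw [← Polynomial.X_pow_sub_one_eq_prod hk hζ, map_sub, map_pow, Polynomial.aeval_X, map_one,
        show mat a.1 ^ k = 1 by
          rw [← Units.val_pow_eq_pow_val, hR.pow_eq_one _ (hAR a.2), Units.val_one],
        sub_self, zero_mulVec]
    obtain ⟨c, hc, w, hw, hw0, hwe⟩ := hne
    rw [Polynomial.mem_nthRootsFinset hk] at hc
    refine ⟨c, hc, fun z hz => ?_⟩
    let W' : Submodule F (ι → F) := W ⊓ LinearMap.ker (Matrix.toLin' (mat a.1) - c • LinearMap.id)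
    have hW' : ∀ z, z ∈ W' ↔ z ∈ W ∧ mat a.1 *ᵥ z = c • z := by
      intro z
      simp [W', Submodule.mem_inf, sub_eq_zero]
    have hmem : W' ∈ T := by
      refine ⟨fun h => hw0 ?_, fun b hb u hu => ?_⟩
      · have := (hW' w).2 ⟨hw, hwe⟩
        rwa [h, Submodule.mem_bot] at this
      · obtain ⟨hu1, hu2⟩ := (hW' u).1 hu
        refine (hW' _).2 ⟨hWinv b hb u hu1, ?_⟩
        rw [mulVec_mulVec, show mat a.1 * mat b = mat b * mat a.1 by
          simp only [mat, ← Units.val_mul, hAc a.1 a.2 b hb], ← mulVec_mulVec, hu2, mulVec_smul]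
    have heq : W' = W := eq_of_le_of_not_lt inf_le_left fun h => hWmin W' hmem h
    exact ((hW' z).1 (heq.symm ▸ hz)).2
  choose χ hχk hχ using heig
  obtain ⟨v, hvW, hv0⟩ := Submodule.exists_mem_ne_zero_of_ne_bot hW0
  let Q := R ⧸ A.subgroupOf R
  have : Fintype Q := Fintype.ofFinite Q
  let u : Q → ι → F := fun q => mat q.out.1 *ᵥ v
  have hu0 : ∀ q, u q ≠ 0 := fun q h => hv0 (by
    have := congrArg (fun z => mat q.out.1⁻¹ *ᵥ z) h
    simpa [u, mulVec_mulVec, mat] using this)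
  let ψ : Q → A → F := fun q a => ((κ a.1 q.out.1 : Fˣ) : F) * χ a
  have hau : ∀ q (a : A), mat a.1 *ᵥ u q = ψ q a • u q := by
    intro q a
    have e := congrArg mat (hκ a.1 (hR.le (hAR a.2)) q.out.1 (hR.le q.out.2))
    simp only [mat, Units.val_mul] at e
    simp only [u, ψ, mulVec_mulVec, mat]
    rw [e, show ((scHom ι F (κ a.1 q.out.1) : GL ι F) : Matrix ι ι F) = _ from mat_scHom _,
      Matrix.smul_mul, one_mul, Matrix.smul_mulVec, ← mulVec_mulVec, show
      ((a.1 : GL ι F) : Matrix ι ι F) *ᵥ v = χ a • v from hχ a v hvW, mulVec_smul, smul_smul]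
  have hχ0 : ∀ a, χ a ≠ 0 := fun a h => by
    have := hχk a
    rw [h, zero_pow hk.ne'] at this
    exact zero_ne_one this
  have hψ : ∀ q q', q ≠ q' → ∃ a, ψ q a ≠ ψ q' a := by
    intro q q' hne
    by_contra hall
    push Not at hall
    refine hne ?_
    rw [← QuotientGroup.out_eq' q, ← QuotientGroup.out_eq' q', QuotientGroup.eq,
      Subgroup.mem_subgroupOf]
    refine hcent _ (mul_mem (inv_mem q.out.2) q'.out.2) fun a ha => ?_
    have e : κ a q.out.1 = κ a q'.out.1 :=
      Units.ext (mul_right_cancel₀ (hχ0 ⟨a, ha⟩) (hall ⟨a, ha⟩))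
    have h1 : a * q.out.1 * a⁻¹ = scHom ι F (κ a q.out.1) * q.out.1 := by
      rw [hκ a (hR.le (hAR ha)) _ (hR.le q.out.2)]; group
    have h2 : a * q'.out.1 * a⁻¹ = scHom ι F (κ a q.out.1) * q'.out.1 := by
      rw [e, hκ a (hR.le (hAR ha)) _ (hR.le q'.out.2)]; group
    have e1 : a * (q.out.1⁻¹ * q'.out.1) * a⁻¹ = q.out.1⁻¹ * q'.out.1 := by
      calc a * (q.out.1⁻¹ * q'.out.1) * a⁻¹ = (a * q.out.1 * a⁻¹)⁻¹ * (a * q'.out.1 * a⁻¹) := by
            group
        _ = _ := by rw [h1, h2]; group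
    show a * (q.out.1⁻¹ * q'.out.1) = q.out.1⁻¹ * q'.out.1 * a
    nth_rewrite 2 [← e1]
    group
  have hli : LinearIndependent F u := by
    have key : ∀ (s : Finset Q) (c : Q → F), ∑ q ∈ s, c q • u q = 0 → ∀ q ∈ s, c q = 0 := by
      intro s
      induction s using Finset.induction_on with
      | empty => simp
      | @insert j s hj ih =>
        intro c hc
        have hrest : ∀ q ∈ s, c q = 0 := by
          intro q hq
          obtain ⟨a, ha⟩ := hψ q j (fun h => hj (h ▸ hq))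
          have h1 := congrArg (fun z => mat a.1 *ᵥ z - ψ j a • z) hc
          simp only [mulVec_sum, mulVec_smul, hau, smul_smul, Finset.smul_sum, mulVec_zero, smul_zero,
            sub_zero, ← Finset.sum_sub_distrib, ← sub_smul] at h1
          rw [Finset.sum_insert hj, mul_comm (c j), sub_self, zero_smul, zero_add] at h1
          have := ih (fun x => c x * ψ x a - ψ j a * c x) h1 q hq
          have : c q * (ψ q a - ψ j a) = 0 := by linear_combination this
          exact (mul_eq_zero.1 this).resolve_right (sub_ne_zero.2 ha)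
        rw [Finset.sum_insert hj, Finset.sum_eq_zero fun q hq => by rw [hrest q hq, zero_smul],
          add_zero] at hc
        intro q hq
        rcases Finset.mem_insert.1 hq with rfl | hq
        · exact (smul_eq_zero.1 hc).resolve_right (hu0 _)
        · exact hrest q hq
    rw [Fintype.linearIndependent_iff]
    exact fun c hc q => key Finset.univ c hc q (Finset.mem_univ q)
  -- the action of `R`
  have hact : ∀ (x : R) q, ∃ c : F, c ^ k = 1 ∧ mat x.1 *ᵥ u q = c • u (x • q) := by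
    intro x q
    obtain ⟨a, ha, hxa⟩ : ∃ a ∈ A, x.1 * q.out.1 = (x • q : Q).out.1 * a := by
      refine ⟨(x • q : Q).out.1⁻¹ * (x.1 * q.out.1), ?_, by group⟩
      have : (((x • q : Q).out : R) : Q) = ((x * q.out : R) : Q) := by
        rw [QuotientGroup.out_eq']
        conv_lhs => rw [← QuotientGroup.out_eq' q]
        rfl
      exact Subgroup.mem_subgroupOf.1 (QuotientGroup.eq.1 this)
    refine ⟨χ ⟨a, ha⟩, hχk _, ?_⟩
    simp only [u, mulVec_mulVec, mat, ← Units.val_mul, hxa]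
    rw [Units.val_mul, ← mulVec_mulVec, show ((a : GL ι F) : Matrix ι ι F) *ᵥ v = χ ⟨a, ha⟩ • v from
      hχ ⟨a, ha⟩ v hvW, mulVec_smul]
  choose c hck hc using hact
  have hspan : Submodule.span F (Set.range u) = ⊤ := by
    refine (actsIrreducibly_iff.1 (hR.absIrred hS).1 _ fun x hx => ?_).resolve_left fun h => ?_
    · refine mem_subspaceStabilizer_iff.2 fun w hw => ?_
      have : Submodule.span F (Set.range u) ≤
          (Submodule.span F (Set.range u)).comap (Matrix.toLin' (mat x)) := by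
        rw [Submodule.span_le]
        rintro _ ⟨q, rfl⟩
        show Matrix.toLin' (mat x) (u q) ∈ Submodule.span F (Set.range u)
        rw [toLin'_apply, show mat x *ᵥ u q = _ from hc ⟨x, hx⟩ q]
        exact Submodule.smul_mem _ _ (Submodule.subset_span ⟨_, rfl⟩)
      simpa using this hw
    · have := Submodule.subset_span (R := F) (s := Set.range u) ⟨((1 : R) : Q), rfl⟩
      rw [h] at this
      exact hu0 _ this
  have hcard : Fintype.card Q = Fintype.card ι := by
    rw [← finrank_span_eq_card hli, hspan, finrank_top, Module.finrank_fintype_fun_eq_card]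
  obtain ⟨e⟩ : Nonempty (ι ≃ Q) := ⟨Fintype.equivOfCardEq hcard.symm⟩
  let P₀ : Matrix ι ι F := Matrix.of fun p i => u (e i) p
  have hP₀ : IsUnit P₀ := by
    rw [← Matrix.linearIndependent_cols_iff_isUnit]
    exact hli.comp e e.injective
  refine ⟨hP₀.unit⁻¹, fun x hx => ?_⟩
  let σ : Equiv.Perm ι := (e.trans (MulAction.toPerm (⟨x, hx⟩ : R))).trans e.symm
  refine ⟨σ⁻¹, fun i => c ⟨x, hx⟩ (e (σ⁻¹ i)), fun i => hck _ _, ?_⟩
  rw [inv_inv]
  have hmul : mat x * P₀ = P₀ * monomialMat σ⁻¹ (fun i => c ⟨x, hx⟩ (e (σ⁻¹ i))) := by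
    ext p j
    have h1 := congrFun (hc ⟨x, hx⟩ (e j)) p
    simp only [monomialMat, Matrix.mul_apply, Matrix.of_apply, mul_ite, mul_zero]
    refine (Eq.trans ?_ h1).trans ?_
    · rfl
    · rw [Finset.sum_eq_single (σ j) (fun i _ hi => by
        rw [if_neg fun h => hi (by rw [h]; exact (σ.apply_symm_apply i).symm)])
        (fun h => absurd (Finset.mem_univ _) h), if_pos (by simp : j = σ⁻¹ (σ j)),
        show σ⁻¹ (σ j) = j by simp, Pi.smul_apply, smul_eq_mul, mul_comm]
      congr 1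
      simp [P₀, σ]
  calc mat hP₀.unit⁻¹ * mat x * mat hP₀.unit
      = mat hP₀.unit⁻¹ * (mat x * P₀) := by rw [mul_assoc]; rfl
    _ = mat hP₀.unit⁻¹ * mat hP₀.unit * _ := by rw [hmul, mul_assoc]; rfl
    _ = _ := by rw [mat_inv_mul, one_mul]

theorem scHom_mem_core (hR : SocleCore E R k) (hS : SocleData H E r) {c : Fˣ} (h : c ^ k = 1) :
    scHom ι F c ∈ R :=
  hR.mem_of_pow _ (hS.scalars_le (scHom_mem c)) (by rw [← map_pow, h, map_one])

/-- The class six data. -/
theorem SocleCore.linearData [Fintype F] (hR : SocleCore E R k) (hS : SocleData H E r)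
    (hRn : Normalizes H R) {m : ℕ} (hm : Fintype.card ι = r ^ m) (hn : 3 ≤ Fintype.card ι)
    (hk : (r ≠ 2 ∧ k = r) ∨ (r = 2 ∧ k = 4)) {ζ : Fˣ} (hζ : IsPrimitiveRoot ζ k)
    {p e : ℕ} (hrp : r ≠ p) (hfield : IsMinimalFieldFor k p e F) (he : Odd e) (he4 : k = 4 → e = 1) :
    IsLinearSymplecticTypeData r R := by
  classical
  have hm0 : 1 ≤ m := by
    rcases Nat.eq_zero_or_pos m with rfl | h
    · rw [pow_zero] at hm; omega
    · exact h
  have hkr : ∃ j, k = r ^ j := by
    rcases hk with ⟨-, rfl⟩ | ⟨rfl, rfl⟩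
    · exact ⟨1, (pow_one _).symm⟩
    · exact ⟨2, rfl⟩
  have hk0 : 0 < k := by rcases hk with ⟨-, rfl⟩ | ⟨rfl, rfl⟩; exacts [hS.prime.pos, by norm_num]
  have hcomm : ∀ x ∈ scalars ι F, ∀ y : GL ι F, x * y = y * x := fun x hx y => scalars_comm hx
  -- the scalars of `R`
  have hmu : Nat.card ↥(R ⊓ scalars ι F) = k := by
    have hbij : Function.Bijective (fun c : rootsOfUnity k F =>
        (⟨scHom ι F c.1, scHom_mem_core hR hS ((mem_rootsOfUnity _ _).1 c.2), scHom_mem _⟩ :
          ↥(R ⊓ scalars ι F))) := by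
      refine ⟨fun a b h => Subtype.ext (scHom_injective (congrArg Subtype.val h)), fun x => ?_⟩
      obtain ⟨c, hc⟩ := exists_scHom x.2.2
      exact ⟨⟨c, (mem_rootsOfUnity _ _).2 (hR.scalar_root (hc ▸ x.2.1))⟩, Subtype.ext hc.symm⟩
    have : NeZero k := ⟨hk0.ne'⟩
    rw [← Nat.card_eq_of_bijective _ hbij]
    exact (hζ.map_of_injective (f := Units.coeHom F) Units.val_injective).card_rootsOfUnity
  have hcenter : Nat.card (Subgroup.center R) = k := by
    rw [← hmu]
    refine Nat.card_congr ⟨fun x => ⟨x.1.1, x.1.2, mem_scalars_of_commute (hR.absIrred hS) fun y hy => ?_⟩,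
      fun x => ⟨⟨x.1, x.2.1⟩, Subgroup.mem_center_iff.2 fun y => Subtype.ext (hcomm x.1 x.2.2 y.1).symm⟩,
      fun x => rfl, fun x => rfl⟩
    exact (congrArg Subtype.val (Subgroup.mem_center_iff.1 x.2 ⟨y, hy⟩)).symm
  have hcardR : Nat.card R = k * Fintype.card ι ^ 2 := by
    let π : R →* E ⧸ (scalars ι F).subgroupOf E :=
      (QuotientGroup.mk' _).comp (Subgroup.inclusion hR.le)
    have hsurj : Function.Surjective π := by
      intro q
      obtain ⟨x, rfl⟩ := QuotientGroup.mk'_surjective _ q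
      obtain ⟨β, hβ⟩ := hR.scale x.1 x.2
      refine ⟨⟨_, hβ⟩, ?_⟩
      show (QuotientGroup.mk (⟨scHom ι F β * x.1, hR.le hβ⟩ : E) : E ⧸ (scalars ι F).subgroupOf E) = QuotientGroup.mk x
      rw [QuotientGroup.eq, Subgroup.mem_subgroupOf]
      show (scHom ι F β * x.1)⁻¹ * x.1 ∈ scalars ι F
      rw [scHom_comm, _root_.mul_inv_rev, mul_assoc, inv_mul_cancel, mul_one]
      exact inv_mem (scHom_mem β)
    have h1 := π.ker.card_eq_card_quotient_mul_card_subgroup
    rw [Nat.card_congr (QuotientGroup.quotientKerEquivOfSurjective π hsurj).toEquiv,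
      card_quot_eq hS] at h1
    rw [h1, mul_comm, ← hmu]
    congr 1
    exact Nat.card_congr ⟨fun x => ⟨x.1.1, x.1.2,
        Subgroup.mem_subgroupOf.1 ((QuotientGroup.eq_one_iff (Subgroup.inclusion hR.le x.1)).1 x.2)⟩,
      fun x => ⟨⟨x.1, x.2.1⟩, (QuotientGroup.eq_one_iff _).2 (Subgroup.mem_subgroupOf.2 x.2.2)⟩,
      fun x => rfl, fun x => rfl⟩
  have hexp : Monoid.exponent R = k := by
    refine Nat.dvd_antisymm (Monoid.exponent_dvd_of_forall_pow_eq_one fun x =>
      Subtype.ext (by simpa using hR.pow_eq_one x.1 x.2)) ?_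
    have hmem := scHom_mem_core hR hS hζ.pow_eq_one
    have h1 := congrArg Subtype.val (Monoid.pow_exponent_eq_one (⟨_, hmem⟩ : R))
    refine hζ.dvd_of_pow_eq_one _ (scHom_injective (ι := ι) ?_)
    rw [map_pow, map_one]
    simpa using h1
  have hcyc : ∀ A : Subgroup R, A.Characteristic → IsMulCommutative A → IsCyclic A := by
    intro A hA hAc
    have hM : A.map R.subtype ≤ scalars ι F := by
      refine hS.abelian_scalar _ (fun x hx => hR.le (Subgroup.map_subtype_le A hx))
        (fun g hg x hx => ?_) ?_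
      · obtain ⟨a, ha, rfl⟩ := hx
        have hgN : ∀ y : R, g * y.1 * g⁻¹ ∈ R := fun y => hRn g hg y.1 y.2
        let c : R →* R :=
          { toFun := fun y => ⟨g * y.1 * g⁻¹, hgN y⟩
            map_one' := Subtype.ext (by simp)
            map_mul' := fun y z => Subtype.ext (by simp only [Subgroup.coe_mul]; group) }
        have hcinj : Function.Injective c := fun y z h =>
          Subtype.ext (mul_left_cancel (mul_right_cancel (congrArg Subtype.val h)))
        let ce : R ≃* R := MulEquiv.ofBijective c (Finite.injective_iff_bijective.1 hcinj)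
        refine ⟨ce a, ?_, rfl⟩
        have : A.map ce.toMonoidHom = A := Subgroup.characteristic_iff_map_eq.1 hA ce
        rw [← this]
        exact ⟨a, ha, rfl⟩
      · rintro _ ⟨a, ha, rfl⟩ _ ⟨b, hb, rfl⟩
        have := hAc.is_comm.comm (⟨a, ha⟩ : A) ⟨b, hb⟩
        exact congrArg (fun z : A => (z.1 : R).1) this
    have hc : ∀ a : A, ∃ c : Fˣ, a.1.1 = scHom ι F c := fun a => exists_scHom (hM ⟨a.1, a.2, rfl⟩)
    choose c hc using hc
    let f : A →* F := (Units.coeHom F).comp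
      { toFun := c
        map_one' := scHom_injective (ι := ι) (by rw [← hc, map_one]; rfl)
        map_mul' := fun a b => scHom_injective (ι := ι) (by rw [← hc, map_mul, ← hc, ← hc]; rfl) }
    exact isCyclic_of_subgroup_isDomain f fun a b h => Subtype.ext (Subtype.ext (by
      rw [hc a, hc b, show c a = c b from Units.ext h]))
  have hpg : IsPGroup r R := by
    obtain ⟨j, hj⟩ := hkr
    exact fun x => ⟨j, Subtype.ext (by simpa [← hj] using hR.pow_eq_one x.1 x.2)⟩
  refine ⟨⟨hS.prime, hpg, hcyc, ?_⟩, hR.absIrred hS, p, e, hrp, hcenter ▸ hfield, ?_⟩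
  · rw [hexp]
    rcases hk with ⟨hr2, rfl⟩ | ⟨rfl, rfl⟩
    · rw [(Nat.coprime_primes Nat.prime_two hS.prime).2 (Ne.symm hr2), mul_one]
    · rfl
  · rcases hk with ⟨hr2, rfl⟩ | ⟨rfl, rfl⟩
    · refine Or.inl ⟨hS.prime.odd_of_ne_two hr2, he, hcenter, m, hm0, ?_⟩
      rw [hcardR, hm, ← pow_mul, ← pow_succ', mul_comm]
      congr 1; omega
    · refine Or.inr (Or.inl ⟨rfl, he4 rfl, hcenter, ?_, m, ?_⟩)
      · rw [hm] at hn ⊢
        rcases m with _ | _ | m
        · simp at hn
        · simp at hn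
        · rw [pow_succ, pow_succ]; have := Nat.one_le_two_pow (n := m); omega
      · rw [hcardR, hm, pow_add, ← pow_mul, mul_comm m 2]
        norm_num

/-- Field alternatives for the symplectic-type group. -/
theorem socle_classes_root [Fintype F] (hS : SocleData H E r) (hR : SocleCore E R k)
    (hRn : Normalizes H R) {m : ℕ} (hm : Fintype.card ι = r ^ m) (hn : 3 ≤ Fintype.card ι)
    (hk : (r ≠ 2 ∧ k = r) ∨ (r = 2 ∧ k = 4)) {ζ : Fˣ} (hζ : IsPrimitiveRoot ζ k) :
    (∃ (F₁ : Subfield F) (s : ℕ) (P : GL ι F), s.Prime ∧ Fintype.card F = Nat.card F₁ ^ s ∧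
      H ≤ subfieldSubgroup F₁ P) ∨
    (IsLinearSymplecticTypeData r R ∧ H ≤ subgroupNormalizer R) ∨
    (∃ (σ : F ≃+* F) (f : (ι → F) → (ι → F) → F), IsUnitaryForm σ f ∧ H ≤ similarityGroup f) := by
  classical
  have hrk : r ∣ k := by
    rcases hk with ⟨-, rfl⟩ | ⟨rfl, rfl⟩
    · exact dvd_refl _
    · norm_num
  have hk3 : 3 ≤ k := by
    rcases hk with ⟨h, rfl⟩ | ⟨rfl, rfl⟩
    · have := hS.prime.two_le; omega
    · norm_num
  obtain ⟨p, hchar⟩ := CharP.exists F
  haveI := hchar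
  haveI : Fact p.Prime := ⟨CharP.char_is_prime F p⟩
  haveI : ExpChar F p := ExpChar.prime Fact.out
  obtain ⟨a, hp, ha⟩ := FiniteField.card F p
  have hω : IsPrimitiveRoot (ζ : F) k :=
    hζ.map_of_injective (f := Units.coeHom F) Units.val_injective
  have hdiv : k ∣ p ^ (a : ℕ) - 1 := by
    have h1 : ζ ^ Fintype.card Fˣ = 1 := pow_card_eq_one
    rw [Fintype.card_units, ha] at h1
    exact hζ.dvd_of_pow_eq_one _ h1
  have hcast : ∀ j : ℕ, (p : ZMod k) ^ j = 1 ↔ k ∣ p ^ j - 1 := fun j => by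
    rw [← ZMod.natCast_eq_zero_iff, Nat.cast_sub (Nat.one_le_pow _ _ hp.pos), sub_eq_zero,
      Nat.cast_pow, Nat.cast_one]
  obtain ⟨e, he⟩ : ∃ e, orderOf (p : ZMod k) = e := ⟨_, rfl⟩
  have hea : e ∣ a := he ▸ orderOf_dvd_of_pow_eq_one ((hcast a).2 hdiv)
  have he0 : 0 < e := Nat.pos_of_dvd_of_pos hea a.pos
  obtain ⟨B, hB⟩ := hR.monomial hS (by omega) hω
  rcases (Nat.le_of_dvd a.pos hea).lt_or_eq with hlt | heq
  · left
    let F₀ : Subfield F := (iterateFrobenius F p e).eqLocusField (RingHom.id F)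
    have hωe : (ζ : F) ^ p ^ e = ζ := by
      have h1 : (ζ : F) ^ (p ^ e - 1) = 1 :=
        (hω.pow_eq_one_iff_dvd _).2 ((hcast e).1 (he ▸ pow_orderOf_eq_one _))
      calc (ζ : F) ^ p ^ e = (ζ : F) ^ (p ^ e - 1) * ζ := by
            rw [← pow_succ, Nat.sub_add_cancel (Nat.one_le_pow _ _ hp.pos)]
        _ = ζ := by rw [h1, one_mul]
    have hne : F₀ ≠ ⊤ := by
      intro htop
      obtain ⟨g, hg⟩ := IsCyclic.exists_generator (α := Fˣ)
      have h1 : (g : F) ^ p ^ e = g := by
        have : (g : F) ∈ F₀ := htop ▸ trivial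
        exact this
      have h2 : g ^ (p ^ e - 1) = 1 := by
        apply Units.ext
        rw [Units.val_pow_eq_pow_val, Units.val_one]
        rw [← Nat.sub_add_cancel (Nat.one_le_pow e p hp.pos), pow_succ] at h1
        exact (mul_eq_right₀ g.ne_zero).1 h1
      have h3 : Fintype.card F - 1 ∣ p ^ e - 1 := by
        rw [← Fintype.card_units, ← Nat.card_eq_fintype_card,
          ← orderOf_eq_card_of_forall_mem_zpowers hg]
        exact orderOf_dvd_of_pow_eq_one h2
      have h4 : 1 < p ^ e := Nat.one_lt_pow he0.ne' hp.one_lt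
      have h5 := Nat.le_of_dvd (by omega) h3
      have h6 : p ^ e < p ^ (a : ℕ) := Nat.pow_lt_pow_right hp.one_lt hlt
      omega
    refine exists_subfieldSubgroup hne (hR.absIrred hS)
      ⟨B, forall_matrixSet.2 fun x hx i j => ?_⟩ hRn
    obtain ⟨π, d, hd, hm'⟩ := hB x hx
    show (mat B * mat x * mat B⁻¹) i j ∈ F₀
    rw [hm']
    simp only [monomialMat, Matrix.of_apply]
    split_ifs
    · have : NeZero k := ⟨by omega⟩
      obtain ⟨l, -, hl⟩ := hω.eq_pow_of_pow_eq_one (hd i)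
      rw [← hl]
      exact F₀.pow_mem (show (ζ : F) ∈ F₀ from hωe) l
    · exact F₀.zero_mem
  · right
    have hrp : r ≠ p := by
      rintro rfl
      obtain ⟨l, hl⟩ := hdiv
      obtain ⟨b, hb⟩ := hrk
      have h2 : r ∣ r ^ (a : ℕ) := dvd_pow_self r a.pos.ne'
      have h4 : r ^ (a : ℕ) = r * (b * l) + 1 := by
        rw [← mul_assoc, ← hb]
        have := Nat.one_le_pow (a : ℕ) r hp.pos
        omega
      rw [h4] at h2
      exact hp.ne_one (Nat.dvd_one.1 ((Nat.dvd_add_right (dvd_mul_right r _)).1 h2))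
    rcases Nat.even_or_odd e with hev | hod
    · right
      obtain ⟨h, hh⟩ := hev
      have hpe : (p : ZMod k) ^ e = 1 := he ▸ pow_orderOf_eq_one _
      have hph : (p : ZMod k) ^ h = -1 := by
        have h1 : ((p : ZMod k) ^ h) * ((p : ZMod k) ^ h) = 1 := by rw [← pow_add, ← hh, hpe]
        have hne1 : (p : ZMod k) ^ h ≠ 1 := fun h2 => by
          have h3 := Nat.le_of_dvd (by omega) (he ▸ orderOf_dvd_of_pow_eq_one h2)
          omega
        rcases hk with ⟨-, rfl⟩ | ⟨-, rfl⟩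
        · haveI : Fact k.Prime := ⟨hS.prime⟩
          exact (mul_self_eq_one_iff.1 h1).resolve_left hne1
        · revert h1 hne1
          generalize (p : ZMod 4) ^ h = u
          revert u; decide
      have hdvd : k ∣ p ^ h + 1 := by
        rw [← ZMod.natCast_eq_zero_iff, Nat.cast_add, Nat.cast_pow, hph]
        simp
      let σ := frobEquiv F p h
      have hσω : ∀ c : F, c ^ k = 1 → c * σ c = 1 := fun c hc => by
        obtain ⟨l, hl⟩ := hdvd
        rw [frobEquiv_apply, ← pow_succ', hl, pow_mul, hc, one_pow]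
      have hne : σ ≠ RingEquiv.refl F := by
        intro h1
        have h2 := hσω ζ hω.pow_eq_one
        rw [h1, RingEquiv.refl_apply] at h2
        have h3 : (ζ : F) ^ 2 = 1 := by rw [pow_two]; exact h2
        have h4 := Nat.le_of_dvd two_pos (hω.dvd_of_pow_eq_one 2 h3)
        omega
      have hinv : ∀ c : F, σ (σ c) = c := fun c => by
        rw [frobEquiv_apply, frobEquiv_apply, ← pow_mul, ← pow_add, ← hh, heq, ← ha,
          FiniteField.pow_card]
      have hfix : FixesForm (matrixSet R) (diagForm σ B⁻¹) := forall_matrixSet.2 fun x hx u v => by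
        obtain ⟨π, d, hd, hm'⟩ := hB x hx
        exact diagForm_isometry (by rw [inv_inv]; exact hm') (fun i => hσω _ (hd i)) u v
      exact ⟨σ, _, diagForm_isUnitary hne hinv _, normalizer_le_similarityGroup
        (diagForm_isSesq σ _) (diagForm_nondeg σ _) (hR.absIrred hS) hfix hRn⟩
    · left
      refine ⟨hR.linearData hS hRn hm hn hk hζ hrp
        ⟨hp, hchar, heq ▸ ha, ?_, fun d hd hde hdd => ?_⟩ hod ?_,
        fun g hg => mem_subgroupNormalizer_of (hRn g hg)⟩
      · rw [heq]; exact hdiv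
      · have h3 := Nat.le_of_dvd hd (he ▸ orderOf_dvd_of_pow_eq_one ((hcast d).2 hdd))
        omega
      · rintro rfl
        have h2 : (p : ZMod 4) ^ 2 = 1 := by
          have h1 : (p : ZMod 4) ^ e = 1 := he ▸ pow_orderOf_eq_one _
          have key : ∀ u : ZMod 4, ∀ l : ℕ, u ^ l = 1 → 0 < l → u * u = 1 := by
            intro u l hl hl0
            obtain ⟨l, rfl⟩ := Nat.exists_eq_succ_of_ne_zero hl0.ne'
            have hu : IsUnit u := IsUnit.of_pow_eq_one hl (Nat.succ_ne_zero l)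
            clear hl
            revert hu
            revert u; decide
          rw [pow_two]; exact key _ e h1 he0
        have h3 := Nat.le_of_dvd two_pos (he ▸ orderOf_dvd_of_pow_eq_one h2)
        obtain ⟨l, hl⟩ := hod
        omega

set_option maxHeartbeats 1000000 in
/-- Without a fourth root of unity an invariant bilinear form exists. -/
theorem socle_classes_four [Fintype F] (hS : SocleData H E 2) (hR : SocleCore E R 4)
    (hRn : Normalizes H R) {m : ℕ} (hm : Fintype.card ι = 2 ^ m) (hn : 3 ≤ Fintype.card ι)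
    (hi : ¬ IsSquare (-1 : F)) :
    (∃ f : (ι → F) → (ι → F) → F, IsSymplecticForm f ∧ H ≤ similarityGroup f) ∨
    (Odd (Fintype.card F) ∧ ∃ Q : (ι → F) → F, IsNondegenerateQuadraticForm Q ∧
      H ≤ quadSimilarityGroup Q) := by
  classical
  have h2 : (2 : F) ≠ 0 := fun h => hi ⟨1, by linear_combination -h⟩
  have hodd : Odd (Fintype.card F) := by
    rw [Nat.odd_iff]
    refine FiniteField.odd_card_of_char_ne_two fun hc => h2 ?_
    haveI := ringChar.of_eq hc
    exact CharTwo.two_eq_zero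
  obtain ⟨κ, hκ⟩ := hS.exists_kappa
  have hne : ((Fintype.card ι : ℕ) : F) ≠ 0 := by
    rw [hm, Nat.cast_pow]; exact pow_ne_zero _ (by exact_mod_cast h2)
  haveI : Fintype R := Fintype.ofFinite R
  -- the average of some matrix over `R` is non-zero
  let T : Matrix ι ι F → Matrix ι ι F := fun B => ∑ x : R, (mat x.1)ᵀ * B * mat x.1
  have hfix : ∀ B, ∀ y ∈ R, (mat y)ᵀ * T B * mat y = T B := by
    intro B y hy
    simp only [T, Matrix.mul_sum, Matrix.sum_mul]
    refine Fintype.sum_equiv (Equiv.mulRight (⟨y, hy⟩ : R)) _ _ fun x => ?_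
    simp only [Equiv.coe_mulRight, Subgroup.coe_mul, mat, Units.val_mul, Matrix.transpose_mul,
      mul_assoc]
  have htr : ∑ i, ∑ j, T (Matrix.single i j 1) i j = ∑ x : R, (mat x.1).trace ^ 2 := by
    simp only [T, Matrix.sum_apply]
    refine ((Finset.sum_congr rfl fun i _ => Finset.sum_comm).trans Finset.sum_comm).trans ?_
    refine Finset.sum_congr rfl fun x _ => ?_
    rw [sq, Matrix.trace, Finset.sum_mul_sum]
    refine Finset.sum_comm.trans (Finset.sum_congr rfl fun i _ => Finset.sum_congr rfl fun j _ => ?_)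
    simp [Matrix.mul_apply, Matrix.single_apply, Matrix.transpose_apply, Matrix.diag, ite_and,
      mul_comm]
  have htrace : ∀ x : R, x.1 ∉ scalars ι F → (mat x.1).trace = 0 := by
    intro x hx
    obtain ⟨y, hy, hxy⟩ : ∃ y ∈ R, κ y x.1 ≠ 1 := by
      by_contra hall
      push Not at hall
      exact hx (mem_scalars_of_commute (hR.absIrred hS) fun y hy => by
        rw [hκ y (hR.le hy) x.1 (hR.le x.2), hall y hy, map_one, one_mul])
    have hc : ((κ y x.1 : Fˣ) : F) = -1 := by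
      have h1 := kappa_pow_eq_one hS hκ (hR.le hy) (hR.le x.2)
      have h1' : ((κ y x.1 : Fˣ) : F) ^ 2 = 1 := by
        rw [← Units.val_pow_eq_pow_val, h1, Units.val_one]
      exact (sq_eq_one_iff.1 h1').resolve_left fun h => hxy (Units.ext h)
    have e : mat y * mat x.1 * mat y⁻¹ = ((κ y x.1 : Fˣ) : F) • mat x.1 := by
      have h1 : y * x.1 * y⁻¹ = scHom ι F (κ y x.1) * x.1 := by
        rw [hκ y (hR.le hy) x.1 (hR.le x.2)]; group
      have h2' := congrArg mat h1
      simpa [mat, Units.val_mul, show ((scHom ι F (κ y x.1) : GL ι F) : Matrix ι ι F) = _ from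
        mat_scHom _, Matrix.smul_mul] using h2'
    have e2 := congrArg Matrix.trace e
    rw [Matrix.trace_mul_comm, ← mul_assoc, mat_inv_mul, one_mul, Matrix.trace_smul, hc,
      smul_eq_mul, neg_one_mul] at e2
    exact (mul_eq_zero.1 (show (2 : F) * (mat x.1).trace = 0 by linear_combination e2)).resolve_left h2
  obtain ⟨i, j, hij⟩ : ∃ i j, T (Matrix.single i j 1) ≠ 0 := by
    by_contra hall
    push Not at hall
    have h0 : ∑ x : R, (mat x.1).trace ^ 2 = 0 := by
      rw [← htr]; simp [hall]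
    have h1 : (1 : GL ι F) ∈ R := one_mem R
    have hm1 : scHom ι F (-1) ∈ R := scHom_mem_core hR hS (Units.ext (by simp [pow_succ]))
    have hpair : (⟨1, h1⟩ : R) ≠ ⟨scHom ι F (-1), hm1⟩ := fun h => by
      have e : (1 : Fˣ) = -1 := scHom_injective (ι := ι) (by rw [map_one]; exact congrArg Subtype.val h)
      have e' : (1 : F) = -1 := by simpa using congrArg Units.val e
      exact h2 (by linear_combination e')
    have hzero : ∀ x ∈ (Finset.univ : Finset R), x ∉ ({⟨1, h1⟩, ⟨scHom ι F (-1), hm1⟩} : Finset R) →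
        (mat x.1).trace ^ 2 = 0 := by
      intro x _ hx
      rw [htrace x fun hs => hx ?_, zero_pow two_ne_zero]
      obtain ⟨c, hc⟩ := exists_scHom hs
      have hc4 := hR.scalar_root (hc ▸ x.2)
      have hc4' : (((c : Fˣ) : F) ^ 2) ^ 2 = 1 := by
        rw [← pow_mul, ← Units.val_pow_eq_pow_val, hc4, Units.val_one]
      rcases sq_eq_one_iff.1 hc4' with h | h
      · rcases sq_eq_one_iff.1 h with h | h
        · exact Finset.mem_insert.2 (Or.inl (Subtype.ext (by rw [hc, show c = 1 from Units.ext h, map_one])))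
        · exact Finset.mem_insert.2 (Or.inr (Finset.mem_singleton.2
            (Subtype.ext (by rw [hc, show c = -1 from Units.ext h]))))
      · exact absurd ⟨(c : F), by rw [← h, sq]⟩ hi
    replace h0 := (Finset.sum_subset (Finset.subset_univ _) hzero).trans h0
    rw [Finset.sum_pair hpair] at h0
    simp only [mat, Units.val_one, Matrix.trace_one,
      show ((scHom ι F (-1) : GL ι F) : Matrix ι ι F) = _ from mat_scHom _, Matrix.trace_smul] at h0
    refine mul_ne_zero h2 (pow_ne_zero 2 hne) ?_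
    simp only [Units.val_neg, Units.val_one, smul_eq_mul] at h0
    linear_combination h0
  obtain ⟨B, hB⟩ : ∃ B, B = T (Matrix.single i j 1) := ⟨_, rfl⟩
  rw [← hB] at hij
  have hBfix : ∀ y ∈ R, (mat y)ᵀ * B * mat y = B := fun y hy => hB ▸ hfix _ y hy
  have hirr := (hR.absIrred hS).1
  -- it is invertible
  have hker : ∀ v, B *ᵥ v = 0 → v = 0 := by
    intro v hv
    have hinv : R ≤ subspaceStabilizer (LinearMap.ker (Matrix.toLin' B)) := by
      intro y hy
      refine mem_subspaceStabilizer_iff.2 fun w hw => ?_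
      rw [LinearMap.mem_ker, toLin'_apply] at hw ⊢
      have hy' := hBfix y⁻¹ (inv_mem hy)
      have e : B * mat y = (mat y⁻¹)ᵀ * B := by
        conv_lhs => rw [← hy']
        rw [mul_assoc _ _ (mat y), mat_inv_mul, mul_one]
      rw [mulVec_mulVec, e, ← mulVec_mulVec, hw, mulVec_zero]
    rcases actsIrreducibly_iff.1 hirr _ hinv with h | h
    · have : v ∈ LinearMap.ker (Matrix.toLin' B) := by simpa using hv
      rwa [h, Submodule.mem_bot] at this
    · exact absurd (Matrix.toLin'.injective (by rw [map_zero]; exact LinearMap.ker_eq_top.1 h)) hij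
  have hBu : IsUnit B := by
    rw [← Matrix.mulVec_injective_iff_isUnit]
    exact fun a b h => sub_eq_zero.1 (hker _ (by rw [mulVec_sub, h, sub_self]))
  obtain ⟨Bu, rfl⟩ := hBu
  replace hBfix : ∀ y ∈ R, (mat y)ᵀ * mat Bu * mat y = mat Bu := hBfix
  replace hker : ∀ v, mat Bu *ᵥ v = 0 → v = 0 := hker
  -- symmetric or alternating
  obtain ⟨l, hl⟩ := (hR.absIrred hS).2 (mat Bu⁻¹ * (mat Bu)ᵀ) (forall_matrixSet.2 fun y hy => by
    show mat Bu⁻¹ * (mat Bu)ᵀ * mat y = mat y * (mat Bu⁻¹ * (mat Bu)ᵀ)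
    have h1 : (mat y)ᵀ * (mat Bu)ᵀ * mat y = (mat Bu)ᵀ := by
      conv_rhs => rw [← hBfix y hy]
      rw [Matrix.transpose_mul, Matrix.transpose_mul, Matrix.transpose_transpose, mul_assoc]
    have h3 : (mat Bu)ᵀ * mat y = (mat y⁻¹)ᵀ * (mat Bu)ᵀ := by
      calc (mat Bu)ᵀ * mat y = (mat y * mat y⁻¹)ᵀ * ((mat Bu)ᵀ * mat y) := by
            rw [mat_mul_inv, Matrix.transpose_one, one_mul]
        _ = (mat y⁻¹)ᵀ * ((mat y)ᵀ * (mat Bu)ᵀ * mat y) := by
            rw [Matrix.transpose_mul]; simp only [mul_assoc]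
        _ = _ := by rw [h1]
    have h4 : mat Bu⁻¹ * (mat y⁻¹)ᵀ = mat y * mat Bu⁻¹ := by
      calc mat Bu⁻¹ * (mat y⁻¹)ᵀ = mat Bu⁻¹ * (mat y⁻¹)ᵀ * (mat Bu * mat Bu⁻¹) := by
            rw [mat_mul_inv, mul_one]
        _ = mat Bu⁻¹ * ((mat y⁻¹)ᵀ * ((mat y)ᵀ * mat Bu * mat y)) * mat Bu⁻¹ := by
            rw [hBfix y hy]; simp only [mul_assoc]
        _ = mat Bu⁻¹ * (((mat y * mat y⁻¹)ᵀ * mat Bu) * mat y) * mat Bu⁻¹ := by
            rw [Matrix.transpose_mul]; simp only [mul_assoc]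
        _ = _ := by
            rw [mat_mul_inv, Matrix.transpose_one, one_mul, ← mul_assoc (mat Bu⁻¹), mat_inv_mul, one_mul]
    rw [mul_assoc, h3, ← mul_assoc, h4, mul_assoc])
  have hBT : (mat Bu)ᵀ = l • mat Bu := by
    have := congrArg (fun M => mat Bu * M) hl
    simpa [← mul_assoc, mat, Matrix.mul_smul] using this
  have hl2 : l ^ 2 = 1 := by
    have h1 : mat Bu = (l * l) • mat Bu := by
      conv_lhs => rw [← Matrix.transpose_transpose (mat Bu), hBT, Matrix.transpose_smul, hBT, smul_smul]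
    have h3 : (l * l - 1) • mat Bu = 0 := by rw [sub_smul, one_smul, ← h1, sub_self]
    rw [sq]; exact sub_eq_zero.1 ((smul_eq_zero.1 h3).resolve_right Bu.ne_zero)
  let f : (ι → F) → (ι → F) → F := fun u v => u ⬝ᵥ (mat Bu *ᵥ v)
  have hbil : IsBilinearForm f := by
    refine ⟨fun a b v => ?_, fun c a v => ?_, fun v a b => ?_, fun c v a => ?_⟩ <;>
      simp [f, add_dotProduct, smul_dotProduct, mulVec_add, mulVec_smul, dotProduct_add,
        dotProduct_smul]
  have hswap : ∀ u v, f v u = l * f u v := by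
    intro u v
    show v ⬝ᵥ (mat Bu *ᵥ u) = l * (u ⬝ᵥ (mat Bu *ᵥ v))
    rw [dotProduct_mulVec, ← Matrix.mulVec_transpose, hBT, Matrix.smul_mulVec, smul_dotProduct,
      smul_eq_mul, dotProduct_comm]
  have hl0 : l ≠ 0 := fun h => by rw [h, zero_pow two_ne_zero] at hl2; exact zero_ne_one hl2
  have hnd : IsNondegenerateForm f := by
    intro v hv
    obtain ⟨i, hi'⟩ := Function.ne_iff.1 (fun h : mat Bu *ᵥ v = 0 => hv (hker v h))
    have h1 : f (Pi.single i 1) v ≠ 0 := by
      show Pi.single i (1 : F) ⬝ᵥ (mat Bu *ᵥ v) ≠ 0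
      rw [single_dotProduct, one_mul]; exact hi'
    exact ⟨⟨_, h1⟩, ⟨_, by rw [hswap (Pi.single i 1) v]; exact mul_ne_zero hl0 h1⟩⟩
  have hffix : ∀ y ∈ R, ∀ u v, f (mat y *ᵥ u) (mat y *ᵥ v) = f u v := by
    intro y hy u v
    show (mat y *ᵥ u) ⬝ᵥ (mat Bu *ᵥ (mat y *ᵥ v)) = u ⬝ᵥ (mat Bu *ᵥ v)
    conv_rhs => rw [← hBfix y hy]
    rw [← mulVec_mulVec, ← mulVec_mulVec, dotProduct_mulVec u (mat y)ᵀ, Matrix.vecMul_transpose]
  rcases sq_eq_one_iff.1 hl2 with hl1 | hl1
  · refine Or.inr ⟨hodd, fun v => f v v / 2, ?_⟩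
    have hpolar : ∀ u v, QuadraticMap.polar (fun v => f v v / 2) u v = f u v := by
      intro u v
      simp only [QuadraticMap.polar, hbil.add_left, hbil.add_right, hswap u v, hl1]
      field_simp
      ring
    have hQ : IsNondegenerateQuadraticForm fun v => f v v / 2 := by
      refine ⟨fun c v => ?_, ?_, ?_⟩
      · simp only [hbil.smul_left, hbil.smul_right]; ring
      · rw [show QuadraticMap.polar (fun v => f v v / 2) = f from funext fun u => funext fun v => hpolar u v]
        exact hbil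
      · rw [show QuadraticMap.polar (fun v => f v v / 2) = f from funext fun u => funext fun v => hpolar u v]
        exact hnd
    refine ⟨hQ, normalizer_le_quadSimilarityGroup (by omega) hQ (hR.absIrred hS)
      (forall_matrixSet.2 fun y hy v => ?_) hRn⟩
    show f (mat y *ᵥ v) (mat y *ᵥ v) / 2 = f v v / 2
    rw [hffix y hy]
  · have halt : ∀ v, f v v = 0 := fun v => by
      have := hswap v v
      rw [hl1] at this
      exact (mul_eq_zero.1 (show (2 : F) * f v v = 0 by linear_combination this)).resolve_left h2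
    exact Or.inl ⟨f, ⟨hbil, fun u v => by rw [hswap v u, hl1]; ring, halt, hnd⟩,
      normalizer_le_similarityGroup (isSesq_of_bilinear hbil) hnd (hR.absIrred hS)
        (forall_matrixSet.2 hffix) hRn⟩

/-- All alternatives for a socle abelian modulo scalars. -/
theorem abelianSocle_cases [Fintype F] (hn : 3 ≤ Fintype.card ι) (h : HasAbelianSocle H) :
    (∃ (F₁ : Subfield F) (s : ℕ) (P : GL ι F), s.Prime ∧ Fintype.card F = Nat.card F₁ ^ s ∧
      H ≤ subfieldSubgroup F₁ P) ∨
    (∃ (r : ℕ) (R : Subgroup (GL ι F)), IsLinearSymplecticTypeData r R ∧ H ≤ subgroupNormalizer R) ∨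
    (∃ (σ : F ≃+* F) (f : (ι → F) → (ι → F) → F), IsUnitaryForm σ f ∧ H ≤ similarityGroup f) ∨
    (∃ f : (ι → F) → (ι → F) → F, IsSymplecticForm f ∧ H ≤ similarityGroup f) ∨
    (Odd (Fintype.card F) ∧ ∃ Q : (ι → F) → F, IsNondegenerateQuadraticForm Q ∧
      H ≤ quadSimilarityGroup Q) := by
  classical
  obtain ⟨E, r, m, hS, hm⟩ := exists_socleData h
  obtain ⟨κ, hκ⟩ := hS.exists_kappa
  obtain ⟨x, hx, y, hy, hxy⟩ := exists_kappa_ne_one hS (by omega) hκ
  haveI : Fact r.Prime := ⟨hS.prime⟩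
  have hord : IsPrimitiveRoot (κ x y) r := by
    rw [← orderOf_eq_prime (kappa_pow_eq_one hS hκ hx hy) hxy]
    exact IsPrimitiveRoot.orderOf _
  have root : ∀ k ζ, ((r ≠ 2 ∧ k = r) ∨ (r = 2 ∧ k = 4)) → IsPrimitiveRoot (ζ : Fˣ) k →
      (∃ (F₁ : Subfield F) (s : ℕ) (P : GL ι F), s.Prime ∧ Fintype.card F = Nat.card F₁ ^ s ∧
        H ≤ subfieldSubgroup F₁ P) ∨
      (∃ (r : ℕ) (R : Subgroup (GL ι F)), IsLinearSymplecticTypeData r R ∧ H ≤ subgroupNormalizer R) ∨
      (∃ (σ : F ≃+* F) (f : (ι → F) → (ι → F) → F), IsUnitaryForm σ f ∧ H ≤ similarityGroup f) := by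
    intro k ζ hk hζ
    obtain ⟨R, hR, hRn⟩ := exists_socleCore hS hk fun z hz => exists_scale hS hk hζ hz
    rcases socle_classes_root hS hR hRn hm hn hk hζ with h1 | ⟨h1, h1'⟩ | h1
    · exact Or.inl h1
    · exact Or.inr (Or.inl ⟨r, R, h1, h1'⟩)
    · exact Or.inr (Or.inr h1)
  by_cases hr2 : r = 2
  swap
  · rcases root r (κ x y) (Or.inl ⟨hr2, rfl⟩) hord with h1 | h1 | h1
    · exact Or.inl h1
    · exact Or.inr (Or.inl h1)
    · exact Or.inr (Or.inr (Or.inl h1))
  subst hr2
  by_cases hi : IsSquare (-1 : F)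
  · obtain ⟨i, hi⟩ := hi
    have hm1 : ((κ x y : Fˣ) : F) = -1 := by
      have h1 : ((κ x y : Fˣ) : F) ^ 2 = 1 := by
        rw [← Units.val_pow_eq_pow_val, kappa_pow_eq_one hS hκ hx hy, Units.val_one]
      exact (sq_eq_one_iff.1 h1).resolve_left fun e => hxy (Units.ext e)
    have hi0 : i ≠ 0 := fun e => by rw [e, mul_zero] at hi; exact neg_ne_zero.2 one_ne_zero hi
    have hsq : (Units.mk0 i hi0) ^ 2 = κ x y := Units.ext (by simp [sq, ← hi, hm1])
    have hζ : IsPrimitiveRoot (Units.mk0 i hi0) 4 := by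
      have h4 : orderOf (Units.mk0 i hi0) = 2 ^ (1 + 1) := by
        refine orderOf_eq_prime_pow ?_ ?_
        · rw [pow_one, hsq]; exact hxy
        · rw [pow_succ, pow_one, pow_mul, hsq, kappa_pow_eq_one hS hκ hx hy]
      have : IsPrimitiveRoot (Units.mk0 i hi0) (2 ^ (1 + 1)) := h4 ▸ IsPrimitiveRoot.orderOf _
      simpa using this
    rcases root 4 _ (Or.inr ⟨rfl, rfl⟩) hζ with h1 | h1 | h1
    · exact Or.inl h1
    · exact Or.inr (Or.inl h1)
    · exact Or.inr (Or.inr (Or.inl h1))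
  · have hscale : ∀ z ∈ E, ∃ β : Fˣ, (scHom ι F β * z) ^ 4 = 1 := by
      intro z hz
      obtain ⟨α, hα⟩ := exists_scHom (hS.pow_mem z hz)
      obtain ⟨s, hs⟩ : ∃ s : F, s * s = (α : F) ∨ s * s = -(α : F) := by
        by_cases hsq : IsSquare (α : F)
        · obtain ⟨s, hs⟩ := hsq; exact ⟨s, Or.inl hs.symm⟩
        · have h2 : ringChar F ≠ 2 := fun hc => hi (FiniteField.isSquare_of_char_two hc _)
          have : IsSquare (-(α : F)) := by
            rw [← quadraticChar_one_iff_isSquare (neg_ne_zero.2 α.ne_zero), neg_eq_neg_one_mul, map_mul,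
              quadraticChar_neg_one_iff_not_isSquare.2 hi, quadraticChar_neg_one_iff_not_isSquare.2 hsq]
            norm_num
          obtain ⟨s, hs⟩ := this; exact ⟨s, Or.inr hs.symm⟩
      have hs0 : s ≠ 0 := by rintro rfl; rcases hs with h | h <;> simp [eq_comm] at h
      refine ⟨(Units.mk0 s hs0)⁻¹, ?_⟩
      rw [Commute.mul_pow (scHom_comm _ _), show (4 : ℕ) = 2 * 2 from rfl, pow_mul z, hα, ← map_pow,
        ← map_pow, ← map_mul]
      convert map_one (scHom ι F) using 2
      refine Units.ext ?_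
      simp only [Units.val_mul, Units.val_pow_eq_pow_val, Units.val_inv_eq_inv_val, Units.val_mk0, Units.val_one]
      have e2 : (α : F) ^ 2 = s ^ 4 := by
        rcases hs with h | h
        · linear_combination (-(s * s) - (α : F)) * h
        · linear_combination ((α : F) - s * s) * h
      rw [e2, ← mul_pow, inv_mul_cancel₀ hs0, one_pow]
    obtain ⟨R, hR, hRn⟩ := exists_socleCore hS (Or.inr ⟨rfl, rfl⟩) hscale
    rcases socle_classes_four hS hR hRn hm hn hi with h1 | h1
    · exact Or.inr (Or.inr (Or.inr (Or.inl h1)))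
    · exact Or.inr (Or.inr (Or.inr (Or.inr h1)))

end CfsgLib.MaxSub
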