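import Cfsg.Agent.MaxSub.SlotForms
import Cfsg.Agent.AschbacherForms.Factors
import Cfsg.Agent.AschbacherForms.TensorQuad
import Cfsg.Agent.Forms.Diagonal

/-!
# Tensor decompositions with similar factors of equal dimension

Such a decomposition of a form is a tensor square.  Symmetric forms in odd dimension over a finite
field of odd order are similar.
-/

set_option autoImplicit false
set_option linter.unusedSectionVars false

namespace CfsgLib.MaxSub

attribute [-simp] RingEquiv.coe_refl

open Matrix Cfsg.Geo CfsgLib.TensorNonmax CfsgLib.Aschbacher CfsgLib.AschbacherForms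
open scoped Kronecker

variable {ι : Type} [Fintype ι] [DecidableEq ι] {F : Type*} [Field F]

/-- A linear substitution in a sesquilinear form given by a matrix. -/
theorem formOf_mulVec {κ : Type} [Fintype κ] [DecidableEq κ] (σ : F ≃+* F) (S A B : Matrix κ κ F)
    (x y : κ → F) : formOf σ S (A *ᵥ x) (B *ᵥ y) = formOf σ (Aᵀ * S * B.map σ) x y := by
  have h : (fun i => σ ((B *ᵥ y) i)) = B.map σ *ᵥ fun i => σ (y i) := by
    funext i
    simp [Matrix.mulVec, dotProduct, map_sum]
  rw [formOf, formOf, h, Matrix.mulVec_mulVec, ← Matrix.vecMul_transpose, ← Matrix.dotProduct_mulVec,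
    Matrix.mulVec_mulVec, mul_assoc]

/-- A tensor decomposition of a form with two similar factors is a tensor square. -/
theorem exists_square {σ : F ≃+* F} {ε : F} {f : (ι → F) → (ι → F) → F} (hf : IsReflexive σ ε f)
    {d : ℕ} {e : ι ≃ Fin d × Fin d} {P : GL ι F} {S T : Matrix (Fin d) (Fin d) F} {A : GL (Fin d) F}
    {μ : F} (hμ : μ ≠ 0) (hT : T = μ • ((mat A)ᵀ * S * (mat A).map σ)) {H : Subgroup (GL ι F)}
    (hle : H ≤ tensorProductSubgroup d d e P)
    (hform : ∀ x y : Fin d × Fin d → F, f (mat P *ᵥ (x ∘ e)) (mat P *ᵥ (y ∘ e)) =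
      formOfGram σ (S ⊗ₖ T) x y) :
    ∃ (e' : ι ≃ (Fin 2 → Fin d)) (P' : GL ι F),
      IsTensorPowerFormStructure σ f (formOf σ S) e' P' ∧ H ≤ tensorWreathSubgroup d 2 e' P' := by
  let e' : ι ≃ (Fin 2 → Fin d) := e.trans (piFinTwoEquiv fun _ => Fin d).symm
  have hpt : ∀ xs, ptmul e' P xs = cvec e P (AschbacherForms.pure (xs 0) (xs 1)) := fun xs => by
    rw [ptmul, cvec_apply, cvec_apply]
    congr 1
    funext i
    simp [e', AschbacherForms.pure, Fin.prod_univ_two]
  have hpair : ∀ xs ys, f (ptmul e' P xs) (ptmul e' P ys) =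
      formOf σ S (xs 0) (ys 0) * formOf σ T (xs 1) (ys 1) := fun xs ys => by
    rw [hpt, hpt, cvec_apply, cvec_apply]
    exact (hform _ _).trans (formOfGram_pure σ.toRingHom.toMonoidHom _ _ _ _)
  obtain ⟨P', hP'⟩ := exists_retwist e' P ![1, A⁻¹]
  refine ⟨e', P', tensorPower_of_ptmul hf.sesq e' P' ⟨μ, hμ, fun xs ys => ?_⟩, fun g hg => ?_⟩
  · rw [hP', hP', hpair, Fin.prod_univ_two]
    simp only [Matrix.cons_val_zero, Matrix.cons_val_one, Units.val_one, one_mulVec]
    have h1 : ∀ x y, formOf σ T x y = μ * formOf σ S (mat A *ᵥ x) (mat A *ᵥ y) := fun x y => by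
      rw [hT, formOf_mulVec, formOf, Matrix.smul_mulVec, dotProduct_smul, smul_eq_mul]
      rfl
    rw [h1, mulVec_inv_mulVec, mulVec_inv_mulVec]
    ring
  · obtain ⟨a, b, hab⟩ := TensorNonmax.mem_tensorProductSubgroup (hle hg)
    refine mem_tensorWreathSubgroup_of (σ := 1) (as := ![a, A * b * A⁻¹]) fun xs => ?_
    rw [hP', hP', hpt, hpt, show ∀ x y, cvec e P (AschbacherForms.pure x y) = tmul e P x y from fun x y =>
      (tmul_apply e P x y).symm, hab]
    simp only [Matrix.cons_val_zero, Matrix.cons_val_one, Units.val_one, one_mulVec, Units.val_mul,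
      Equiv.Perm.coe_one, id_eq, mulVec_mulVec, ← mul_assoc, Units.inv_mul, one_mul]
    rfl

variable [Fintype F]

/-- Symmetric invertible matrices of odd size over a finite field of odd order are similar. -/
theorem exists_similar_of_odd (h2 : (2 : F) ≠ 0) {n : ℕ} (hn : Odd n)
    {S T : Matrix (Fin n) (Fin n) F} (hS : IsUnit S) (hT : IsUnit T) (hSs : Sᵀ = S) (hTs : Tᵀ = T) :
    ∃ (A : GL (Fin n) F) (μ : F), μ ≠ 0 ∧ T = μ • ((mat A)ᵀ * S * mat A) := by
  classical
  obtain ⟨j, rfl⟩ := hn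
  obtain ⟨α, hα⟩ := FiniteField.exists_nonsquare (F := F) (fun h => h2 (by
    haveI : CharP F 2 := h ▸ ringChar.charP F
    exact CharTwo.two_eq_zero))
  have hα0 : α ≠ 0 := fun h => hα (h ▸ IsSquare.zero)
  -- every such matrix is congruent to a diagonal normal form
  have normal : ∀ {M : Matrix (Fin (2 * j + 1)) (Fin (2 * j + 1)) F}, IsUnit M → Mᵀ = M →
      ∃ (A : GL (Fin (2 * j + 1)) F) (δ : F), (δ = 1 ∨ δ = α) ∧
        (mat A)ᵀ * M * mat A = Matrix.diagonal fun i => if i = Fin.last (2 * j) then δ else 1 := by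
    intro M hM hMs
    have hval : ∀ x y, Matrix.toBilin' M x y = x ⬝ᵥ (M *ᵥ y) := fun x y =>
      Matrix.toBilin'_apply' M x y
    obtain ⟨b, hb0, hb1, hb2⟩ := Forms.exists_diagonal_basis_symm h2 (Matrix.toBilin' M)
      ⟨fun x y => by rw [hval, hval]; exact (isSymmetricForm_formOf hM hMs).symm x y⟩
      (fun x hx => by
        by_contra hne
        obtain ⟨y, hy⟩ := (nondegenerate_formOf (RingEquiv.refl F) hM x hne).2
        exact hy (((hval x y).symm.trans (hx y))))
      hα (n := 2 * j) (by rw [Module.finrank_fintype_fun_eq_card, Fintype.card_fin])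
    let Am : Matrix (Fin (2 * j + 1)) (Fin (2 * j + 1)) F := Matrix.of fun a i => b i a
    have hAm : IsUnit Am := Matrix.linearIndependent_cols_iff_isUnit.1 b.linearIndependent
    refine ⟨hAm.unit, Matrix.toBilin' M (b (Fin.last _)) (b (Fin.last _)), hb2, ?_⟩
    ext i i'
    have h1 : ((mat hAm.unit)ᵀ * M * mat hAm.unit) i i' = Matrix.toBilin' M (b i) (b i') := by
      rw [hval, Matrix.mul_assoc, Matrix.mul_apply']
      rfl
    rw [h1]
    rcases eq_or_ne i i' with rfl | hne
    · rw [Matrix.diagonal_apply_eq]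
      split_ifs with h
      · rw [h]
      · exact hb1 i h
    · rw [Matrix.diagonal_apply_ne _ hne, hb0 i i' hne]
  have hdet : ∀ {M : Matrix (Fin (2 * j + 1)) (Fin (2 * j + 1)) F}
      {A : GL (Fin (2 * j + 1)) F} {δ : F},
      ((mat A)ᵀ * M * mat A = Matrix.diagonal fun i => if i = Fin.last (2 * j) then δ else 1) →
      (mat A).det * (mat A).det * M.det = δ := fun {M A δ} h => by
    have h1 := congrArg Matrix.det h
    rw [Matrix.det_mul, Matrix.det_mul, Matrix.det_transpose, Matrix.det_diagonal,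
      Finset.prod_ite_eq' Finset.univ (Fin.last (2 * j)) (fun _ => δ), if_pos (Finset.mem_univ _)] at h1
    linear_combination h1
  -- transport from one normal form
  have move : ∀ {M : Matrix (Fin (2 * j + 1)) (Fin (2 * j + 1)) F}
      {A B : GL (Fin (2 * j + 1)) F} {D : Matrix (Fin (2 * j + 1)) (Fin (2 * j + 1)) F},
      (mat A)ᵀ * S * mat A = D → (mat B)ᵀ * M * mat B = D →
      M = (mat (A * B⁻¹))ᵀ * S * mat (A * B⁻¹) := fun {M A B D} hA hB => by
    calc M = (mat B * mat B⁻¹)ᵀ * M * (mat B * mat B⁻¹) := by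
          rw [mat_mul_inv, Matrix.transpose_one, one_mul, mul_one]
      _ = (mat B⁻¹)ᵀ * ((mat B)ᵀ * M * mat B) * mat B⁻¹ := by
          rw [Matrix.transpose_mul]; simp only [mul_assoc]
      _ = (mat B⁻¹)ᵀ * ((mat A)ᵀ * S * mat A) * mat B⁻¹ := by rw [hB, hA]
      _ = _ := by
          simp only [mat, Units.val_mul, Matrix.transpose_mul, mul_assoc]
  obtain ⟨A, δ, hδ, hA⟩ := normal hS hSs
  obtain ⟨B, δ', hδ', hB⟩ := normal hT hTs
  by_cases heq : δ' = δ
  · subst heq
    exact ⟨A * B⁻¹, 1, one_ne_zero, (move hA hB).trans (one_smul _ _).symm⟩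
  · have hTα : IsUnit (α • T) := by
      rw [Matrix.isUnit_iff_isUnit_det, Matrix.det_smul]
      exact (hα0.isUnit.pow _).mul ((Matrix.isUnit_iff_isUnit_det _).1 hT)
    obtain ⟨C, δ'', hδ'', hC⟩ := normal hTα (by rw [Matrix.transpose_smul, hTs])
    have hne : δ'' ≠ δ' := by
      intro h
      subst h
      have h1 := hdet hB
      have h2' := hdet hC
      rw [Matrix.det_smul, Fintype.card_fin, pow_succ, pow_mul, ← h1] at h2'
      have hC0 : (mat C).det ≠ 0 := ((Matrix.isUnit_iff_isUnit_det _).1 C.isUnit).ne_zero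
      have hT0 : T.det ≠ 0 := ((Matrix.isUnit_iff_isUnit_det _).1 hT).ne_zero
      refine hα ⟨(mat B).det / ((mat C).det * α ^ j), ?_⟩
      field_simp
      refine mul_right_cancel₀ hT0 ?_
      linear_combination h2'
    have hδδ : δ'' = δ := by
      rcases hδ with rfl | rfl <;> rcases hδ' with rfl | rfl <;> rcases hδ'' with rfl | rfl <;>
        first | rfl | exact absurd rfl heq | exact absurd rfl hne
    subst hδδ
    refine ⟨A * C⁻¹, α⁻¹, inv_ne_zero hα0, ?_⟩
    rw [← move hA hC, smul_smul, inv_mul_cancel₀ hα0, one_smul]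

end CfsgLib.MaxSub
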