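import Cfsg.Agent.MaxSub.FormReduce
import Cfsg.Agent.MaxSub.SquareTensor
import Cfsg.Agent.AschbacherForms.Frame
import Cfsg.Agent.AschbacherForms.Degree
import Cfsg.Agent.AschbacherOrth.Descent

/-!
# Subgroup structure of the orthogonal groups in odd dimension

Every subgroup of `Ω` lies in a member of one of the geometric classes or is in the residual class.
-/

set_option autoImplicit false
set_option linter.unusedSectionVars false

namespace CfsgLib.MaxSub

attribute [-simp] RingEquiv.coe_refl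

open Matrix Cfsg.Geo CfsgLib.TensorNonmax CfsgLib.Aschbacher CfsgLib.AschbacherForms
open CfsgLib.AschbacherOrth (Idx)
open CfsgLib.StdForms
open scoped Kronecker commutatorElement

/-- A homomorphism with commuting values is trivial on a perfect subgroup. -/
theorem perfect_hom_trivial {Γ M : Type*} [Group Γ] [Group M] {G : Subgroup Γ} (hG : ⁅G, G⁆ = G)
    (φ : G →* M) (hc : ∀ a b, φ a * φ b = φ b * φ a) (x : G) : φ x = 1 := by
  have htop : commutator G = ⊤ := Subgroup.map_injective G.subtype_injective (by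
    rw [Subgroup.map_subtype_commutator, hG, ← MonoidHom.range_eq_map, Subgroup.range_subtype])
  have hle : commutator G ≤ φ.ker := by
    rw [commutator_def, Subgroup.commutator_le]
    intro a _ b _
    rw [MonoidHom.mem_ker, map_commutatorElement, commutatorElement_eq_one_iff_mul_comm, hc]
  exact hle (htop ▸ Subgroup.mem_top x)

variable {F : Type*} [Field F] [Fintype F]

/-- The vectors of the value of a frame over three elements are the frame vectors and their negatives. -/
theorem frame_vectors (hq : Fintype.card F = 3) {β : (Fin 3 → F) → (Fin 3 → F) → F}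
    (hb : IsBilinearForm β) {c : F} (hc : c ≠ 0) (v : Module.Basis (Fin 3) F (Fin 3 → F))
    (hv : ∀ i j, β (v i) (v j) = if i = j then c else 0) {w : Fin 3 → F} (hw : β w w = c) :
    ∃ i, w = v i ∨ w = -(v i) := by
  have hrep := v.sum_repr w
  rw [Fin.sum_univ_three] at hrep
  set x := v.repr w
  have hsum : x 0 * x 0 + x 1 * x 1 + x 2 * x 2 = 1 := by
    apply mul_right_cancel₀ hc
    rw [one_mul]
    conv_rhs => rw [← hw, ← hrep]
    simp only [hb.add_left, hb.add_right, hb.smul_left, hb.smul_right, hv]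
    simp
    ring
  have h3 := three_eq_zero_of_card_three hq
  rcases cases_card_three hq (x 0) with h | h | h <;>
    rcases cases_card_three hq (x 1) with h' | h' | h' <;>
    rcases cases_card_three hq (x 2) with h'' | h'' | h'' <;>
    rw [h, h', h''] at hrep hsum <;>
    first
    | exact absurd (by linear_combination hsum : (1 : F) = 0) one_ne_zero
    | exact absurd (by linear_combination -hsum : (1 : F) = 0) one_ne_zero
    | exact absurd (by linear_combination hsum - h3 : (-1 : F) = 0) (neg_ne_zero.2 one_ne_zero)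
    | (refine ⟨0, Or.inl ?_⟩; rw [← hrep]; simp; done)
    | (refine ⟨0, Or.inr ?_⟩; rw [← hrep]; simp; done)
    | (refine ⟨1, Or.inl ?_⟩; rw [← hrep]; simp; done)
    | (refine ⟨1, Or.inr ?_⟩; rw [← hrep]; simp; done)
    | (refine ⟨2, Or.inl ?_⟩; rw [← hrep]; simp; done)
    | (refine ⟨2, Or.inr ?_⟩; rw [← hrep]; simp; done)

/-- Over three elements no non-trivial perfect group preserves a symmetric form in dimension three. -/
theorem perfect_isometry_three (hq : Fintype.card F = 3) {β : (Fin 3 → F) → (Fin 3 → F) → F}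
    (hβ : IsSymmetricForm β) {G : Subgroup (GL (Fin 3) F)} (hG : ⁅G, G⁆ = G)
    (hiso : ∀ x ∈ G, ∀ u v, β (mat x *ᵥ u) (mat x *ᵥ v) = β u v) : G = ⊥ := by
  classical
  have hs := isSesq_of_bilinear hβ.bilinear
  have hu : IsUnit (gramMatrix β) := gram_isUnit hs hβ.nondegenerate
  obtain ⟨c, v, hc, hv'⟩ := exists_frame_three hq hu (Matrix.ext fun i j => hβ.symm _ _)
  have hv : ∀ i j, β (v i) (v j) = if i = j then c else 0 := fun i j =>
    (hs.gram_eq _ _).trans (hv' i j)
  have hneq : ∀ i j, (v j = v i ∨ v j = -(v i)) → i = j := by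
    intro i j h
    by_contra hne
    have h1 := hv i j
    rw [if_neg hne] at h1
    rcases h with h | h <;> rw [h] at h1
    · rw [hv, if_pos rfl] at h1; exact hc h1
    · rw [← neg_one_smul F (v i), hβ.bilinear.smul_right, hv, if_pos rfl] at h1; simp [hc] at h1
  have hex : ∀ (x : G) (i : Fin 3), ∃ j, mat x.1 *ᵥ v i = v j ∨ mat x.1 *ᵥ v i = -(v j) := fun x i =>
    frame_vectors hq hβ.bilinear hc v hv (by rw [hiso _ x.2, hv, if_pos rfl])
  choose π hπ using hex
  have huniq : ∀ (x : G) (i j : Fin 3), (mat x.1 *ᵥ v i = v j ∨ mat x.1 *ᵥ v i = -(v j)) → π x i = j := by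
    intro x i j h
    rcases hπ x i with h1 | h1 <;> rcases h with h2 | h2 <;> rw [h1] at h2
    · exact (hneq _ _ (Or.inl h2)).symm
    · exact (hneq _ _ (Or.inr h2)).symm
    · exact hneq _ _ (Or.inr h2.symm)
    · exact (hneq _ _ (Or.inl (neg_injective h2))).symm
  have hmul : ∀ (x y : G) i, π (x * y) i = π x (π y i) := by
    intro x y i
    refine huniq _ _ _ ?_
    rw [Subgroup.coe_mul, show mat (x.1 * y.1) = mat x.1 * mat y.1 from rfl, ← mulVec_mulVec]
    rcases hπ y i with h | h <;> rcases hπ x (π y i) with h' | h' <;>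
      simp [h, h', mulVec_neg]
  have hone : ∀ i, π 1 i = i := fun i => huniq _ _ _ (Or.inl (one_mulVec _))
  let φ : G →* Equiv.Perm (Fin 3) :=
    { toFun := fun x => ⟨π x, π x⁻¹, fun i => by rw [← hmul, inv_mul_cancel, hone],
        fun i => by rw [← hmul, mul_inv_cancel, hone]⟩
      map_one' := Equiv.ext hone
      map_mul' := fun x y => Equiv.ext (hmul x y) }
  have hsign := perfect_hom_trivial hG (Equiv.Perm.sign.comp φ) fun a b => mul_comm _ _
  have hcomm : ∀ a b : Equiv.Perm (Fin 3), Equiv.Perm.sign a = 1 → Equiv.Perm.sign b = 1 →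
      a * b = b * a := by decide
  have hφ := perfect_hom_trivial hG φ fun a b => hcomm _ _ (hsign a) (hsign b)
  have hdiag : ∀ (x : G) i, ∃ s : F, mat x.1 *ᵥ v i = s • v i := by
    intro x i
    have h1 : π x i = i := Equiv.ext_iff.1 (hφ x) i
    rcases hπ x i with h | h <;> rw [h1] at h
    · exact ⟨1, by rw [h, one_smul]⟩
    · exact ⟨-1, by rw [h, neg_one_smul]⟩
  have hab : ∀ a b : G, MonoidHom.id G a * MonoidHom.id G b = MonoidHom.id G b * MonoidHom.id G a := by
    intro a b
    refine Subtype.ext (Units.ext (Matrix.toLin'.injective (v.ext fun i => ?_)))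
    obtain ⟨s, hs⟩ := hdiag a i
    obtain ⟨r, hr⟩ := hdiag b i
    show (mat a.1 * mat b.1) *ᵥ v i = (mat b.1 * mat a.1) *ᵥ v i
    rw [← mulVec_mulVec, ← mulVec_mulVec, hr, hs, mulVec_smul, mulVec_smul, hr, hs, smul_comm]
  rw [eq_bot_iff]
  intro x hx
  exact Subgroup.mem_bot.2 (congrArg Subtype.val (perfect_hom_trivial hG (MonoidHom.id G) hab ⟨x, hx⟩))

variable {ι : Type} [Fintype ι] [DecidableEq ι]

/-- A matrix commuting with a field of full degree lies in it. -/
theorem mem_field_of_commute {K : Subalgebra F (Matrix ι ι F)} [Nonempty ι]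
    (hK : IsFieldSubalgebra (Fintype.card ι) K) {z : Matrix ι ι F} (hz : ∀ k ∈ K, z * k = k * z) :
    z ∈ K := by
  obtain ⟨i⟩ := ‹Nonempty ι›
  let v : ι → F := Pi.single i 1
  let φ : Subalgebra.toSubmodule K →ₗ[F] (ι → F) :=
    { toFun := fun k => k.1 *ᵥ v
      map_add' := fun a b => Matrix.add_mulVec a.1 b.1 v
      map_smul' := fun c a => Matrix.smul_mulVec c a.1 v }
  have hinj : Function.Injective φ := by
    rw [← LinearMap.ker_eq_bot, LinearMap.ker_eq_bot']
    intro k hk
    by_contra hk0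
    obtain ⟨k', hk', hkk⟩ := hK.inv k.1 k.2 fun h => hk0 (Subtype.ext h)
    have h1 : k' *ᵥ (k.1 *ᵥ v) = 0 := by rw [show k.1 *ᵥ v = 0 from hk, Matrix.mulVec_zero]
    rw [Matrix.mulVec_mulVec, hK.comm k' hk' k.1 k.2, hkk, Matrix.one_mulVec] at h1
    simpa [v] using congrFun h1 i
  have hsurj : Function.Surjective φ := by
    refine (LinearMap.injective_iff_surjective_of_finrank_eq_finrank ?_).1 hinj
    rw [Module.finrank_fintype_fun_eq_card]
    exact hK.finrank_eq
  obtain ⟨k, hk⟩ := hsurj (z *ᵥ v)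
  suffices z = k.1 from this ▸ k.2
  refine Matrix.toLin'.injective (LinearMap.ext fun w => ?_)
  obtain ⟨k', rfl⟩ := hsurj w
  show Matrix.toLin' z (k'.1 *ᵥ v) = Matrix.toLin' k.1 (k'.1 *ᵥ v)
  rw [Matrix.toLin'_apply, Matrix.toLin'_apply, Matrix.mulVec_mulVec, hz _ k'.2,
    ← Matrix.mulVec_mulVec, ← show k.1 *ᵥ v = z *ᵥ v from hk, Matrix.mulVec_mulVec,
    Matrix.mulVec_mulVec, hK.comm _ k'.2 _ k.2]

/-- An irreducible group in dimension at least two is not scalar. -/
theorem not_le_scalars {H : Subgroup (GL ι F)} (hn : 2 ≤ Fintype.card ι)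
    (hirr : ActsIrreducibly (matrixSet H)) : ¬ H ≤ scalars ι F := by
  intro h
  obtain ⟨i⟩ : Nonempty ι := Fintype.card_pos_iff.1 (by omega)
  have hv : (Pi.single i (1 : F) : ι → F) ≠ 0 := by simp
  rcases (actsIrreducibly_iff.1 hirr) (Submodule.span F {Pi.single i 1}) fun g hg =>
      scalar_stabilizes (h hg) _ with h1 | h1
  · exact hv (Submodule.span_singleton_eq_bot.1 h1)
  · have h2 := congrArg (fun W : Submodule F (ι → F) => Module.finrank F W) h1
    simp only [finrank_top, Module.finrank_fintype_fun_eq_card, finrank_span_singleton hv] at h2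
    omega

variable [Nonempty ι] {ε : F} {f : (ι → F) → (ι → F) → F}

/-- In odd dimension an irreducible group of isometries of determinant one normalises no
adjoint-closed field of full degree. -/
theorem no_full_field (hf : IsReflexive (RingEquiv.refl F) ε f) (hn2 : 2 ≤ Fintype.card ι)
    (hodd : Odd (Fintype.card ι)) {H : Subgroup (GL ι F)} (hfix : FixesForm (matrixSet H) f)
    (hdet : H ≤ specialLinear ι F) (hirr : ActsIrreducibly (matrixSet H))
    {K : Subalgebra F (Matrix ι ι F)} (hK : IsFieldSubalgebra (Fintype.card ι) K)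
    (hle : H ≤ subalgebraNormalizer K) (hadj : ∀ k ∈ K, adj (RingEquiv.refl F) f k ∈ K) : False := by
  classical
  have hiso : ∀ {r : ℕ} {L : Subalgebra F (Matrix ι ι F)}, Odd r → IsFieldSubalgebra r L →
      (∀ k ∈ L, adj (RingEquiv.refl F) f k ∈ L) → ∀ h ∈ H, mat h ∈ L →
        mat h = 1 ∨ mat h = -1 := by
    intro r L hr hL hLa h hh hhL
    have h1 := adj_eq_self_of_odd hf hr hL hLa hhL
    rw [hf.adj_isometry (fun u v => fixesForm_iff.1 hfix h hh u v)] at h1
    have hsq : mat h * mat h = 1 := by nth_rw 2 [← h1]; exact mat_mul_inv h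
    by_contra hne
    push Not at hne
    obtain ⟨y, hy, hyinv⟩ := hL.inv (mat h - 1) (L.sub_mem hhL L.one_mem) (sub_ne_zero.2 hne.1)
    refine hne.2 (eq_neg_of_add_eq_zero_left ?_)
    have h0 : (mat h - 1) * (mat h + 1) = 0 := by
      rw [sub_mul, mul_add, hsq, mul_one, one_mul]; abel
    calc mat h + 1 = y * (mat h - 1) * (mat h + 1) := by
          rw [hL.comm y hy _ (L.sub_mem hhL L.one_mem), hyinv, one_mul]
      _ = 0 := by rw [mul_assoc, h0, mul_zero]
  -- the group is abelian
  haveI : Finite K := Finite.of_injective (Subtype.val : K → Matrix ι ι F) Subtype.val_injective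
  have hab : ∀ a ∈ H, ∀ b ∈ H, a * b = b * a := by
    intro a ha b hb
    have hcyc : ∀ x y : K ≃ₐ[F] K, x * y = y * x := by
      letI : CommRing K :=
        { (inferInstance : Ring K) with mul_comm := fun x y => Subtype.ext (hK.comm _ x.2 _ y.2) }
      have hfield : IsField K :=
        { exists_pair_ne := ⟨0, 1, fun h => zero_ne_one (congrArg Subtype.val h)⟩
          mul_comm := fun x y => Subtype.ext (hK.comm _ x.2 _ y.2)
          mul_inv_cancel := fun {x} hx => by
            obtain ⟨y, hy, hxy⟩ := hK.inv _ x.2 (fun h => hx (Subtype.ext h))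
            exact ⟨⟨y, hy⟩, Subtype.ext hxy⟩ }
      letI : Field K := hfield.toField
      intro x y
      haveI := IsCyclic.isMulCommutative (α := K ≃ₐ[F] K)
      exact mul_comm' x y
    have hbK : ∀ k ∈ K, mat ⁅a, b⁆ * k = k * mat ⁅a, b⁆ := by
      intro k hk
      have hw := ((hle (inv_mem (mul_mem hb ha))) k).1 hk
      have key : ∀ (x y : K ≃ₐ[F] K) (z : K), x (y z) = y (x z) := fun x y z => by
        rw [← AlgEquiv.mul_apply, hcyc, AlgEquiv.mul_apply]
      have h1 := key (conjEquiv (hle ha)) (conjEquiv (hle hb)) ⟨_, hw⟩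
      have h2 := congrArg Subtype.val h1
      simp only [conjEquiv_apply] at h2
      have h3 : mat ⁅a, b⁆ * k * mat ⁅a, b⁆⁻¹ = k := by
        refine Eq.trans ?_ (h2.trans ?_) <;>
          simp [mat, commutatorElement_def, _root_.mul_inv_rev, mul_assoc]
      calc mat ⁅a, b⁆ * k = mat ⁅a, b⁆ * k * (mat ⁅a, b⁆⁻¹ * mat ⁅a, b⁆) := by
            rw [mat_inv_mul, mul_one]
        _ = k * mat ⁅a, b⁆ := by rw [← mul_assoc, h3]
    have hmem : ⁅a, b⁆ ∈ H := by
      rw [commutatorElement_def]
      exact mul_mem (mul_mem (mul_mem ha hb) (inv_mem ha)) (inv_mem hb)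
    rw [← commutatorElement_eq_one_iff_mul_comm]
    rcases hiso hodd hK hadj _ hmem (mem_field_of_commute hK hbK) with h | h
    · exact Units.ext h
    · have h1 := mem_specialLinear_iff.1 (hdet hmem)
      rw [h, Matrix.det_neg, Matrix.det_one, mul_one, hodd.neg_one_pow] at h1
      exact Units.ext (by rw [show (⁅a, b⁆ : GL ι F).val = _ from h, Units.val_one, ← neg_one_smul F
        (1 : Matrix ι ι F), h1, one_smul])
  -- so it consists of scalars
  refine not_le_scalars hn2 hirr fun h hh => ?_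
  have hL := commutant_isField hirr
  have hr : Odd (Module.finrank F (commutant (matrixSet H))) :=
    Odd.of_dvd_nat hodd (fieldSubalgebra_finrank_dvd hL)
  rcases hiso hr hL (fun k hk => mem_commutant.2 <| forall_matrixSet.2 fun x hx => by
      have h1 := congrArg (adj (RingEquiv.refl F) f)
        ((mem_commutant.1 hk) _ (mem_matrixSet (inv_mem hx)))
      rw [hf.adj_mul, hf.adj_mul,
        hf.adj_isometry (fun u v => fixesForm_iff.1 hfix _ (inv_mem hx) u v), inv_inv] at h1
      exact h1.symm) h hh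
    (mem_commutant.2 <| forall_matrixSet.2 fun x hx => congrArg mat (hab x hx h hh)) with h1 | h1
  · exact (mem_scalars_iff h).2 ⟨1, by rw [show (h : Matrix ι ι F) = 1 from h1]; simp⟩
  · exact (mem_scalars_iff h).2 ⟨-1, by rw [show (h : Matrix ι ι F) = -1 from h1]; simp⟩

/-- In odd dimension a group of isometries has no socle which is abelian modulo scalars. -/
theorem no_abelianSocle (hf : IsReflexive (RingEquiv.refl F) ε f) (hn2 : 2 ≤ Fintype.card ι)
    (hodd : Odd (Fintype.card ι)) {H : Subgroup (GL ι F)} (hfix : FixesForm (matrixSet H) f)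
    (h : HasAbelianSocle H) : False := by
  classical
  obtain ⟨N, r, j, -, -, hNH, -, habs, hD, -, -⟩ := h
  refine not_le_scalars hn2 habs.1 fun x hx => mem_scalars_of_commute habs fun y hy => ?_
  rw [← commutatorElement_eq_one_iff_mul_comm]
  have hz := Subgroup.commutator_mem_commutator hx hy
  have hzH : ⁅x, y⁆ ∈ H := by
    rw [commutatorElement_def]
    exact mul_mem (mul_mem (mul_mem (hNH hx) (hNH hy)) (inv_mem (hNH hx))) (inv_mem (hNH hy))
  obtain ⟨c, hc⟩ := (mem_scalars_iff _).1 (hD hz)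
  have hdet : ((Matrix.GeneralLinearGroup.det ⁅x, y⁆ : Fˣ) : F) = 1 := by
    rw [map_commutatorElement, commutatorElement_eq_one_iff_mul_comm.2 (mul_comm _ _), Units.val_one]
  rw [Matrix.GeneralLinearGroup.val_det_apply, hc, Matrix.det_smul, Matrix.det_one, mul_one] at hdet
  obtain ⟨i⟩ := ‹Nonempty ι›
  obtain ⟨v, hv⟩ := (hf.nondegenerate (Pi.single i 1) (by simp)).2
  have hcc : (c : F) * c = 1 := by
    have e := fixesForm_iff.1 hfix _ hzH (Pi.single i 1) v
    rw [show mat ⁅x, y⁆ = (c : F) • 1 from hc, Matrix.smul_mulVec, Matrix.one_mulVec,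
      Matrix.smul_mulVec, Matrix.one_mulVec, hf.sesq.smul_left, hf.sesq.smul_right,
      RingEquiv.refl_apply, ← mul_assoc] at e
    exact (mul_eq_right₀ hv).1 e
  obtain ⟨j, hj⟩ := hodd
  rw [hj, pow_succ, pow_mul, pow_two, hcc, one_pow, one_mul] at hdet
  exact Units.ext (by rw [hc, hdet, one_smul, Units.val_one])

/-- An invertible matrix of odd size which is a multiple of its transpose is symmetric. -/
theorem symm_of_odd {n : Type} [Fintype n] [DecidableEq n] (hn : Odd (Fintype.card n))
    {M : Matrix n n F} (hM : IsUnit M) {a : F} (h : Mᵀ = a • M) : Mᵀ = M := by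
  have hd : M.det ≠ 0 := ((Matrix.isUnit_iff_isUnit_det _).1 hM).ne_zero
  have h1 := congrArg Matrix.det h
  rw [Matrix.det_transpose, Matrix.det_smul] at h1
  have hn1 : a ^ Fintype.card n = 1 := (mul_eq_right₀ hd).1 h1.symm
  obtain ⟨i, j, hij⟩ : ∃ i j, M i j ≠ 0 := by
    by_contra hall; push Not at hall
    obtain ⟨k, hk⟩ := hn
    haveI : Nonempty n := Fintype.card_pos_iff.1 (by omega)
    exact hd (by rw [show M = 0 from Matrix.ext hall, Matrix.det_zero])
  have e1 : M j i = a * M i j := congrFun (congrFun h i) j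
  have e2 : M i j = a * M j i := congrFun (congrFun h j) i
  have haa : a * a = 1 := by
    rw [e1, ← mul_assoc] at e2
    exact (mul_eq_right₀ hij).1 e2.symm
  obtain ⟨k, hk⟩ := hn
  rw [hk, pow_succ, pow_mul, pow_two, haa, one_pow, one_mul] at hn1
  rw [h, hn1, one_smul]



section orth

variable {m : ℕ}

set_option maxHeartbeats 1000000 in
/-- Subgroup structure of `Ω` in odd dimension. -/
theorem orthogonal_odd_structure (hodd : Odd (Fintype.card F)) (hm : 1 ≤ m)
    (H : Subgroup (GL (Idx m) F)) (hH : H ≤ omegaGL (Cfsg.quadFormOdd m F)) :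
    (∃ M : Subgroup (GL (Idx m) F), InOrthogonalOddClass m F M ∧ H ≤ M) ∨
      InOrthogonalResidualClass H := by
  classical
  rw [← coe_oddQ] at hH
  set Q : (Idx m → F) → F := ⇑(oddQ m F) with hQdef
  have hQ : Cfsg.quadFormOdd m F = Q := (coe_oddQ m).symm
  have h2 := AschbacherOrth.two_ne_zero_of_odd hodd
  have hcard : Fintype.card (Idx m) = 2 * m + 1 := AschbacherOrth.card_idx
  have hnodd : Odd (Fintype.card (Idx m)) := ⟨m, hcard⟩
  have hf : IsReflexive (RingEquiv.refl F) 1 (QuadraticMap.polar Q) :=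
    ⟨AschbacherOrth.isSesq_polar, fun _ => rfl, fun u v => by
      rw [QuadraticMap.polar_comm, RingEquiv.refl_apply, one_mul], AschbacherOrth.pol_nondegenerate h2⟩
  have hI : H ≤ Cfsg.isometryGroup F Q := hH.trans (Subgroup.map_subtype_le _)
  have hfix : FixesForm (matrixSet H) (QuadraticMap.polar Q) :=
    fixesForm_iff.2 fun h hh => AschbacherOrth.omega_polar (hH hh)
  by_cases hirr : ActsIrreducibly (matrixSet H)
  swap
  · rcases reducible_subspace hf hfix hirr with ⟨W, h0, hts, hle⟩ | ⟨W, h0, h1, hnd, hle, -⟩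
    · have hW : IsTotallySingularQuad Q W := fun w hw => by
        have h := hts w hw w hw
        rw [hQdef, CfsgLib.Spinor.polar_self'] at h
        exact (mul_eq_zero.1 h).resolve_left h2
      exact Or.inl ⟨_, (by unfold InOrthogonalOddClass; rw [hQ]; exact Or.inl ⟨W, h0, hW, rfl⟩),
        le_inf hle hI⟩
    · exact Or.inl ⟨_, (by unfold InOrthogonalOddClass; rw [hQ]; exact Or.inr (Or.inl ⟨W, h0, h1, hnd, rfl⟩)), le_inf hle hI⟩
  -- orthogonal decompositions
  have horth : ∀ {t k : ℕ} {D : Fin t → Submodule F (Idx m → F)},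
      IsNondegenerateMDecomposition (QuadraticMap.polar Q) k D → t * k = Fintype.card (Idx m) →
      H ≤ decompositionStabilizer D → ∃ M : Subgroup (GL (Idx m) F), InOrthogonalOddClass m F M ∧ H ≤ M := by
    intro t k D hD htk hle
    have hiso : IsOrthogonalMDecomposition Q k D := ⟨hD, fun i j => by
      obtain ⟨g, hg, hgj⟩ := exists_move_member hirr hD.decomp hle i j
      refine ⟨((D i).equivMapOfInjective (Matrix.toLin' (mat g)) (map_toLin'_injective g)).trans
        (LinearEquiv.ofEq _ _ hgj), fun w => ?_⟩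
      simp only [LinearEquiv.trans_apply, LinearEquiv.coe_ofEq_apply,
        Submodule.coe_equivMapOfInjective_apply, Matrix.toLin'_apply]
      exact AschbacherOrth.omega_isometry (hH hg) _⟩
    rcases Nat.lt_or_ge 1 k with hk | hk
    · exact ⟨_, (by unfold InOrthogonalOddClass; rw [hQ]; exact Or.inr (Or.inr (Or.inl ⟨t, k, D, hk, hiso, rfl⟩))), le_inf hle hI⟩
    obtain rfl : k = 1 := by have := hD.decomp.pos; omega
    by_cases hp : (Fintype.card F).Prime
    · exact ⟨_, (by unfold InOrthogonalOddClass; rw [hQ]; exact Or.inr (Or.inr (Or.inr (Or.inl ⟨t, D, hp, hiso, rfl⟩)))), le_inf hle hI⟩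
    obtain rfl : t = Fintype.card (Idx m) := by omega
    obtain ⟨F₁, r, P, hr, hc, hP, hle'⟩ := AschbacherOrth.monomial_subfield h2 hp hiso hH hle
    exact ⟨_, (by unfold InOrthogonalOddClass; rw [hQ]; exact Or.inr (Or.inr (Or.inr (Or.inr (Or.inr (Or.inr (Or.inl
      ⟨F₁, r, P, hr, hc, hP, rfl⟩))))))), le_inf hle' hI⟩
  rcases star_reduction_spanned (by omega) hf hfix hirr with
    ⟨t, k, D, hD, htk, hle⟩ | ⟨k, D, -, hk, -⟩ | ⟨r, K, hr, hrd, hK, hle, hadj⟩ |
    ⟨k, d, e, P, S, T, hk, hd, hkd, hS, hT, hle, hform⟩ | hab | hsp | ⟨P, hP⟩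
  · exact Or.inl (horth hD htk hle)
  · exfalso; omega
  · by_cases hrn : r = Fintype.card (Idx m)
    · subst hrn
      exact (no_full_field hf (by omega) hnodd hfix
        (hH.trans AschbacherOrth.omega_le_specialLinear) hirr hK hle hadj).elim
    · have hne : 2 * m + 1 ≠ r := fun h => hrn (by omega)
      have hself : IsSelfAdjointFor (QuadraticMap.polar Q) K := fun k hk u v => by
        rw [hf.adj_spec, adj_eq_self_of_odd hf (Odd.of_dvd_nat hnodd hrd) hK hadj hk]
      exact Or.inl ⟨_, (by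
        unfold InOrthogonalOddClass; rw [hQ]
        exact Or.inr (Or.inr (Or.inr (Or.inr (Or.inl ⟨r, K, hr, hne, hK, hself, rfl⟩))))),
        le_inf hle hI⟩
  · -- tensor decompositions
    haveI : Nonempty (Fin k) := ⟨⟨0, by omega⟩⟩
    haveI : Nonempty (Fin d) := ⟨⟨0, by omega⟩⟩
    have hko : Odd k ∧ Odd d := Nat.odd_mul.1 (hkd ▸ hnodd)
    obtain ⟨a, b, -, hSa, hTb, -⟩ := factors_reflexive hf hS.ne_zero hT.ne_zero hform
    have hmap : ∀ {n : ℕ} (M : Matrix (Fin n) (Fin n) F), M.map (RingEquiv.refl F) = M :=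
      fun M => Matrix.ext fun _ _ => rfl
    rw [hmap] at hSa hTb
    have hSs := symm_of_odd (by simpa using hko.1) hS hSa
    have hTs := symm_of_odd (by simpa using hko.2) hT hTb
    have h3 : 3 ≤ k ∧ 3 ≤ d := by
      obtain ⟨⟨u, hu⟩, ⟨w, hw⟩⟩ := hko
      omega
    have hmember : ∀ {n₁ n₂ : ℕ} {e : Idx m ≃ Fin n₁ × Fin n₂} {S : Matrix (Fin n₁) (Fin n₁) F}
        {T : Matrix (Fin n₂) (Fin n₂) F}, 3 ≤ n₁ → n₁ < n₂ → IsUnit S → IsUnit T → Sᵀ = S → Tᵀ = T →
        H ≤ tensorProductSubgroup n₁ n₂ e P →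
        (∀ x y : Fin n₁ × Fin n₂ → F, QuadraticMap.polar Q (mat P *ᵥ (x ∘ e)) (mat P *ᵥ (y ∘ e)) =
          formOfGram (RingEquiv.refl F) (S ⊗ₖ T) x y) →
        ∃ M : Subgroup (GL (Idx m) F), InOrthogonalOddClass m F M ∧ H ≤ M := by
      intro n₁ n₂ e S T h1 h12 hS hT hSs hTs hle hform
      have hstr : IsTensorFormStructure id (QuadraticMap.polar Q) (formOf (RingEquiv.refl F) S)
          (formOf (RingEquiv.refl F) T) e P := ⟨1, one_ne_zero, fun x y => by
        rw [one_mul, gramMatrix_formOf, gramMatrix_formOf]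
        exact hform x y⟩
      exact ⟨_, (by
        unfold InOrthogonalOddClass; rw [hQ]
        exact Or.inr (Or.inr (Or.inr (Or.inr (Or.inr (Or.inl ⟨n₁, n₂, e, P,
          formOf (RingEquiv.refl F) S, formOf (RingEquiv.refl F) T, h1, h12,
          isSymmetricForm_formOf hS hSs, isSymmetricForm_formOf hT hTs, hstr, rfl⟩)))))),
        le_inf hle hI⟩
    rcases lt_trichotomy k d with hlt | heq | hgt
    · exact Or.inl (hmember h3.1 hlt hS hT hSs hTs hle hform)
    · subst heq
      left
      by_cases hex : Fintype.card F = 3 ∧ k = 3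
      · obtain ⟨hq, rfl⟩ := hex
        obtain ⟨D, hD, hle'⟩ := frame_decomposition hq hf hfix hirr (by omega) hS hT hTs hle hform
        exact horth hD hkd hle'
      obtain ⟨A, μ, hμ, hA⟩ := exists_similar_of_odd h2 hko.1 hS hT hSs hTs
      obtain ⟨e', P', hstr, hle'⟩ := exists_square hf hμ
        (A := A) (by rw [hmap]; exact hA) hle hform
      exact ⟨_, (by unfold InOrthogonalOddClass; rw [hQ]; exact Or.inr (Or.inr (Or.inr (Or.inr (Or.inr (Or.inr (Or.inr ⟨k, 2, e', P', _, h3.1, le_rfl,
        hex, isSymmetricForm_formOf hS hSs, hstr, rfl⟩))))))), le_inf hle' hI⟩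
    · exact Or.inl (hmember h3.2 hgt hT hS hTs hSs (hle.trans (tensorProductSubgroup_swap e P))
        (formTensor_swap hform))
  · exact (no_abelianSocle hf (by omega) hnodd hfix hab).elim
  · -- tensor powers
    left
    obtain ⟨d, t, e, P, B, hd, ht, hn, hB⟩ := exists_slotPower hf hfix hsp
    have hdo : Odd d := by
      rcases Nat.even_or_odd d with he | ho
      · exact absurd (hn ▸ hnodd) (Nat.not_odd_iff_even.2 (he.pow_of_ne_zero (by omega)))
      · exact ho
    obtain ⟨a, -, ha⟩ := hB.refl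
    have hG : (gramMatrix B)ᵀ = gramMatrix B := by
      refine symm_of_odd (by simpa using hdo) (gram_isUnit hB.sesq hB.nondegenerate) (a := a)
        (Matrix.ext fun i j => ?_)
      exact ha _ _
    have hbil : IsBilinearForm B :=
      ⟨hB.sesq.add_left, hB.sesq.smul_left, hB.sesq.add_right, hB.sesq.smul_right⟩
    have hBs : IsSymmetricForm B := ⟨hbil, fun u v => by
      rw [hB.sesq.gram_eq u v, hB.sesq.gram_eq v u]
      show u ⬝ᵥ (gramMatrix B *ᵥ v) = v ⬝ᵥ (gramMatrix B *ᵥ u)
      rw [Matrix.dotProduct_mulVec, ← Matrix.mulVec_transpose, hG, dotProduct_comm], hB.nondegenerate⟩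
    have hd3 : 3 ≤ d := by obtain ⟨u, hu⟩ := hdo; omega
    have hex : ¬ (Fintype.card F = 3 ∧ d = 3) := by
      rintro ⟨hq, rfl⟩
      obtain ⟨G, hG, hG0, hiso⟩ := hB.perfect
      exact hG0 (perfect_isometry_three hq hBs hG hiso)
    have hstr := hB.structure' hf
    exact ⟨_, (by
      unfold InOrthogonalOddClass; rw [hQ]
      exact Or.inr (Or.inr (Or.inr (Or.inr (Or.inr (Or.inr (Or.inr ⟨d, t, e, P, B, hd3, ht, hex,
        hBs, hstr, rfl⟩))))))), le_inf hB.le_wreath hI⟩
  · -- almost simple groups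
    have hPO := hP.le.trans hH
    by_cases hF : ∃ F₀ : Subfield F, F₀ ≠ ⊤ ∧ RealisableOver F₀ (matrixSet P)
    · obtain ⟨F₀, h0, hreal⟩ := hF
      obtain ⟨F₁, r, B, hr, hc, hB, hle⟩ :=
        AschbacherOrth.exists_quad_subfield h2 h0 hP.normal hPO hP.absIrred hreal
      exact Or.inl ⟨_, (by unfold InOrthogonalOddClass; rw [hQ]; exact Or.inr (Or.inr (Or.inr (Or.inr (Or.inr (Or.inr (Or.inl
        ⟨F₁, r, B, hr, hc, hB, rfl⟩))))))), le_inf hle hI⟩
    · refine Or.inr ⟨P, hP.toResidualCore fun F₀ h0 hr => hF ⟨F₀, h0, hr⟩, ?_⟩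
      rintro ⟨σ, f, hfu, hfixu⟩
      exact hF (AschbacherOrth.realisable_of_unitary h2 hPO hP.absIrred hfu hfixu)

end orth

end CfsgLib.MaxSub
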