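import Cfsg.Agent.MaxSub.CentralProduct
import Cfsg.Agent.AschbacherForms.StarReduction

/-!
# A form on a tensor power whose slots are closed under adjoints

The form is a multiple of a product of forms on the slots; if the slots are permuted transitively by
isometries, the form is a tensor power of one form.
-/

set_option autoImplicit false
set_option linter.unusedSectionVars false

namespace CfsgLib.MaxSub

open Matrix Cfsg.Geo CfsgLib.TensorNonmax CfsgLib.AschbacherForms
open CfsgLib.Aschbacher (IsSesq)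
open scoped commutatorElement

variable {ι : Type} [Fintype ι] [DecidableEq ι] {F : Type*} [Field F] {d t : ℕ}

theorem ptmul_smul (e : ι ≃ (Fin t → Fin d)) (P : GL ι F) (l : Fin t → F)
    (zs : Fin t → Fin d → F) :
    ptmul e P (fun i => l i • zs i) = (∏ i, l i) • ptmul e P zs := by
  rw [ptmul, ptmul, ← map_smul]
  congr 1
  funext a
  simp only [Pi.smul_apply, smul_eq_mul, Finset.prod_mul_distrib]

theorem ptmul_ne_zero (e : ι ≃ (Fin t → Fin d)) (P : GL ι F) {xs : Fin t → Fin d → F}
    (h : ∀ i, xs i ≠ 0) : ptmul e P xs ≠ 0 := by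
  intro h0
  choose a ha using fun i => Function.ne_iff.1 (h i)
  have h1 := congrFun (cvec_injective e P (h0.trans (map_zero _).symm)) a
  exact Finset.prod_ne_zero_iff.2 (fun i _ => ha i) h1

/-- Products of slot forms agree only if the slot forms are proportional. -/
theorem slot_ratio {V : Type*} {c c' : F} (hc : c ≠ 0) {B B' : Fin t → V → V → F}
    (hB : ∀ i, ∃ x y, B i x y ≠ 0)
    (h : ∀ xs ys : Fin t → V, c' * ∏ i, B' i (xs i) (ys i) = c * ∏ i, B i (xs i) (ys i)) :
    ∀ i, ∃ ν : F, ν ≠ 0 ∧ ∀ x y, B' i x y = ν * B i x y := by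
  classical
  choose x₀ y₀ h₀ using hB
  intro i
  have hne : c' * ∏ j, B' j (x₀ j) (y₀ j) ≠ 0 := by
    rw [h]; exact mul_ne_zero hc (Finset.prod_ne_zero_iff.2 fun j _ => h₀ j)
  obtain ⟨hc', hB'⟩ := mul_ne_zero_iff.1 hne
  have hB'₀ : ∏ j ∈ Finset.univ.erase i, B' j (x₀ j) (y₀ j) ≠ 0 := Finset.prod_ne_zero_iff.2
    fun j _ => Finset.prod_ne_zero_iff.1 hB' j (Finset.mem_univ j)
  have hB₀ : ∏ j ∈ Finset.univ.erase i, B j (x₀ j) (y₀ j) ≠ 0 :=
    Finset.prod_ne_zero_iff.2 fun j _ => h₀ j
  refine ⟨(c * ∏ j ∈ Finset.univ.erase i, B j (x₀ j) (y₀ j)) /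
    (c' * ∏ j ∈ Finset.univ.erase i, B' j (x₀ j) (y₀ j)),
    div_ne_zero (mul_ne_zero hc hB₀) (mul_ne_zero hc' hB'₀), fun x y => ?_⟩
  have key : ∀ C : Fin t → V → V → F,
      ∏ j, C j (Function.update x₀ i x j) (Function.update y₀ i y j) =
        C i x y * ∏ j ∈ Finset.univ.erase i, C j (x₀ j) (y₀ j) := by
    intro C
    rw [← Finset.mul_prod_erase Finset.univ _ (Finset.mem_univ i), Function.update_self,
      Function.update_self]
    congr 1
    exact Finset.prod_congr rfl fun j hj => by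
      rw [Function.update_of_ne (Finset.mem_erase.1 hj).1, Function.update_of_ne (Finset.mem_erase.1 hj).1]
  have h1 := h (Function.update x₀ i x) (Function.update y₀ i y)
  rw [key B, key B'] at h1
  rw [div_mul_eq_mul_div, eq_div_iff (mul_ne_zero hc' hB'₀)]
  linear_combination h1

variable {σ : F ≃+* F} {ε : F} {f : (ι → F) → (ι → F) → F}

set_option maxHeartbeats 1000000 in
/-- Slots closed under adjoints split the form. -/
theorem exists_slot_forms (hd : 0 < d) (hf : IsReflexive σ ε f) (e : ι ≃ (Fin t → Fin d))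
    (P : GL ι F)
    (hadj : ∀ i a, ∃ b, adj σ f (slotOp e P i a) = slotOp e P i b) :
    ∃ (c : F) (B : Fin t → (Fin d → F) → (Fin d → F) → F), c ≠ 0 ∧
      (∀ i, IsSesq σ (B i)) ∧ (∀ i, IsNondegenerateForm (B i)) ∧
      ∀ xs ys, f (ptmul e P xs) (ptmul e P ys) = c * ∏ i, B i (xs i) (ys i) := by
  classical
  haveI : Nonempty (Fin d) := ⟨⟨0, hd⟩⟩
  haveI : Nonempty ι := ⟨e.symm fun _ => ⟨0, hd⟩⟩
  have hinj : ∀ i, Function.Injective (slotOp e P i) := fun i => (slotOp e P i).toRingHom.injective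
  choose τ hτ using hadj
  have hτadd : ∀ i a b, τ i (a + b) = τ i a + τ i b := fun i a b => hinj i (by
    rw [map_add, ← hτ, ← hτ, ← hτ, map_add, hf.adj_add])
  have hτsmul : ∀ i (l : F) a, τ i (l • a) = σ l • τ i a := fun i l a => hinj i (by
    rw [map_smul, ← hτ, ← hτ, map_smul, hf.adj_smul])
  have hτmul : ∀ i a b, τ i (a * b) = τ i b * τ i a := fun i a b => hinj i (by
    rw [map_mul, ← hτ, ← hτ, ← hτ, map_mul, hf.adj_mul])
  have hττ : ∀ i a, τ i (τ i a) = a := fun i a => hinj i (by rw [← hτ, ← hτ, hf.adj_adj])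
  have hτ0 : ∀ i, τ i 0 = 0 := fun i => by simpa using hτsmul i 0 0
  let o : Fin d := ⟨0, hd⟩
  obtain ⟨E, hE⟩ : ∃ E : Fin t → Matrix (Fin d) (Fin d) F, E = fun i => τ i (Matrix.single o o 1) :=
    ⟨_, rfl⟩
  have hE0 : ∀ i, E i ≠ 0 := fun i h => by
    rw [hE] at h
    have h1 := congrFun (congrFun (congrArg (τ i) h) o) o
    rw [hττ, hτ0] at h1
    simp at h1
  have hidem : ∀ i, E i * E i = E i := fun i => by
    simp only [hE]; rw [← hτmul]; simp
  choose z hz using fun i => show ∃ z, E i *ᵥ z ≠ 0 by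
    by_contra hall
    push Not at hall
    exact hE0 i (Matrix.toLin'.injective (LinearMap.ext fun z => by simpa using hall z))
  obtain ⟨p, hp⟩ : ∃ p : Fin t → Fin d → F, p = fun i => E i *ᵥ z i := ⟨_, rfl⟩
  have hEp : ∀ i, E i *ᵥ p i = p i := fun i => by rw [hp]; simp only [mulVec_mulVec, hidem]
  choose j hj using fun i => Function.ne_iff.1 (show p i ≠ 0 by rw [hp]; exact hz i)
  have hline : ∀ i w, E i *ᵥ w = ((E i *ᵥ w) (j i) / p i (j i)) • p i := by
    intro i w
    obtain ⟨M, hM⟩ : ∃ M : Matrix (Fin d) (Fin d) F, M *ᵥ p i = w := by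
      refine ⟨LinearMap.toMatrix' (LinearMap.smulRight ((p i (j i))⁻¹ • LinearMap.proj (j i)) w), ?_⟩
      rw [← Matrix.toLin'_apply, Matrix.toLin'_toMatrix']
      simp [inv_mul_cancel₀ (hj i)]
    have h1 : E i * M * E i = σ (τ i M o o) • E i := by
      simp only [hE]
      have h2 : Matrix.single o o (1 : F) * τ i M * Matrix.single o o 1 =
          τ i M o o • Matrix.single o o 1 := by
        simp [Matrix.single_mul_mul_single, Matrix.smul_single]
      have h3 := congrArg (τ i) h2
      rw [hτmul, hτmul, hττ, hτsmul, ← mul_assoc] at h3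
      exact h3
    have h4 : E i *ᵥ w = σ (τ i M o o) • p i := by
      calc E i *ᵥ w = (E i * M * E i) *ᵥ p i := by
            rw [← mulVec_mulVec, ← mulVec_mulVec, hEp, hM]
        _ = σ (τ i M o o) • p i := by rw [h1, Matrix.smul_mulVec, hEp]
    rw [h4, Pi.smul_apply, smul_eq_mul, mul_div_assoc, div_self (hj i), mul_one]
  obtain ⟨v₀, hv₀⟩ : ∃ v₀, v₀ = ptmul e P (fun _ => Pi.single o (1 : F)) := ⟨_, rfl⟩
  have hfix : ∀ i, slotOp e P i (Matrix.single o o 1) *ᵥ v₀ = v₀ := fun i => by
    rw [hv₀, slotOp_ptmul]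
    congr 1
    rw [Function.update_eq_self_iff]
    funext k
    simp [Matrix.mulVec, dotProduct, Matrix.single_apply, Pi.single_apply, eq_comm]
  have hmove : ∀ i M u v, f (slotOp e P i M *ᵥ u) (ptmul e P v) =
      f u (ptmul e P (Function.update v i (τ i M *ᵥ v i))) := fun i M u v => by
    rw [hf.adj_spec, hτ, slotOp_ptmul]
  -- the functional of the base tensor is a product
  have hpure : ∀ zs, f v₀ (ptmul e P zs) =
      σ (∏ i, (E i *ᵥ zs i) (j i) / p i (j i)) * f v₀ (ptmul e P p) := by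
    intro zs
    have hs : ∀ s : Finset (Fin t), f v₀ (ptmul e P zs) =
        f v₀ (ptmul e P fun i => if i ∈ s then E i *ᵥ zs i else zs i) := by
      intro s
      induction s using Finset.induction_on with
      | empty => simp
      | @insert k s hk ih =>
        rw [ih]
        conv_lhs => rw [← hfix k, hmove]
        congr 2
        funext i
        rcases eq_or_ne i k with rfl | hik
        · rw [Function.update_self, if_neg hk, if_pos (Finset.mem_insert_self _ _), hE]
        · rw [Function.update_of_ne hik]; simp [hik]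
    rw [hs Finset.univ, show (fun i => if i ∈ (Finset.univ : Finset (Fin t)) then E i *ᵥ zs i else zs i) =
      fun i => ((E i *ᵥ zs i) (j i) / p i (j i)) • p i from funext fun i => by
        rw [if_pos (Finset.mem_univ i)]; exact hline i _, ptmul_smul, hf.sesq.smul_right]
  obtain ⟨A, hA⟩ : ∃ A : (Fin d → F) → Matrix (Fin d) (Fin d) F,
      A = fun x => vecMulVec x (Pi.single o 1) := ⟨_, rfl⟩
  have hAo : ∀ x, A x *ᵥ Pi.single o 1 = x := fun x => by
    funext k; simp [hA, vecMulVec_apply]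
  have hform : ∀ xs ys, f (ptmul e P xs) (ptmul e P ys) = f v₀ (ptmul e P (fun i => τ i (A (xs i)) *ᵥ ys i)) := by
    intro xs
    have hs : ∀ (s : Finset (Fin t)) (ys : Fin t → Fin d → F),
        f (ptmul e P fun i => if i ∈ s then xs i else Pi.single o 1) (ptmul e P ys) =
          f v₀ (ptmul e P fun i => if i ∈ s then τ i (A (xs i)) *ᵥ ys i else ys i) := by
      intro s
      induction s using Finset.induction_on with
      | empty => intro ys; simp [hv₀]
      | @insert k s hk ih =>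
        intro ys
        have e1 : (ptmul e P fun i => if i ∈ insert k s then xs i else Pi.single o 1) =
            slotOp e P k (A (xs k)) *ᵥ ptmul e P fun i => if i ∈ s then xs i else Pi.single o 1 := by
          rw [slotOp_ptmul]
          congr 1
          funext i
          rcases eq_or_ne i k with rfl | hik
          · rw [Function.update_self, if_neg hk, if_pos (Finset.mem_insert_self _ _), hAo]
          · rw [Function.update_of_ne hik]; simp [hik]
        rw [e1, hmove, ih]
        congr 2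
        funext i
        rcases eq_or_ne i k with rfl | hik
        · simp [hk]
        · simp [hik]
    intro ys
    simpa using hs Finset.univ ys
  let B : Fin t → (Fin d → F) → (Fin d → F) → F := fun i x y =>
    σ ((E i *ᵥ (τ i (A x) *ᵥ y)) (j i) / p i (j i))
  have hprod : ∀ xs ys, f (ptmul e P xs) (ptmul e P ys) =
      f v₀ (ptmul e P p) * ∏ i, B i (xs i) (ys i) := fun xs ys => by
    rw [hform, hpure, map_prod, mul_comm]
  have hsesq : ∀ i, IsSesq σ (B i) := by
    intro i
    have hAadd : ∀ x y, A (x + y) = A x + A y := fun x y => by simp [hA, add_vecMulVec]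
    have hAsmul : ∀ (l : F) x, A (l • x) = l • A x := fun l x => by simp [hA, smul_vecMulVec]
    refine ⟨fun x y v => ?_, fun l x v => ?_, fun v x y => ?_, fun l v x => ?_⟩
    · simp only [B, hAadd, hτadd, add_mulVec, mulVec_add, Pi.add_apply, add_div, map_add]
    · simp only [B, hAsmul, hτsmul, smul_mulVec, mulVec_smul, Pi.smul_apply, smul_eq_mul,
        mul_div_assoc, map_mul, hf.invol]
    · simp only [B, mulVec_add, Pi.add_apply, add_div, map_add]
    · simp only [B, mulVec_smul, Pi.smul_apply, smul_eq_mul, mul_div_assoc, map_mul]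
  have hne : ∀ (i : Fin t) (x : Fin d → F), x ≠ 0 →
      ptmul e P (Function.update (fun _ => Pi.single o 1) i x) ≠ 0 :=
    fun i x hx => ptmul_ne_zero e P fun k => by
      rcases eq_or_ne k i with rfl | hk
      · rwa [Function.update_self]
      · rw [Function.update_of_ne hk]; simp
  refine ⟨f v₀ (ptmul e P p), B, ?_, hsesq, fun i x hx => ⟨?_, ?_⟩, hprod⟩
  · intro h0
    obtain ⟨w, hw⟩ := (hf.nondegenerate v₀ (by rw [hv₀]; exact ptmul_ne_zero e P fun _ => by simp)).2
    apply hw
    rw [hf.ext_left (v := 0) (u := v₀) ?_, hf.zero_left]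
    intro u
    have hu : u ∈ Submodule.span F (Set.range (ptmul e P)) := by rw [span_ptmul]; trivial
    rw [hf.zero_left]
    induction hu using Submodule.span_induction with
    | mem v hv => obtain ⟨zs, rfl⟩ := hv; rw [hpure, h0, mul_zero]
    | zero => exact hf.zero_right _
    | add a b _ _ ha hb => rw [hf.sesq.add_right, ha, hb, add_zero]
    | smul l a _ ha => rw [hf.sesq.smul_right, ha, mul_zero]
  all_goals
    by_contra hall
    push Not at hall
    apply hne i x hx
    refine hf.ext_left fun u => ?_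
    have hu : u ∈ Submodule.span F (Set.range (ptmul e P)) := by rw [span_ptmul]; trivial
    rw [hf.zero_left]
    induction hu using Submodule.span_induction with
    | mem v hv =>
      obtain ⟨zs, rfl⟩ := hv
      first
        | rw [hprod, Finset.prod_eq_zero (Finset.mem_univ i) (by rw [Function.update_self]; exact hall _),
            mul_zero]
        | exact hf.orth_comm (by
            rw [hprod, Finset.prod_eq_zero (Finset.mem_univ i) (by rw [Function.update_self]; exact hall _),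
              mul_zero])
    | zero => exact hf.zero_right _
    | add a b _ _ ha hb => rw [hf.sesq.add_right, ha, hb, add_zero]
    | smul l a _ ha => rw [hf.sesq.smul_right, ha, mul_zero]

/-- A form that is a tensor power of one form, with the group acting slotwise. -/
structure IsSlotPower (σ : F ≃+* F) (f : (ι → F) → (ι → F) → F) (H : Subgroup (GL ι F))
    (e : ι ≃ (Fin t → Fin d)) (P : GL ι F) (B : (Fin d → F) → (Fin d → F) → F) : Prop where
  sesq : IsSesq σ B
  nondegenerate : IsNondegenerateForm B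
  refl : ∃ a : F, a * σ a = 1 ∧ ∀ x y, B y x = a * σ (B x y)
  form : ∃ c : F, c ≠ 0 ∧ ∀ xs ys, f (ptmul e P xs) (ptmul e P ys) = c * ∏ i, B (xs i) (ys i)
  act : ∀ g ∈ H, ∃ (π : Equiv.Perm (Fin t)) (as : Fin t → GL (Fin d) F),
    ∀ xs, (g : Matrix ι ι F) *ᵥ ptmul e P xs =
      ptmul e P (fun i => (as i : Matrix (Fin d) (Fin d) F) *ᵥ xs (π i))
  perfect : ∃ G : Subgroup (GL (Fin d) F), ⁅G, G⁆ = G ∧ G ≠ ⊥ ∧
    ∀ x ∈ G, ∀ u v, B ((x : Matrix (Fin d) (Fin d) F) *ᵥ u) ((x : Matrix (Fin d) (Fin d) F) *ᵥ v) = B u v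

/-- A change of basis in every slot. -/
theorem exists_retwist (e : ι ≃ (Fin t → Fin d)) (P : GL ι F) (A : Fin t → GL (Fin d) F) :
    ∃ P' : GL ι F, ∀ xs, ptmul e P' xs =
      ptmul e P (fun i => (A i : Matrix (Fin d) (Fin d) F) *ᵥ xs i) := by
  classical
  let W : (Fin t → GL (Fin d) F) → Matrix ι ι F := fun A => (Matrix.of fun a b : Fin t → Fin d =>
    ∏ i, (A i : Matrix (Fin d) (Fin d) F) (a i) (b i)).submatrix e e
  have hW : ∀ A A', W A * W A' = W fun i => A i * A' i := by
    intro A A'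
    simp only [W, Matrix.submatrix_mul_equiv]
    congr 1
    ext a b
    simp only [Matrix.mul_apply, Matrix.of_apply, Units.val_mul, Fintype.prod_sum,
      ← Finset.prod_mul_distrib]
  have hW1 : W (fun _ => 1) = 1 := by
    simp only [W]
    rw [show (Matrix.of fun a b : Fin t → Fin d => ∏ i, ((1 : GL (Fin d) F) : Matrix (Fin d) (Fin d) F) (a i) (b i)) = 1 from ?_,
      Matrix.submatrix_one_equiv]
    ext a b
    simp only [Units.val_one, Matrix.of_apply, Matrix.one_apply, Fintype.prod_boole, ← funext_iff]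
  let w : GL ι F := ⟨W A, W fun i => (A i)⁻¹, by rw [hW]; simpa using hW1, by rw [hW]; simpa using hW1⟩
  refine ⟨P * w, fun xs => ?_⟩
  simp only [ptmul, cvec_apply, Units.val_mul, ← mulVec_mulVec]
  congr 1
  show W A *ᵥ _ = _
  funext a
  simp only [W, Matrix.submatrix_mulVec_equiv, Function.comp_assoc, Equiv.self_comp_symm,
    Function.comp_id, Function.comp_apply]
  simp only [Matrix.mulVec, dotProduct, Matrix.of_apply, Fintype.prod_sum, ← Finset.prod_mul_distrib]

set_option maxHeartbeats 1000000 in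
/-- The central product of an isometry group is a tensor power of a form. -/
theorem exists_slotPower [Fintype F] (hf : IsReflexive σ ε f) {H : Subgroup (GL ι F)}
    (hfix : FixesForm (matrixSet H) f) (h : Aschbacher.HasSpannedProduct H) :
    ∃ (d t : ℕ) (e : ι ≃ (Fin t → Fin d)) (P : GL ι F) (B : (Fin d → F) → (Fin d → F) → F),
      2 ≤ d ∧ 2 ≤ t ∧ Fintype.card ι = d ^ t ∧ IsSlotPower σ f H e P B := by
  classical
  obtain ⟨d, t, φ, N, hd, ht, hcard, hinj, hcomm, hperm, htrans, hN⟩ := h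
  obtain ⟨e, P, hφ⟩ := exists_slots (by omega) hcard φ hcomm
  haveI : Nonempty (Fin d) := ⟨⟨0, by omega⟩⟩
  haveI : Nonempty ι := ⟨e.symm fun _ => ⟨0, by omega⟩⟩
  have hfixN : ∀ i, ∀ x ∈ N i, ∀ u v, f ((x : Matrix ι ι F) *ᵥ u) ((x : Matrix ι ι F) *ᵥ v) = f u v :=
    fun i x hx => hfix _ (Aschbacher.mem_matrixSet ((hN i).1 hx))
  have hadj : ∀ i a, ∃ b, adj σ f (slotOp e P i a) = slotOp e P i b := by
    intro i a
    rw [hφ]
    have key : ∀ u ∈ Submodule.span F (matrixSet (N i)), ∃ b, adj σ f u = slotOp e P i b := by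
      intro u hu
      induction hu using Submodule.span_induction with
      | mem u hu =>
        obtain ⟨x, hx, rfl⟩ := hu
        obtain ⟨b, hb⟩ := (hN i).2.2.2 x⁻¹ (inv_mem hx)
        exact ⟨b, by rw [hφ, hf.adj_isometry (hfixN i x hx)]; exact hb⟩
      | zero => exact ⟨0, by rw [hf.adj_zero, map_zero]⟩
      | add u v _ _ hu hv =>
        obtain ⟨b, hb⟩ := hu
        obtain ⟨b', hb'⟩ := hv
        exact ⟨b + b', by rw [hf.adj_add, hb, hb', map_add]⟩
      | smul l u _ hu =>
        obtain ⟨b, hb⟩ := hu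
        exact ⟨σ l • b, by rw [hf.adj_smul, hb, map_smul]⟩
    exact key _ ((hN i).2.2.1 a)
  obtain ⟨c, B, hc, hsesq, hnd, hform⟩ := exists_slot_forms (by omega) hf e P hadj
  have hBne : ∀ i, ∃ x y, B i x y ≠ 0 := fun i => by
    obtain ⟨x, hx⟩ := exists_ne (0 : Fin d → F)
    obtain ⟨y, hy⟩ := (hnd i x hx).2
    exact ⟨x, y, hy⟩
  have hact : ∀ g ∈ H, ∃ (π : Equiv.Perm (Fin t)) (as : Fin t → GL (Fin d) F),
      ∀ xs, (g : Matrix ι ι F) *ᵥ ptmul e P xs =
        ptmul e P (fun i => (as i : Matrix (Fin d) (Fin d) F) *ᵥ xs (π i)) := fun g hg =>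
    exists_slot_action hd (by omega) e P fun i => by
      obtain ⟨j, hj⟩ := hperm g hg i
      exact ⟨j, fun a => by simp only [hφ]; exact hj a⟩
  have hscale : ∀ g ∈ H, ∀ (π : Equiv.Perm (Fin t)) (as : Fin t → GL (Fin d) F),
      (∀ xs, (g : Matrix ι ι F) *ᵥ ptmul e P xs =
        ptmul e P (fun i => (as i : Matrix (Fin d) (Fin d) F) *ᵥ xs (π i))) →
      ∀ i, ∃ ν : F, ν ≠ 0 ∧ ∀ x y, B i ((as i : Matrix (Fin d) (Fin d) F) *ᵥ x)
        ((as i : Matrix (Fin d) (Fin d) F) *ᵥ y) = ν * B (π i) x y := by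
    intro g hg π as has i
    obtain ⟨ν, hν, hν'⟩ := slot_ratio (B := B) (c' := c) (B' := fun k x y =>
        B (π.symm k) ((as (π.symm k) : Matrix (Fin d) (Fin d) F) *ᵥ x)
          ((as (π.symm k) : Matrix (Fin d) (Fin d) F) *ᵥ y)) hc hBne (fun xs ys => by
      rw [← hform xs ys, ← hfix _ (Aschbacher.mem_matrixSet hg) (ptmul e P xs), has, has, hform,
        ← Equiv.prod_comp π.symm fun i => B i ((as i : Matrix (Fin d) (Fin d) F) *ᵥ xs (π i))
          ((as i : Matrix (Fin d) (Fin d) F) *ᵥ ys (π i))]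
      simp) (π i)
    exact ⟨ν, hν, by simpa using hν'⟩
  -- each slot is moved to the first one
  let i₀ : Fin t := ⟨0, by omega⟩
  have hex : ∀ i, ∃ A : GL (Fin d) F, ∃ μ : F, μ ≠ 0 ∧
      ∀ x y, B i ((A : Matrix (Fin d) (Fin d) F) *ᵥ x) ((A : Matrix (Fin d) (Fin d) F) *ᵥ y) =
        μ * B i₀ x y := by
    intro i
    obtain ⟨g, hg, hgi⟩ := htrans i₀ i
    obtain ⟨π, as, has⟩ := hact g hg
    obtain ⟨ν, hν, hν'⟩ := hscale g hg π as has i
    suffices hπ : π i = i₀ from ⟨as i, ν, hν, hπ ▸ hν'⟩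
    by_contra hne
    obtain ⟨j, hj⟩ : ∃ j, π j = i₀ := ⟨π.symm i₀, π.apply_symm_apply _⟩
    have hji : j ≠ i := fun h => hne (h ▸ hj)
    let o : Fin d := ⟨0, by omega⟩
    let o' : Fin d := ⟨1, by omega⟩
    obtain ⟨a, ha⟩ : ∃ a, a = ((as j)⁻¹ : GL (Fin d) F).val * Matrix.single o o' 1 * (as j : Matrix (Fin d) (Fin d) F) :=
      ⟨_, rfl⟩
    obtain ⟨b, hb⟩ := hgi a
    rw [← hφ, ← hφ] at hb
    have e1 : slotOp e P j (Matrix.single o o' 1) = slotOp e P i b := by
      refine ext_ptmul e P fun xs => ?_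
      rw [← hb]
      obtain ⟨ys, hys⟩ : ∃ ys : Fin t → Fin d → F,
          ys = fun k => ((as (π.symm k))⁻¹ : GL (Fin d) F).val *ᵥ xs (π.symm k) := ⟨_, rfl⟩
      have hgx : ((g⁻¹ : GL ι F) : Matrix ι ι F) *ᵥ ptmul e P xs = ptmul e P ys := by
        have h1 := has ys
        rw [show (fun k => (as k : Matrix (Fin d) (Fin d) F) *ᵥ ys (π k)) = xs from funext fun k => by
          simp [hys, mulVec_mulVec]] at h1
        rw [← h1, mulVec_mulVec, Units.inv_mul, one_mulVec]
      simp only [Aschbacher.mat] at *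
      rw [← mulVec_mulVec, ← mulVec_mulVec, hgx, slotOp_ptmul, slotOp_ptmul, has]
      congr 1
      funext k
      rcases eq_or_ne k j with rfl | hk
      · rw [Function.update_self, hj, Function.update_self, hys]
        simp only [ha, mulVec_mulVec, ← hj, Equiv.symm_apply_apply]
        simp [mul_assoc]
      · rw [Function.update_of_ne hk, Function.update_of_ne (fun h => hk (π.injective (h.trans hj.symm))),
          hys]
        simp [mulVec_mulVec]
    have e2 : slotOp e P j (Matrix.single o o' 1 * Matrix.single o' o 1) =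
        slotOp e P j (Matrix.single o' o 1 * Matrix.single o o' 1) := by
      rw [map_mul, map_mul, e1, slotOp_comm e P hji.symm]
    have e3 := congrFun (congrFun ((slotOp e P j).toRingHom.injective e2) o) o
    simp [o, o', Fin.ext_iff] at e3
  choose A μ hμ hA using hex
  obtain ⟨P', hP'⟩ := exists_retwist e P A
  refine ⟨d, t, e, P', B i₀, hd, ht, hcard, hsesq i₀, hnd i₀, ?_,
    ⟨c * ∏ i, μ i, mul_ne_zero hc (Finset.prod_ne_zero_iff.2 fun i _ => hμ i), fun xs ys => ?_⟩,
    fun g hg => ?_, ?_⟩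
  · obtain ⟨a, ha, ha'⟩ := slot_ratio (B := fun i x y => σ (B i x y)) (B' := fun i x y => B i y x)
      (c := ε * σ c) (c' := c) (mul_ne_zero (left_ne_zero_of_mul_eq_one hf.eps_mul) (by simpa using hc))
      (fun i => by obtain ⟨x, y, hxy⟩ := hBne i; exact ⟨x, y, by simpa using hxy⟩)
      (fun xs ys => by rw [← hform, hf.refl, hform, map_mul, map_prod, mul_assoc]) i₀
    refine ⟨a, ?_, ha'⟩
    obtain ⟨x, y, hxy⟩ := hBne i₀
    have h1 := ha' y x
    rw [ha' x y, map_mul, hf.invol, ← mul_assoc] at h1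
    exact (mul_eq_right₀ hxy).1 h1.symm
  · rw [hP', hP', hform, mul_assoc, ← Finset.prod_mul_distrib]
    exact congrArg (c * ·) (Finset.prod_congr rfl fun i _ => hA i _ _)
  · obtain ⟨π, as, has⟩ := hact g hg
    refine ⟨π, fun i => (A i)⁻¹ * as i * A (π i), fun xs => ?_⟩
    rw [hP', hP', has]
    congr 1
    funext i
    simp only [mulVec_mulVec, Units.val_mul, ← mul_assoc, Units.mul_inv, one_mul]
  · -- the perfect group in the first slot
    let G : Subgroup (GL (Fin d) F) :=
      { carrier := {b | ∃ x ∈ N i₀, (x : Matrix ι ι F) = slotOp e P i₀ b}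
        mul_mem' := fun {b b'} ⟨x, hx, hb⟩ ⟨x', hx', hb'⟩ => ⟨x * x', mul_mem hx hx', by
          simp [Units.val_mul, map_mul, hb, hb']⟩
        one_mem' := ⟨1, one_mem _, by simp⟩
        inv_mem' := fun {b} ⟨x, hx, hb⟩ => ⟨x⁻¹, inv_mem hx, by
          refine Units.inv_eq_of_mul_eq_one_right (u := x) ?_
          rw [hb, ← map_mul, Units.mul_inv, map_one]⟩ }
    have hlift : ∀ x ∈ N i₀, ∃ b : GL (Fin d) F, (x : Matrix ι ι F) = slotOp e P i₀ b := by
      intro x hx
      obtain ⟨b, hb⟩ := (hN i₀).2.2.2 x hx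
      obtain ⟨b', hb'⟩ := (hN i₀).2.2.2 x⁻¹ (inv_mem hx)
      rw [← hφ] at hb hb'
      simp only [Aschbacher.mat] at hb hb'
      exact ⟨⟨b, b', (slotOp e P i₀).toRingHom.injective (by
          show slotOp e P i₀ (b * b') = slotOp e P i₀ 1
          rw [map_mul, map_one, ← hb, ← hb', Units.mul_inv]), (slotOp e P i₀).toRingHom.injective (by
          show slotOp e P i₀ (b' * b) = slotOp e P i₀ 1
          rw [map_mul, map_one, ← hb, ← hb', Units.inv_mul])⟩, hb⟩
    have hperf : ⁅G, G⁆ = G := by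
      refine le_antisymm (Subgroup.commutator_le.2 fun a ha b hb => ?_) fun b hb => ?_
      · rw [commutatorElement_def]
        exact mul_mem (mul_mem (mul_mem ha hb) (inv_mem ha)) (inv_mem hb)
      · obtain ⟨x, hx, hxb⟩ := hb
        let D : Subgroup (GL ι F) :=
          { carrier := {y | ∃ b : GL (Fin d) F, b ∈ ⁅G, G⁆ ∧ (y : Matrix ι ι F) = slotOp e P i₀ b}
            mul_mem' := fun {y y'} ⟨b, hb, h1⟩ ⟨b', hb', h1'⟩ => ⟨b * b', mul_mem hb hb', by
              simp [Units.val_mul, map_mul, h1, h1']⟩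
            one_mem' := ⟨1, one_mem _, by simp⟩
            inv_mem' := fun {y} ⟨b, hb, h1⟩ => ⟨b⁻¹, inv_mem hb, by
              refine Units.inv_eq_of_mul_eq_one_right (u := y) ?_
              rw [h1, ← map_mul, Units.mul_inv, map_one]⟩ }
        have hle : N i₀ ≤ D := by
          rw [← (hN i₀).2.1, Subgroup.commutator_le]
          intro y hy y' hy'
          obtain ⟨u, hu⟩ := hlift y hy
          obtain ⟨u', hu'⟩ := hlift y' hy'
          refine ⟨⁅u, u'⁆, Subgroup.commutator_mem_commutator ⟨y, hy, hu⟩ ⟨y', hy', hu'⟩, ?_⟩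
          have hinv : ∀ (z : GL ι F) (w : GL (Fin d) F), (z : Matrix ι ι F) = slotOp e P i₀ w →
              ((z⁻¹ : GL ι F) : Matrix ι ι F) = slotOp e P i₀ ((w⁻¹ : GL (Fin d) F) : Matrix (Fin d) (Fin d) F) :=
            fun z w hzw => Units.inv_eq_of_mul_eq_one_right (by
              rw [hzw, ← map_mul, Units.mul_inv, map_one])
          simp only [commutatorElement_def, Units.val_mul, map_mul, hinv _ _ hu, hinv _ _ hu', hu, hu']
        obtain ⟨b', hb', h1⟩ := hle hx
        exact (Units.ext ((slotOp e P i₀).toRingHom.injective (h1.symm.trans hxb)) : b' = b) ▸ hb'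
    refine ⟨G, hperf, fun hbot => ?_, fun x hx => ?_⟩
    · have hspan : ∀ u ∈ Submodule.span F (matrixSet (N i₀)), ∃ l : F, u = l • (1 : Matrix ι ι F) := by
        intro u hu
        induction hu using Submodule.span_induction with
        | mem u hu =>
          obtain ⟨y, hy, rfl⟩ := hu
          obtain ⟨b, hb⟩ := hlift y hy
          have hb1 : b = 1 := Subgroup.mem_bot.1 (hbot ▸ (⟨y, hy, hb⟩ : b ∈ G))
          exact ⟨1, by rw [one_smul]; simpa [hb1] using hb⟩
        | zero => exact ⟨0, by rw [zero_smul]⟩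
        | add u v _ _ hu hv =>
          obtain ⟨l, rfl⟩ := hu; obtain ⟨l', rfl⟩ := hv; exact ⟨l + l', (add_smul _ _ _).symm⟩
        | smul a u _ hu => obtain ⟨l, rfl⟩ := hu; exact ⟨a * l, smul_smul _ _ _⟩
      obtain ⟨l, hl⟩ := hspan _ ((hN i₀).2.2.1 (Matrix.single ⟨0, by omega⟩ ⟨1, by omega⟩ 1))
      rw [← map_one (φ i₀), ← map_smul] at hl
      have h1 := congrFun (congrFun (hinj i₀ hl) ⟨0, by omega⟩) ⟨1, by omega⟩
      simp [Fin.ext_iff] at h1
    · -- perfect groups have trivial multipliers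
      have hmul : ∀ b ∈ G, ∃ ν : F, ν ≠ 0 ∧ ∀ u v, B i₀ ((b : Matrix (Fin d) (Fin d) F) *ᵥ u)
          ((b : Matrix (Fin d) (Fin d) F) *ᵥ v) = ν * B i₀ u v := by
        rintro b ⟨y, hy, hb⟩
        have := hscale y ((hN i₀).1 hy) 1 (Function.update (fun _ => 1) i₀ b) (fun xs => by
          rw [hb, slotOp_ptmul]
          congr 1
          funext k
          rcases eq_or_ne k i₀ with rfl | hk
          · simp
          · simp [hk]) i₀
        simpa using this
      let I : Subgroup (GL (Fin d) F) :=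
        { carrier := {b | ∀ u v, B i₀ ((b : Matrix (Fin d) (Fin d) F) *ᵥ u)
            ((b : Matrix (Fin d) (Fin d) F) *ᵥ v) = B i₀ u v}
          mul_mem' := fun {a b} ha hb u v => by
            simp only [Units.val_mul, ← mulVec_mulVec]; rw [ha, hb]
          one_mem' := fun u v => by simp
          inv_mem' := fun {a} ha u v => by
            rw [← ha]; simp [mulVec_mulVec] }
      suffices hGI : G ≤ I from hGI hx
      rw [← hperf, Subgroup.commutator_le]
      intro a ha b hb u v
      obtain ⟨α, hα, hA'⟩ := hmul a ha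
      obtain ⟨β, hβ, hB'⟩ := hmul b hb
      have hinv : ∀ (z : GL (Fin d) F) (γ : F), γ ≠ 0 → (∀ u v, B i₀ ((z : Matrix (Fin d) (Fin d) F) *ᵥ u)
          ((z : Matrix (Fin d) (Fin d) F) *ᵥ v) = γ * B i₀ u v) → ∀ u v,
          B i₀ (((z⁻¹ : GL (Fin d) F) : Matrix (Fin d) (Fin d) F) *ᵥ u)
            (((z⁻¹ : GL (Fin d) F) : Matrix (Fin d) (Fin d) F) *ᵥ v) = γ⁻¹ * B i₀ u v := by
        intro z γ hγ hz u v
        have h1 := hz (((z⁻¹ : GL (Fin d) F) : Matrix (Fin d) (Fin d) F) *ᵥ u)
          (((z⁻¹ : GL (Fin d) F) : Matrix (Fin d) (Fin d) F) *ᵥ v)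
        simp only [mulVec_mulVec, Units.mul_inv, one_mulVec] at h1
        rw [h1, ← mul_assoc, inv_mul_cancel₀ hγ, one_mul]
      simp only [commutatorElement_def, Units.val_mul, ← mulVec_mulVec, hA', hB', hinv a α hα hA',
        hinv b β hβ hB']
      field_simp

/-- A form which is a product of one form on the pure tensors is a tensor power of it. -/
theorem tensorPower_of_ptmul (hs : IsSesq σ f) (e : ι ≃ (Fin t → Fin d)) (P : GL ι F)
    {B : (Fin d → F) → (Fin d → F) → F}
    (h : ∃ c : F, c ≠ 0 ∧ ∀ xs ys, f (ptmul e P xs) (ptmul e P ys) = c * ∏ i, B (xs i) (ys i)) :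
    IsTensorPowerFormStructure σ f B e P := by
  obtain ⟨c, hc, hform⟩ := h
  refine ⟨c, hc, fun x y => ?_⟩
  have hexp : ∀ z : (Fin t → Fin d) → F, (P : Matrix ι ι F) *ᵥ (z ∘ e) =
      ∑ a, z a • ptmul e P (fun i => Pi.single (a i) (1 : F)) := fun z => by
    rw [← cvec_apply]
    conv_lhs => rw [← Finset.univ_sum_single z, map_sum]
    exact Finset.sum_congr rfl fun a _ => by
      rw [ptmul_single, ← map_smul, ← Pi.single_smul', smul_eq_mul, mul_one]
  rw [hexp, hexp, hs.sum_left, Finset.mul_sum]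
  refine Finset.sum_congr rfl fun a _ => ?_
  rw [hs.smul_left, hs.sum_right, Finset.mul_sum, Finset.mul_sum]
  refine Finset.sum_congr rfl fun b _ => ?_
  rw [hs.smul_right, hform]
  simp only [gramMatrix]
  ring

/-- The tensor power form structure. -/
theorem IsSlotPower.structure' {H : Subgroup (GL ι F)} {e : ι ≃ (Fin t → Fin d)} {P : GL ι F}
    {B : (Fin d → F) → (Fin d → F) → F} (hf : IsReflexive σ ε f) (h : IsSlotPower σ f H e P B) :
    IsTensorPowerFormStructure σ f B e P :=
  tensorPower_of_ptmul hf.sesq e P h.form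

/-- The group lies in the tensor wreath stabiliser. -/
theorem IsSlotPower.le_wreath {H : Subgroup (GL ι F)} {e : ι ≃ (Fin t → Fin d)} {P : GL ι F}
    {B : (Fin d → F) → (Fin d → F) → F} (h : IsSlotPower σ f H e P B) :
    H ≤ tensorWreathSubgroup d t e P := fun g hg => by
  obtain ⟨π, as, has⟩ := h.act g hg
  exact mem_tensorWreathSubgroup_of has

/-- Multiplying the slot form by a scalar. -/
theorem IsSlotPower.scale {H : Subgroup (GL ι F)} {e : ι ≃ (Fin t → Fin d)} {P : GL ι F}
    {B : (Fin d → F) → (Fin d → F) → F} (hinv : ∀ a, σ (σ a) = a)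
    (h : IsSlotPower σ f H e P B) {w : F} (hw : w ≠ 0) :
    IsSlotPower σ f H e P (fun x y => w * B x y) := by
  refine ⟨⟨fun x y v => ?_, fun l x v => ?_, fun v x y => ?_, fun l v x => ?_⟩, fun v hv => ?_, ?_, ?_, h.act, ?_⟩
  · simp only [h.sesq.add_left, mul_add]
  · simp only [h.sesq.smul_left]; ring
  · simp only [h.sesq.add_right, mul_add]
  · simp only [h.sesq.smul_right]; ring
  · obtain ⟨⟨x, hx⟩, ⟨y, hy⟩⟩ := h.nondegenerate v hv
    exact ⟨⟨x, mul_ne_zero hw hx⟩, ⟨y, mul_ne_zero hw hy⟩⟩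
  · obtain ⟨a, ha, hr⟩ := h.refl
    have hσw : σ w ≠ 0 := by simpa using hw
    refine ⟨a * w / σ w, ?_, fun x y => ?_⟩
    · rw [map_div₀, map_mul, hinv]; field_simp; linear_combination ha
    · simp only [map_mul, hr x y]; field_simp
  · obtain ⟨c, hc, hform⟩ := h.form
    refine ⟨c / w ^ t, div_ne_zero hc (pow_ne_zero _ hw), fun xs ys => ?_⟩
    rw [hform, Finset.prod_mul_distrib, Finset.prod_const, Finset.card_univ, Fintype.card_fin]
    field_simp
  · obtain ⟨G, hG, hG0, hiso⟩ := h.perfect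
    exact ⟨G, hG, hG0, fun x hx u v => congrArg (w * ·) (hiso x hx u v)⟩

end CfsgLib.MaxSub
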