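import Cfsg.Agent.Aschbacher.Subfield
import Cfsg.Agent.Aschbacher.Basic

/-!
# Realisation over the field of traces

An absolutely irreducible group over a finite field whose traces lie in a subfield is realisable
over that subfield: the algebra spanned over the subfield contains an idempotent of rank one.
-/

set_option autoImplicit false
set_option linter.unusedSectionVars false

namespace CfsgLib.MaxSub

open Matrix Cfsg.Geo CfsgLib.Aschbacher

variable {ι : Type} [Fintype ι] [DecidableEq ι] {F : Type*} [Field F]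

/-- In a finite monoid some positive power is idempotent. -/
theorem exists_pow_idempotent {M : Type*} [Monoid M] [Finite M] (x : M) :
    ∃ N : ℕ, 0 < N ∧ x ^ N * x ^ N = x ^ N := by
  obtain ⟨a, b, hab, h⟩ : ∃ a b : ℕ, a < b ∧ x ^ a = x ^ b := by
    obtain ⟨a, b, hne, h⟩ := Finite.exists_ne_map_eq_of_infinite fun j : ℕ => x ^ j
    rcases lt_or_gt_of_ne hne with h' | h'
    · exact ⟨a, b, h', h⟩
    · exact ⟨b, a, h', h.symm⟩
  obtain ⟨p, rfl⟩ : ∃ p, b = a + p := ⟨b - a, by omega⟩
  have hstep : ∀ k j, x ^ (a + j + k * p) = x ^ (a + j) := by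
    intro k
    induction k with
    | zero => intro j; simp
    | succ k ih =>
      intro j
      rw [show a + j + (k + 1) * p = a + p + (j + k * p) by ring, pow_add, ← h, ← pow_add, ← add_assoc,
        ih]
  have hp : 0 < p := by omega
  have hN : a ≤ (a + 1) * p := le_trans (by omega) (Nat.le_mul_of_pos_right (a + 1) hp)
  refine ⟨(a + 1) * p, by positivity, ?_⟩
  have h1 := hstep (a + 1) ((a + 1) * p - a)
  rwa [Nat.add_sub_cancel' hN, pow_add] at h1

/-- A spanning set contains the columns of an invertible matrix. -/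
theorem exists_columns {S : Set (ι → F)} (hS : Submodule.span F S = ⊤) :
    ∃ P : GL ι F, ∀ j, (fun i => mat P i j) ∈ S := by
  obtain ⟨b, hbS, hbspan, hbli⟩ := exists_linearIndependent F S
  rw [hS] at hbspan
  let bas : Module.Basis b F (ι → F) := Module.Basis.mk hbli (by simp [hbspan])
  haveI : Finite b := Module.Finite.finite_basis bas
  haveI : Fintype b := Fintype.ofFinite b
  let bI : Module.Basis ι F (ι → F) := bas.reindex (Fintype.equivOfCardEq (by
    rw [← Module.finrank_eq_card_basis bas, Module.finrank_fintype_fun_eq_card]))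
  have hu : IsUnit (Matrix.of fun i j => bI j i) :=
    Matrix.linearIndependent_cols_iff_isUnit.1 bI.linearIndependent
  refine ⟨hu.unit, fun j => ?_⟩
  show bI j ∈ S
  simp only [bI, Module.Basis.reindex_apply, bas, Module.Basis.mk_apply]
  exact hbS (Subtype.mem _)

/-- A finite subring without zero divisors is commutative. -/
theorem subring_comm_of_regular {S : Type*} [Ring S] [Finite S] [Nontrivial S] (D : Subring S)
    (h : ∀ x ∈ D, x ≠ 0 → ∀ y ∈ D, x * y = 0 → y = 0) : ∀ x ∈ D, ∀ y ∈ D, x * y = y * x := by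
  haveI : NoZeroDivisors D := ⟨fun {x y} hxy => by
    by_contra hne
    push Not at hne
    exact hne.2 (Subtype.ext (h x.1 x.2 (fun h0 => hne.1 (Subtype.ext h0)) y.1 y.2
      (congrArg Subtype.val hxy)))⟩
  haveI : IsDomain D := NoZeroDivisors.to_isDomain D
  intro x hx y hy
  exact congrArg Subtype.val ((Finite.isDomain_to_isField D).mul_comm ⟨x, hx⟩ ⟨y, hy⟩)

set_option maxHeartbeats 1000000 in
/-- An absolutely irreducible group is realisable over every subfield containing its traces. -/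
theorem realisable_of_traces [Finite F] [Nonempty ι] {R : Subgroup (GL ι F)}
    (hR : ActsAbsolutelyIrreducibly (matrixSet R)) {F₀ : Subfield F}
    (htr : ∀ x ∈ R, (mat x).trace ∈ F₀) : RealisableOver F₀ (matrixSet R) := by
  classical
  let A := Submodule.span F₀ (matrixSet R)
  have hsub : ∀ x ∈ R, mat x ∈ A := fun x hx => Submodule.subset_span (mem_matrixSet hx)
  have hone : (1 : Matrix ι ι F) ∈ A := by simpa [mat] using hsub 1 (one_mem R)
  have hmul : ∀ a ∈ A, ∀ b ∈ A, a * b ∈ A := by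
    intro a ha b hb
    induction ha using Submodule.span_induction with
    | mem a ha =>
      obtain ⟨x, hx, rfl⟩ := ha
      induction hb using Submodule.span_induction with
      | mem b hb =>
        obtain ⟨y, hy, rfl⟩ := hb
        exact Submodule.subset_span ⟨x * y, mul_mem hx hy, Units.val_mul x y⟩
      | zero => rw [mul_zero]; exact A.zero_mem
      | add b b' _ _ h h' => rw [mul_add]; exact A.add_mem h h'
      | smul c b _ h => rw [Matrix.mul_smul]; exact A.smul_mem c h
    | zero => rw [zero_mul]; exact A.zero_mem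
    | add a a' _ _ h h' => rw [add_mul]; exact A.add_mem h h'
    | smul c a _ h => rw [Matrix.smul_mul]; exact A.smul_mem c h
  have htrA : ∀ a ∈ A, a.trace ∈ F₀ := by
    intro a ha
    induction ha using Submodule.span_induction with
    | mem a ha => obtain ⟨x, hx, rfl⟩ := ha; exact htr x hx
    | zero => rw [trace_zero]; exact F₀.zero_mem
    | add a b _ _ h h' => rw [trace_add]; exact F₀.add_mem h h'
    | smul c a _ h => rw [trace_smul]; exact F₀.mul_mem c.2 h
  have hspan : Submodule.span F (A : Set (Matrix ι ι F)) = ⊤ := by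
    rw [eq_top_iff, ← span_eq_top_of_absIrred hR]
    exact Submodule.span_mono Submodule.subset_span
  have hall : ∀ (L : Matrix ι ι F →ₗ[F] Matrix ι ι F), (∀ a ∈ A, L a = 0) → ∀ X, L X = 0 := by
    intro L hL X
    have hX : X ∈ Submodule.span F (A : Set (Matrix ι ι F)) := hspan ▸ Submodule.mem_top
    induction hX using Submodule.span_induction with
    | mem a ha => exact hL a ha
    | zero => exact map_zero L
    | add a b _ _ h h' => rw [map_add, h, h', add_zero]
    | smul c a _ h => rw [map_smul, h, smul_zero]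
  have hmove : ∀ (v w : ι → F) (j : ι), v j ≠ 0 →
      Matrix.vecMulVec w (Pi.single j (v j)⁻¹) *ᵥ v = w := fun v w j hj => by
    funext i
    simp [Matrix.vecMulVec_apply, Matrix.mulVec, dotProduct, Pi.single_apply, mul_assoc,
      inv_mul_cancel₀ hj]
  -- an element of least rank
  let rg : Matrix ι ι F → Submodule F (ι → F) := fun M => LinearMap.range (Matrix.toLin' M)
  have hrg0 : ∀ M : Matrix ι ι F, M ≠ 0 → ∃ u, M *ᵥ u ≠ 0 := fun M hM => by
    by_contra hn
    push Not at hn
    exact hM (Matrix.toLin'.injective (LinearMap.ext fun v => by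
      rw [toLin'_apply, map_zero, LinearMap.zero_apply, hn v]))
  have hrgmul : ∀ M N : Matrix ι ι F, rg (M * N) = (rg N).map (Matrix.toLin' M) := fun M N => by
    simp only [rg, Matrix.toLin'_mul, LinearMap.range_comp]
  obtain ⟨M, ⟨hMA, hM0⟩, hMmin⟩ := (InvImage.wf (fun M => Module.finrank F (rg M)) wellFounded_lt).has_min
    {M : Matrix ι ι F | M ∈ A ∧ M ≠ 0} ⟨1, hone, one_ne_zero⟩
  let W := rg M
  have hfull : ∀ N ∈ A, N ≠ 0 → rg N ≤ W → rg N = W := fun N hN hN0 hle =>
    Submodule.eq_of_le_of_finrank_le hle (not_lt.1 fun h => hMmin N ⟨hN, hN0⟩ h)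
  obtain ⟨Y, hY, hMYM⟩ : ∃ Y ∈ A, M * Y * M ≠ 0 := by
    by_contra hn
    push Not at hn
    obtain ⟨u, hu⟩ := hrg0 M hM0
    obtain ⟨j, hj⟩ := Function.ne_iff.1 hu
    have h1 := hall ((LinearMap.mulLeft F M).comp (LinearMap.mulRight F M))
      (fun a ha => by simpa [mul_assoc] using hn a ha) (Matrix.vecMulVec u (Pi.single j ((M *ᵥ u) j)⁻¹))
    have h2 := congrArg (· *ᵥ u) h1
    simp only [LinearMap.coe_comp, Function.comp_apply, LinearMap.mulLeft_apply, LinearMap.mulRight_apply,
      ← mulVec_mulVec, hmove _ _ j hj, zero_mulVec] at h2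
    exact hu h2
  obtain ⟨X, hX⟩ : ∃ X, X = M * Y := ⟨_, rfl⟩
  have hXA : X ∈ A := hX ▸ hmul _ hMA _ hY
  have hXW : rg X ≤ W := by
    rw [hX, hrgmul]
    exact (Submodule.map_mono le_top).trans (le_of_eq (Submodule.map_top _))
  have hXW' : W.map (Matrix.toLin' X) = W := by
    rw [← hrgmul]
    refine hfull _ (hmul _ hXA _ hMA) (hX ▸ hMYM) (le_trans ?_ hXW)
    rw [hrgmul]
    exact (Submodule.map_mono le_top).trans (le_of_eq (Submodule.map_top _))
  have hpow : ∀ k, X ^ (k + 1) ∈ A ∧ rg (X ^ (k + 1)) = W := by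
    intro k
    induction k with
    | zero =>
      rw [zero_add, pow_one]
      exact ⟨hXA, hfull _ hXA (fun h => hMYM (by rw [← hX, h, zero_mul])) hXW⟩
    | succ k ih => exact ⟨by rw [pow_succ']; exact hmul _ hXA _ ih.1, by rw [pow_succ', hrgmul, ih.2, hXW']⟩
  obtain ⟨N, hN, hidem⟩ := exists_pow_idempotent X
  obtain ⟨e, he⟩ : ∃ e, e = X ^ N := ⟨_, rfl⟩
  rw [← he] at hidem
  obtain ⟨heA, heW⟩ : e ∈ A ∧ rg e = W := by
    have := hpow (N - 1)
    rwa [Nat.sub_add_cancel hN, ← he] at this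
  have hfixW : ∀ w ∈ W, e *ᵥ w = w := by
    intro w hw
    rw [← heW] at hw
    obtain ⟨v, rfl⟩ := hw
    rw [toLin'_apply, mulVec_mulVec, hidem]
  have hmemW : ∀ v, e *ᵥ v ∈ W := fun v => heW ▸ ⟨v, toLin'_apply e v⟩
  obtain ⟨u, huW, hu0⟩ : ∃ u ∈ W, u ≠ 0 := by
    obtain ⟨v, hv⟩ := hrg0 M hM0
    exact ⟨M *ᵥ v, ⟨v, toLin'_apply M v⟩, hv⟩
  -- the corner is a field
  let D : Subring (Module.End F W) :=
    { carrier := {φ | ∃ a ∈ A, ∀ w : W, (φ w : ι → F) = a *ᵥ (w : ι → F)}
      mul_mem' := by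
        rintro φ ψ ⟨a, ha, h⟩ ⟨b, hb, h'⟩
        exact ⟨a * b, hmul _ ha _ hb, fun w => by rw [Module.End.mul_apply, h, h', mulVec_mulVec]⟩
      one_mem' := ⟨1, hone, fun w => by rw [Module.End.one_apply, one_mulVec]⟩
      add_mem' := by
        rintro φ ψ ⟨a, ha, h⟩ ⟨b, hb, h'⟩
        exact ⟨a + b, A.add_mem ha hb, fun w => by
          rw [LinearMap.add_apply, Submodule.coe_add, h, h', add_mulVec]⟩
      zero_mem' := ⟨0, A.zero_mem, fun w => by rw [zero_mulVec]; rfl⟩
      neg_mem' := by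
        rintro φ ⟨a, ha, h⟩
        exact ⟨-a, A.neg_mem ha, fun w => by
          rw [LinearMap.neg_apply, Submodule.coe_neg, h, neg_mulVec]⟩ }
  have hinj : ∀ φ ∈ D, φ ≠ 0 → Function.Injective φ := by
    rintro φ ⟨a, ha, h⟩ hφ
    have hle : rg (a * e) ≤ W := by
      rintro _ ⟨v, rfl⟩
      rw [toLin'_apply, ← mulVec_mulVec, ← h ⟨_, hmemW v⟩]
      exact Subtype.mem _
    have hne : a * e ≠ 0 := fun h0 => hφ (LinearMap.ext fun w => Subtype.ext (by
      rw [h, ← hfixW w w.2, mulVec_mulVec, h0, zero_mulVec]; rfl))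
    have hfull' := hfull _ (hmul _ ha _ heA) hne hle
    rw [LinearMap.injective_iff_surjective]
    intro w
    obtain ⟨v, hv⟩ : (w : ι → F) ∈ rg (a * e) := hfull'.symm ▸ w.2
    exact ⟨⟨_, hmemW v⟩, Subtype.ext (by rw [h, mulVec_mulVec]; simpa using hv)⟩
  haveI : Nontrivial W := ⟨⟨⟨u, huW⟩, 0, fun h => hu0 (congrArg Subtype.val h)⟩⟩
  haveI : Finite (Module.End F W) :=
    Finite.of_injective (fun φ : Module.End F W => ⇑φ) DFunLike.coe_injective
  have hcomm := subring_comm_of_regular D fun φ hφ h0 ψ _ hφψ => LinearMap.ext fun w =>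
    hinj φ hφ h0 (by simpa using LinearMap.congr_fun hφψ w)
  have hker : ∀ a ∈ A, ∀ b ∈ A, e * a * e * (e * b * e) - e * b * e * (e * a * e) = 0 := by
    have mk : ∀ a ∈ A, ∃ φ : D, ∀ w : W, (φ.1 w : ι → F) = (e * a * e) *ᵥ (w : ι → F) := fun a ha =>
      ⟨⟨(Matrix.toLin' (e * a * e)).restrict fun w _ => by
          rw [toLin'_apply, mul_assoc, ← mulVec_mulVec]; exact hmemW _,
        e * a * e, hmul _ (hmul _ heA _ ha) _ heA, fun w => toLin'_apply _ _⟩, fun w => toLin'_apply _ _⟩
    intro a ha b hb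
    obtain ⟨φ, hφ⟩ := mk a ha
    obtain ⟨ψ, hψ⟩ := mk b hb
    refine Matrix.toLin'.injective (LinearMap.ext fun v => ?_)
    have h := congrArg Subtype.val (LinearMap.congr_fun (hcomm φ.1 φ.2 ψ.1 ψ.2) ⟨_, hmemW v⟩)
    simp only [Module.End.mul_apply, hφ, hψ, mulVec_mulVec, mul_assoc, hidem] at h
    rw [map_zero, LinearMap.zero_apply, toLin'_apply, sub_mulVec, sub_eq_zero]
    simpa only [mul_assoc] using h
  have hker' : ∀ a b : Matrix ι ι F, e * a * e * (e * b * e) - e * b * e * (e * a * e) = 0 := by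
    have h1 : ∀ a ∈ A, ∀ b, e * a * e * (e * b * e) - e * b * e * (e * a * e) = 0 := fun a ha b => by
      have := hall ((LinearMap.mulLeft F (e * a * e) - LinearMap.mulRight F (e * a * e)).comp
        ((LinearMap.mulLeft F e).comp (LinearMap.mulRight F e))) (fun b hb => by
          simpa [mul_assoc] using hker a ha b hb) b
      simpa [mul_assoc] using this
    intro a b
    have := hall ((LinearMap.mulRight F (e * b * e) - LinearMap.mulLeft F (e * b * e)).comp
      ((LinearMap.mulLeft F e).comp (LinearMap.mulRight F e))) (fun a ha => by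
        simpa [mul_assoc] using h1 a ha b) a
    simpa [mul_assoc] using this
  -- so it has rank one
  obtain ⟨j, hj⟩ := Function.ne_iff.1 hu0
  have hline : ∀ w ∈ W, w = (w j / u j) • u := by
    intro w hw
    by_contra hne
    set w' := w - (w j / u j) • u with hw'
    have hw'W : w' ∈ W := W.sub_mem hw (W.smul_mem _ huW)
    have hw'j : w' j = 0 := by simp [hw', div_mul_cancel₀ _ hj]
    obtain ⟨i, hi'⟩ := Function.ne_iff.1 (sub_ne_zero.2 hne : w' ≠ 0)
    have hi : w' i ≠ 0 := hi'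
    -- `X₁` sends `u` to `w'`, `X₂` sends `w'` to `u` and kills `u`
    set X₁ := Matrix.vecMulVec w' (Pi.single j (u j)⁻¹) with hX₁
    set X₂ := Matrix.vecMulVec u (Pi.single i (w' i)⁻¹ - (u i / u j * (w' i)⁻¹) • Pi.single j 1) with hX₂
    have e1 : X₁ *ᵥ u = w' := hmove _ _ j hj
    have e2 : X₂ *ᵥ w' = u ∧ X₂ *ᵥ u = 0 := by
      have hvm : ∀ v, X₂ *ᵥ v = ((w' i)⁻¹ * v i - u i / u j * (w' i)⁻¹ * v j) • u := fun v => by
        have h0 : X₂ *ᵥ v =
            ((Pi.single i (w' i)⁻¹ - (u i / u j * (w' i)⁻¹) • Pi.single j 1) ⬝ᵥ v) • u := by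
          funext k
          simp only [hX₂, Matrix.mulVec, Matrix.vecMulVec_apply, dotProduct, Pi.smul_apply, smul_eq_mul,
            Finset.sum_mul]
          exact Finset.sum_congr rfl fun x _ => by ring
        rw [h0, sub_dotProduct, smul_dotProduct, single_dotProduct, single_dotProduct, smul_eq_mul,
          one_mul]
      constructor
      · rw [hvm, hw'j, mul_zero, sub_zero, inv_mul_cancel₀ hi, one_smul]
      · rw [hvm]
        convert zero_smul F u using 2
        rw [mul_right_comm, div_mul_cancel₀ _ (show u j ≠ 0 from hj)]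
        ring
    have h1 := congrArg (· *ᵥ u) (sub_eq_zero.1 (hker' X₂ X₁))
    simp only [← mulVec_mulVec, hfixW u huW, e1, hfixW w' hw'W, e2.1, e2.2, mulVec_zero] at h1
    exact hu0 h1
  let l : ι → F := fun k => e j k / u j
  have hev : ∀ v, e *ᵥ v = (l ⬝ᵥ v) • u := by
    intro v
    conv_lhs => rw [hline _ (hmemW v)]
    congr 1
    simp [l, dotProduct, Matrix.mulVec, Finset.sum_div, div_mul_eq_mul_div]
  have htrace : ∀ a ∈ A, l ⬝ᵥ (a *ᵥ u) ∈ F₀ := by
    intro a ha
    have e1 : a * e = Matrix.vecMulVec (a *ᵥ u) l := by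
      refine Matrix.toLin'.injective (LinearMap.ext fun v => ?_)
      rw [toLin'_apply, toLin'_apply, ← mulVec_mulVec, hev, mulVec_smul]
      funext i
      simp [Matrix.vecMulVec_apply, Matrix.mulVec, dotProduct, Finset.mul_sum, mul_comm,
        mul_left_comm]
    have := htrA _ (hmul _ ha _ heA)
    rwa [e1, trace_vecMulVec, dotProduct_comm] at this
  -- columns and rows in the lattice
  have himage : ∀ (L : Matrix ι ι F →ₗ[F] (ι → F)) (S : Set (ι → F)), (∀ a ∈ A, L a ∈ S) →
      Function.Surjective L → Submodule.span F S = ⊤ := by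
    intro L S hS hL
    rw [eq_top_iff]
    rintro w -
    obtain ⟨X, rfl⟩ := hL w
    have hX : X ∈ Submodule.span F (A : Set (Matrix ι ι F)) := hspan ▸ Submodule.mem_top
    have := Submodule.mem_map_of_mem (f := L) hX
    rw [Submodule.map_span] at this
    exact Submodule.span_mono (by rintro _ ⟨a, ha, rfl⟩; exact hS a ha) this
  have hl : l ≠ 0 := fun h => by
    have := hfixW u huW
    rw [hev, h, zero_dotProduct, zero_smul] at this
    exact hu0 this.symm
  obtain ⟨k₀, hk₀⟩ := Function.ne_iff.1 hl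
  obtain ⟨B, hB⟩ := exists_columns (S := {w | ∃ a ∈ A, a *ᵥ u = w})
    (himage { toFun := fun X => X *ᵥ u, map_add' := fun X Y => add_mulVec X Y u,
              map_smul' := fun c X => smul_mulVec c X u } _ (fun a ha => ⟨a, ha, rfl⟩)
      fun w => ⟨_, hmove u w j hj⟩)
  obtain ⟨C, hC⟩ := exists_columns (S := {w | ∃ a ∈ A, l ᵥ* a = w})
    (himage { toFun := fun X => l ᵥ* X, map_add' := fun X Y => vecMul_add X Y l,
              map_smul' := fun c X => vecMul_smul l c X } _ (fun a ha => ⟨a, ha, rfl⟩)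
      fun w => ⟨Matrix.vecMulVec (Pi.single k₀ (l k₀)⁻¹) w, by
        show l ᵥ* Matrix.vecMulVec (Pi.single k₀ (l k₀)⁻¹) w = w
        funext i
        simp [Matrix.vecMul, dotProduct, Matrix.vecMulVec_apply, Pi.single_apply,
          mul_inv_cancel₀ hk₀, ← mul_assoc]⟩)
  have hentry : ∀ g ∈ A, ∀ i k, ((mat C)ᵀ * g * mat B) i k ∈ F₀ := by
    intro g hg i k
    obtain ⟨a, ha, ha'⟩ := hC i
    obtain ⟨b, hb, hb'⟩ := hB k
    have h1 : ((mat C)ᵀ * g * mat B) i k = (fun r => mat C r i) ⬝ᵥ (g *ᵥ fun r => mat B r k) := by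
      rw [mul_assoc, Matrix.mul_apply']
      rfl
    rw [h1, ← ha', ← hb', ← dotProduct_mulVec, mulVec_mulVec, mulVec_mulVec]
    exact htrace _ (hmul _ (hmul _ ha _ hg) _ hb)
  let M₀ : Matrix ι ι F₀ := fun i k => ⟨((mat C)ᵀ * (1 : Matrix ι ι F) * mat B : Matrix ι ι F) i k, hentry 1 hone i k⟩
  have hM₀ : F₀.subtype.mapMatrix M₀ = (mat C)ᵀ * 1 * mat B := rfl
  have hu₁ : IsUnit ((mat C)ᵀ * 1 * mat B) :=
    (((Matrix.isUnit_transpose (mat C)).2 C.isUnit).mul isUnit_one).mul B.isUnit
  have hdet : IsUnit M₀.det := by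
    rw [isUnit_iff_ne_zero]
    intro h0
    refine ((Matrix.isUnit_iff_isUnit_det _).1 hu₁).ne_zero ?_
    rw [← hM₀, ← RingHom.map_det, h0, map_zero]
  have hinv : F₀.subtype.mapMatrix M₀⁻¹ * ((mat C)ᵀ * 1 * mat B) = 1 := by
    rw [← hM₀, ← map_mul, Matrix.nonsing_inv_mul _ hdet, map_one]
  refine ⟨B⁻¹, forall_matrixSet.2 fun x hx i k => ?_⟩
  rw [inv_inv]
  have : mat B⁻¹ * mat x * mat B = F₀.subtype.mapMatrix M₀⁻¹ * ((mat C)ᵀ * mat x * mat B) := by
    calc mat B⁻¹ * mat x * mat B
        = F₀.subtype.mapMatrix M₀⁻¹ * ((mat C)ᵀ * 1 * mat B) * (mat B⁻¹ * mat x * mat B) := by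
          rw [hinv, one_mul]
      _ = F₀.subtype.mapMatrix M₀⁻¹ * ((mat C)ᵀ * (mat B * mat B⁻¹) * mat x * mat B) := by
          simp only [mul_one, mul_assoc]
      _ = _ := by rw [mat_mul_inv, mul_one]
  show (mat B⁻¹ * mat x * mat B) i k ∈ F₀
  rw [this, Matrix.mul_apply]
  exact F₀.sum_mem fun r _ => F₀.mul_mem (M₀⁻¹ i r).2 (hentry _ (hsub x hx) r k)

end CfsgLib.MaxSub
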