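import Cfsg.Agent.MaxSub.AbelianSocleClasses
import Cfsg.Agent.MaxSub.TraceDescent

/-!
# Groups of representatives of a socle abelian modulo scalars

Properties of a subgroup of `E` meeting every coset of the scalars and containing exactly the
scalars of exponent `k`.
-/

set_option autoImplicit false
set_option linter.unusedSectionVars false

namespace CfsgLib.MaxSub

open Matrix Cfsg.Geo CfsgLib.Aschbacher
open scoped commutatorElement

variable {ι : Type} [Fintype ι] [DecidableEq ι] {F : Type*} [Field F]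
variable {H E R : Subgroup (GL ι F)} {r k : ℕ} [Nonempty ι]

/-- A group of representatives of `E` modulo scalars whose scalars are the roots of unity of order
dividing `k`. -/
structure SocleSection (E R : Subgroup (GL ι F)) (k : ℕ) : Prop where
  le : R ≤ E
  scale : ∀ x ∈ E, ∃ β : Fˣ, scHom ι F β * x ∈ R
  scalar_iff : ∀ c : Fˣ, scHom ι F c ∈ R ↔ c ^ k = 1

theorem SocleCore.socleSection (hR : SocleCore E R k) (hS : SocleData H E r) : SocleSection E R k :=
  ⟨hR.le, hR.scale, fun _ => ⟨hR.scalar_root, scHom_mem_core hR hS⟩⟩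

theorem SocleSection.absIrred (hR : SocleSection E R k) (hS : SocleData H E r) :
    ActsAbsolutelyIrreducibly (matrixSet R) := by
  have key : ∀ x ∈ E, ∃ c : F, c ≠ 0 ∧ ∃ y ∈ R, mat x = c • mat y := by
    intro x hx
    obtain ⟨β, hβ⟩ := hR.scale x hx
    refine ⟨((β⁻¹ : Fˣ) : F), Units.ne_zero _, _, hβ, ?_⟩
    rw [show mat (scHom ι F β * x) = mat (scHom ι F β) * mat x from Units.val_mul _ _, mat_scHom,
      Matrix.smul_mul, one_mul, smul_smul, Units.inv_mul, one_smul]
  refine ⟨actsIrreducibly_iff.2 fun W hW => actsIrreducibly_iff.1 hS.absIrred.1 W fun x hx => ?_,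
    fun M hM => hS.absIrred.2 M (forall_matrixSet.2 fun x hx => ?_)⟩
  · obtain ⟨c, -, y, hy, hc⟩ := key x hx
    refine mem_subspaceStabilizer_iff.2 fun w hw => ?_
    rw [hc, Matrix.smul_mulVec]
    exact W.smul_mem c (mem_subspaceStabilizer_iff.1 (hW hy) w hw)
  · obtain ⟨c, -, y, hy, hc⟩ := key x hx
    show M * mat x = mat x * M
    rw [hc, Matrix.mul_smul, Matrix.smul_mul, hM _ (mem_matrixSet hy)]

/-- The centre consists of the roots of unity. -/
theorem SocleSection.center_card [Finite F] (hR : SocleSection E R k) (hS : SocleData H E r)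
    (hk0 : 0 < k) {ζ : Fˣ} (hζ : IsPrimitiveRoot ζ k) : Nat.card (Subgroup.center R) = k := by
  classical
  have hcomm : ∀ x ∈ scalars ι F, ∀ y : GL ι F, x * y = y * x := fun x hx y => scalars_comm hx
  have hmu : Nat.card ↥(R ⊓ scalars ι F) = k := by
    have hbij : Function.Bijective (fun c : rootsOfUnity k F =>
        (⟨scHom ι F c.1, (hR.scalar_iff _).2 ((mem_rootsOfUnity _ _).1 c.2), scHom_mem _⟩ :
          ↥(R ⊓ scalars ι F))) := by
      refine ⟨fun a b h => Subtype.ext (scHom_injective (congrArg Subtype.val h)), fun x => ?_⟩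
      obtain ⟨c, hc⟩ := exists_scHom x.2.2
      exact ⟨⟨c, (mem_rootsOfUnity _ _).2 ((hR.scalar_iff c).1 (hc ▸ x.2.1))⟩, Subtype.ext hc.symm⟩
    have : NeZero k := ⟨hk0.ne'⟩
    rw [← Nat.card_eq_of_bijective _ hbij]
    exact (hζ.map_of_injective (f := Units.coeHom F) Units.val_injective).card_rootsOfUnity
  have hcenter : Nat.card (Subgroup.center R) = k := by
    rw [← hmu]
    refine Nat.card_congr ⟨fun x => ⟨x.1.1, x.1.2, mem_scalars_of_commute (hR.absIrred hS) fun y hy => ?_⟩,
      fun x => ⟨⟨x.1, x.2.1⟩, Subgroup.mem_center_iff.2 fun y => Subtype.ext (hcomm x.1 x.2.2 y.1).symm⟩,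
      fun x => rfl, fun x => rfl⟩
    exact (congrArg Subtype.val (Subgroup.mem_center_iff.1 x.2 ⟨y, hy⟩)).symm
  exact hcenter

/-- The order. -/
theorem SocleSection.card [Finite F] (hR : SocleSection E R k) (hS : SocleData H E r)
    (hk0 : 0 < k) {ζ : Fˣ} (hζ : IsPrimitiveRoot ζ k) : Nat.card R = k * Fintype.card ι ^ 2 := by
  classical
  have hmu : Nat.card ↥(R ⊓ scalars ι F) = k := by
    have hbij : Function.Bijective (fun c : rootsOfUnity k F =>
        (⟨scHom ι F c.1, (hR.scalar_iff _).2 ((mem_rootsOfUnity _ _).1 c.2), scHom_mem _⟩ :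
          ↥(R ⊓ scalars ι F))) := by
      refine ⟨fun a b h => Subtype.ext (scHom_injective (congrArg Subtype.val h)), fun x => ?_⟩
      obtain ⟨c, hc⟩ := exists_scHom x.2.2
      exact ⟨⟨c, (mem_rootsOfUnity _ _).2 ((hR.scalar_iff c).1 (hc ▸ x.2.1))⟩, Subtype.ext hc.symm⟩
    have : NeZero k := ⟨hk0.ne'⟩
    rw [← Nat.card_eq_of_bijective _ hbij]
    exact (hζ.map_of_injective (f := Units.coeHom F) Units.val_injective).card_rootsOfUnity
  have hcardR : Nat.card R = k * Fintype.card ι ^ 2 := by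
    let π : R →* E ⧸ (scalars ι F).subgroupOf E :=
      (QuotientGroup.mk' _).comp (Subgroup.inclusion hR.le)
    have hsurj : Function.Surjective π := by
      intro q
      obtain ⟨x, rfl⟩ := QuotientGroup.mk'_surjective _ q
      obtain ⟨β, hβ⟩ := hR.scale x.1 x.2
      refine ⟨⟨_, hβ⟩, ?_⟩
      show (QuotientGroup.mk (⟨scHom ι F β * x.1, hR.le hβ⟩ : E) : E ⧸ (scalars ι F).subgroupOf E) = QuotientGroup.mk x
      rw [QuotientGroup.eq, Subgroup.mem_subgroupOf]
      show (scHom ι F β * x.1)⁻¹ * x.1 ∈ scalars ι F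
      rw [scHom_comm, _root_.mul_inv_rev, mul_assoc, inv_mul_cancel, mul_one]
      exact inv_mem (scHom_mem β)
    have h1 := π.ker.card_eq_card_quotient_mul_card_subgroup
    rw [Nat.card_congr (QuotientGroup.quotientKerEquivOfSurjective π hsurj).toEquiv,
      card_quot_eq hS] at h1
    rw [h1, mul_comm, ← hmu]
    congr 1
    exact Nat.card_congr ⟨fun x => ⟨x.1.1, x.1.2,
        Subgroup.mem_subgroupOf.1 ((QuotientGroup.eq_one_iff (Subgroup.inclusion hR.le x.1)).1 x.2)⟩,
      fun x => ⟨⟨x.1, x.2.1⟩, (QuotientGroup.eq_one_iff _).2 (Subgroup.mem_subgroupOf.2 x.2.2)⟩,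
      fun x => rfl, fun x => rfl⟩
  exact hcardR

/-- Characteristic abelian subgroups are cyclic. -/
theorem SocleSection.cyclic [Finite F] (hR : SocleSection E R k) (hS : SocleData H E r)
    (hRn : Normalizes H R) : ∀ A : Subgroup R, A.Characteristic → IsMulCommutative A → IsCyclic A := by
  classical
  have hcyc : ∀ A : Subgroup R, A.Characteristic → IsMulCommutative A → IsCyclic A := by
    intro A hA hAc
    have hM : A.map R.subtype ≤ scalars ι F := by
      refine hS.abelian_scalar _ (fun x hx => hR.le (Subgroup.map_subtype_le A hx))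
        (fun g hg x hx => ?_) ?_
      · obtain ⟨a, ha, rfl⟩ := hx
        have hgN : ∀ y : R, g * y.1 * g⁻¹ ∈ R := fun y => hRn g hg y.1 y.2
        let c : R →* R :=
          { toFun := fun y => ⟨g * y.1 * g⁻¹, hgN y⟩
            map_one' := Subtype.ext (by simp)
            map_mul' := fun y z => Subtype.ext (by simp only [Subgroup.coe_mul]; group) }
        have hcinj : Function.Injective c := fun y z h =>
          Subtype.ext (mul_left_cancel (mul_right_cancel (congrArg Subtype.val h)))
        let ce : R ≃* R := MulEquiv.ofBijective c (Finite.injective_iff_bijective.1 hcinj)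
        refine ⟨ce a, ?_, rfl⟩
        have : A.map ce.toMonoidHom = A := Subgroup.characteristic_iff_map_eq.1 hA ce
        rw [← this]
        exact ⟨a, ha, rfl⟩
      · rintro _ ⟨a, ha, rfl⟩ _ ⟨b, hb, rfl⟩
        have := hAc.is_comm.comm (⟨a, ha⟩ : A) ⟨b, hb⟩
        exact congrArg (fun z : A => (z.1 : R).1) this
    have hc : ∀ a : A, ∃ c : Fˣ, a.1.1 = scHom ι F c := fun a => exists_scHom (hM ⟨a.1, a.2, rfl⟩)
    choose c hc using hc
    let f : A →* F := (Units.coeHom F).comp
      { toFun := c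
        map_one' := scHom_injective (ι := ι) (by rw [← hc, map_one]; rfl)
        map_mul' := fun a b => scHom_injective (ι := ι) (by rw [← hc, map_mul, ← hc, ← hc]; rfl) }
    exact isCyclic_of_subgroup_isDomain f fun a b h => Subtype.ext (Subtype.ext (by
      rw [hc a, hc b, show c a = c b from Units.ext h]))
  exact hcyc

/-- Non-scalar elements have trace zero. -/
theorem trace_eq_zero_socle [Finite F] (hS : SocleData H E r) {x : GL ι F} (hx : x ∈ E)
    (hxs : x ∉ scalars ι F) : (mat x).trace = 0 := by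
  classical
  obtain ⟨κ, hκ⟩ := hS.exists_kappa
  obtain ⟨y, hy, hxy⟩ : ∃ y ∈ E, κ y x ≠ 1 := by
    by_contra hall
    push Not at hall
    exact hxs (mem_scalars_of_commute hS.absIrred fun y hy => by
      rw [hκ y hy x hx, hall y hy, map_one, one_mul])
  have e : mat y * mat x * mat y⁻¹ = ((κ y x : Fˣ) : F) • mat x := by
    have h1 : y * x * y⁻¹ = scHom ι F (κ y x) * x := by rw [hκ y hy x hx]; group
    have h2 := congrArg mat h1
    simpa [mat, Units.val_mul, show ((scHom ι F (κ y x) : GL ι F) : Matrix ι ι F) = _ from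
      mat_scHom _, Matrix.smul_mul] using h2
  have e2 := congrArg Matrix.trace e
  rw [Matrix.trace_mul_comm, ← mul_assoc, mat_inv_mul, one_mul, Matrix.trace_smul, smul_eq_mul] at e2
  exact (mul_eq_zero.1 (show (1 - ((κ y x : Fˣ) : F)) * (mat x).trace = 0 by linear_combination e2)).resolve_left
    (sub_ne_zero.2 fun h => hxy (Units.ext h.symm))

/-- The group is realisable over every subfield containing the roots of unity. -/
theorem SocleSection.realisable [Finite F] (hR : SocleSection E R k) (hS : SocleData H E r)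
    {F₀ : Subfield F} (h0 : ∀ c : Fˣ, c ^ k = 1 → (c : F) ∈ F₀) : RealisableOver F₀ (matrixSet R) := by
  classical
  refine realisable_of_traces (hR.absIrred hS) fun x hx => ?_
  by_cases hs : x ∈ scalars ι F
  · obtain ⟨c, rfl⟩ := exists_scHom hs
    rw [mat_scHom, Matrix.trace_smul, Matrix.trace_one, smul_eq_mul]
    exact F₀.mul_mem (h0 c ((hR.scalar_iff c).1 hx)) (natCast_mem F₀ _)
  · rw [trace_eq_zero_socle hS (hR.le hx) hs]
    exact F₀.zero_mem

/-- The group is not commutative. -/
theorem SocleSection.exists_not_comm [Finite F] (hR : SocleSection E R k) (hS : SocleData H E r)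
    (hn : 2 ≤ Fintype.card ι) : ∃ x ∈ R, ∃ y ∈ R, x * y ≠ y * x := by
  classical
  by_contra hall
  push Not at hall
  have hs : ∀ x ∈ R, x ∈ scalars ι F := fun x hx =>
    mem_scalars_of_commute (hR.absIrred hS) fun y hy => hall x hx y hy
  obtain ⟨κ, hκ⟩ := hS.exists_kappa
  obtain ⟨x, hx, y, hy, hxy⟩ := exists_kappa_ne_one hS hn hκ
  obtain ⟨β, hβ⟩ := hR.scale x hx
  have hxs : x ∈ scalars ι F := by
    have := mul_mem (inv_mem (scHom_mem (ι := ι) β)) (hs _ hβ)
    rwa [inv_mul_cancel_left] at this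
  exact hxy (kappa_eq hκ hx hy (by rw [map_one, one_mul, scalars_comm hxs]))

omit [Nonempty ι] in
/-- The socle data, with the group inside the scalar multiples of `H`. -/
theorem exists_socleData_le [Nonempty ι] {H : Subgroup (GL ι F)} (h : HasAbelianSocle H) :
    ∃ (E : Subgroup (GL ι F)) (r m : ℕ), SocleData H E r ∧ Fintype.card ι = r ^ m ∧
      ∀ x ∈ E, ∃ c : Fˣ, scHom ι F c * x ∈ H := by
  obtain ⟨N, r, m, hr, hcard, hNH, hn, habs, hD, hpow, hab⟩ := h
  refine ⟨N ⊔ scalars ι F, r, m, ⟨hr, le_sup_right, normalizes_sup_scalars hn,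
    absIrred_mono (Set.image_mono (le_sup_left : N ≤ N ⊔ scalars ι F)) habs, ?_, ?_, ?_⟩, hcard, fun x hx => ?_⟩
  · intro x hx y hy
    obtain ⟨a, ha, s, hs, rfl⟩ := Subgroup.mem_sup_of_normal_right.1 hx
    obtain ⟨b, hb, t, ht, rfl⟩ := Subgroup.mem_sup_of_normal_right.1 hy
    rw [← commutatorElement_def, commutatorElement_mul_scalar hs ht]
    exact hD (Subgroup.commutator_mem_commutator ha hb)
  · intro x hx
    obtain ⟨a, ha, s, hs, rfl⟩ := Subgroup.mem_sup_of_normal_right.1 hx
    rw [Commute.mul_pow (scalars_comm hs).symm]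
    exact mul_mem (hpow a ha) (pow_mem hs r)
  · intro M hM hMn hMc
    -- trade scalars to land in `N`
    let M' : Subgroup (GL ι F) := (M ⊔ scalars ι F) ⊓ N
    have hM'c : ∀ x ∈ M', ∀ y ∈ M', x * y = y * x := by
      intro x hx y hy
      obtain ⟨a, ha, s, hs, rfl⟩ := Subgroup.mem_sup_of_normal_right.1 hx.1
      obtain ⟨b, hb, t, ht, rfl⟩ := Subgroup.mem_sup_of_normal_right.1 hy.1
      calc a * s * (b * t) = a * b * (s * t) := by
            rw [mul_assoc a, ← mul_assoc s, scalars_comm hs (g := b)]; simp only [mul_assoc]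
        _ = b * a * (t * s) := by rw [hMc a ha b hb, scalars_comm hs (g := t)]
        _ = b * t * (a * s) := by
            rw [mul_assoc b t, ← mul_assoc t, scalars_comm ht (g := a)]; simp only [mul_assoc]
    have hM's := hab M' inf_le_right
      (fun g hg x hx => ⟨normalizes_sup_scalars hMn g hg x hx.1, hn g hg x hx.2⟩) hM'c
    intro x hx
    obtain ⟨a, ha, s, hs, rfl⟩ := Subgroup.mem_sup_of_normal_right.1 (hM hx)
    refine mul_mem (hM's ⟨?_, ha⟩) hs
    simpa using mul_mem (Subgroup.mem_sup_left hx : a * s ∈ M ⊔ scalars ι F)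
      (Subgroup.mem_sup_right (inv_mem hs))
  · obtain ⟨a, ha, s, hs, rfl⟩ := Subgroup.mem_sup_of_normal_right.1 hx
    obtain ⟨c, rfl⟩ := exists_scHom hs
    exact ⟨c⁻¹, by rw [← scHom_comm c a, ← mul_assoc, ← map_mul, inv_mul_cancel, map_one, one_mul]; exact hNH ha⟩

end CfsgLib.MaxSub
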