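import Cfsg.Agent.Aschbacher.Reduce
import Cfsg.Agent.TensorNonmax.Power

/-!
# Groups permuting commuting matrix algebras of equal degree

Commuting copies of `M_d` in `M_n`, `n = d ^ t`, are the slots of a tensor power decomposition, and a
group permuting them lies in the tensor wreath stabiliser.  For `d = 2` it preserves a form.
-/

set_option autoImplicit false
set_option linter.unusedSectionVars false

namespace CfsgLib.MaxSub

open Matrix Cfsg.Geo CfsgLib.TensorNonmax

variable {ι : Type} [Fintype ι] [DecidableEq ι] {F : Type*} [Field F] {d t : ℕ}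

/-- Commuting copies of a matrix algebra whose degrees multiply to the dimension are the slots of a
tensor power decomposition. -/
theorem exists_slots (hd : 0 < d) (hcard : Fintype.card ι = d ^ t)
    (φ : Fin t → Matrix (Fin d) (Fin d) F →ₐ[F] Matrix ι ι F)
    (hcomm : ∀ i j, i ≠ j → ∀ a b, φ i a * φ j b = φ j b * φ i a) :
    ∃ (e : ι ≃ (Fin t → Fin d)) (P : GL ι F), ∀ i a, slotOp e P i a = φ i a := by
  classical
  obtain ⟨e⟩ : Nonempty (ι ≃ (Fin t → Fin d)) :=
    ⟨Fintype.equivOfCardEq (by simp [hcard])⟩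
  let o : Fin d := ⟨0, hd⟩
  let E : Fin t → Fin d → Fin d → Matrix ι ι F := fun i p q => φ i (Matrix.single p q 1)
  have hEE : ∀ i p q l m, E i p q * E i l m = if q = l then E i p m else 0 := by
    intro i p q l m
    simp only [E, ← map_mul]
    rcases eq_or_ne q l with rfl | h
    · simp
    · simp [h]
  have hsum : ∀ i, ∑ p, E i p p = 1 := fun i => by
    rw [show (∑ p, E i p p) = φ i (∑ p, Matrix.single p p 1) from (map_sum (φ i) _ _).symm,
      ← map_one (φ i)]
    congr 1
    ext a b
    rw [Matrix.sum_apply, Fintype.sum_eq_single a]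
    · rcases eq_or_ne a b with rfl | h <;> simp [*]
    · intro c hc; simp [hc]
  obtain ⟨v, hv0, hv⟩ : ∃ v : ι → F, v ≠ 0 ∧ ∀ i, E i o o *ᵥ v = v := by
    suffices h : ∀ s : Finset (Fin t), ∃ v : ι → F, v ≠ 0 ∧ ∀ i ∈ s, E i o o *ᵥ v = v by
      obtain ⟨v, h1, h2⟩ := h Finset.univ
      exact ⟨v, h1, fun i => h2 i (Finset.mem_univ i)⟩
    intro s
    induction s using Finset.induction_on with
    | empty =>
      have : Nonempty ι := Fintype.card_pos_iff.mp (by rw [hcard]; exact pow_pos hd t)
      obtain ⟨v, hv⟩ := exists_ne (0 : ι → F)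
      exact ⟨v, hv, by simp⟩
    | @insert j s hj ih =>
      obtain ⟨v, hv0, hv⟩ := ih
      obtain ⟨p, hp⟩ : ∃ p, E j p p *ᵥ v ≠ 0 := by
        by_contra h
        push Not at h
        refine hv0 ?_
        rw [← one_mulVec v, ← hsum j, sum_mulVec, Finset.sum_eq_zero fun p _ => h p]
      refine ⟨E j o p *ᵥ v, fun h => hp ?_, fun i hi => ?_⟩
      · rw [show E j p p = E j p o * E j o p by rw [hEE, if_pos rfl], ← mulVec_mulVec, h,
          mulVec_zero]
      · rcases Finset.mem_insert.mp hi with rfl | hi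
        · rw [mulVec_mulVec, hEE, if_pos rfl]
        · rw [mulVec_mulVec, hcomm i j (fun e => hj (e ▸ hi)), ← mulVec_mulVec, hv i hi]
  let op : List (Fin t) → (Fin t → Fin d) → ι → F := fun l x =>
    (l.map fun i => E i (x i) o).prod *ᵥ v
  have hskip : ∀ (l : List (Fin t)) (x y : Fin t → Fin d), (∀ i ∈ l, x i = y i) → op l x = op l y := by
    intro l x y h
    simp only [op]
    rw [List.map_congr_left fun i hi => by rw [h i hi]]
  have hop : ∀ (l : List (Fin t)), l.Nodup → ∀ i ∈ l, ∀ p q x,
      E i p q *ᵥ op l x = if q = x i then op l (Function.update x i p) else 0 := by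
    intro l
    induction l with
    | nil => simp
    | cons j l ih =>
      intro hnd i hi p q x
      rw [List.nodup_cons] at hnd
      have hcons : ∀ y, op (j :: l) y = E j (y j) o *ᵥ op l y := fun y => by
        simp [op, mulVec_mulVec]
      rcases eq_or_ne i j with rfl | hij
      · rw [hcons, mulVec_mulVec, hEE]
        split_ifs
        · rw [hcons, Function.update_self]
          rw [hskip l x (Function.update x i p) fun k hk => by
            rw [Function.update_of_ne]; rintro rfl; exact hnd.1 hk]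
        · rw [zero_mulVec]
      · have hil : i ∈ l := (List.mem_cons.mp hi).resolve_left hij
        rw [hcons, mulVec_mulVec, hcomm i j hij, ← mulVec_mulVec, ih hnd.2 i hil]
        split_ifs
        · rw [hcons, Function.update_of_ne (Ne.symm hij)]
        · rw [mulVec_zero]
  let l : List (Fin t) := List.finRange t
  let u : (Fin t → Fin d) → ι → F := op l
  have hu : ∀ i p q x, E i p q *ᵥ u x = if q = x i then u (Function.update x i p) else 0 :=
    fun i => hop l (List.nodup_finRange t) i (List.mem_finRange i)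
  have huo : u (fun _ => o) = v := by
    have : ∀ l : List (Fin t), op l (fun _ => o) = v := by
      intro l
      induction l with
      | nil => simp [op]
      | cons j l ih =>
        show (E j o o * _) *ᵥ v = v
        rw [← mulVec_mulVec]
        show E j o o *ᵥ op l (fun _ => o) = v
        rw [ih, hv]
    exact this l
  have hu0 : ∀ x, u x ≠ 0 := by
    intro x hx
    have key : ∀ s : Finset (Fin t), u (fun i => if i ∈ s then o else x i) = 0 := by
      intro s
      induction s using Finset.induction_on with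
      | empty => simpa using hx
      | @insert j s hj ih =>
        have h1 := hu j o (x j) (fun i => if i ∈ s then o else x i)
        rw [if_neg hj, if_pos rfl, ih, mulVec_zero] at h1
        rw [h1]
        congr 1
        funext i
        rcases eq_or_ne i j with rfl | hij
        · simp
        · simp [hij]
    refine hv0 ?_
    rw [← huo]
    simpa using key Finset.univ
  let U : ((Fin t → Fin d) → F) →ₗ[F] (ι → F) := Fintype.linearCombination F u
  have hU : ∀ z, U z = ∑ b, z b • u b := fun z => Fintype.linearCombination_apply F _ z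
  have hUinj : Function.Injective U := by
    rw [injective_iff_map_eq_zero]
    intro z hz
    funext b₀
    have key : ∀ s : Finset (Fin t),
        ∑ b, (if ∀ i ∈ s, b i = b₀ i then z b else 0) • u b = 0 := by
      intro s
      induction s using Finset.induction_on with
      | empty => simpa [hU] using hz
      | @insert j s hj ih =>
        have h1 := congrArg (fun w => E j (b₀ j) (b₀ j) *ᵥ w) ih
        simp only [mulVec_sum, mulVec_smul, mulVec_zero, hu] at h1
        refine Eq.trans (Finset.sum_congr rfl fun b _ => ?_) h1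
        by_cases hb : b j = b₀ j
        · rw [if_pos hb.symm, ← hb, Function.update_eq_self]
          simp [hb]
        · rw [if_neg (Ne.symm hb), smul_zero, if_neg fun h => hb (h j (Finset.mem_insert_self _ _)),
            zero_smul]
    have h1 := key Finset.univ
    rw [Finset.sum_eq_single b₀ (fun b _ hb => by
      rw [if_neg fun h => hb (funext fun i => h i (Finset.mem_univ i)), zero_smul])
      (fun h => absurd (Finset.mem_univ _) h), if_pos fun i _ => rfl, smul_eq_zero] at h1
    exact h1.resolve_right (hu0 b₀)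
  let L : (ι → F) →ₗ[F] (ι → F) := U.comp (LinearMap.funLeft F F e.symm)
  have hLinj : Function.Injective L :=
    hUinj.comp fun a b h => funext fun i => by simpa using congrFun h (e i)
  let P : GL ι F := ((Matrix.mulVec_injective_iff_isUnit (A := LinearMap.toMatrix' L)).mp
    (fun a b h => hLinj (by simpa [← Matrix.toLin'_apply] using h))).unit
  have hcvec : ∀ z, cvec e P z = U z := by
    intro z
    rw [cvec_apply, show ((P : GL ι F) : Matrix ι ι F) = LinearMap.toMatrix' L from IsUnit.unit_spec _,
      ← Matrix.toLin'_apply, Matrix.toLin'_toMatrix']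
    show U ((z ∘ e) ∘ e.symm) = U z
    congr 1
    funext b
    simp
  refine ⟨e, P, fun i a => Matrix.toLin'.injective (LinearMap.ext fun w => ?_)⟩
  obtain ⟨z, rfl⟩ := cvec_surjective e P w
  rw [toLin'_apply, toLin'_apply, slotOp_cvec, hcvec, hcvec]
  have ha : φ i a = ∑ p, ∑ q, a p q • E i p q := by
    conv_lhs => rw [Matrix.matrix_eq_sum_single a]
    simp only [map_sum, E, ← map_smul, Matrix.smul_single, smul_eq_mul, mul_one]
  rw [hU, hU, mulVec_sum, ha]
  simp only [sum_mulVec, smul_mulVec, mulVec_smul, hu, smul_ite, smul_zero, Finset.sum_ite_eq,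
    Finset.sum_ite_eq', Finset.mem_univ, if_true, slotLin_apply, Finset.sum_smul, Finset.smul_sum,
    smul_smul]
  rw [← Finset.sum_product', ← Finset.sum_product']
  refine Finset.sum_nbij' (fun x => (Function.update x.1 i x.2, x.1 i))
    (fun x => (Function.update x.1 i x.2, x.1 i)) ?_ ?_ ?_ ?_ ?_
  · simp
  · simp
  · intro x _; simp [Prod.ext_iff]
  · intro x _; simp [Prod.ext_iff]
  · intro x _
    simp only [Function.update_self, Function.update_idem, Function.update_eq_self]
    rw [mul_comm]

/-- A group permuting the slots of a tensor power decomposition acts on pure tensors slotwise. -/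
theorem exists_slot_action (hd : 2 ≤ d) (ht : 0 < t) (e : ι ≃ (Fin t → Fin d)) (P : GL ι F)
    {g : GL ι F}
    (hg : ∀ i, ∃ j, ∀ a, ∃ b, (g : Matrix ι ι F) * slotOp e P i a *
      ((g⁻¹ : GL ι F) : Matrix ι ι F) = slotOp e P j b) :
    ∃ (σ : Equiv.Perm (Fin t)) (as : Fin t → GL (Fin d) F), ∀ xs, (g : Matrix ι ι F) *ᵥ ptmul e P xs =
      ptmul e P (fun j => (as j : Matrix (Fin d) (Fin d) F) *ᵥ xs (σ j)) := by
  classical
  have : Nonempty (Fin d) := ⟨⟨0, by omega⟩⟩
  have : Nonempty ι := Fintype.card_pos_iff.mp (by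
    rw [Fintype.card_congr e, Fintype.card_fun, Fintype.card_fin, Fintype.card_fin]
    exact pow_pos (by omega) t)
  choose π₀ b hb using hg
  have hinj : ∀ i, Function.Injective (slotOp e P i) := fun i =>
    (slotOp e P i).toRingHom.injective
  -- the induced maps of the factor are algebra maps
  have hconj : ∀ x y : Matrix ι ι F,
      (g : Matrix ι ι F) * (x * y) * ((g⁻¹ : GL ι F) : Matrix ι ι F) =
        ((g : Matrix ι ι F) * x * ((g⁻¹ : GL ι F) : Matrix ι ι F)) *
          ((g : Matrix ι ι F) * y * ((g⁻¹ : GL ι F) : Matrix ι ι F)) := by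
    intro x y; simp [mul_assoc]
  let ψ : Fin t → Matrix (Fin d) (Fin d) F →ₐ[F] Matrix (Fin d) (Fin d) F := fun i =>
    AlgHom.ofLinearMap
      { toFun := b i
        map_add' := fun x y => hinj (π₀ i) (by
          rw [map_add, ← hb, ← hb, ← hb, map_add, mul_add, add_mul])
        map_smul' := fun c x => hinj (π₀ i) (by
          rw [RingHom.id_apply, map_smul, ← hb, ← hb, map_smul, Matrix.mul_smul, Matrix.smul_mul]) }
      (hinj (π₀ i) (by
        show slotOp e P (π₀ i) (b i 1) = _
        rw [← hb, map_one, map_one, mul_one, Units.mul_inv]))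
      (fun x y => hinj (π₀ i) (by
        show slotOp e P (π₀ i) (b i (x * y)) = slotOp e P (π₀ i) (b i x * b i y)
        rw [map_mul, ← hb, ← hb, ← hb, map_mul, hconj]))
  have hψ : ∀ i a, slotOp e P (π₀ i) (ψ i a) =
      (g : Matrix ι ι F) * slotOp e P i a * ((g⁻¹ : GL ι F) : Matrix ι ι F) := fun i a => (hb i a).symm
  have hψbij : ∀ i, Function.Bijective (ψ i) := fun i => by
    have hi : Function.Injective (ψ i) := (ψ i).toRingHom.injective
    exact ⟨hi, (LinearMap.injective_iff_surjective (f := (ψ i).toLinearMap)).mp hi⟩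
  have hπ : Function.Injective π₀ := by
    intro i i' hii
    by_contra hne
    have hcomm : ∀ x y, (ψ i x) * (ψ i' y) = (ψ i' y) * (ψ i x) := by
      intro x y
      refine hinj (π₀ i) ?_
      have h2 := hψ i' y
      rw [← hii] at h2
      rw [map_mul, map_mul, hψ, h2, ← hconj, ← hconj, slotOp_comm e P hne]
    obtain ⟨x, hx⟩ := (hψbij i).2 (Matrix.single ⟨0, by omega⟩ ⟨1, by omega⟩ 1)
    obtain ⟨y, hy⟩ := (hψbij i').2 (Matrix.single ⟨1, by omega⟩ ⟨0, by omega⟩ 1)
    have e1 := hcomm x y
    rw [hx, hy, Matrix.single_mul_single_same, Matrix.single_mul_single_same] at e1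
    have e2 := congrFun (congrFun e1 ⟨0, by omega⟩) ⟨0, by omega⟩
    simp [Fin.ext_iff] at e2
  let π : Equiv.Perm (Fin t) := Equiv.ofBijective π₀ (Finite.injective_iff_bijective.mp hπ)
  have hinner : ∀ i, ∃ A : GL (Fin d) F, ∀ a, ψ i a * (A : Matrix _ _ F) = (A : Matrix _ _ F) * a :=
    fun i => Aschbacher.exists_inner (AlgEquiv.ofBijective (ψ i) (hψbij i))
  choose A hA using hinner
  -- the candidate
  obtain ⟨G, hGdef⟩ : ∃ G : Matrix ι ι F, G = (P : Matrix ι ι F) *
    (Matrix.of fun x y : Fin t → Fin d =>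
      ∏ j, (A (π.symm j) : Matrix (Fin d) (Fin d) F) (x j) (y (π.symm j))).submatrix e e *
    ((P⁻¹ : GL ι F) : Matrix ι ι F) := ⟨_, rfl⟩
  have hG : ∀ xs, G *ᵥ ptmul e P xs =
      ptmul e P (fun j => (A (π.symm j) : Matrix (Fin d) (Fin d) F) *ᵥ xs (π.symm j)) := by
    intro xs
    rw [hGdef]
    simp only [ptmul, cvec_apply, ← mulVec_mulVec]
    rw [mulVec_mulVec _ ((P⁻¹ : GL ι F) : Matrix ι ι F) (P : Matrix ι ι F), Units.inv_mul,
      one_mulVec]
    congr 1
    funext a
    rw [Matrix.mulVec, dotProduct]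
    simp only [Matrix.submatrix_apply, Matrix.of_apply, Function.comp_apply, Matrix.mulVec, dotProduct]
    rw [Fintype.prod_sum, Equiv.sum_comp e (fun y => (∏ j, (A (π.symm j) : Matrix (Fin d) (Fin d) F)
      (e a j) (y (π.symm j))) * ∏ i, xs i (y i))]
    refine Fintype.sum_equiv (Equiv.arrowCongr π (Equiv.refl _)) _ _ fun y => ?_
    rw [Finset.prod_mul_distrib]
    congr 1
    rw [← Equiv.prod_comp π.symm fun i => xs i (y i)]
    rfl
  -- it acts on the slots as `g` does
  have hswap : ∀ i a, slotOp e P (π i) (ψ i a) * G = G * slotOp e P i a := by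
    intro i a
    refine ext_ptmul e P fun xs => ?_
    rw [← mulVec_mulVec, ← mulVec_mulVec, hG, slotOp_ptmul, slotOp_ptmul, hG]
    congr 1
    funext j
    rcases eq_or_ne j (π i) with rfl | hj
    · simp only [Function.update_self, Equiv.symm_apply_apply, mulVec_mulVec, hA]
    · have hj' : π.symm j ≠ i := fun h => hj (by rw [← h, Equiv.apply_symm_apply])
      simp only [Function.update_of_ne hj, Function.update_of_ne hj']
  obtain ⟨c, hc⟩ := eq_smul_one_of_commute_slotOp e P
    (A := ((g⁻¹ : GL ι F) : Matrix ι ι F) * G) fun i a => by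
    rw [mul_assoc, ← hswap, show slotOp e P (π i) (ψ i a) =
      (g : Matrix ι ι F) * slotOp e P i a * ((g⁻¹ : GL ι F) : Matrix ι ι F) from hψ i a]
    simp [mul_assoc]
  have hGg : G = c • (g : Matrix ι ι F) := by
    have := congrArg (fun M => (g : Matrix ι ι F) * M) hc
    simpa [← mul_assoc] using this
  have hc0 : c ≠ 0 := by
    intro hc0
    have h1 := hG fun j => (((A j)⁻¹ : GL (Fin d) F) : Matrix (Fin d) (Fin d) F) *ᵥ
      Pi.single ⟨0, by omega⟩ 1
    rw [hGg, hc0, zero_smul, zero_mulVec] at h1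
    simp only [mulVec_mulVec, Units.mul_inv, one_mulVec] at h1
    rw [eq_comm, ptmul_single e P fun _ => (⟨0, by omega⟩ : Fin d)] at h1
    have h2 := congrFun (cvec_injective e P (h1.trans (map_zero _).symm)) fun _ => ⟨0, by omega⟩
    simp at h2
  let i₀ : Fin t := ⟨0, ht⟩
  let cu : Fˣ := Units.mk0 c⁻¹ (inv_ne_zero hc0)
  refine ⟨π.symm, Function.update (fun j => A (π.symm j)) i₀
    (Aschbacher.scalarGL cu * A (π.symm i₀)), fun xs => ?_⟩
  have hg' : (g : Matrix ι ι F) = c⁻¹ • G := by rw [hGg, smul_smul, inv_mul_cancel₀ hc0, one_smul]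
  rw [hg', Matrix.smul_mulVec, hG, ptmul, ptmul, ← map_smul]
  congr 1
  funext a
  rw [Pi.smul_apply, smul_eq_mul]
  rw [← Finset.mul_prod_erase Finset.univ _ (Finset.mem_univ i₀),
    ← Finset.mul_prod_erase Finset.univ
      (fun i => (((Function.update (fun j => A (π.symm j)) i₀
        (Aschbacher.scalarGL cu * A (π.symm i₀)) i : GL (Fin d) F) : Matrix (Fin d) (Fin d) F) *ᵥ
          xs (π.symm i)) (a i)) (Finset.mem_univ i₀), ← mul_assoc]
  congr 1
  · rw [Function.update_self, Units.val_mul,
      show ((Aschbacher.scalarGL cu : GL (Fin d) F) : Matrix (Fin d) (Fin d) F) = _ from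
        Aschbacher.mat_scalarGL cu, Matrix.smul_mul, one_mul, Matrix.smul_mulVec]
    rfl
  · refine Finset.prod_congr rfl fun j hj => ?_
    rw [Function.update_of_ne (Finset.mem_erase.mp hj).1]

/-- An element acting slotwise on pure tensors lies in the tensor wreath stabiliser. -/
theorem mem_tensorWreathSubgroup_of {e : ι ≃ (Fin t → Fin d)} {P g : GL ι F}
    {σ : Equiv.Perm (Fin t)} {as : Fin t → GL (Fin d) F}
    (h : ∀ xs, (g : Matrix ι ι F) *ᵥ ptmul e P xs =
      ptmul e P (fun j => (as j : Matrix (Fin d) (Fin d) F) *ᵥ xs (σ j))) :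
    g ∈ tensorWreathSubgroup d t e P := by
  classical
  let M : (Fin t → Matrix (Fin d) (Fin d) F) → Matrix (Fin t → Fin d) (Fin t → Fin d) F :=
    fun gs => Matrix.of fun x y => ∏ i, gs i (x i) (y i)
  have hMM : ∀ gs hs, M gs * M hs = M fun i => gs i * hs i := by
    intro gs hs
    ext x y
    simp only [M, Matrix.mul_apply, Matrix.of_apply, ← Finset.prod_mul_distrib]
    rw [Fintype.prod_sum]
  have hM1 : M (fun _ => 1) = 1 := by
    ext x y
    simp only [M, Matrix.of_apply, Matrix.one_apply, Fintype.prod_boole, funext_iff]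
    convert rfl
  let mp : GL (Fin t → Fin d) F :=
    ⟨M fun i => (as i : Matrix _ _ F), M fun i => (((as i)⁻¹ : GL (Fin d) F) : Matrix _ _ F),
      by rw [hMM]; simp only [Units.mul_inv]; exact hM1,
      by rw [hMM]; simp only [Units.inv_mul]; exact hM1⟩
  let S : Equiv.Perm (Fin t) → Matrix (Fin t → Fin d) (Fin t → Fin d) F :=
    fun τ => Matrix.of fun x y => if y = x ∘ τ then 1 else 0
  have hSS : ∀ τ τ', S τ * S τ' = S (τ * τ') := by
    intro τ τ'
    ext x y
    simp only [S, Matrix.mul_apply, Matrix.of_apply, ite_mul, one_mul, zero_mul, Finset.sum_ite_eq',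
      Finset.mem_univ, if_true, Equiv.Perm.coe_mul, Function.comp_assoc]
    split_ifs <;> simp_all
  have hS1 : S 1 = 1 := by
    ext x y
    simp [S, Matrix.one_apply, eq_comm]
  let ms : GL (Fin t → Fin d) F := ⟨S σ⁻¹, S σ, by rw [hSS, inv_mul_cancel, hS1],
    by rw [hSS, mul_inv_cancel, hS1]⟩
  have hmem : mp * ms ∈ tensorWreathStandard d t F :=
    mul_mem (Subgroup.subset_closure (Or.inl ⟨as, fun _ _ => rfl⟩))
      (Subgroup.subset_closure (Or.inr ⟨σ⁻¹, fun _ _ => rfl⟩))
  refine ⟨glReindex e.symm (mp * ms), ⟨_, hmem, rfl⟩, ext_mulVec fun v => ?_⟩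
  have hlin : Matrix.toLin' ((MulAut.conj P (glReindex e.symm (mp * ms)) : GL ι F) : Matrix ι ι F) =
      Matrix.toLin' (g : Matrix ι ι F) := by
    refine LinearMap.ext_on (span_ptmul e P) ?_
    rintro _ ⟨xs, rfl⟩
    rw [toLin'_apply, toLin'_apply, h, ptmul, conj_reindex_cvec, ptmul, Units.val_mul,
      ← mulVec_mulVec]
    congr 1
    have e1 : (S σ⁻¹) *ᵥ (fun a => ∏ i, xs i (a i)) = fun a => ∏ i, xs (σ i) (a i) := by
      funext a
      simp only [S, Matrix.mulVec, dotProduct, Matrix.of_apply, ite_mul, one_mul, zero_mul,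
        Finset.sum_ite_eq', Finset.mem_univ, if_true]
      rw [← Equiv.prod_comp σ]
      simp
    show M _ *ᵥ (S σ⁻¹ *ᵥ _) = _
    rw [e1]
    funext a
    simp only [M, Matrix.mulVec, dotProduct, Matrix.of_apply, ← Finset.prod_mul_distrib]
    rw [Fintype.prod_sum]
  exact LinearMap.congr_fun hlin v

/-- A group permuting commuting matrix algebras of degree at least two. -/
theorem exists_slot_decomposition {H : Subgroup (GL ι F)} (h : Aschbacher.HasCentralProduct H) :
    ∃ (d t : ℕ) (e : ι ≃ (Fin t → Fin d)) (P : GL ι F), 2 ≤ d ∧ 2 ≤ t ∧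
      Fintype.card ι = d ^ t ∧ ∀ g ∈ H, ∃ (σ : Equiv.Perm (Fin t)) (as : Fin t → GL (Fin d) F),
        ∀ xs, (g : Matrix ι ι F) *ᵥ ptmul e P xs =
          ptmul e P (fun j => (as j : Matrix (Fin d) (Fin d) F) *ᵥ xs (σ j)) := by
  obtain ⟨d, t, φ, hd, ht, hcard, -, hcomm, hperm⟩ := h
  obtain ⟨e, P, hφ⟩ := exists_slots (by omega) hcard φ hcomm
  refine ⟨d, t, e, P, hd, ht, hcard, fun g hg => exists_slot_action hd (by omega) e P fun i => ?_⟩
  obtain ⟨j, hj⟩ := hperm g hg i
  refine ⟨j, fun a => ?_⟩
  obtain ⟨b, hb⟩ := hj a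
  exact ⟨b, by rw [hφ, hφ]; exact hb⟩

/-- A group acting slotwise on a tensor power of planes preserves a form up to scalars. -/
theorem similarity_of_planes [Fintype F] (ht : 2 ≤ t) (e : ι ≃ (Fin t → Fin 2)) (P : GL ι F)
    {H : Subgroup (GL ι F)}
    (hH : ∀ g ∈ H, ∃ (σ : Equiv.Perm (Fin t)) (as : Fin t → GL (Fin 2) F),
        ∀ xs, (g : Matrix ι ι F) *ᵥ ptmul e P xs =
          ptmul e P (fun j => (as j : Matrix (Fin 2) (Fin 2) F) *ᵥ xs (σ j))) :
    (∃ f : (ι → F) → (ι → F) → F, IsSymplecticForm f ∧ H ≤ similarityGroup f) ∨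
    (∃ Q : (ι → F) → F, IsNondegenerateQuadraticForm Q ∧ Odd (Fintype.card F) ∧
      H ≤ quadSimilarityGroup Q) := by
  classical
  -- coordinates
  let C : (ι → F) →ₗ[F] ((Fin t → Fin 2) → F) :=
    (LinearEquiv.ofBijective (cvec e P) ⟨cvec_injective e P, cvec_surjective e P⟩).symm.toLinearMap
  have hC : ∀ x, C (cvec e P x) = x := fun x =>
    (LinearEquiv.ofBijective (cvec e P) ⟨cvec_injective e P, cvec_surjective e P⟩).symm_apply_apply x
  have hC' : ∀ v, cvec e P (C v) = v := fun v => by
    obtain ⟨x, rfl⟩ := cvec_surjective e P v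
    rw [hC]
  let flip : (Fin t → Fin 2) → (Fin t → Fin 2) := fun a i => Equiv.swap 0 1 (a i)
  have hflip : ∀ a, flip (flip a) = a := fun a => funext fun i => Equiv.swap_apply_self 0 1 (a i)
  let sg : Fin 2 → F := ![1, -1]
  have hsg : ∀ p, sg (Equiv.swap 0 1 p) = - sg p := by
    intro p; fin_cases p <;> simp [sg]
  let w : (Fin t → Fin 2) → F := fun a => ∏ i, sg (a i)
  let ε : F := (-1) ^ t
  have hw : ∀ a, w (flip a) = ε * w a := by
    intro a
    simp only [w, flip, hsg, ε, Finset.prod_neg, Finset.card_univ, Fintype.card_fin]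
  have hw0 : ∀ a, w a ≠ 0 := fun a => Finset.prod_ne_zero_iff.mpr fun i _ => by
    rcases Fin.eq_zero_or_eq_succ (a i) with h | ⟨j, h⟩
    · simp [sg, h]
    · rw [h, Fin.eq_zero j]; simp [sg]
  let f : (ι → F) → (ι → F) → F := fun u v => ∑ a, w a * C u a * C v (flip a)
  have hbil : IsBilinearForm f := by
    refine ⟨?_, ?_, ?_, ?_⟩
    · intro x y v
      simp only [f, map_add, Pi.add_apply, ← Finset.sum_add_distrib]
      exact Finset.sum_congr rfl fun a _ => by ring
    · intro c x v
      simp only [f, map_smul, Pi.smul_apply, smul_eq_mul, Finset.mul_sum]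
      exact Finset.sum_congr rfl fun a _ => by ring
    · intro v x y
      simp only [f, map_add, Pi.add_apply, ← Finset.sum_add_distrib]
      exact Finset.sum_congr rfl fun a _ => by ring
    · intro c v x
      simp only [f, map_smul, Pi.smul_apply, smul_eq_mul, Finset.mul_sum]
      exact Finset.sum_congr rfl fun a _ => by ring
  have hswap : ∀ u v, f v u = ε * f u v := by
    intro u v
    simp only [f, Finset.mul_sum]
    refine Fintype.sum_equiv ⟨flip, flip, hflip, hflip⟩ _ _ fun a => ?_
    show w a * C v a * C u (flip a) = ε * (w (flip a) * C u (flip a) * C v (flip (flip a)))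
    have hεε : ε * ε = 1 := by simp only [ε, ← pow_add, ← two_mul, pow_mul]; simp
    rw [hflip, hw]
    linear_combination (-(w a * C u (flip a) * C v a)) * hεε
  have hnd : IsNondegenerateForm f := by
    intro v hv
    obtain ⟨b, hb⟩ : ∃ b, C v b ≠ 0 := by
      by_contra h
      push Not at h
      exact hv (by rw [← hC' v, show C v = 0 from funext h, map_zero])
    have hfl : ∀ (b : Fin t → Fin 2) u, f u (cvec e P (Pi.single (flip b) 1)) = w b * C u b := by
      intro b u
      simp only [f, hC]
      rw [Finset.sum_eq_single b (fun a _ ha => by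
        rw [Pi.single_eq_of_ne (fun h => ha (by rw [← hflip a, h, hflip])), mul_zero])
        (fun h => absurd (Finset.mem_univ _) h), Pi.single_eq_same, mul_one]
    refine ⟨⟨cvec e P (Pi.single (flip b) 1), ?_⟩, ⟨cvec e P (Pi.single (flip b) 1), ?_⟩⟩
    · rw [hswap, hfl]
      exact mul_ne_zero (pow_ne_zero _ (neg_ne_zero.mpr one_ne_zero)) (mul_ne_zero (hw0 b) hb)
    · rw [hfl]; exact mul_ne_zero (hw0 b) hb
  have hpt : ∀ xs ys : Fin t → Fin 2 → F, f (ptmul e P xs) (ptmul e P ys) =
      ∏ i, (xs i 0 * ys i 1 - xs i 1 * ys i 0) := by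
    intro xs ys
    have : ∀ i, xs i 0 * ys i 1 - xs i 1 * ys i 0 =
        ∑ p, sg p * xs i p * ys i (Equiv.swap 0 1 p) := by
      intro i; simp [Fin.sum_univ_two, sg]; ring
    simp only [f, ptmul, hC, this, Fintype.prod_sum, w, ← Finset.prod_mul_distrib, flip]
  have hsim : ∀ g ∈ H, ∃ c : Fˣ, ∀ u v, f ((g : Matrix ι ι F) *ᵥ u) ((g : Matrix ι ι F) *ᵥ v) =
      (c : F) * f u v := by
    intro g hg
    obtain ⟨σ, as, hgs⟩ := hH g hg
    refine ⟨∏ i, Units.mk0 (as i : Matrix (Fin 2) (Fin 2) F).det
      ((Matrix.isUnit_iff_isUnit_det _).mp (as i).isUnit).ne_zero, fun u v => ?_⟩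
    rw [Units.coe_prod]
    simp only [Units.val_mk0]
    set c := ∏ i, (as i : Matrix (Fin 2) (Fin 2) F).det with hc
    let B₁ : LinearMap.BilinForm F (ι → F) :=
      LinearMap.mk₂ F (fun u v => f ((g : Matrix ι ι F) *ᵥ u) ((g : Matrix ι ι F) *ᵥ v))
        (fun a b v => by rw [mulVec_add, hbil.add_left])
        (fun r a v => by rw [mulVec_smul, hbil.smul_left, smul_eq_mul])
        (fun a b v => by rw [mulVec_add, hbil.add_right])
        (fun r a v => by rw [mulVec_smul, hbil.smul_right, smul_eq_mul])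
    let B₂ : LinearMap.BilinForm F (ι → F) :=
      LinearMap.mk₂ F (fun u v => c * f u v)
        (fun a b v => by rw [hbil.add_left, mul_add])
        (fun r a v => by rw [hbil.smul_left, smul_eq_mul, mul_left_comm])
        (fun a b v => by rw [hbil.add_right, mul_add])
        (fun r a v => by rw [hbil.smul_right, smul_eq_mul, mul_left_comm])
    have hB : B₁ = B₂ := by
      refine LinearMap.ext_on (span_ptmul e P) ?_
      rintro _ ⟨xs, rfl⟩
      refine LinearMap.ext_on (span_ptmul e P) ?_
      rintro _ ⟨ys, rfl⟩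
      show f _ _ = c * f _ _
      rw [hgs, hgs, hpt, hpt, hc, ← Equiv.prod_comp σ fun i => xs i 0 * ys i 1 - xs i 1 * ys i 0,
        ← Finset.prod_mul_distrib]
      refine Finset.prod_congr rfl fun i _ => ?_
      simp only [Matrix.mulVec, dotProduct, Fin.sum_univ_two, Matrix.det_fin_two]
      ring
    exact LinearMap.congr_fun (LinearMap.congr_fun hB u) v
  by_cases hε : ε = -1
  · refine Or.inl ⟨f, ⟨hbil, fun u v => by rw [hswap v u, hε]; ring, fun v => ?_, hnd⟩,
      fun g hg => hsim g hg⟩
    refine Finset.sum_involution (fun a _ => flip a) (fun a _ => ?_) (fun a _ _ h => ?_)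
      (fun a _ => Finset.mem_univ _) (fun a _ => hflip a)
    · rw [hflip, hw, hε]; ring
    · have := congrFun h ⟨0, by omega⟩
      revert this
      simp only [flip]
      generalize a ⟨0, by omega⟩ = p
      fin_cases p <;> simp
  · have hε1 : ε = 1 := by
      rcases neg_one_pow_eq_or F t with h | h
      · exact h
      · exact absurd h hε
    have h2 : (2 : F) ≠ 0 := fun h => hε (by linear_combination hε1 + h)
    have hodd : Odd (Fintype.card F) := by
      rw [Nat.odd_iff]
      refine FiniteField.odd_card_of_char_ne_two fun hc => h2 ?_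
      haveI := ringChar.of_eq hc
      exact CharTwo.two_eq_zero
    let Q : (ι → F) → F := fun v => f v v / 2
    have hpolar : ∀ u v, QuadraticMap.polar Q u v = f u v := by
      intro u v
      simp only [QuadraticMap.polar, Q, hbil.add_left, hbil.add_right, hswap u v, hε1]
      field_simp
      ring
    refine Or.inr ⟨Q, ⟨fun c v => ?_, ?_, ?_⟩, hodd, fun g hg => ?_⟩
    · simp only [Q, hbil.smul_left, hbil.smul_right]; ring
    · rw [show QuadraticMap.polar Q = f from funext fun u => funext fun v => hpolar u v]; exact hbil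
    · rw [show QuadraticMap.polar Q = f from funext fun u => funext fun v => hpolar u v]; exact hnd
    · obtain ⟨c, hc⟩ := hsim g hg
      exact ⟨c, fun v => by simp only [Q, hc, mul_div_assoc]⟩

end CfsgLib.MaxSub
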