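import Cfsg.Agent.MaxSub.Transvection

/-!
# Stabilisers of subspaces in the special linear group
-/

set_option autoImplicit false

namespace CfsgLib.MaxSub

open Matrix Cfsg.Geo

variable {ι : Type} [Fintype ι] [DecidableEq ι] {F : Type*} [Field F]

theorem mem_subspaceStabilizer_iff {W : Submodule F (ι → F)} {g : GL ι F} :
    g ∈ subspaceStabilizer W ↔ ∀ x, x ∈ W ↔ (g : Matrix ι ι F) *ᵥ x ∈ W :=
  Iff.rfl

theorem mem_subspaceStabilizer_of_le {W : Submodule F (ι → F)} {g : GL ι F}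
    (h : ∀ x ∈ W, (g : Matrix ι ι F) *ᵥ x ∈ W) : g ∈ subspaceStabilizer W := by
  rw [mem_subspaceStabilizer_iff]
  refine fun x => ⟨h x, fun hx => ?_⟩
  let f := (g : Matrix ι ι F).mulVecLin
  have hf : Function.Injective f :=
    mulVec_injective_iff_isUnit.mpr g.isUnit
  have hle : W.map f ≤ W := by
    rintro y ⟨z, hz, rfl⟩; exact h z hz
  have heq : W.map f = W := Submodule.eq_of_le_of_finrank_le hle
    ((Submodule.equivMapOfInjective f hf W).finrank_eq.le)
  rw [← heq] at hx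
  obtain ⟨z, hz, hzx⟩ := hx
  rwa [← hf hzx]

theorem tv_mem_stabilizer_of_centre {W : Submodule F (ι → F)} {v a : ι → F}
    (ha : a ⬝ᵥ v = 0) (hv : v ∈ W) : tv v a ∈ subspaceStabilizer W :=
  mem_subspaceStabilizer_of_le fun x hx => by
    rw [tv_mulVec ha]; exact W.add_mem hx (W.smul_mem _ hv)

theorem tv_mem_stabilizer_of_axis {W : Submodule F (ι → F)} {v a : ι → F}
    (ha : a ⬝ᵥ v = 0) (hW : ∀ w ∈ W, a ⬝ᵥ w = 0) : tv v a ∈ subspaceStabilizer W :=
  mem_subspaceStabilizer_of_le fun x hx => by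
    rw [tv_mulVec ha, hW x hx, zero_smul, add_zero]; exact hx

/-- `a ⬝ᵥ v = 0` and `a ⬝ᵥ x = 1` for some `a`, when `x` is not a multiple of `v`. -/
theorem exists_axis {v x : ι → F} (h : ∀ c : F, c • v ≠ x) :
    ∃ a : ι → F, a ⬝ᵥ v = 0 ∧ a ⬝ᵥ x = 1 := by
  obtain ⟨a, h1, h2⟩ := exists_dot_eq_zero_one h
  exact ⟨a, by rwa [dotProduct_comm], by rwa [dotProduct_comm]⟩

omit [Fintype ι] [DecidableEq ι] in
theorem not_smul_eq_of_notMem {W : Submodule F (ι → F)} {v x : ι → F} (hv : v ∈ W) (hx : x ∉ W)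
    (c : F) : c • v ≠ x := by
  rintro rfl; exact hx (W.smul_mem _ hv)

/-- A transvection moving a proper non-zero subspace. -/
theorem exists_tv_not_stabilizing {W : Submodule F (ι → F)} (hW0 : W ≠ ⊥) (hW1 : W ≠ ⊤) :
    ∃ v a, tv v a ∈ specialLinear ι F ∧ tv v a ∉ subspaceStabilizer W := by
  obtain ⟨x, hx, hx0⟩ := Submodule.exists_mem_ne_zero_of_ne_bot hW0
  obtain ⟨v, -, hv⟩ := SetLike.exists_of_lt (lt_top_iff_ne_top.mpr hW1)
  have hne : ∀ c : F, c • v ≠ x := by
    intro c hc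
    rcases eq_or_ne c 0 with rfl | hc0
    · exact hx0 (by simpa using hc.symm)
    · apply hv
      rw [← inv_smul_smul₀ hc0 v, hc]
      exact W.smul_mem _ hx
  obtain ⟨a, hav, hax⟩ := exists_axis hne
  refine ⟨v, a, tv_mem_specialLinear v a, fun h => hv ?_⟩
  have := (mem_subspaceStabilizer_iff.mp h x).mp hx
  rw [tv_mulVec hav, hax, one_smul] at this
  simpa using W.sub_mem this hx

/-- Every subgroup of `GL` containing the determinant-one stabiliser of a proper non-zero subspace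
`W` and an element moving `W` contains `SL`. -/
theorem specialLinear_le_of_subspaceStabilizer {W : Submodule F (ι → F)}
    (hW1 : W ≠ ⊤) {M : Subgroup (GL ι F)}
    (hM : subspaceStabilizer W ⊓ specialLinear ι F ≤ M) {g : GL ι F} (hg : g ∈ M)
    (hg' : g ∉ subspaceStabilizer W) : specialLinear ι F ≤ M := by
  have hc : ∀ v a : ι → F, a ⬝ᵥ v = 0 → v ∈ W → tv v a ∈ M := fun v a ha hv =>
    hM ⟨tv_mem_stabilizer_of_centre ha hv, tv_mem_specialLinear v a⟩
  have hx : ∀ v a : ι → F, a ⬝ᵥ v = 0 → (∀ w ∈ W, a ⬝ᵥ w = 0) → tv v a ∈ M :=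
    fun v a ha hW => hM ⟨tv_mem_stabilizer_of_axis ha hW, tv_mem_specialLinear v a⟩
  obtain ⟨y, -, hy⟩ := SetLike.exists_of_lt (lt_top_iff_ne_top.mpr hW1)
  obtain ⟨a, haW, hay⟩ := exists_dot_of_notMem W hy
  refine specialLinear_le_of_fullAxis ?_ (a := a) (fun h => by simp [h] at hay)
    (fun v hv => hx v a hv haW)
  intro X hX
  by_contra hne
  push Not at hne
  have hstep : ∀ {v b z : ι → F}, b ⬝ᵥ v = 0 → tv v b ∈ M → z ∈ X → b ⬝ᵥ z = 1 → v ∈ X := by
    intro v b z hb hm hz hbz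
    have := hX _ hm z hz
    rw [tv_mulVec hb, hbz, one_smul] at this
    simpa using X.sub_mem this hz
  by_cases hXW : X ≤ W
  · obtain ⟨x, hxX, hx0⟩ := Submodule.exists_mem_ne_zero_of_ne_bot hne.1
    have heq : X = W := by
      refine le_antisymm hXW fun v hv => ?_
      by_cases hvx : ∃ c : F, c • v = x
      · obtain ⟨c, hc⟩ := hvx
        have hc0 : c ≠ 0 := by rintro rfl; exact hx0 (by simpa using hc.symm)
        rw [← inv_smul_smul₀ hc0 v, hc]; exact X.smul_mem _ hxX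
      · push Not at hvx
        obtain ⟨b, hbv, hbx⟩ := exists_axis hvx
        exact hstep hbv (hc v b hbv hv) hxX hbx
    subst heq
    exact hg' (mem_subspaceStabilizer_of_le (hX g hg))
  · obtain ⟨x, hxX, hxW⟩ := Set.not_subset.mp hXW
    obtain ⟨b, hbW, hbx⟩ := exists_dot_of_notMem W hxW
    apply hne.2
    rw [Submodule.eq_top_iff']
    intro v
    have hv : v - (b ⬝ᵥ v) • x ∈ X := by
      have h0 : b ⬝ᵥ (v - (b ⬝ᵥ v) • x) = 0 := by
        simp [dotProduct_sub, dotProduct_smul, hbx]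
      exact hstep h0 (hx _ b h0 hbW) hxX hbx
    simpa using X.add_mem hv (X.smul_mem (b ⬝ᵥ v) hxX)

/-- The stabiliser of a proper non-zero subspace is maximal in `SL`. -/
theorem isMaximalIn_subspaceStabilizer {W : Submodule F (ι → F)} (hW0 : W ≠ ⊥) (hW1 : W ≠ ⊤) :
    IsMaximalIn (specialLinear ι F) (subspaceStabilizer W ⊓ specialLinear ι F) := by
  refine isMaximalIn_of inf_le_right ?_ fun M hHM hMK g hg hg' => ?_
  · obtain ⟨v, a, h1, h2⟩ := exists_tv_not_stabilizing hW0 hW1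
    exact ⟨_, h1, fun h => h2 h.1⟩
  · exact specialLinear_le_of_subspaceStabilizer hW1 hHM hg fun h => hg' ⟨h, hMK hg⟩

/-- If `U` is not `⊥`, `⊤` or `W` and some transvection fixing `W` moves `U`, the common stabiliser
of `W` and `U` is not maximal. -/
theorem not_maximal_pair {W U : Submodule F (ι → F)} (hW0 : W ≠ ⊥) (hW1 : W ≠ ⊤)
    {v a : ι → F} (hW : tv v a ∈ subspaceStabilizer W) (hU : tv v a ∉ subspaceStabilizer U) :
    ∃ K : Subgroup (GL ι F),
      subspaceStabilizer W ⊓ subspaceStabilizer U ⊓ specialLinear ι F < K ∧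
        K < specialLinear ι F := by
  refine ⟨subspaceStabilizer W ⊓ specialLinear ι F,
    lt_of_le_of_ne (inf_le_inf_right _ inf_le_left) fun h => hU ?_,
    (isMaximalIn_subspaceStabilizer hW0 hW1).1⟩
  have : tv v a ∈ subspaceStabilizer W ⊓ specialLinear ι F := ⟨hW, tv_mem_specialLinear v a⟩
  rw [← h] at this
  exact this.1.2

end CfsgLib.MaxSub
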