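import Cfsg.Agent.MaxSub.FormBasic

/-!
# The similarity group of a symplectic form is maximal in `SL`
-/

set_option autoImplicit false
set_option linter.unusedSectionVars false

namespace CfsgLib.MaxSub

open Matrix Cfsg.Geo

variable {ι : Type} [Fintype ι] [DecidableEq ι] {F : Type*} [Field F]
  {f : (ι → F) → (ι → F) → F}

theorem isoTv_mem_similarity {σ : F ≃+* F} (hf : SesqForm σ f) {v : ι → F} (hv : f v v = 0) {c : F}
    (hc : ∀ y, c * f v y + σ c * σ (f y v) = 0) :
    tv (c • v) (leftVec f v) ∈ similarityGroup f := by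
  have h0 : leftVec f v ⬝ᵥ (c • v) = 0 := by
    rw [dotProduct_smul, hf.dot_leftVec, hv, smul_zero]
  refine ⟨1, fun x y => ?_⟩
  rw [tv_mulVec h0, tv_mulVec h0, hf.dot_leftVec, hf.dot_leftVec, hf.add_left, hf.add_right,
    hf.add_right, hf.smul_left, hf.smul_left, hf.smul_right, hf.smul_right, hf.smul_left,
    hf.smul_left, hf.smul_right, hf.smul_right, hv, Units.val_one, one_mul]
  linear_combination f x v * hc y

theorem sympTv_mem (hf : IsSymplecticForm f) (v : ι → F) (c : F) :
    tv (c • v) (leftVec f v) ∈ similarityGroup f ⊓ specialLinear ι F :=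
  ⟨isoTv_mem_similarity (sesqForm_of_symplectic hf) (hf.alternating v) fun y => by
      rw [hf.skew v y]; simp, tv_mem_specialLinear _ _⟩

theorem rootIn_symp {M : Subgroup (GL ι F)} (hf : IsSymplecticForm f)
    (hM : similarityGroup f ⊓ specialLinear ι F ≤ M) (v : ι → F) : RootIn M v (leftVec f v) :=
  ⟨by rw [(sesqForm_of_symplectic hf).dot_leftVec, hf.alternating],
    fun c => hM (sympTv_mem hf v c)⟩

/-- A subgroup containing the symplectic similarities of determinant one and something else contains
`SL`. -/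
theorem specialLinear_le_of_symplectic (hf : IsSymplecticForm f) {M : Subgroup (GL ι F)}
    (hM : similarityGroup f ⊓ specialLinear ι F ≤ M) {g : GL ι F} (hg : g ∈ M)
    (hg' : g ∉ similarityGroup f) : specialLinear ι F ≤ M := by
  have hs := sesqForm_of_symplectic hf
  have hroot := rootIn_symp hf hM
  -- some conjugated symplectic transvection is not symplectic
  obtain ⟨v, hv⟩ : ∃ v : ι → F, ∀ μ : F, ∃ x, f ((g : Matrix ι ι F) *ᵥ x) ((g : Matrix ι ι F) *ᵥ v)
      ≠ μ * f x v := by
    by_contra hcon
    push Not at hcon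
    choose μ hμ using hcon
    rcases subsingleton_or_nontrivial (ι → F) with h | h
    · exact hg' (hs.mem_similarityGroup_of_similarOn g 1
        (Subsingleton.elim _ _))
    obtain ⟨v₀, hv₀⟩ := exists_ne (0 : ι → F)
    refine hg' (hs.mem_similarityGroup_of_similarOn g (μ v₀) (Submodule.eq_top_iff'.mpr fun v => ?_))
    have hind : ∀ u : ι → F, (∀ c : F, c • v₀ ≠ u) → μ u = μ v₀ := by
      intro u hu
      have := hs.multiplier_eq (a := 1) (b := 1) hu hv₀ one_ne_zero one_ne_zero (hμ v₀) (hμ u)
        (hμ _)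
      rw [← this.2, this.1]
    by_cases hv : ∃ c : F, c • v₀ = v
    · obtain ⟨c, rfl⟩ := hv
      exact (hs.similarOn (g : Matrix ι ι F) (μ v₀)).smul_mem c (hμ v₀)
    · push Not at hv
      intro x
      rw [hμ v x, hind v hv]
  obtain ⟨u, hu⟩ := hs.leftVec_surjective (leftVec f v ᵥ* ((g⁻¹ : GL ι F) : Matrix ι ι F))
  have hv0 : v ≠ 0 := by
    rintro rfl
    obtain ⟨x, hx⟩ := hv 1
    exact hx (by rw [mulVec_zero, hs.zero_right, hs.zero_right, mul_zero])
  set v' := (g : Matrix ι ι F) *ᵥ v with hv'
  have hv'0 : v' ≠ 0 := fun h => hv0 (by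
    simpa [hv', mulVec_mulVec] using congrArg (fun y => ((g⁻¹ : GL ι F) : Matrix ι ι F) *ᵥ y) h)
  have hR : RootIn M v' (leftVec f u) := hu ▸ (hroot v).conj hg
  have hfu : ∀ x, f x u = f (((g⁻¹ : GL ι F) : Matrix ι ι F) *ᵥ x) v := by
    intro x; rw [← hs.dot_leftVec, hu, hs.dot_leftVec_conj]
  have hne : ∀ c : F, c • v' ≠ u := by
    intro c hc
    have hgx : ∀ x, c * f ((g : Matrix ι ι F) *ᵥ x) v' = f x v := by
      intro x
      have := hfu ((g : Matrix ι ι F) *ᵥ x)
      rw [mulVec_mulVec, Units.inv_mul, one_mulVec, ← hc, hs.smul_right] at this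
      simpa using this
    obtain ⟨x, hx⟩ := hv c⁻¹
    rcases eq_or_ne c 0 with rfl | hc0
    · have hvz : v = 0 := hs.ext_right fun x => by rw [← hgx x]; simp [hs.zero_right]
      exact hv0 hvz
    · refine hx ?_
      rw [← hgx x, ← mul_assoc, inv_mul_cancel₀ hc0, one_mul]
  -- all centres
  have hfull : FullAxis M (leftVec f u) := by
    refine fullAxis_of_centres fun z hz => ?_
    have hstep : ∀ z : ι → F, f z u = 0 → f v' z ≠ 0 → z ∈ centres M (leftVec f u) :=
      fun z h1 h2 => hR.rule_axis (hroot z).1 (hroot z).mem (by rwa [hs.dot_leftVec])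
        (by rwa [hs.dot_leftVec])
    rw [hs.dot_leftVec] at hz
    by_cases h2 : f v' z = 0
    · -- a witness in the orthogonal complement of `u`
      obtain ⟨z₀, h0, h0'⟩ := hs.exists_orth_not_orth (u := u) (v := v') fun c hc => by
        rcases eq_or_ne c 0 with rfl | hc0
        · exact hv'0 (by simpa using hc.symm)
        · exact hne c⁻¹ (by rw [← hc, inv_smul_smul₀ hc0])
      have h0v : f v' z₀ ≠ 0 := by rw [hf.skew, h0']; simp
      have := (centres M (leftVec f u)).sub_mem
        (hstep (z + z₀) (by rw [hs.add_left, hz, h0, add_zero])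
          (by rw [hs.add_right, h2, zero_add]; exact h0v))
        (hstep z₀ h0 h0v)
      simpa using this
    · exact hstep z hz h2
  have hu0 : u ≠ 0 := fun h => hne 0 (by simp [h])
  refine specialLinear_le_of_fullAxis (fun X hX => ?_) (hs.leftVec_ne_zero hu0) hfull
  by_contra hcon
  push Not at hcon
  obtain ⟨x, hxX, hx0⟩ := Submodule.exists_mem_ne_zero_of_ne_bot hcon.1
  have hmove : ∀ z, f x z ≠ 0 → z ∈ X := by
    intro z hz
    have h := hX _ ((hroot z).2 (f x z)⁻¹) x hxX
    rw [tv_mulVec (by rw [dotProduct_smul, (hroot z).1, smul_zero]), hs.dot_leftVec,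
      smul_smul, mul_inv_cancel₀ hz, one_smul] at h
    simpa using X.sub_mem h hxX
  refine hcon.2 (Submodule.eq_top_iff'.mpr fun z => ?_)
  by_cases hz : f x z = 0
  · obtain ⟨w, hw⟩ := (hf.nondegenerate x hx0).2
    have h1 := hmove (z + w) (by rwa [hs.add_right, hz, zero_add])
    simpa using X.sub_mem h1 (hmove w hw)
  · exact hmove z hz

/-- In dimension at least three the similarity group of a symplectic form is maximal in `SL`. -/
theorem isMaximalIn_symplectic (hf : IsSymplecticForm f) (hn : 3 ≤ Fintype.card ι) :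
    IsMaximalIn (specialLinear ι F) (similarityGroup f ⊓ specialLinear ι F) := by
  refine isMaximalIn_of inf_le_right ?_ fun M hHM hMK g hg hg' =>
    specialLinear_le_of_symplectic hf hHM hg fun h => hg' ⟨h, hMK hg⟩
  have hne : (⊤ : Submodule F (ι → F)) ≠ ⊥ := by
    intro h
    have := congrArg (fun W : Submodule F (ι → F) => Module.finrank F W) h
    simp at this
    omega
  obtain ⟨v, -, hv⟩ := Submodule.exists_mem_ne_zero_of_ne_bot hne
  have hs := sesqForm_of_symplectic hf
  -- an axis in the annihilator of `v` outside the line of `leftVec f v`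
  obtain ⟨a, hav, ha⟩ : ∃ a : ι → F, a ⬝ᵥ v = 0 ∧ a ∉ Submodule.span F {leftVec f v} := by
    by_contra hcon
    push Not at hcon
    let L : (ι → F) →ₗ[F] F := dotProductBilin F F v
    have hle : L.ker ≤ Submodule.span F {leftVec f v} := fun a ha =>
      hcon a (by rw [dotProduct_comm]; simpa [L] using ha)
    have h1 := Submodule.finrank_mono hle
    have h2 := L.finrank_range_add_finrank_ker
    have h3 := Submodule.finrank_le (LinearMap.range L)
    rw [finrank_span_singleton (hs.leftVec_ne_zero hv)] at h1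
    rw [Module.finrank_self] at h3
    rw [Module.finrank_pi] at h2
    omega
  exact ⟨tv v a, tv_mem_specialLinear v a, fun h =>
    hs.tv_not_similar hv hav (fun c hc => ha (Submodule.mem_span_singleton.mpr ⟨c, hc⟩)) h.1⟩

end CfsgLib.MaxSub
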