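import Cfsg.Agent.Forms.Symplectic
import Cfsg.Agent.MaxSub.SymplecticSimilarity
import Cfsg.Agent.MaxSub.Subspace

/-!
# Overgroups in the symplectic group: the set of centres of transvections in a subgroup
-/

set_option autoImplicit false
set_option linter.unusedSectionVars false

namespace CfsgLib.MaxSub

open Matrix Cfsg.Geo

variable {F : Type*} [Field F] {m : ℕ}

local notation "V" => (Fin m ⊕ Fin m → F)
local notation "ω" => Cfsg.sympForm m F
local notation "Mat" => Matrix (Fin m ⊕ Fin m) (Fin m ⊕ Fin m) F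

theorem isSymplecticForm_sympForm : IsSymplecticForm (ι := Fin m ⊕ Fin m) ω := by
  refine ⟨⟨?_, ?_, ?_, ?_⟩, fun v w => Forms.sympForm_swap w v, Forms.sympForm_self, fun v hv => ?_⟩
  · intro x y v; simp only [← Forms.sympBilin_apply, map_add, LinearMap.add_apply]
  · intro c x v; simp only [← Forms.sympBilin_apply, map_smul, LinearMap.smul_apply, smul_eq_mul]
  · intro v x y; simp only [← Forms.sympBilin_apply, map_add]
  · intro c v x; simp only [← Forms.sympBilin_apply, map_smul, smul_eq_mul]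
  · have h : ∃ x, ω v x ≠ 0 := by
      by_contra h
      push Not at h
      exact hv (Forms.sympForm_sep v h)
    obtain ⟨x, hx⟩ := h
    exact ⟨⟨x, by rw [Forms.sympForm_swap]; exact neg_ne_zero.mpr hx⟩, ⟨x, hx⟩⟩

theorem sesq_sympForm : SesqForm (RingEquiv.refl F) (ω : V → V → F) :=
  sesqForm_of_symplectic isSymplecticForm_sympForm

theorem mem_spGL_iff {g : GL (Fin m ⊕ Fin m) F} :
    g ∈ Cfsg.spGL m F ↔ ∀ u v, ω ((g : Mat) *ᵥ u) ((g : Mat) *ᵥ v) = ω u v :=
  Iff.rfl

theorem leftVec_conj_sp {g : GL (Fin m ⊕ Fin m) F} (hg : g ∈ Cfsg.spGL m F) (v : V) :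
    leftVec ω v ᵥ* ((g⁻¹ : GL (Fin m ⊕ Fin m) F) : Mat) =
      leftVec ω ((g : Mat) *ᵥ v) := by
  refine dotProduct_eq _ _ fun x => ?_
  rw [sesq_sympForm.dot_leftVec_conj, sesq_sympForm.dot_leftVec,
    ← mem_spGL_iff.mp hg (((g⁻¹ : GL (Fin m ⊕ Fin m) F) : Mat) *ᵥ x) v]
  rw [mulVec_mulVec, Units.mul_inv, one_mulVec]

/-- The symplectic transvection `x ↦ x + c ω(x, v) v`. -/
noncomputable def spTv (v : V) (c : F) : GL (Fin m ⊕ Fin m) F := tv (c • v) (leftVec ω v)

theorem spTv_orth (v : V) (c : F) : leftVec ω v ⬝ᵥ (c • v) = 0 := by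
  rw [dotProduct_smul, sesq_sympForm.dot_leftVec, Forms.sympForm_self, smul_zero]

theorem spTv_mulVec (v : V) (c : F) (x : V) :
    (spTv v c : Mat) *ᵥ x = x + (c * ω x v) • v := by
  rw [spTv, tv_mulVec (spTv_orth v c), sesq_sympForm.dot_leftVec, smul_smul, mul_comm]

theorem spTv_mem (v : V) (c : F) : spTv v c ∈ Cfsg.spGL m F := by
  rw [mem_spGL_iff]
  intro x y
  have hs := sesq_sympForm (m := m) (F := F)
  rw [spTv_mulVec, spTv_mulVec, hs.add_left, hs.add_right, hs.add_right, hs.smul_left, hs.smul_left,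
    hs.smul_right, hs.smul_right, Forms.sympForm_self, Forms.sympForm_swap y v]
  simp only [RingEquiv.refl_apply]
  ring

theorem conj_spTv {g : GL (Fin m ⊕ Fin m) F} (hg : g ∈ Cfsg.spGL m F) (v : V) (c : F) :
    g * spTv v c * g⁻¹ = spTv ((g : Mat) *ᵥ v) c := by
  rw [spTv, conj_tv, mulVec_smul, leftVec_conj_sp hg]; rfl

theorem spTv_smul (a : F) (v : V) (c : F) : spTv (a • v) c = spTv v (c * (a * a)) := by
  rcases eq_or_ne a 0 with rfl | ha
  · simp [spTv, tv_zero_left]
  rw [spTv, spTv, sesq_sympForm.leftVec_smul, tv_smul_right, smul_smul, smul_smul]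
  congr 2
  simp only [RingEquiv.refl_apply]
  ring

/-- `Sp` is generated by its transvections. -/
theorem spGL_le_of_forall_spTv {M : Subgroup (GL (Fin m ⊕ Fin m) F)}
    (h : ∀ v c, spTv v c ∈ M) : Cfsg.spGL m F ≤ M := by
  intro g hg
  have hA : (g : Mat) ∈ Matrix.symplecticGroup (Fin m) F :=
    Forms.mem_symplecticGroup_iff_form.mpr (mem_spGL_iff.mp hg)
  have key : ∀ A : Matrix.symplecticGroup (Fin m) F, ∃ k ∈ M, (k : Mat) = A.1 := by
    intro A
    have hA : A ∈ Forms.transvGroup (Set.univ : Set V) := by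
      rw [Forms.transvGroup_eq_top]; exact Subgroup.mem_top A
    induction hA using Subgroup.closure_induction with
    | mem A hA =>
      obtain ⟨w, -, c, rfl⟩ := hA
      refine ⟨spTv w c, h w c, Matrix.ext_iff_mulVec.mpr fun x => ?_⟩
      rw [spTv_mulVec]
      exact (Forms.sympTransvection_mulVec w x c).symm
    | one => exact ⟨1, M.one_mem, rfl⟩
    | mul A B _ _ hA hB =>
      obtain ⟨a, ha, ha'⟩ := hA
      obtain ⟨b, hb, hb'⟩ := hB
      exact ⟨a * b, M.mul_mem ha hb, by rw [Units.val_mul, ha', hb']; rfl⟩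
    | inv A _ hA =>
      obtain ⟨a, ha, ha'⟩ := hA
      refine ⟨a⁻¹, M.inv_mem ha, ?_⟩
      apply Units.inv_eq_of_mul_eq_one_right
      rw [ha', ← Submonoid.coe_mul, mul_inv_cancel, Submonoid.coe_one]
  obtain ⟨k, hk, hk'⟩ := key ⟨_, hA⟩
  rwa [← Units.ext hk']

/-- The centres all of whose transvections lie in `M`. -/
def CentreIn (M : Subgroup (GL (Fin m ⊕ Fin m) F)) (v : V) : Prop := ∀ c : F, spTv v c ∈ M

theorem CentreIn.smul {M : Subgroup (GL (Fin m ⊕ Fin m) F)} {v : V} (h : CentreIn M v) (a : F) :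
    CentreIn M (a • v) := fun c => by rw [spTv_smul]; exact h _

theorem CentreIn.map {M : Subgroup (GL (Fin m ⊕ Fin m) F)} {v : V} (h : CentreIn M v)
    {g : GL (Fin m ⊕ Fin m) F} (hg : g ∈ Cfsg.spGL m F) (hgM : g ∈ M) :
    CentreIn M ((g : Mat) *ᵥ v) := fun c => by
  rw [← conj_spTv hg]; exact M.mul_mem (M.mul_mem hgM (h c)) (M.inv_mem hgM)

theorem CentreIn.add {M : Subgroup (GL (Fin m ⊕ Fin m) F)} {x y : V} (hx : CentreIn M x)
    (hy : CentreIn M y) (h : ω x y ≠ 0) : CentreIn M (x + y) := by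
  have := hx.map (spTv_mem y (ω x y)⁻¹) (hy (ω x y)⁻¹)
  rwa [spTv_mulVec, inv_mul_cancel₀ h, one_smul] at this

theorem centreIn_zero (M : Subgroup (GL (Fin m ⊕ Fin m) F)) : CentreIn M (0 : V) := fun c => by
  rw [spTv, smul_zero, tv_zero_left]; exact M.one_mem

/-- A vector pairing non-trivially with two given non-zero vectors. -/
theorem exists_nonorth_two {u v : V} {U : Submodule F V}
    (hU : ∀ w ∈ U, w ≠ 0 → ∃ z ∈ U, ω w z ≠ 0) (hu : u ∈ U) (hv : v ∈ U) (hu0 : u ≠ 0)
    (hv0 : v ≠ 0) : ∃ z ∈ U, ω u z ≠ 0 ∧ ω z v ≠ 0 := by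
  obtain ⟨z₁, hz₁, h₁⟩ := hU u hu hu0
  obtain ⟨z₂, hz₂, h₂⟩ := hU v hv hv0
  have h₂' : ω z₂ v ≠ 0 := by rw [Forms.sympForm_swap]; exact neg_ne_zero.2 h₂
  by_cases c₁ : ω z₁ v = 0
  · by_cases c₂ : ω u z₂ = 0
    · refine ⟨z₁ + z₂, U.add_mem hz₁ hz₂, ?_, ?_⟩
      · rw [sesq_sympForm.add_right, c₂, add_zero]; exact h₁
      · rw [sesq_sympForm.add_left, c₁, zero_add]; exact h₂'
    · exact ⟨z₂, hz₂, c₂, h₂'⟩
  · exact ⟨z₁, hz₁, h₁, c₁⟩

/-- If a non-degenerate subspace consists of centres, the component in it of a centre may be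
replaced by any non-zero vector of it. -/
theorem CentreIn.change {M : Subgroup (GL (Fin m ⊕ Fin m) F)} {U : Submodule F V}
    (hU : ∀ w ∈ U, w ≠ 0 → ∃ z ∈ U, ω w z ≠ 0) (hUM : ∀ w ∈ U, CentreIn M w) {a b a' : V}
    (ha : a ∈ U) (hb : ∀ z ∈ U, ω b z = 0) (ha' : a' ∈ U) (ha0 : a ≠ 0) (ha'0 : a' ≠ 0)
    (h : CentreIn M (a + b)) : CentreIn M (a' + b) := by
  obtain ⟨z, hz, h1, h2⟩ := exists_nonorth_two hU ha ha' ha0 ha'0
  have hs := sesq_sympForm (m := m) (F := F)
  have step : ∀ p q, p ∈ U → q ∈ U → ω p q ≠ 0 → CentreIn M (p + b) → CentreIn M (q + b) := by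
    intro p q hp hq hpq hP
    have := hP.add (hUM _ (U.sub_mem hq hp)) (by
      rwa [hs.add_left, hb _ (U.sub_mem hq hp), add_zero, hs.sub_right, Forms.sympForm_self,
        sub_zero])
    convert this using 1
    abel
  exact step z a' hz ha' h2 (step a z ha hz h1 h)

/-- The orthogonal complement for the symplectic form. -/
def sPerp (W : Submodule F V) : Submodule F V where
  carrier := {x | ∀ w ∈ W, ω x w = 0}
  add_mem' ha hb w hw := by rw [sesq_sympForm.add_left, ha w hw, hb w hw, add_zero]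
  zero_mem' w _ := sesq_sympForm.zero_left w
  smul_mem' c x hx w hw := by rw [sesq_sympForm.smul_left, hx w hw, mul_zero]

theorem mem_sPerp {W : Submodule F V} {x : V} : x ∈ sPerp W ↔ ∀ w ∈ W, ω x w = 0 := Iff.rfl

theorem finrank_sPerp (W : Submodule F V) :
    2 * m ≤ Module.finrank F (sPerp W) + Module.finrank F W := by
  let b := Module.finBasis F W
  have hsum : ∀ (x : V) (w : V), w ∈ W → (∀ i, ω x (b i : V) = 0) → ω x w = 0 := by
    intro x w hw h
    have h' := congrArg (fun z : W => Forms.sympBilin m F x (z : V)) (b.sum_repr ⟨w, hw⟩)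
    simp only [Submodule.coe_sum, Submodule.coe_smul, map_sum, map_smul, Forms.sympBilin_apply,
      smul_eq_mul] at h'
    rw [← h']
    exact Finset.sum_eq_zero fun i _ => by rw [h i, mul_zero]
  let L : V →ₗ[F] (Fin (Module.finrank F W) → F) :=
    { toFun := fun x i => ω x (b i : V)
      map_add' := fun x y => funext fun i => sesq_sympForm.add_left _ _ _
      map_smul' := fun c x => funext fun i => sesq_sympForm.smul_left _ _ _ }
  have hker : L.ker ≤ sPerp W := fun x hx w hw =>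
    hsum x w hw fun i => congrFun (LinearMap.mem_ker.mp hx) i
  have h1 := L.finrank_range_add_finrank_ker
  have h2 := Submodule.finrank_le L.range
  have h3 := Submodule.finrank_mono hker
  rw [Module.finrank_fin_fun] at h2
  rw [Module.finrank_pi, Fintype.card_sum, Fintype.card_fin] at h1
  omega

end CfsgLib.MaxSub
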