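import Cfsg.Agent.MaxSub.HermStandard
import Cfsg.Agent.MaxSub.SymplecticBasic
import Cfsg.Agent.TensorNonmax.Basic

/-!
# Tensor stabilisers whose second factor preserves a frame are not maximal

If the group of the second factor permutes an orthogonal frame `v i` of non-isotropic points, then
the tensor stabiliser lies in the stabiliser of the decomposition into the blocks `V₁ ⊗ v i`.
-/

set_option autoImplicit false
set_option linter.unusedSectionVars false

namespace CfsgLib.MaxSub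

open Matrix Cfsg.Geo

section generic

variable {ι : Type} [Fintype ι] [DecidableEq ι] {F : Type*} [Field F] {n₁ n₂ k : ℕ}

/-- The frame argument. -/
theorem not_maximal_tensorFrame {σ : F ≃+* F} {φ : (ι → F) → (ι → F) → F} (hs : SesqForm σ φ)
    {T : (Fin n₁ → F) →ₗ[F] (Fin n₂ → F) →ₗ[F] (ι → F)}
    (hinj : ∀ x y, T x y = 0 → x = 0 ∨ y = 0)
    {f₁ : (Fin n₁ → F) → (Fin n₁ → F) → F} (hs₁ : SesqForm σ f₁)
    {f₂ : (Fin n₂ → F) → (Fin n₂ → F) → F}
    {c : F} (hc : c ≠ 0) (hform : ∀ x x' y y', φ (T x y) (T x' y') = c * (f₁ x x' * f₂ y y'))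
    {v : Fin k → Fin n₂ → F} (horth : ∀ i j, i ≠ j → f₂ (v i) (v j) = 0)
    (hval : ∀ i, f₂ (v i) (v i) ≠ 0) {i₀ i₁ : Fin k} (h01 : i₀ ≠ i₁)
    {x₀ : Fin n₁ → F} (hx00 : x₀ ≠ 0) (hx₀ : f₁ x₀ x₀ = 0)
    {I H : Subgroup (GL ι F)} (hHI : H ≤ I)
    (hH : ∀ g ∈ H, ∃ (a : GL (Fin n₁) F) (b : GL (Fin n₂) F),
      (∀ x y, (g : Matrix ι ι F) *ᵥ T x y =
        T ((a : Matrix (Fin n₁) (Fin n₁) F) *ᵥ x) ((b : Matrix (Fin n₂) (Fin n₂) F) *ᵥ y)) ∧
      ∃ π : Equiv.Perm (Fin k), ∀ i, ∃ ε : F, ε ≠ 0 ∧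
        (b : Matrix (Fin n₂) (Fin n₂) F) *ᵥ v i = ε • v (π i))
    {d : F} (hd : d ≠ 0) (hI : ∀ w, φ w w = 0 → tv (d • w) (leftVec φ w) ∈ I) :
    ∃ K : Subgroup (GL ι F), H < K ∧ K < I := by
  have hv0 : ∀ i, v i ≠ 0 := fun i h => by
    obtain ⟨z, hz⟩ := hs₁.exists_left_ne_zero hx00
    have e := hform z x₀ (v i) (v i)
    rw [h, map_zero, map_zero, hs.zero_left, eq_comm, mul_eq_zero, mul_eq_zero] at e
    have := hval i
    rw [h] at this
    tauto
  let L : Fin k → (Fin n₁ → F) →ₗ[F] (ι → F) := fun i => T.flip (v i)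
  have hL : ∀ i x, L i x = T x (v i) := fun _ _ => rfl
  have hLinj : ∀ i, Function.Injective (L i) := fun i =>
    (injective_iff_map_eq_zero _).mpr fun x hx => (hinj x (v i) hx).resolve_right (hv0 i)
  let D : Fin k → Submodule F (ι → F) := fun i => LinearMap.range (L i)
  have hdim : ∀ i, Module.finrank F (D i) = n₁ := fun i => by
    rw [LinearMap.finrank_range_of_inj (hLinj i), Module.finrank_fin_fun]
  have hmapinj : ∀ g : GL ι F, Function.Injective (Matrix.toLin' (g : Matrix ι ι F)) := fun g =>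
    mulVec_injective_iff_isUnit.mpr g.isUnit
  have hstab : ∀ (g : GL ι F) (π : Equiv.Perm (Fin k)),
      (∀ i x, (g : Matrix ι ι F) *ᵥ T x (v i) ∈ D (π i)) → g ∈ decompositionStabilizer D := by
    intro g π h
    refine ⟨π, fun i => Submodule.eq_of_le_of_finrank_eq ?_ ?_⟩
    · rintro _ ⟨_, ⟨x, rfl⟩, rfl⟩
      rw [toLin'_apply, hL]
      exact h i x
    · rw [← (Submodule.equivMapOfInjective _ (hmapinj g) (D i)).finrank_eq, hdim, hdim]
  have hfix : ∀ w, φ w w = 0 → ∀ u, (tv (d • w) (leftVec φ w) : Matrix ι ι F) *ᵥ u =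
      u + φ u w • d • w := fun w hw u => by
    rw [tv_mulVec (by rw [dotProduct_smul, hs.dot_leftVec, hw, smul_zero]), hs.dot_leftVec]
  obtain ⟨x, hx⟩ := hs₁.exists_left_ne_zero hx00
  refine ⟨decompositionStabilizer D ⊓ I, ?_, ?_⟩
  · refine lt_of_le_of_ne (fun g hg => ⟨?_, hHI hg⟩) fun heq => ?_
    · obtain ⟨a, b, hab, π, hπ⟩ := hH g hg
      refine hstab g π fun i y => ?_
      obtain ⟨ε, -, hε⟩ := hπ i
      rw [hab, hε, map_smul]
      exact (D (π i)).smul_mem _ ⟨_, rfl⟩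
    · obtain ⟨w, hw⟩ : ∃ w, w = T x₀ (v i₀) := ⟨_, rfl⟩
      have hww : φ w w = 0 := by rw [hw, hform, hx₀, zero_mul, mul_zero]
      have hmem : tv (d • w) (leftVec φ w) ∈ decompositionStabilizer D ⊓ I := by
        refine ⟨hstab _ 1 fun i y => ?_, hI w hww⟩
        rw [hfix w hww, hw, hform, Equiv.Perm.one_apply]
        rcases eq_or_ne i i₀ with rfl | hi
        · exact (D i).add_mem ⟨y, rfl⟩ ((D i).smul_mem _ ((D i).smul_mem _ ⟨x₀, rfl⟩))
        · rw [horth i i₀ hi, mul_zero, mul_zero, zero_smul, add_zero]; exact ⟨y, rfl⟩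
      rw [← heq] at hmem
      obtain ⟨a, b, hab, -⟩ := hH _ hmem
      obtain ⟨κ, hκ⟩ : ∃ κ, κ =
          f₂ ((b : Matrix (Fin n₂) (Fin n₂) F) *ᵥ v i₁) (v i₁) / f₂ (v i₁) (v i₁) := ⟨_, rfl⟩
      have hax : ∀ y, κ • ((a : Matrix (Fin n₁) (Fin n₁) F) *ᵥ y) = y := by
        intro y
        by_contra hne
        obtain ⟨z, hz⟩ := (hs₁.nondegenerate _ (sub_ne_zero.mpr hne)).2
        have e0 := hab y (v i₁)
        rw [hfix w hww, hw, hform, horth i₁ i₀ (Ne.symm h01), mul_zero, mul_zero, zero_smul,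
          add_zero] at e0
        have e := congrArg (fun u => φ u (T z (v i₁))) e0
        simp only [hform] at e
        refine hz ?_
        rw [hs₁.sub_left, hs₁.smul_left, hκ, div_mul_eq_mul_div, sub_eq_zero,
          div_eq_iff (hval i₁)]
        exact mul_left_cancel₀ hc (by linear_combination -e)
      have hκ0 : κ ≠ 0 := fun h => hx00 (by rw [← hax x₀, h, zero_smul])
      obtain ⟨y₀, hy₀⟩ : ∃ y₀, y₀ = κ⁻¹ • ((b : Matrix (Fin n₂) (Fin n₂) F) *ᵥ v i₀) := ⟨_, rfl⟩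
      have hT : ∀ y, (tv (d • w) (leftVec φ w) : Matrix ι ι F) *ᵥ T y (v i₀) = T y y₀ := by
        intro y
        have e : ((a : Matrix (Fin n₁) (Fin n₁) F) *ᵥ y) = κ⁻¹ • y := by
          conv_rhs => rw [← hax y, inv_smul_smul₀ hκ0]
        rw [hab, hy₀, e, map_smul, map_smul, LinearMap.smul_apply]
      have e0 := hT x₀
      rw [hfix w hww, hw, hform, hx₀, zero_mul, mul_zero, zero_smul, add_zero] at e0
      have hy0 : y₀ = v i₀ := by
        have := hinj x₀ (v i₀ - y₀) (by rw [map_sub, e0, sub_self])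
        exact (sub_eq_zero.mp (this.resolve_left hx00)).symm
      have e1 := hT x
      rw [hfix w hww, hw, hy0, hform, add_eq_left, smul_eq_zero, smul_eq_zero] at e1
      rcases e1 with h | h | h
      · exact mul_ne_zero hc (mul_ne_zero hx (hval i₀)) h
      · exact hd h
      · exact ((hinj _ _ h).elim hx00 (hv0 i₀))
  · refine lt_of_le_of_ne inf_le_right fun heq => ?_
    obtain ⟨w, hw⟩ : ∃ w, w = T x₀ (v i₀ + v i₁) := ⟨_, rfl⟩
    have hww : φ w w = 0 := by rw [hw, hform, hx₀, zero_mul, mul_zero]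
    have hmem := hI w hww
    rw [← heq] at hmem
    obtain ⟨π, hπ⟩ := hmem.1
    obtain ⟨s, hs'⟩ : ∃ s, s = φ (T x (v i₀)) w * d := ⟨_, rfl⟩
    have hs0 : s ≠ 0 := by
      rw [hs', hw, map_add, hs.add_right, hform, hform, horth i₀ i₁ h01, mul_zero, mul_zero,
        add_zero]
      exact mul_ne_zero (mul_ne_zero hc (mul_ne_zero hx (hval i₀))) hd
    obtain ⟨z, hz⟩ : ∃ z, T x (v i₀) + s • T x₀ (v i₀ + v i₁) = T z (v (π i₀)) := by
      have : (tv (d • w) (leftVec φ w) : Matrix ι ι F) *ᵥ T x (v i₀) ∈ D (π i₀) := by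
        rw [← hπ i₀]; exact ⟨_, ⟨x, rfl⟩, by rw [toLin'_apply]; rfl⟩
      rw [hfix w hww, smul_smul, ← hs', hw] at this
      obtain ⟨z, hz⟩ := this
      exact ⟨z, hz.symm⟩
    have hpair : ∀ j y, c * (f₁ x y * f₂ (v i₀) (v j)) +
        s * (c * (f₁ x₀ y * f₂ (v i₀) (v j)) + c * (f₁ x₀ y * f₂ (v i₁) (v j))) =
        c * (f₁ z y * f₂ (v (π i₀)) (v j)) := by
      intro j y
      have e := congrArg (fun u => φ u (T y (v j))) hz
      simpa only [hs.add_left, hs.smul_left, map_add, hform] using e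
    rcases eq_or_ne (π i₀) i₀ with h | h
    · refine hx00 (by_contra fun h0 => ?_)
      obtain ⟨y, hy⟩ := (hs₁.nondegenerate x₀ h0).2
      have e := hpair i₁ y
      rw [h, horth i₀ i₁ h01] at e
      simp only [mul_zero, zero_add, mul_eq_zero, hs0, hc, hy, hval i₁, or_self] at e
    · refine hx ?_
      have hzero : ∀ y, f₁ x y + s * f₁ x₀ y = 0 := by
        intro y
        have e := hpair i₀ y
        rw [horth i₁ i₀ (Ne.symm h01), horth _ i₀ h] at e
        have e' : c * f₂ (v i₀) (v i₀) * (f₁ x y + s * f₁ x₀ y) = 0 := by linear_combination e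
        exact (mul_eq_zero.mp e').resolve_left (mul_ne_zero hc (hval i₀))
      linear_combination hzero x₀ - s * hx₀

end generic

/-- The tensor of two forms, semilinear version. -/
theorem form_tmul_sesq {ι : Type} [Fintype ι] [DecidableEq ι] {F : Type*} [Field F] {n₁ n₂ : ℕ}
    {σ : F ≃+* F} {τ : F → F} (hτ : ∀ a, τ a = σ a) {f : (ι → F) → (ι → F) → F}
    {f₁ : (Fin n₁ → F) → (Fin n₁ → F) → F} {f₂ : (Fin n₂ → F) → (Fin n₂ → F) → F}
    (h₁ : SesqForm σ f₁) (h₂ : SesqForm σ f₂)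
    {e : ι ≃ Fin n₁ × Fin n₂} {P : GL ι F} (hT : IsTensorFormStructure τ f f₁ f₂ e P) :
    ∃ c : F, c ≠ 0 ∧ ∀ x x' y y', f (TensorNonmax.tmul e P x y) (TensorNonmax.tmul e P x' y') =
      c * (f₁ x x' * f₂ y y') := by
  have hgram : ∀ {n : ℕ} {g : (Fin n → F) → (Fin n → F) → F}, SesqForm σ g → ∀ x y,
      g x y = ∑ a, ∑ b, x a * gramMatrix g a b * σ (y b) := by
    intro n g hg x y
    have hxe : ∀ x : Fin n → F, x = ∑ a, x a • Pi.single a (1 : F) := fun x => by
      rw [← (Pi.basisFun F (Fin n)).sum_repr x]; simp [Pi.basisFun_apply, Pi.single_apply]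
    conv_lhs => rw [hxe x]
    rw [show g (∑ a, x a • Pi.single a (1 : F)) y = ∑ a, g (x a • Pi.single a (1 : F)) y from
      map_sum (AddMonoidHom.mk' (fun x => g x y) fun a b => hg.add_left a b y) _ _]
    refine Finset.sum_congr rfl fun a _ => ?_
    rw [hg.smul_left]
    conv_lhs => rw [hxe y]
    rw [show g (Pi.single a (1 : F)) (∑ b, y b • Pi.single b (1 : F)) =
      ∑ b, g (Pi.single a (1 : F)) (y b • Pi.single b (1 : F)) from
      map_sum (AddMonoidHom.mk' (fun z => g (Pi.single a (1 : F)) z) fun u w =>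
        hg.add_right _ u w) _ _, Finset.mul_sum]
    refine Finset.sum_congr rfl fun b _ => ?_
    rw [hg.smul_right]
    simp only [gramMatrix]
    ring
  obtain ⟨c, hc, hf⟩ := hT
  refine ⟨c, hc, fun x x' y y' => ?_⟩
  rw [TensorNonmax.tmul_apply, TensorNonmax.tmul_apply, TensorNonmax.cvec_apply,
    TensorNonmax.cvec_apply, hf, hgram h₁, hgram h₂]
  congr 1
  simp only [formOfGram, Fintype.sum_prod_type, Matrix.kronecker_apply, hτ, map_mul]
  rw [Finset.sum_mul_sum]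
  refine Finset.sum_congr rfl fun i _ => Finset.sum_congr rfl fun j _ => ?_
  rw [Finset.sum_mul_sum]
  refine Finset.sum_congr rfl fun k _ => Finset.sum_congr rfl fun l _ => ?_
  ring

end CfsgLib.MaxSub
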