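import Cfsg.Agent.MaxSub.Subspace

/-!
# Coordinates attached to a decomposition into subspaces of equal dimension
-/

set_option autoImplicit false
set_option linter.unusedSectionVars false

namespace CfsgLib.MaxSub

open Matrix Cfsg.Geo

variable {ι : Type} [Fintype ι] [DecidableEq ι] {F : Type*} [Field F]

/-- A basis adapted to a decomposition together with the dual family of dot products. -/
theorem exists_decompCoords {t m : ℕ} {D : Fin t → Submodule F (ι → F)}
    (hD : IsMDecomposition m D) :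
    ∃ (b a : Fin t → Fin m → ι → F), (∀ i r, b i r ∈ D i) ∧
      (∀ i j r s, a i r ⬝ᵥ b j s = if i = j ∧ r = s then 1 else 0) ∧
      (∀ i j r, i ≠ j → ∀ x ∈ D j, a i r ⬝ᵥ x = 0) ∧
      ∀ x : ι → F, x = ∑ i, ∑ r, (a i r ⬝ᵥ x) • b i r := by
  classical
  have hint := DirectSum.isInternal_submodule_of_iSupIndep_of_iSup_eq_top hD.indep hD.iSup_eq_top
  let v : ∀ i, Module.Basis (Fin m) F (D i) := fun i =>
    Module.finBasisOfFinrankEq F (D i) (hD.finrank_eq i)
  let B := hint.collectedBasis v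
  let a : Fin t → Fin m → ι → F := fun i r => (dotProductEquiv F ι).symm (B.coord ⟨i, r⟩)
  have ha : ∀ i r x, a i r ⬝ᵥ x = B.repr x ⟨i, r⟩ := by
    intro i r x
    have e : (dotProductEquiv F ι (a i r)) x = B.coord ⟨i, r⟩ x := by
      simp only [a, LinearEquiv.apply_symm_apply]
    exact e
  have hB : ∀ i r, B ⟨i, r⟩ ∈ D i := fun i r => hint.collectedBasis_mem v ⟨i, r⟩
  refine ⟨fun i r => B ⟨i, r⟩, a, hB, fun i j r s => ?_, fun i j r hij x hx => ?_, fun x => ?_⟩
  · rw [ha, B.repr_self, Finsupp.single_apply]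
    by_cases h : i = j ∧ r = s
    · obtain ⟨rfl, rfl⟩ := h; simp
    · rw [if_neg h, if_neg]
      rintro ⟨⟩
      exact h ⟨rfl, rfl⟩
  · rw [ha, hint.collectedBasis_repr_of_mem_ne v (Ne.symm hij) hx]
  · conv_lhs => rw [← B.sum_repr x, Fintype.sum_sigma]
    simp only [ha]

theorem finrank_map_gl' (g : GL ι F) (W : Submodule F (ι → F)) :
    Module.finrank F (W.map (Matrix.toLin' (g : Matrix ι ι F))) = Module.finrank F W :=
  ((Submodule.equivMapOfInjective _ (mulVec_injective_iff_isUnit.mpr g.isUnit) W).finrank_eq).symm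

/-- How an element of the stabiliser acts on coordinates: the coordinates of `g *ᵥ x` in `σ i`
depend only on those of `x` in `i`. -/
theorem coords_of_stabilizes {t m : ℕ} {D : Fin t → Submodule F (ι → F)}
    {b a : Fin t → Fin m → ι → F} (hb : ∀ i r, b i r ∈ D i)
    (hzero : ∀ i j r, i ≠ j → ∀ x ∈ D j, a i r ⬝ᵥ x = 0)
    (hsum : ∀ x : ι → F, x = ∑ i, ∑ r, (a i r ⬝ᵥ x) • b i r) {g : GL ι F}
    {σ : Equiv.Perm (Fin t)} (hσ : ∀ i, (D i).map (Matrix.toLin' (g : Matrix ι ι F)) = D (σ i))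
    (x : ι → F) (i : Fin t) (s : Fin m) :
    a (σ i) s ⬝ᵥ ((g : Matrix ι ι F) *ᵥ x) =
      ∑ r, (a i r ⬝ᵥ x) * (a (σ i) s ⬝ᵥ ((g : Matrix ι ι F) *ᵥ b i r)) := by
  conv_lhs => rw [hsum x]
  simp only [mulVec_sum, mulVec_smul, dotProduct_sum, dotProduct_smul, smul_eq_mul]
  rw [Finset.sum_eq_single i]
  · intro j _ hji
    refine Finset.sum_eq_zero fun r _ => ?_
    rw [hzero (σ i) (σ j) s (fun h => hji (σ.injective h).symm) _ ?_, mul_zero]
    rw [← hσ j]
    exact ⟨b j r, hb j r, by rw [toLin'_apply]⟩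
  · intro h; exact absurd (Finset.mem_univ i) h

end CfsgLib.MaxSub
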