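import Cfsg.Agent.MaxSub.HermStandard
import Cfsg.Agent.MaxSub.Decomposition

/-!
# Decompositions into unitary planes over four elements are not maximal
-/

set_option autoImplicit false
set_option linter.unusedSectionVars false

namespace CfsgLib.MaxSub

open Matrix Cfsg.Geo

section general

variable {ι : Type} [Fintype ι] [DecidableEq ι] {F : Type*} [Field F]

theorem card_le_of_isMDecomposition {t m : ℕ} {D : Fin t → Submodule F (ι → F)}
    (hD : IsMDecomposition m D) : Fintype.card ι ≤ t * m := by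
  obtain ⟨b, a, -, -, -, hsum⟩ := exists_decompCoords hD
  have := finrank_dotsKer (fun k : Fin (t * m) =>
    a (finProdFinEquiv.symm k).1 (finProdFinEquiv.symm k).2)
  have hker : dotsKer (fun k : Fin (t * m) =>
      a (finProdFinEquiv.symm k).1 (finProdFinEquiv.symm k).2) = ⊥ := by
    rw [eq_bot_iff]
    intro x hx
    rw [mem_dotsKer] at hx
    rw [Submodule.mem_bot, hsum x]
    refine Finset.sum_eq_zero fun i _ => Finset.sum_eq_zero fun r _ => ?_
    have := hx (finProdFinEquiv (i, r))
    rw [Equiv.symm_apply_apply] at this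
    rw [this, zero_smul]
  rw [hker, finrank_bot] at this
  omega

/-- The matrices mapping the set `U` onto itself. -/
def setStab (U : Set (ι → F)) : Subgroup (GL ι F) where
  carrier := {g | ∀ x, (g : Matrix ι ι F) *ᵥ x ∈ U ↔ x ∈ U}
  one_mem' x := by simp
  mul_mem' {g h} hg hh x := by rw [Units.val_mul, ← mulVec_mulVec, hg, hh]
  inv_mem' {g} hg x := by
    have := hg (((g⁻¹ : GL ι F) : Matrix ι ι F) *ᵥ x)
    rwa [mulVec_mulVec, Units.mul_inv, one_mulVec, Iff.comm] at this

theorem mem_setStab {U : Set (ι → F)} {g : GL ι F} :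
    g ∈ setStab U ↔ ∀ x, (g : Matrix ι ι F) *ᵥ x ∈ U ↔ x ∈ U := Iff.rfl

end general

variable {F : Type*} [Field F] [Fintype F] {n : ℕ}

local notation "h₂" => Cfsg.hermForm n F 2

/-- Over four elements the stabiliser of a decomposition into unitary planes is contained in a
larger proper subgroup. -/
theorem not_maximal_unitaryPlanes (hn : 8 ≤ n) (hF : Fintype.card F = 4) {t : ℕ}
    {D : Fin t → Submodule F (Fin n → F)}
    (hD : IsNondegenerateMDecomposition (Cfsg.hermForm n F 2) 2 D) :
    ∃ K : Subgroup (GL (Fin n) F),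
      decompositionStabilizer D ⊓ (Cfsg.GU n F 2 ⊓ specialLinear (Fin n) F) < K ∧
        K < Cfsg.GU n F 2 ⊓ specialLinear (Fin n) F := by
  obtain ⟨σ, hne, hinv, hσ⟩ := exists_conjEquiv (F := F) (q := 2) (by rw [hF]; norm_num)
  have hf : IsUnitaryForm σ h₂ := isUnitaryForm_hermForm hne hinv hσ
  have hs := sesqForm_of_unitary hf
  have h20 : (2 : F) = 0 := by
    have h' := FiniteField.cast_card_eq_zero F
    rw [hF] at h'
    have h4 : (2 : F) * 2 = 0 := by
      rw [show (2 : F) * 2 = ((4 : ℕ) : F) by norm_num]; exact h'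
    exact mul_self_eq_zero.mp h4
  have hneg : ∀ x : F, -x = x := fun x => by linear_combination (-x) * h20
  have hone : σ (1 : F) = -1 := by rw [map_one, hneg]
  have hfix : ∀ x : Fin n → F, h₂ x x ≠ 0 → h₂ x x = 1 := by
    intro x hx
    have e := herm_self hf x
    rw [hσ] at e
    exact mul_left_cancel₀ hx (by rw [mul_one]; linear_combination e)
  have hnorm : ∀ c : F, c ≠ 0 → c * σ c = 1 := by
    intro c hc
    rw [hσ]
    have := FiniteField.pow_card_sub_one_eq_one c hc
    rw [hF] at this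
    linear_combination this
  have hexists : ∀ i, ∃ a ∈ D i, h₂ a a = 1 := by
    intro i
    by_contra hcon
    push Not at hcon
    have hiso : ∀ x ∈ D i, h₂ x x = 0 := fun x hx => by
      by_contra h
      exact hcon x hx (hfix x h)
    obtain ⟨x, hx, hx0⟩ := Submodule.exists_mem_ne_zero_of_ne_bot (p := D i) (fun h => by
      have := hD.decomp.finrank_eq i; rw [h, finrank_bot] at this; omega)
    obtain ⟨⟨z, hz, hzx⟩, -⟩ := hD.nondegenerate i x hx hx0
    obtain ⟨l, hl⟩ := trace_surjective hf.ne_refl hf.involutive (a := (1 : F)) (map_one σ)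
    have e := hiso _ ((D i).add_mem ((D i).smul_mem (l / h₂ z x) hz) hx)
    rw [hs.add_left, hs.add_right, hs.add_right, hs.smul_left, hs.smul_right, hs.smul_left,
      hs.smul_right, hiso z hz, hiso x hx, hf.herm x z, ← map_mul, div_mul_cancel₀ _ hzx] at e
    exact one_ne_zero (by linear_combination e - hl : (1 : F) = 0)
  choose a ha hnorma using hexists
  have horth : ∀ i j, i ≠ j → h₂ (a i) (a j) = 0 := fun i j hij =>
    hD.orthogonal i j hij _ (ha i) _ (ha j)
  -- the two non-isotropic points of a member are orthogonal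
  have hplane : ∀ i, ∀ x ∈ D i, h₂ x x ≠ 0 → h₂ x (a i) ≠ 0 → x = h₂ x (a i) • a i := by
    intro i x hx hxx hxa
    by_contra hne
    obtain ⟨y, hy⟩ : ∃ y, y = x - h₂ x (a i) • a i := ⟨_, rfl⟩
    have hy0 : y ≠ 0 := fun h => hne (sub_eq_zero.mp (hy.symm.trans h))
    have hyD : y ∈ D i := hy ▸ (D i).sub_mem hx ((D i).smul_mem _ (ha i))
    have hya : h₂ y (a i) = 0 := by
      rw [hy, hs.sub_left, hs.smul_left, hnorma, mul_one, sub_self]
    have hyy : h₂ y y = 0 := by
      have e : x = y + h₂ x (a i) • a i := by rw [hy, sub_add_cancel]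
      have hxx1 := hfix x hxx
      rw [e, hs.add_left, hs.add_right, hs.add_right, hs.smul_left, hs.smul_right, hs.smul_left,
        hs.smul_right, hya, unitary_orth_symm hf hya, hnorma, mul_one, hnorm _ hxa] at hxx1
      linear_combination hxx1
    have hli : LinearIndependent F ![y, a i] := by
      refine LinearIndependent.pair_iff.mpr fun p r hpr => ?_
      have e := congrArg (fun z => h₂ z (a i)) hpr
      simp only [hs.add_left, hs.smul_left, hya, hnorma, hs.zero_left, mul_zero, zero_add,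
        mul_one] at e
      refine ⟨?_, e⟩
      rw [e, zero_smul, add_zero] at hpr
      exact (smul_eq_zero.mp hpr).resolve_right hy0
    have hspan : Submodule.span F {y, a i} = D i := by
      refine Submodule.eq_of_le_of_finrank_eq
        (Submodule.span_le.mpr (by rintro z (rfl | rfl) <;> [exact hyD; exact ha i])) ?_
      have := finrank_span_eq_card hli
      rw [Matrix.range_cons, Matrix.range_cons, Matrix.range_empty, Set.union_empty,
        Set.singleton_union, Fintype.card_fin] at this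
      rw [this, hD.decomp.finrank_eq i]
    obtain ⟨-, z, hz, hzy⟩ := hD.nondegenerate i y hyD hy0
    rw [← hspan] at hz
    obtain ⟨p, r, rfl⟩ := Submodule.mem_span_pair.mp hz
    rw [hs.add_right, hs.smul_right, hs.smul_right, hyy, hya, mul_zero, mul_zero, add_zero] at hzy
    exact hzy rfl
  let U : Set (Fin n → F) := {x | h₂ x x ≠ 0 ∧ ∃ i, x ∈ D i}
  have ht : 4 ≤ t := by
    have := card_le_of_isMDecomposition hD.decomp
    rw [Fintype.card_fin] at this
    omega
  obtain ⟨i₀, i₁, i₂, i₃, h01, h02, h03, h12, h13, h23⟩ : ∃ i j k l : Fin t,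
      i ≠ j ∧ i ≠ k ∧ i ≠ l ∧ j ≠ k ∧ j ≠ l ∧ k ≠ l :=
    ⟨⟨0, by omega⟩, ⟨1, by omega⟩, ⟨2, by omega⟩, ⟨3, by omega⟩, by simp, by simp, by simp,
      by simp, by simp, by simp⟩
  refine ⟨setStab U ⊓ (Cfsg.GU n F 2 ⊓ specialLinear (Fin n) F), ?_, ?_⟩
  · refine lt_of_le_of_ne (fun g hg => ⟨?_, hg.2⟩) fun heq => ?_
    · have key : ∀ g ∈ decompositionStabilizer D ⊓ (Cfsg.GU n F 2 ⊓ specialLinear (Fin n) F),
          ∀ x ∈ U, (g : Matrix (Fin n) (Fin n) F) *ᵥ x ∈ U := by
        rintro g ⟨⟨τ, hτ⟩, hgu, -⟩ x ⟨hx, i, hxi⟩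
        refine ⟨by rw [mem_GU_iff_forall.mp hgu]; exact hx, τ i, ?_⟩
        rw [← hτ i]
        exact ⟨x, hxi, by rw [toLin'_apply]⟩
      intro x
      refine ⟨fun hx => ?_, key g hg x⟩
      have := key g⁻¹ (Subgroup.inv_mem _ hg) _ hx
      rwa [mulVec_mulVec, Units.inv_mul, one_mulVec] at this
    · obtain ⟨v, hv⟩ : ∃ v, v = a i₀ + a i₁ := ⟨_, rfl⟩
      have hvv : h₂ v v = 0 := by
        rw [hv, hs.add_left, hs.add_right, hs.add_right, hnorma, hnorma, horth _ _ h01,
          horth _ _ (Ne.symm h01)]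
        linear_combination h20
      obtain ⟨g, hg⟩ : ∃ g, g = tv ((1 : F) • v) (leftVec h₂ v) := ⟨_, rfl⟩
      have hgI := hermTv_mem hf hvv hone
      rw [← hg] at hgI
      have hgx : ∀ x, (g : Matrix (Fin n) (Fin n) F) *ᵥ x = x + h₂ x v • v := by
        intro x
        rw [hg, tv_mulVec (by rw [one_smul, hs.dot_leftVec, hvv]), hs.dot_leftVec, one_smul]
      have hgg : ∀ x, (g : Matrix (Fin n) (Fin n) F) *ᵥ ((g : Matrix (Fin n) (Fin n) F) *ᵥ x) = x := by
        intro x
        rw [hgx, hgx, hs.add_left, hs.smul_left, hvv, mul_zero, add_zero, add_assoc, ← two_smul F,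
          h20, zero_smul, add_zero]
      have hswap : ∀ p q : Fin t, p ≠ q → v = a p + a q → ∀ x ∈ D p, h₂ x x ≠ 0 →
          (g : Matrix (Fin n) (Fin n) F) *ᵥ x ∈ U := by
        intro p q hpq hv x hxD hxx
        have hxv : h₂ x v = h₂ x (a p) := by
          rw [hv, hs.add_right, hD.orthogonal p q hpq _ hxD _ (ha q), add_zero]
        rw [hgx, hxv]
        by_cases h0 : h₂ x (a p) = 0
        · rw [h0, zero_smul, add_zero]; exact ⟨hxx, p, hxD⟩
        · have e := hplane p x hxD hxx h0
          obtain ⟨c, hc⟩ : ∃ c, c = h₂ x (a p) := ⟨_, rfl⟩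
          rw [← hc] at e h0 ⊢
          have e2 : x + c • v = c • a q := by
            rw [e, hv, smul_add, ← add_assoc, ← two_smul F (c • a p), h20, zero_smul, zero_add]
          rw [e2]
          refine ⟨?_, q, (D q).smul_mem _ (ha q)⟩
          rw [hs.smul_left, hs.smul_right, hnorma, mul_one, hnorm _ h0]
          exact one_ne_zero
      have hgU : ∀ x ∈ U, (g : Matrix (Fin n) (Fin n) F) *ᵥ x ∈ U := by
        rintro x ⟨hxx, i, hxi⟩
        rcases eq_or_ne i i₀ with rfl | h0
        · exact hswap _ _ h01 hv x hxi hxx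
        rcases eq_or_ne i i₁ with rfl | h1
        · exact hswap _ _ (Ne.symm h01) (by rw [hv, add_comm]) x hxi hxx
        have : h₂ x v = 0 := by
          rw [hv, hs.add_right, hD.orthogonal i i₀ h0 _ hxi _ (ha i₀),
            hD.orthogonal i i₁ h1 _ hxi _ (ha i₁), add_zero]
        rw [hgx, this, zero_smul, add_zero]
        exact ⟨hxx, i, hxi⟩
      have hmem : g ∈ setStab U ⊓ (Cfsg.GU n F 2 ⊓ specialLinear (Fin n) F) :=
        ⟨fun x => ⟨fun hx => by simpa [hgg] using hgU _ hx, hgU x⟩, hgI⟩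
      rw [← heq] at hmem
      obtain ⟨⟨τ, hτ⟩, -⟩ := hmem
      obtain ⟨z, hz, hz0, hza⟩ : ∃ z ∈ D i₀, z ≠ 0 ∧ h₂ z (a i₀) = 0 := by
        by_contra hcon
        push Not at hcon
        have hle : D i₀ ≤ Submodule.span F {a i₀} := by
          intro x hx
          refine Submodule.mem_span_singleton.mpr ⟨h₂ x (a i₀), ?_⟩
          by_contra hne
          exact hcon (x - h₂ x (a i₀) • a i₀) ((D i₀).sub_mem hx ((D i₀).smul_mem _ (ha i₀)))
            (fun h => hne (sub_eq_zero.mp h).symm)
            (by rw [hs.sub_left, hs.smul_left, hnorma, mul_one, sub_self])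
        have h1 := Submodule.finrank_mono hle
        have h2 := finrank_span_le_card (R := F) ({a i₀} : Set (Fin n → F))
        rw [Set.toFinset_singleton, Finset.card_singleton] at h2
        have h3 := hD.decomp.finrank_eq i₀
        omega
      have himg : (g : Matrix (Fin n) (Fin n) F) *ᵥ (z + a i₀) = z + a i₁ := by
        have h1 : h₂ (z + a i₀) v = 1 := by
          rw [hv, hs.add_right, hs.add_left, hs.add_left, hza, hnorma,
            hD.orthogonal _ _ h01 _ hz _ (ha i₁), horth _ _ h01]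
          ring
        have h2 : a i₀ + a i₀ = 0 := by rw [← two_smul F (a i₀), h20, zero_smul]
        rw [hgx, h1, one_smul, hv, show z + a i₀ + (a i₀ + a i₁) = z + (a i₀ + a i₀) + a i₁ by abel,
          h2, add_zero]
      have hk : z + a i₁ ∈ D (τ i₀) := by
        rw [← hτ i₀, ← himg]
        exact ⟨z + a i₀, (D i₀).add_mem hz (ha i₀), by rw [toLin'_apply]⟩
      have e1 : τ i₀ = i₁ := by
        by_contra hne
        have := hD.orthogonal _ _ hne _ hk _ (ha i₁)
        rw [hs.add_left, hD.orthogonal _ _ h01 _ hz _ (ha i₁), hnorma, zero_add] at this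
        exact one_ne_zero this
      obtain ⟨-, w, hw, hzw⟩ := hD.nondegenerate i₀ z hz hz0
      have := hD.orthogonal _ _ (by rw [e1]; exact Ne.symm h01) _ hk _ hw
      rw [hs.add_left, hD.orthogonal _ _ (Ne.symm h01) _ (ha i₁) _ hw, add_zero] at this
      exact hzw this
  · refine lt_of_le_of_ne inf_le_right fun heq => ?_
    obtain ⟨v, hv⟩ : ∃ v, v = a i₀ + a i₁ + a i₂ + a i₃ := ⟨_, rfl⟩
    have hav : h₂ (a i₀) v = 1 := by
      rw [hv, hs.add_right, hs.add_right, hs.add_right, hnorma, horth _ _ h01, horth _ _ h02,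
        horth _ _ h03]
      ring
    have hvv : h₂ v v = 0 := by
      rw [hv]
      simp only [hs.add_left, hs.add_right, hnorma, horth _ _ h01, horth _ _ h02, horth _ _ h03,
        horth _ _ h12, horth _ _ h13, horth _ _ h23, horth _ _ (Ne.symm h01),
        horth _ _ (Ne.symm h02), horth _ _ (Ne.symm h03), horth _ _ (Ne.symm h12),
        horth _ _ (Ne.symm h13), horth _ _ (Ne.symm h23), add_zero, zero_add]
      linear_combination 2 * h20
    have hgI := hermTv_mem hf hvv hone
    rw [← heq] at hgI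
    obtain ⟨-, k, hk⟩ := (hgI.1 (a i₀)).mpr ⟨by rw [hnorma]; exact one_ne_zero, i₀, ha i₀⟩
    rw [tv_mulVec (by rw [one_smul, hs.dot_leftVec, hvv]), hs.dot_leftVec, one_smul, hav,
      one_smul] at hk
    have hcomp : ∀ i, h₂ (a i₀ + v) (a i) ≠ 0 → k = i := fun i hi =>
      not_not.mp fun hne => hi (hD.orthogonal _ _ hne _ hk _ (ha i))
    refine h12 ((hcomp i₁ ?_).symm.trans (hcomp i₂ ?_))
    · rw [hv]
      simp [hs.add_left, hnorma, horth _ _ h01, horth _ _ (Ne.symm h12), horth _ _ (Ne.symm h13)]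
    · rw [hv]
      simp [hs.add_left, hnorma, horth _ _ h02, horth _ _ h12, horth _ _ (Ne.symm h23)]

end CfsgLib.MaxSub
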