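import Cfsg.Agent.MaxSub.UnitarySimilarity
import Cfsg.Agent.FieldEmb.Basic

/-!
# The standard Hermitian form and its isometric transvections
-/

set_option autoImplicit false
set_option linter.unusedSectionVars false

namespace CfsgLib.MaxSub

open Matrix Cfsg.Geo

variable {F : Type*} [Field F] [Fintype F] {q n : ℕ}

/-- The `q`-th power map of a field with `q²` elements as an automorphism of order two. -/
theorem exists_conjEquiv (hF : Fintype.card F = q ^ 2) :
    ∃ σ : F ≃+* F, σ ≠ RingEquiv.refl F ∧ (∀ a, σ (σ a) = a) ∧ ∀ a, σ a = a ^ q := by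
  obtain ⟨σ₀, hσ, hσσ⟩ := CfsgLib.FieldEmb.exists_conj hF
  let σ : F ≃+* F :=
    { toFun := σ₀
      invFun := σ₀
      left_inv := hσσ
      right_inv := hσσ
      map_mul' := map_mul σ₀
      map_add' := map_add σ₀ }
  refine ⟨σ, fun hr => ?_, hσσ, hσ⟩
  have hall : ∀ a : F, a ^ q = a := fun a => by
    rw [← hσ]
    exact congrArg (fun τ : F ≃+* F => τ a) hr
  have hq : 1 < q := by
    have h1 := Fintype.one_lt_card (α := F)
    rw [hF] at h1
    by_contra hq
    interval_cases q <;> simp_all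
  classical
  have hsub : (Finset.univ : Finset F).val ⊆ (Polynomial.X ^ q - Polynomial.X : Polynomial F).roots :=
    fun x _ => by
      rw [Polynomial.mem_roots (FiniteField.X_pow_card_sub_X_ne_zero F hq)]
      simp [hall]
  have := Polynomial.card_le_degree_of_subset_roots hsub
  rw [Finset.card_univ, hF, FiniteField.X_pow_card_sub_X_natDegree_eq F hq] at this
  nlinarith

theorem isUnitaryForm_hermForm {σ : F ≃+* F} (hne : σ ≠ RingEquiv.refl F)
    (hinv : ∀ a, σ (σ a) = a) (hσ : ∀ a, σ a = a ^ q) :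
    IsUnitaryForm σ (Cfsg.hermForm n F q) := by
  refine ⟨hne, hinv, ?_, ?_, fun v w => ?_, fun v hv => ?_⟩
  · intro x y v
    simp only [Cfsg.hermForm, Pi.add_apply, add_mul, Finset.sum_add_distrib]
  · intro c x v
    simp only [Cfsg.hermForm, Pi.smul_apply, smul_eq_mul, Finset.mul_sum, mul_assoc]
  · simp only [Cfsg.hermForm, map_sum, map_mul, ← hσ, hinv]
    exact Finset.sum_congr rfl fun i _ => mul_comm _ _
  · obtain ⟨i, hi⟩ := Function.ne_iff.mp hv
    simp only [Pi.zero_apply] at hi
    refine ⟨⟨Pi.single i 1, ?_⟩, ⟨Pi.single i 1, ?_⟩⟩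
    · simp only [Cfsg.hermForm]
      rw [Finset.sum_eq_single i (fun j _ hj => by rw [Pi.single_eq_of_ne hj, zero_mul])
        (fun h => absurd (Finset.mem_univ i) h), Pi.single_eq_same, one_mul, ← hσ]
      simpa using hi
    · simp only [Cfsg.hermForm]
      rw [Finset.sum_eq_single i (fun j _ hj => by
        rw [Pi.single_eq_of_ne hj, ← hσ, map_zero, mul_zero])
        (fun h => absurd (Finset.mem_univ i) h), Pi.single_eq_same, one_pow, mul_one]
      exact hi

theorem mem_GU_iff_forall {g : GL (Fin n) F} :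
    g ∈ Cfsg.GU n F q ↔ ∀ u v, Cfsg.hermForm n F q ((g : Matrix (Fin n) (Fin n) F) *ᵥ u)
      ((g : Matrix (Fin n) (Fin n) F) *ᵥ v) = Cfsg.hermForm n F q u v :=
  Iff.rfl

/-- An isotropic transvection is a determinant one isometry of the standard Hermitian form. -/
theorem hermTv_mem {σ : F ≃+* F} (hf : IsUnitaryForm σ (Cfsg.hermForm n F q)) {v : Fin n → F}
    (hv : Cfsg.hermForm n F q v v = 0) {c : F} (hc : σ c = -c) :
    tv (c • v) (leftVec (Cfsg.hermForm n F q) v) ∈ Cfsg.GU n F q ⊓ specialLinear (Fin n) F := by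
  refine ⟨mem_GU_iff_forall.mpr ?_, tv_mem_specialLinear _ _⟩
  have hs := sesqForm_of_unitary hf
  have h0 : leftVec (Cfsg.hermForm n F q) v ⬝ᵥ (c • v) = 0 := by
    rw [dotProduct_smul, hs.dot_leftVec, hv, smul_zero]
  intro x y
  rw [tv_mulVec h0, tv_mulVec h0, hs.dot_leftVec, hs.dot_leftVec, hs.add_left, hs.add_right,
    hs.add_right, hs.smul_left, hs.smul_left, hs.smul_right, hs.smul_right, hs.smul_left,
    hs.smul_left, hs.smul_right, hs.smul_right, hv, hc, ← hf.herm v y]
  ring

end CfsgLib.MaxSub
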