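import Cfsg.Agent.AschbacherForms.StarReduction
import Cfsg.Agent.MaxSub.UnitaryBasic

/-!
# Comparing two forms preserved by one group

Representation of one sesquilinear form by another, proportionality for an absolutely irreducible
group, descent of a form to a subfield, and the rational structure of a unitary and a bilinear form
preserved by the same group.
-/

set_option autoImplicit false
set_option linter.unusedSectionVars false

namespace CfsgLib.MaxSub

open Matrix Cfsg.Geo CfsgLib.Aschbacher CfsgLib.AschbacherForms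

variable {ι : Type} [Fintype ι] [DecidableEq ι] {F : Type*} [Field F]

/-- Every vector-valued left linear functional is represented by a non-degenerate form. -/
theorem rep_right {σ : F ≃+* F} {ε : F} {f : (ι → F) → (ι → F) → F}
    (hf : IsReflexive σ ε f) (G : Matrix ι ι F) (w : ι → F) :
    ∀ u, f u (fun i => σ.symm ((((gramMatrix f)⁻¹ * G) *ᵥ w) i)) =
      u ⬝ᵥ (G *ᵥ w) := by
  intro u
  rw [hf.sesq.gram_eq]
  congr 1
  simp only [RingEquiv.apply_symm_apply]
  rw [mulVec_mulVec, ← mul_assoc, Matrix.mul_nonsing_inv _ hf.gram_det_unit, one_mul]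

/-- A sesquilinear form for the same automorphism is represented by a matrix. -/
theorem exists_rep_matrix {σ : F ≃+* F} {ε : F} {f h : (ι → F) → (ι → F) → F}
    (hf : IsReflexive σ ε f) (hh : IsSesq σ h) :
    ∃ M : Matrix ι ι F, ∀ u v, h u v = f u (M *ᵥ v) := by
  refine ⟨((gramMatrix f)⁻¹ * gramMatrix h).map σ.symm, fun u v => ?_⟩
  rw [hh.gram_eq, ← (rep_right hf (gramMatrix h) (fun i => σ (v i))) u]
  congr 1
  funext i
  simp [Matrix.mulVec, dotProduct, map_sum, map_mul]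

/-- Two forms with the same multipliers on an absolutely irreducible group are proportional. -/
theorem proportional_of_absIrred {σ : F ≃+* F} {ε : F} {f h : (ι → F) → (ι → F) → F}
    (hf : IsReflexive σ ε f) (hh : IsSesq σ h) {R : Subgroup (GL ι F)}
    (hR : ActsAbsolutelyIrreducibly (matrixSet R))
    (hμ : ∀ x ∈ R, ∃ μ : F, μ ≠ 0 ∧ (∀ u v, f (mat x *ᵥ u) (mat x *ᵥ v) = μ * f u v) ∧
      ∀ u v, h (mat x *ᵥ u) (mat x *ᵥ v) = μ * h u v) :
    ∃ c : F, ∀ u v, h u v = c * f u v := by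
  obtain ⟨M, hM⟩ := exists_rep_matrix hf hh
  obtain ⟨c, hc⟩ := commute_of_absIrred hR (M := M) fun x hx => by
    obtain ⟨μ, -, hfx, hhx⟩ := hμ x hx
    refine Matrix.toLin'.injective (LinearMap.ext fun v => ?_)
    rw [Matrix.toLin'_apply, Matrix.toLin'_apply, ← mulVec_mulVec, ← mulVec_mulVec]
    refine hf.ext_right fun u => ?_
    rw [← mulVec_inv_mulVec x u, ← hM, hhx, hM, hfx]
  refine ⟨σ c, fun u v => ?_⟩
  rw [hM, hc, Matrix.smul_mulVec, one_mulVec, hf.sesq.smul_right]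

/-- A group with multipliers in a subfield and entries in that subfield makes a multiple of the
Gram matrix rational. -/
theorem exists_rational_form {σ : F ≃+* F} {ε : F} {f : (ι → F) → (ι → F) → F} [Nonempty ι]
    (hf : IsReflexive σ ε f) {F₁ : Subfield F} (hσF : ∀ c ∈ F₁, σ c ∈ F₁) {R : Subgroup (GL ι F)}
    (hR : ActsAbsolutelyIrreducibly (matrixSet R)) {B : GL ι F}
    (hB : ∀ x ∈ R, ∀ i j, (mat B * mat x * mat B⁻¹) i j ∈ F₁)
    (hμ : ∀ x ∈ R, ∃ μ : F, μ ≠ 0 ∧ μ ∈ F₁ ∧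
      ∀ u v, f (mat x *ᵥ u) (mat x *ᵥ v) = μ * f u v) :
    ∃ c : F, c ≠ 0 ∧ IsFormRationalStructure f F₁ c B⁻¹ := by
  obtain ⟨G', hG'⟩ : ∃ G', G' = (mat B⁻¹)ᵀ * gramMatrix f * (mat B⁻¹).map σ := ⟨_, rfl⟩
  have hcoord : ∀ u v, f (mat B⁻¹ *ᵥ u) (mat B⁻¹ *ᵥ v) = u ⬝ᵥ (G' *ᵥ fun i => σ (v i)) := fun u v => by
    rw [hG', hf.sesq.gram_transform]
  obtain ⟨i₀, j₀, hij⟩ : ∃ i j, G' i j ≠ 0 := by
    by_contra hall
    push Not at hall
    obtain ⟨v, hv⟩ := exists_ne (0 : ι → F)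
    obtain ⟨x, hx⟩ := (hf.nondegenerate v hv).1
    apply hx
    rw [← inv_mulVec_mulVec B x, ← inv_mulVec_mulVec B v, hcoord,
      show G' = 0 from Matrix.ext hall, zero_mulVec, dotProduct_zero]
  obtain ⟨φ, hφ, -⟩ := Submodule.exists_dual_map_eq_bot_of_notMem
    (R := F₁) (p := (⊥ : Submodule F₁ F)) (x := G' i₀ j₀) (by simpa using hij) inferInstance
  obtain ⟨X, hXdef⟩ : ∃ X : Matrix ι ι F, X = fun i j => (φ (G' i j) : F) := ⟨_, rfl⟩
  have e1 : ∀ a : F, a ∈ F₁ → ∀ b : F, (φ (a * b) : F) = a * (φ b : F) := fun a ha b => by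
    have : φ ((⟨a, ha⟩ : F₁) • b) = (⟨a, ha⟩ : F₁) * φ b := φ.map_smul _ b
    exact congrArg Subtype.val this
  -- values of the transported form
  have hgram : ∀ (M : Matrix ι ι F) i j,
      (Mᵀ * X * M.map σ) i j = ∑ l, ∑ k, M k i * σ (M l j) * X k l := fun M i j => by
    simp only [Matrix.mul_apply, Finset.sum_mul, Matrix.transpose_apply, Matrix.map_apply]
    exact Finset.sum_congr rfl fun l _ => Finset.sum_congr rfl fun k _ => by ring
  have hinv : ∀ x ∈ R, ∀ μ : F, μ ∈ F₁ → (∀ u v, f (mat x *ᵥ u) (mat x *ᵥ v) = μ * f u v) →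
      (mat B * mat x * mat B⁻¹)ᵀ * X * (mat B * mat x * mat B⁻¹).map σ = μ • X := by
    intro x hx μ hμF hfx
    have hG : (mat B * mat x * mat B⁻¹)ᵀ * G' * (mat B * mat x * mat B⁻¹).map σ = μ • G' := by
      have e : mat B⁻¹ * (mat B * mat x * mat B⁻¹) = mat x * mat B⁻¹ := by
        rw [← mul_assoc, ← mul_assoc, mat_inv_mul, one_mul]
      have h1 := hf.sesq.gram_of_eq (c := μ) (g := mat x) hfx
      calc (mat B * mat x * mat B⁻¹)ᵀ * G' * (mat B * mat x * mat B⁻¹).map σ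
          = (mat B⁻¹ * (mat B * mat x * mat B⁻¹))ᵀ * gramMatrix f *
              (mat B⁻¹ * (mat B * mat x * mat B⁻¹)).map σ := by
            rw [hG', Matrix.transpose_mul (mat B⁻¹), map_mat_mul σ (mat B⁻¹)]
            simp only [mul_assoc]
        _ = (mat B⁻¹)ᵀ * ((mat x)ᵀ * gramMatrix f * (mat x).map σ) * (mat B⁻¹).map σ := by
            rw [e, Matrix.transpose_mul, map_mat_mul]; simp only [mul_assoc]
        _ = μ • G' := by rw [h1, Matrix.mul_smul, Matrix.smul_mul, hG']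
    have hAF := hB x hx
    generalize mat B * mat x * mat B⁻¹ = A at hAF hG ⊢
    ext i j
    have hGij : (Aᵀ * G' * A.map σ) i j = ∑ l, ∑ k, A k i * σ (A l j) * G' k l := by
      simp only [Matrix.mul_apply, Finset.sum_mul, Matrix.transpose_apply, Matrix.map_apply]
      exact Finset.sum_congr rfl fun l _ => Finset.sum_congr rfl fun k _ => by ring
    rw [hgram, Matrix.smul_apply, smul_eq_mul]
    have e := congrArg (fun M : Matrix ι ι F => (φ (M i j) : F)) hG
    simp only [hGij, map_sum, AddSubmonoidClass.coe_finsetSum, Matrix.smul_apply, smul_eq_mul,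
      e1 μ hμF] at e
    simp only [hXdef]
    rw [← e]
    refine Finset.sum_congr rfl fun l _ => Finset.sum_congr rfl fun k _ => ?_
    exact (e1 _ (F₁.mul_mem (hAF k i) (hσF _ (hAF l j))) _).symm
  let h : (ι → F) → (ι → F) → F := fun u v =>
    (mat B *ᵥ u) ⬝ᵥ (X *ᵥ fun i => σ ((mat B *ᵥ v) i))
  have hh : IsSesq σ h := by
    refine ⟨fun a b v => ?_, fun c a v => ?_, fun v a b => ?_, fun c v a => ?_⟩
    · simp only [h, mulVec_add, add_dotProduct]
    · simp only [h, mulVec_smul, smul_dotProduct, smul_eq_mul]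
    · simp only [h, mulVec_add, Pi.add_apply, map_add]
      rw [show (fun i => σ ((mat B *ᵥ a) i) + σ ((mat B *ᵥ b) i)) =
        (fun i => σ ((mat B *ᵥ a) i)) + fun i => σ ((mat B *ᵥ b) i) from rfl, mulVec_add,
        dotProduct_add]
    · simp only [h, mulVec_smul, Pi.smul_apply, smul_eq_mul, map_mul]
      rw [show (fun i => σ c * σ ((mat B *ᵥ a) i)) = σ c • fun i => σ ((mat B *ᵥ a) i) from rfl,
        mulVec_smul, dotProduct_smul, smul_eq_mul]
  obtain ⟨c, hc⟩ := proportional_of_absIrred hf hh hR fun x hx => by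
    obtain ⟨μ, hμ0, hμF, hfx⟩ := hμ x hx
    refine ⟨μ, hμ0, hfx, fun u v => ?_⟩
    have h1 := hinv x hx μ hμF hfx
    have e2 : ∀ w : ι → F, mat B *ᵥ (mat x *ᵥ w) =
        (mat B * mat x * mat B⁻¹) *ᵥ (mat B *ᵥ w) := fun w => by
      rw [mulVec_mulVec, mulVec_mulVec, mul_assoc _ (mat B⁻¹), mat_inv_mul, mul_one]
    simp only [h, e2]
    generalize mat B * mat x * mat B⁻¹ = A at h1 ⊢
    rw [show (fun i => σ ((A *ᵥ (mat B *ᵥ v)) i)) = A.map σ *ᵥ fun i => σ ((mat B *ᵥ v) i) from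
        funext fun i => by simp [Matrix.mulVec, dotProduct, map_sum, map_mul],
      ← Matrix.vecMul_transpose, ← dotProduct_mulVec, mulVec_mulVec, mulVec_mulVec,
      h1, Matrix.smul_mulVec, dotProduct_smul, smul_eq_mul]
  have key : ∀ u v, u ⬝ᵥ (X *ᵥ fun i => σ (v i)) = c * f (mat B⁻¹ *ᵥ u) (mat B⁻¹ *ᵥ v) := fun u v => by
    have := hc (mat B⁻¹ *ᵥ u) (mat B⁻¹ *ᵥ v)
    simp only [h, mulVec_inv_mulVec] at this
    exact this
  refine ⟨c, fun h0 => hφ ?_, fun u v hu hv => ?_⟩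
  · have := key (Pi.single i₀ 1) (Pi.single j₀ 1)
    rw [h0, zero_mul, show (fun i => σ ((Pi.single j₀ (1 : F) : ι → F) i)) = Pi.single j₀ 1 from
      funext fun i => by rcases eq_or_ne i j₀ with rfl | hi <;> simp [*]] at this
    rw [Matrix.mulVec_single_one, single_dotProduct, one_mul, hXdef] at this
    exact Subtype.ext this
  · rw [← key]
    refine F₁.sum_mem fun i _ => F₁.mul_mem (hu i) (F₁.sum_mem fun j _ => F₁.mul_mem ?_ (hσF _ (hv j)))
    rw [hXdef]
    exact (φ (G' i j)).2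

section Descent

variable {σ : F ≃+* F} {ε : F} {f : (ι → F) → (ι → F) → F}

/-- A group normalising an absolutely irreducible group realisable over a proper subfield lies in a
subfield group of prime index carrying the form up to a scalar. -/
theorem exists_form_subfield [Fintype F] [Nonempty ι] (hf : IsReflexive σ ε f)
    (hσ : ∃ N : ℕ, ∀ a, σ a = a ^ N) {F₀ : Subfield F} (h0 : F₀ ≠ ⊤) {H R : Subgroup (GL ι F)}
    (hn : Normalizes H R) (hR : ActsAbsolutelyIrreducibly (matrixSet R))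
    (hreal : RealisableOver F₀ (matrixSet R))
    (hμ : ∀ x ∈ R, ∃ μ : F, μ ≠ 0 ∧ μ ∈ F₀ ∧
      ∀ u v, f (mat x *ᵥ u) (mat x *ᵥ v) = μ * f u v) :
    ∃ (F₁ : Subfield F) (s : ℕ) (P : GL ι F) (c : F), s.Prime ∧
      Fintype.card F = Nat.card F₁ ^ s ∧ c ≠ 0 ∧ IsFormRationalStructure f F₁ c P ∧
      H ≤ subfieldSubgroup F₁ P := by
  obtain ⟨F₁, s, hs, hle, hcard⟩ := exists_prime_index_subfield h0
  obtain ⟨B, hB⟩ := hreal
  obtain ⟨N, hN⟩ := hσ
  have hB₁ : ∀ x ∈ R, ∀ i j, (mat B * mat x * mat B⁻¹) i j ∈ F₁ := fun x hx i j =>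
    hle (hB _ (mem_matrixSet hx) i j)
  obtain ⟨c, hc, hP⟩ := exists_rational_form hf (fun a ha => by rw [hN]; exact F₁.pow_mem ha N) hR hB₁
    fun x hx => by
      obtain ⟨μ, h1, h2, h3⟩ := hμ x hx
      exact ⟨μ, h1, hle h2, h3⟩
  exact ⟨F₁, s, B⁻¹, c, hs, hcard, hc, hP, normalizer_le_subfield hR hB₁ hn⟩

/-- The case of isometries. -/
theorem exists_form_subfield_of_fixes [Fintype F] [Nonempty ι] (hf : IsReflexive σ ε f)
    (hσ : ∃ N : ℕ, ∀ a, σ a = a ^ N) {F₀ : Subfield F} (h0 : F₀ ≠ ⊤) {H R : Subgroup (GL ι F)}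
    (hn : Normalizes H R) (hR : ActsAbsolutelyIrreducibly (matrixSet R))
    (hreal : RealisableOver F₀ (matrixSet R)) (hfix : FixesForm (matrixSet R) f) :
    ∃ (F₁ : Subfield F) (s : ℕ) (P : GL ι F) (c : F), s.Prime ∧
      Fintype.card F = Nat.card F₁ ^ s ∧ c ≠ 0 ∧ IsFormRationalStructure f F₁ c P ∧
      H ≤ subfieldSubgroup F₁ P :=
  exists_form_subfield hf hσ h0 hn hR hreal fun x hx =>
    ⟨1, one_ne_zero, F₀.one_mem, fun u v => by rw [one_mul]; exact hfix _ (mem_matrixSet hx) u v⟩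

end Descent

section Semilinear

variable {σ : F ≃+* F} {ε : F} {f : (ι → F) → (ι → F) → F}

/-- The fixed field of an involution of a finite field has index two. -/
theorem card_fixedField [Fintype F] (hne : σ ≠ RingEquiv.refl F) (hinv : ∀ a, σ (σ a) = a) :
    Fintype.card F = Nat.card ((σ.toRingHom).eqLocusField (RingHom.id F)) ^ 2 := by
  obtain ⟨d, hd⟩ := exists_moved hne
  let K := (σ.toRingHom).eqLocusField (RingHom.id F)
  have hK : ∀ a, a ∈ K ↔ σ a = a := fun a => Iff.rfl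
  have hd' : σ d - d ≠ 0 := sub_ne_zero.2 hd
  let Φ : K × K → F := fun p => p.1.1 + p.2.1 * d
  have hbij : Function.Bijective Φ := by
    constructor
    · rintro ⟨a, b⟩ ⟨a', b'⟩ h
      simp only [Φ] at h
      have h' := congrArg σ h
      rw [map_add, map_add, map_mul, map_mul, (hK _).1 a.2, (hK _).1 b.2, (hK _).1 a'.2,
        (hK _).1 b'.2] at h'
      have hb : b.1 = b'.1 := mul_right_cancel₀ hd' (by linear_combination h' - h)
      refine Prod.ext (Subtype.ext ?_) (Subtype.ext hb)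
      rw [hb] at h
      exact add_right_cancel h
    · intro x
      obtain ⟨b, hb⟩ : ∃ b, b = (σ x - x) / (σ d - d) := ⟨_, rfl⟩
      have hbK : σ b = b := by
        rw [hb, map_div₀, map_sub, map_sub, hinv, hinv, ← neg_sub, ← neg_sub (σ d), neg_div_neg_eq]
      refine ⟨(⟨x - b * d, (hK _).2 ?_⟩, ⟨b, (hK _).2 hbK⟩), by simp [Φ]⟩
      rw [map_sub, map_mul, hbK]
      have : b * (σ d - d) = σ x - x := by rw [hb, div_mul_cancel₀ _ hd']
      linear_combination -this
  rw [← Nat.card_eq_fintype_card, ← Nat.card_eq_of_bijective Φ hbij, Nat.card_prod, sq]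

theorem fixedField_ne_top (hne : σ ≠ RingEquiv.refl F) :
    (σ.toRingHom).eqLocusField (RingHom.id F) ≠ ⊤ := by
  intro h
  obtain ⟨d, hd⟩ := exists_moved hne
  exact hd (h.ge (Subfield.mem_top d))

/-- Hilbert 90 for an involution. -/
theorem exists_hilbert90 (hne : σ ≠ RingEquiv.refl F) (hinv : ∀ a, σ (σ a) = a) {c : F}
    (hc : c * σ c = 1) : ∃ w : F, w ≠ 0 ∧ c * σ w = w := by
  obtain ⟨l, hl⟩ : ∃ l, l + c * σ l ≠ 0 := by
    by_contra hall
    push Not at hall
    refine hne (RingEquiv.ext fun a => ?_)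
    have h1 := hall 1
    rw [map_one, mul_one] at h1
    show σ a = a
    linear_combination σ a * h1 - hall a
  refine ⟨_, hl, ?_⟩
  rw [map_add, map_mul, hinv]
  linear_combination l * hc

/-- The semilinear map comparing a bilinear form with a sesquilinear one. -/
structure IsCompare (σ : F ≃+* F) (f b : (ι → F) → (ι → F) → F) (J : (ι → F) → (ι → F)) :
    Prop where
  rep : ∀ u v, b u v = f u (J v)
  add : ∀ u v, J (u + v) = J u + J v
  smul : ∀ (c : F) v, J (c • v) = σ c • J v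

theorem exists_compare (hf : IsReflexive σ ε f) {b : (ι → F) → (ι → F) → F}
    (hb : IsBilinearForm b) : ∃ J, IsCompare σ f b J := by
  refine ⟨fun v i => σ.symm ((((gramMatrix f)⁻¹ * gramMatrix b) *ᵥ v) i), fun u v => ?_,
    fun u v => ?_, fun c v => ?_⟩
  · rw [rep_right hf (gramMatrix b) v u, (isSesq_of_bilinear hb).gram_eq]
    rfl
  · funext i
    simp [mulVec_add]
  · funext i
    have hsymm : σ.symm c = σ c := σ.injective (by rw [RingEquiv.apply_symm_apply, hf.invol])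
    simp [mulVec_smul, hsymm]

theorem IsCompare.comm {b : (ι → F) → (ι → F) → F} {J : (ι → F) → (ι → F)}
    (hJ : IsCompare σ f b J) (hf : IsReflexive σ ε f) {g : GL ι F}
    (hg : ∀ u v, f (mat g *ᵥ u) (mat g *ᵥ v) = f u v) {ν : F}
    (hν : ∀ u v, b (mat g *ᵥ u) (mat g *ᵥ v) = ν * b u v) (v : ι → F) :
    J (mat g *ᵥ v) = σ ν • (mat g *ᵥ J v) := by
  refine hf.ext_right fun u => ?_
  rw [← mulVec_inv_mulVec g u, ← hJ.rep, hν, hf.sesq.smul_right, hf.invol, hg, hJ.rep]

/-- If the square of the comparing map is scalar on a group normalising both forms, the group lies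
in a subfield group of index two on which both forms agree up to a scalar. -/
theorem exists_index_two [Fintype F] [Nonempty ι] (hf : IsReflexive σ 1 f)
    (hne : σ ≠ RingEquiv.refl F) {b : (ι → F) → (ι → F) → F} (hb : IsBilinearForm b)
    (hbn : IsNondegenerateForm b) {δ : F} (hδ : ∀ u v, b v u = δ * b u v)
    {H : Subgroup (GL ι F)} (hfix : FixesForm (matrixSet H) f) (hsim : H ≤ similarityGroup b)
    {J : (ι → F) → (ι → F)} (hJ : IsCompare σ f b J) {l : F} (hJJ : ∀ v, J (J v) = l • v) :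
    ∃ (F₀ : Subfield F) (P : GL ι F), F₀ ≠ ⊤ ∧ Fintype.card F = Nat.card F₀ ^ 2 ∧
      (∀ a, a ∈ F₀ ↔ σ a = a) ∧ H ≤ subfieldSubgroup F₀ P ∧
      (∀ u v, (∀ i, u i ∈ F₀) → (∀ i, v i ∈ F₀) →
        σ (f (mat P *ᵥ u) (mat P *ᵥ v)) = δ * f (mat P *ᵥ u) (mat P *ᵥ v)) ∧
      ((∀ v, b v v = 0) → ∀ u, (∀ i, u i ∈ F₀) → f (mat P *ᵥ u) (mat P *ᵥ u) = 0) ∧
      ((∀ h ∈ H, ∀ u v, b (mat h *ᵥ u) (mat h *ᵥ v) = b u v) →
        RealisableOver F₀ (matrixSet H)) := by
  classical
  -- normalise to an involution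
  have hJ0 : J 0 = 0 := by simpa using hJ.smul 0 0
  have hJinj : ∀ v, J v = 0 → v = 0 := by
    intro v hv
    by_contra hv0
    obtain ⟨x, hx⟩ := (hbn v hv0).1
    exact hx (by rw [hJ.rep, hv, hf.zero_right])
  have hl : σ l = l ∧ l ≠ 0 := by
    obtain ⟨v, hv⟩ := exists_ne (0 : ι → F)
    have h1 : σ l • J v = l • J v := by rw [← hJ.smul, ← hJJ v, hJJ]
    refine ⟨?_, fun h0 => hv (hJinj _ (hJinj _ (by rw [hJJ, h0, zero_smul])))⟩
    have h2 : (σ l - l) • J v = 0 := by rw [sub_smul, h1, sub_self]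
    exact sub_eq_zero.1 ((smul_eq_zero.1 h2).resolve_right fun h => hv (hJinj v h))
  obtain ⟨s, hs⟩ := norm_surjective hne hf.invol (a := l⁻¹) (by rw [map_inv₀, hl.1])
  let J' : (ι → F) → (ι → F) := fun v => s • J v
  have hJ'add : ∀ u v, J' (u + v) = J' u + J' v := fun u v => by simp only [J', hJ.add, smul_add]
  have hJ'smul : ∀ (c : F) v, J' (c • v) = σ c • J' v := fun c v => by
    simp only [J', hJ.smul, smul_smul]; rw [mul_comm]
  have hJ'2 : ∀ v, J' (J' v) = v := fun v => by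
    simp only [J', hJ.smul, hJJ, smul_smul]
    rw [← mul_assoc, hs, inv_mul_cancel₀ hl.2, one_smul]
  obtain ⟨F₀, hF₀⟩ : ∃ F₀, F₀ = (σ.toRingHom).eqLocusField (RingHom.id F) := ⟨_, rfl⟩
  have hmem : ∀ a, a ∈ F₀ ↔ σ a = a := fun a => by rw [hF₀]; rfl
  -- a basis of fixed vectors
  obtain ⟨d, hd⟩ := exists_moved hne
  let X : Set (ι → F) := {v | J' v = v}
  have hspan : Submodule.span F X = ⊤ := by
    rw [eq_top_iff]
    rintro v -
    have hx : ∀ w, w + J' w ∈ Submodule.span F X := fun w =>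
      Submodule.subset_span (show J' (w + J' w) = w + J' w by rw [hJ'add, hJ'2, add_comm])
    have h3 : (σ d - d) • v ∈ Submodule.span F X := by
      have := Submodule.sub_mem _ (Submodule.smul_mem _ (σ d) (hx v)) (hx (d • v))
      convert this using 1
      rw [hJ'smul, sub_smul, smul_add]
      abel
    exact (Submodule.smul_mem_iff _ (sub_ne_zero.2 hd)).1 h3
  let B₀ := Module.Basis.ofSpan hspan.ge
  obtain ⟨eB⟩ : Nonempty (ι ≃ ((linearIndepOn_empty F (id : (ι → F) → _)).extend (Set.empty_subset X))) :=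
    ⟨(Pi.basisFun F ι).indexEquiv B₀⟩
  let Bs := B₀.reindex eB.symm
  have hBsX : ∀ i, J' (Bs i) = Bs i := fun i => by
    rw [Module.Basis.reindex_apply]
    exact Module.Basis.ofSpan_subset hspan.ge ⟨_, rfl⟩
  let Pm : Matrix ι ι F := Matrix.of fun k i => Bs i k
  have hPm : IsUnit Pm := Matrix.linearIndependent_cols_iff_isUnit.1 Bs.linearIndependent
  obtain ⟨P, hP⟩ : ∃ P : GL ι F, mat P = Pm := ⟨hPm.unit, rfl⟩
  have hJP : ∀ x : ι → F, J' (mat P *ᵥ x) = mat P *ᵥ fun i => σ (x i) := by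
    intro x
    have hexp : ∀ y : ι → F, mat P *ᵥ y = ∑ i, y i • Bs i := fun y => by
      funext k
      rw [hP, Finset.sum_apply]
      simp [Pm, Matrix.mulVec, dotProduct, mul_comm]
    rw [hexp, hexp]
    let Jh : (ι → F) →+ (ι → F) := AddMonoidHom.mk' J' hJ'add
    rw [show J' (∑ i, x i • Bs i) = Jh (∑ i, x i • Bs i) from rfl, map_sum]
    exact Finset.sum_congr rfl fun i _ => by
      show J' (x i • Bs i) = _
      rw [hJ'smul, hBsX]
  have hfixed : ∀ u : ι → F, (∀ i, u i ∈ F₀) → J' (mat P *ᵥ u) = mat P *ᵥ u := fun u hu => by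
    rw [hJP, show (fun i => σ (u i)) = u from funext fun i => (hmem _).1 (hu i)]
  have hrel : ∀ u v : ι → F, (∀ i, v i ∈ F₀) →
      f (mat P *ᵥ u) (mat P *ᵥ v) = σ s * b (mat P *ᵥ u) (mat P *ᵥ v) := fun u v hv => by
    rw [hJ.rep, ← hf.sesq.smul_right]
    exact congrArg (f _) (hfixed v hv).symm
  -- the entries of the elements
  have hentry : ∀ h ∈ H, ∀ ν : F, (∀ u v, b (mat h *ᵥ u) (mat h *ᵥ v) = ν * b u v) → ∀ w : F,
      σ ν * σ w = w → ∀ i j, w * (mat P⁻¹ * mat h * mat P) i j ∈ F₀ := by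
    intro h hh ν hν w hw i j
    have hc := hJ.comm hf (fun u v => hfix _ (mem_matrixSet hh) u v) hν
    obtain ⟨x, hx⟩ : ∃ x, x = w • ((mat P⁻¹ * mat h * mat P) *ᵥ Pi.single j 1) := ⟨_, rfl⟩
    have e0 : ∀ y, mat P *ᵥ ((mat P⁻¹ * mat h * mat P) *ᵥ y) = mat h *ᵥ (mat P *ᵥ y) := fun y => by
      rw [← mulVec_mulVec, ← mulVec_mulVec, mulVec_inv_mulVec]
    have h1 : J' (mat P *ᵥ x) = mat P *ᵥ x := by
      rw [hx, mulVec_smul, e0, hJ'smul]
      have h2 : J' (mat P *ᵥ Pi.single j 1) = mat P *ᵥ Pi.single j 1 :=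
        hfixed _ fun i => by rcases eq_or_ne i j with rfl | hij <;> simp [*]
      have h3 : s • (mat h *ᵥ J (mat P *ᵥ Pi.single j 1)) = mat h *ᵥ (mat P *ᵥ Pi.single j 1) := by
        rw [← mulVec_smul]; exact congrArg _ h2
      simp only [J', hc, smul_smul]
      rw [show σ w * (s * σ ν) = w * s by linear_combination s * hw, ← smul_smul, h3]
    rw [hJP] at h1
    have h4 := congrFun (mulVec_injective P h1) i
    rw [hx] at h4
    simp only [Pi.smul_apply, Matrix.mulVec_single_one, smul_eq_mul] at h4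
    rw [hmem]
    exact h4
  refine ⟨F₀, P, hF₀ ▸ fixedField_ne_top hne, hF₀ ▸ card_fixedField hne hf.invol, hmem,
    fun h hh => ?_, fun u v hu hv => ?_, fun halt u hu => ?_, fun hiso => ?_⟩
  · obtain ⟨ν, hν⟩ := hsim hh
    have hc := hJ.comm hf (fun u v => hfix _ (mem_matrixSet hh) u v) hν
    have hνν : σ (ν : F) * σ (σ (ν : F)) = 1 := by
      obtain ⟨v, hv⟩ := exists_ne (0 : ι → F)
      have h1 : J (J (mat h *ᵥ v)) = (σ (σ (ν : F)) * σ (ν : F)) • (mat h *ᵥ J (J v)) := by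
        rw [hc, hJ.smul, hc, smul_smul]
      rw [hJJ, hJJ, mulVec_smul, smul_smul] at h1
      have h2 : (l - σ (σ (ν : F)) * σ (ν : F) * l) • (mat h *ᵥ v) = 0 := by
        rw [sub_smul, ← h1, sub_self]
      have h3 := (smul_eq_zero.1 h2).resolve_right fun h0 =>
        hv (by rw [← inv_mulVec_mulVec h v, h0, mulVec_zero])
      refine mul_right_cancel₀ hl.2 ?_
      linear_combination -h3
    obtain ⟨w, hw0, hw⟩ := exists_hilbert90 hne hf.invol hνν
    exact mem_subfieldSubgroup_of hw0 fun i j => hentry h hh ν hν w hw i j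
  · rw [← one_mul (σ _), ← hf.refl, hrel v u hu, hδ, hrel u v hv]
    ring
  · rw [hrel u u hu, halt, mul_zero]
  · refine ⟨P⁻¹, forall_matrixSet.2 fun h hh i j => ?_⟩
    have := hentry h hh 1 (fun u v => by rw [one_mul, hiso h hh]) 1 (by simp) i j
    simpa [mat] using this

/-- An absolutely irreducible group fixing a unitary and a bilinear form. -/
theorem compare_sq_scalar (hf : IsReflexive σ ε f) {b : (ι → F) → (ι → F) → F}
    {J : (ι → F) → (ι → F)} (hJ : IsCompare σ f b J) {R : Subgroup (GL ι F)}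
    (hR : ActsAbsolutelyIrreducibly (matrixSet R)) (hfix : FixesForm (matrixSet R) f)
    (hbfix : ∀ x ∈ R, ∀ u v, b (mat x *ᵥ u) (mat x *ᵥ v) = b u v) :
    ∃ l : F, ∀ v, J (J v) = l • v := by
  let L : (ι → F) →ₗ[F] (ι → F) :=
    { toFun := fun v => J (J v)
      map_add' := fun u v => by simp only [hJ.add]
      map_smul' := fun c v => by simp only [hJ.smul, hf.invol, RingHom.id_apply] }
  have hc : ∀ x ∈ R, ∀ v, J (mat x *ᵥ v) = mat x *ᵥ J v := fun x hx v => by
    rw [hJ.comm hf (fun u v => hfix _ (mem_matrixSet hx) u v)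
      (ν := 1) (fun u v => by rw [one_mul, hbfix x hx]), map_one, one_smul]
  obtain ⟨c, hM⟩ := commute_of_absIrred hR (M := LinearMap.toMatrix' L) fun x hx => by
    refine Matrix.toLin'.injective (LinearMap.ext fun v => ?_)
    rw [Matrix.toLin'_mul, Matrix.toLin'_mul, Matrix.toLin'_toMatrix']
    show J (J (mat x *ᵥ v)) = mat x *ᵥ J (J v)
    rw [hc x hx, hc x hx]
  refine ⟨c, fun v => ?_⟩
  have := congrArg (fun M => Matrix.toLin' M v) hM
  simp only [Matrix.toLin'_toMatrix', map_smul, Matrix.toLin'_one, LinearMap.smul_apply,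
    LinearMap.id_apply] at this
  exact this

/-- An absolutely irreducible group fixing a unitary and a bilinear form is realisable over a
proper subfield. -/
theorem realisable_of_two_forms [Fintype F] [Nonempty ι] (hf : IsReflexive σ 1 f)
    (hne : σ ≠ RingEquiv.refl F) {b : (ι → F) → (ι → F) → F} (hb : IsBilinearForm b)
    (hbn : IsNondegenerateForm b) {δ : F} (hδ : ∀ u v, b v u = δ * b u v)
    {R : Subgroup (GL ι F)} (hR : ActsAbsolutelyIrreducibly (matrixSet R))
    (hfix : FixesForm (matrixSet R) f)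
    (hbfix : ∀ x ∈ R, ∀ u v, b (mat x *ᵥ u) (mat x *ᵥ v) = b u v) :
    ∃ F₀ : Subfield F, F₀ ≠ ⊤ ∧ RealisableOver F₀ (matrixSet R) := by
  obtain ⟨J, hJ⟩ := exists_compare hf hb
  obtain ⟨l, hl⟩ := compare_sq_scalar hf hJ hR hfix hbfix
  obtain ⟨F₀, P, h0, -, -, -, -, -, hreal⟩ := exists_index_two hf hne hb hbn hδ hfix
    (fun x hx => ⟨1, fun u v => by rw [Units.val_one, one_mul, hbfix x hx]⟩) hJ hl
  exact ⟨F₀, h0, hreal hbfix⟩

end Semilinear

end CfsgLib.MaxSub
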