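import Cfsg.Agent.MaxSub.SquareTensor
import Cfsg.Agent.MaxSub.FormCompare
import Cfsg.Agent.AschbacherTwelve.Unitary
import Cfsg.Agent.Forms.Diagonal

/-!
# Tensor decompositions of a unitary form

The factors can be made standard; equal factors give a tensor power and two binary factors also fix a
bilinear form up to scalars.
-/

set_option autoImplicit false
set_option linter.unusedSectionVars false

namespace CfsgLib.MaxSub

attribute [-simp] RingEquiv.coe_refl

open Matrix Cfsg.Geo CfsgLib.Aschbacher CfsgLib.AschbacherForms CfsgLib.AschbacherUnitary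
open scoped Kronecker

variable {ι : Type} [Fintype ι] [DecidableEq ι] {F : Type*} [Field F] [Fintype F] {σ : F ≃+* F}

/-- A hermitian invertible matrix is congruent to the identity. -/
theorem exists_congr_one (hne : σ ≠ RingEquiv.refl F) (hinv : ∀ a, σ (σ a) = a) {d : ℕ}
    {S : Matrix (Fin d) (Fin d) F} (hS : IsUnit S) (hSh : Sᵀ.map σ = S) :
    ∃ A : GL (Fin d) F, (mat A)ᵀ * S * (mat A).map σ = 1 := by
  classical
  let B : (Fin d → F) →ₛₗ[(σ : F →+* F)] (Fin d → F) →ₗ[F] F :=
    LinearMap.mk₂'ₛₗ (σ : F →+* F) (RingHom.id F) (fun x y => formOf σ S y x)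
      (fun x x' y => by
        simp only [formOf, Pi.add_apply, map_add]
        rw [show (fun i => σ (x i) + σ (x' i)) = (fun i => σ (x i)) + fun i => σ (x' i) from rfl,
          mulVec_add, dotProduct_add])
      (fun c x y => by
        simp only [formOf, Pi.smul_apply, smul_eq_mul, map_mul]
        rw [show (fun i => σ c * σ (x i)) = σ c • fun i => σ (x i) from rfl, mulVec_smul,
          dotProduct_smul]
        rfl)
      (fun x y y' => by simp only [formOf, add_dotProduct])
      (fun c x y => by simp only [formOf, smul_dotProduct, smul_eq_mul, RingHom.id_apply])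
  have hBap : ∀ x y, B x y = formOf σ S y x := fun x y => rfl
  have hsymm : B.IsSymm := ⟨fun x y => by
    rw [hBap, hBap]
    simp only [formOf, dotProduct, Matrix.mulVec, Finset.mul_sum, map_sum, map_mul,
      RingEquiv.coe_toRingHom, hinv, RingHom.coe_coe]
    rw [Finset.sum_comm]
    refine Finset.sum_congr rfl fun i _ => Finset.sum_congr rfl fun j _ => ?_
    rw [show σ (S j i) = S i j from congrFun (congrFun hSh i) j]
    ring⟩
  have hsep : ∀ x, (∀ y, B x y = 0) → x = 0 := by
    intro x hx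
    by_contra h0
    obtain ⟨⟨y, hy⟩, -⟩ := nondegenerate_formOf σ hS x h0
    exact hy (hx y)
  have hne' : (σ : F →+* F) ≠ RingHom.id F := fun h => hne (RingEquiv.ext fun a => RingHom.congr_fun h a)
  obtain ⟨b, hb⟩ := CfsgLib.Forms.exists_orthonormal_basis_hermitian hne' hinv B hsymm hsep
    (Module.finrank_fin_fun F)
  let A : Matrix (Fin d) (Fin d) F := Matrix.of fun i j => b j i
  have hA : IsUnit A := Matrix.linearIndependent_cols_iff_isUnit.1 b.linearIndependent
  refine ⟨hA.unit, ?_⟩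
  have hm : mat hA.unit = A := rfl
  rw [hm]
  ext i j
  have e := hb j i
  rw [hBap] at e
  rw [Matrix.one_apply]
  refine Eq.trans ?_ (e.trans (by simp only [eq_comm]))
  simp only [formOf, dotProduct, Matrix.mulVec, Matrix.mul_apply, Matrix.transpose_apply, Matrix.map_apply,
    Finset.mul_sum, Finset.sum_mul, A, Matrix.of_apply]
  rw [Finset.sum_comm]
  exact Finset.sum_congr rfl fun l _ => Finset.sum_congr rfl fun k _ => by ring

/-- A tensor decomposition of a form with hermitian factors has one with identity factors. -/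
theorem exists_standard_factors (hne : σ ≠ RingEquiv.refl F) (hinv : ∀ a, σ (σ a) = a) {k d : ℕ}
    {f : (ι → F) → (ι → F) → F} {e : ι ≃ Fin k × Fin d} {P : GL ι F}
    {S : Matrix (Fin k) (Fin k) F} {T : Matrix (Fin d) (Fin d) F} {c : F}
    (hS : IsUnit S) (hT : IsUnit T) (hSh : Sᵀ.map σ = S) (hTh : Tᵀ.map σ = T)
    {H : Subgroup (GL ι F)} (hle : H ≤ tensorProductSubgroup k d e P)
    (hform : ∀ x y : Fin k × Fin d → F, f (mat P *ᵥ (x ∘ e)) (mat P *ᵥ (y ∘ e)) =
      c * formOfGram σ (S ⊗ₖ T) x y) :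
    ∃ P' : GL ι F, H ≤ tensorProductSubgroup k d e P' ∧
      ∀ x y : Fin k × Fin d → F, f (mat P' *ᵥ (x ∘ e)) (mat P' *ᵥ (y ∘ e)) =
        c * (x ⬝ᵥ fun i => σ (y i)) := by
  classical
  obtain ⟨A, hA⟩ := exists_congr_one hne hinv hS hSh
  obtain ⟨B, hB⟩ := exists_congr_one hne hinv hT hTh
  set K : Matrix (Fin k × Fin d) (Fin k × Fin d) F := mat A ⊗ₖ mat B with hK
  set K' : Matrix (Fin k × Fin d) (Fin k × Fin d) F := mat A⁻¹ ⊗ₖ mat B⁻¹ with hK'
  have h1 : K * K' = 1 := by
    rw [hK, hK', ← Matrix.mul_kronecker_mul, mat_mul_inv, mat_mul_inv, Matrix.one_kronecker_one]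
  have h2 : K' * K = 1 := by
    rw [hK, hK', ← Matrix.mul_kronecker_mul, mat_inv_mul, mat_inv_mul, Matrix.one_kronecker_one]
  let L : GL ι F := ⟨K.submatrix e e, K'.submatrix e e,
    by rw [Matrix.submatrix_mul_equiv, h1, Matrix.submatrix_one_equiv],
    by rw [Matrix.submatrix_mul_equiv, h2, Matrix.submatrix_one_equiv]⟩
  have hco : ∀ x, coords e (P * L) x = coords e P (K *ᵥ x) := fun x => by
    rw [coords_apply, coords_apply, show mat (P * L) = mat P * K.submatrix e e from rfl,
      ← mulVec_mulVec, Matrix.submatrix_mulVec_equiv, Function.comp_assoc, Equiv.self_comp_symm,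
      Function.comp_id]
  refine ⟨P * L, fun g hg => ?_, fun x y => ?_⟩
  · obtain ⟨a, b, hab⟩ := exists_of_mem_tensorProductSubgroup (hle hg)
    refine mem_tensorProductSubgroup_of (a := mat (A⁻¹ * a * A)) (b := mat (B⁻¹ * b * B))
      (Units.isUnit _) (Units.isUnit _) (Matrix.toLin'.injective (LinearMap.ext fun v => ?_))
    obtain ⟨x, rfl⟩ := (coords e (P * L)).surjective v
    rw [Matrix.toLin'_apply, Matrix.toLin'_apply, tensorEquiv_mulVec, hco, hco, hab, tensorEquiv_mulVec,
      mulVec_mulVec, mulVec_mulVec, hK, ← Matrix.mul_kronecker_mul, ← Matrix.mul_kronecker_mul]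
    simp only [mat, Units.val_mul, ← mul_assoc, Units.mul_inv, one_mul]
  · have e1 := hform (K *ᵥ x) (K *ᵥ y)
    rw [← coords_apply, ← coords_apply, hco, hco, coords_apply, coords_apply, e1, formOfGram_eq]
    congr 1
    change formOf σ (S ⊗ₖ T) (K *ᵥ x) (K *ᵥ y) = _
    rw [formOf_mulVec, hK, ← Matrix.kroneckerMap_transpose,
      show (mat A ⊗ₖ mat B).map σ = (mat A).map σ ⊗ₖ (mat B).map σ from
        Matrix.ext fun _ _ => map_mul σ _ _,
      ← Matrix.mul_kronecker_mul, ← Matrix.mul_kronecker_mul, hA, hB, Matrix.one_kronecker_one, formOf,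
      one_mulVec]

/-- Equal standard factors give a tensor power of the standard form. -/
theorem exists_square_standard {f : (ι → F) → (ι → F) → F} (hf : IsReflexive σ 1 f) {d : ℕ}
    {e : ι ≃ Fin d × Fin d} {P : GL ι F} {c : F} (hc : c ≠ 0) {H : Subgroup (GL ι F)}
    (hle : H ≤ tensorProductSubgroup d d e P)
    (hform : ∀ x y : Fin d × Fin d → F, f (mat P *ᵥ (x ∘ e)) (mat P *ᵥ (y ∘ e)) =
      c * (x ⬝ᵥ fun i => σ (y i))) :
    ∃ (e' : ι ≃ (Fin 2 → Fin d)) (P' : GL ι F),
      IsTensorPowerFormStructure σ f (formOf σ (1 : Matrix (Fin d) (Fin d) F)) e' P' ∧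
        H ≤ tensorWreathSubgroup d 2 e' P' := by
  refine exists_square hf hc (A := 1) (T := c • 1) ?_ hle fun x y => ?_
  · simp [mat]
  · rw [hform, formOfGram_eq, Matrix.kronecker_smul, Matrix.one_kronecker_one, Matrix.smul_mulVec,
      one_mulVec, dotProduct_smul, smul_eq_mul]

/-- The alternating matrix of size two. -/
theorem det_congr_two (a : Matrix (Fin 2) (Fin 2) F) :
    aᵀ * !![0, 1; -1, 0] * a = a.det • !![0, 1; -1, 0] := by
  ext i j
  fin_cases i <;> fin_cases j <;>
    simp [Matrix.mul_apply, Fin.sum_univ_two, Matrix.det_fin_two] <;> ring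

/-- Two binary standard factors also fix a symmetric bilinear form up to scalars. -/
theorem exists_bilinear_two_two {f : (ι → F) → (ι → F) → F} (hf : IsReflexive σ 1 f)
    {e : ι ≃ Fin 2 × Fin 2} {P : GL ι F} {c : F} (hc : c ≠ 0) {H : Subgroup (GL ι F)}
    (hle : H ≤ tensorProductSubgroup 2 2 e P)
    (hform : ∀ x y : Fin 2 × Fin 2 → F, f (mat P *ᵥ (x ∘ e)) (mat P *ᵥ (y ∘ e)) =
      c * (x ⬝ᵥ fun i => σ (y i))) :
    ∃ (b : (ι → F) → (ι → F) → F) (J : (ι → F) → (ι → F)), IsBilinearForm b ∧ IsNondegenerateForm b ∧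
      (∀ u v, b v u = b u v) ∧ ((2 : F) = 0 → ∀ v, b v v = 0) ∧ H ≤ similarityGroup b ∧
      IsCompare σ f b J ∧ ∀ v, J (J v) = (1 : F) • v := by
  classical
  set E : Matrix (Fin 2) (Fin 2) F := !![0, 1; -1, 0] with hE
  set M : Matrix (Fin 2 × Fin 2) (Fin 2 × Fin 2) F := E ⊗ₖ E with hM
  have hEE : E * E = -1 := by
    ext i j; fin_cases i <;> fin_cases j <;> simp [E, Matrix.mul_apply, Fin.sum_univ_two]
  have hMM : M * M = 1 := by
    rw [hM, ← Matrix.mul_kronecker_mul, hEE]
    ext ⟨i, j⟩ ⟨i', j'⟩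
    simp [Matrix.one_apply]
    aesop
  have hEt : Eᵀ = -E := by ext i j; fin_cases i <;> fin_cases j <;> simp [E]
  have hMt : Mᵀ = M := by
    rw [hM, ← Matrix.kroneckerMap_transpose, hEt]
    ext i j
    simp
  have hMσ : M.map σ = M := by
    ext ⟨i, j⟩ ⟨i', j'⟩
    fin_cases i <;> fin_cases j <;> fin_cases i' <;> fin_cases j' <;> simp [M, E]
  have hMu : IsUnit M := ⟨⟨M, M, hMM, hMM⟩, rfl⟩
  set C := coords e P with hC
  let b : (ι → F) → (ι → F) → F := fun u v => c * formOf (RingEquiv.refl F) M (C.symm u) (C.symm v)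
  let J : (ι → F) → (ι → F) := fun v => C (M *ᵥ fun i => σ (C.symm v i))
  have hb := isBilinearForm_formOf (F := F) M
  refine ⟨b, J, ⟨fun x y v => ?_, fun l x v => ?_, fun v x y => ?_, fun l v x => ?_⟩, fun v hv => ?_,
    fun u v => ?_, fun h2 v => ?_, fun g hg => ?_, ⟨fun u v => ?_, fun u v => ?_, fun l v => ?_⟩,
    fun v => ?_⟩
  · simp only [b, map_add, hb.add_left, mul_add]
  · simp only [b, map_smul, hb.smul_left]; ring
  · simp only [b, map_add, hb.add_right, mul_add]
  · simp only [b, map_smul, hb.smul_right]; ring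
  · obtain ⟨⟨x, hx⟩, ⟨y, hy⟩⟩ := nondegenerate_formOf (RingEquiv.refl F) hMu (C.symm v)
      (fun h => hv (by rw [← C.apply_symm_apply v, h, map_zero]))
    exact ⟨⟨C x, by simpa [b] using mul_ne_zero hc hx⟩, ⟨C y, by simpa [b] using mul_ne_zero hc hy⟩⟩
  · simp only [b]
    rw [formOf_symm (a := 1) (by rw [one_smul]; exact hMt), one_mul]
  · simp only [b]
    rw [formOf_self_of_diag h2 hMt fun ⟨i, j⟩ => by fin_cases i <;> fin_cases j <;> simp [M, E],
      mul_zero]
  · obtain ⟨a, a', hab⟩ := exists_of_mem_tensorProductSubgroup (hle hg)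
    refine ⟨Units.mk0 ((mat a).det * (mat a').det) (mul_ne_zero ((Matrix.isUnit_iff_isUnit_det _).1 a.isUnit).ne_zero ((Matrix.isUnit_iff_isUnit_det _).1 a'.isUnit).ne_zero),
      fun u v => ?_⟩
    obtain ⟨x, rfl⟩ := C.surjective u
    obtain ⟨y, rfl⟩ := C.surjective v
    show c * formOf _ M (C.symm (mat g *ᵥ C x)) (C.symm (mat g *ᵥ C y)) =
      _ * (c * formOf _ M (C.symm (C x)) (C.symm (C y)))
    rw [hab, hC, tensorEquiv_mulVec, tensorEquiv_mulVec, LinearEquiv.symm_apply_apply,
      LinearEquiv.symm_apply_apply, LinearEquiv.symm_apply_apply, LinearEquiv.symm_apply_apply,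
      formOf_mulVec, show (mat a ⊗ₖ mat a').map (RingEquiv.refl F) = mat a ⊗ₖ mat a' from
        Matrix.ext fun _ _ => rfl, hM, ← Matrix.kroneckerMap_transpose, ← Matrix.mul_kronecker_mul,
      ← Matrix.mul_kronecker_mul, hE, det_congr_two, det_congr_two, Matrix.smul_kronecker,
      Matrix.kronecker_smul, smul_smul, Units.val_mk0]
    simp only [formOf, Matrix.smul_mulVec, dotProduct_smul, smul_eq_mul]
    ring
  · obtain ⟨x, rfl⟩ := C.surjective u
    obtain ⟨y, rfl⟩ := C.surjective v
    show c * formOf _ M (C.symm (C x)) (C.symm (C y)) = f (C x) (C (M *ᵥ fun i => σ (C.symm (C y) i)))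
    rw [hC, LinearEquiv.symm_apply_apply, LinearEquiv.symm_apply_apply, coords_apply, coords_apply, hform]
    congr 1
    show x ⬝ᵥ (M *ᵥ fun i => y i) = _
    congr 1
    funext i
    simp only [Matrix.mulVec, dotProduct, map_sum, map_mul, hf.invol]
    refine Finset.sum_congr rfl fun j _ => ?_
    rw [show σ (M i j) = M i j from congrFun (congrFun hMσ i) j]
  · simp only [J, map_add, Pi.add_apply]
    rw [show (fun i => σ (C.symm u i) + σ (C.symm v i)) =
      (fun i => σ (C.symm u i)) + fun i => σ (C.symm v i) from rfl, mulVec_add, map_add]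
  · simp only [J, map_smul, Pi.smul_apply, smul_eq_mul, map_mul]
    rw [show (fun i => σ l * σ (C.symm v i)) = σ l • fun i => σ (C.symm v i) from rfl, mulVec_smul,
      map_smul]
  · simp only [J, LinearEquiv.symm_apply_apply, one_smul]
    rw [show (fun i => σ ((M *ᵥ fun j => σ (C.symm v j)) i)) = M *ᵥ C.symm v from funext fun i => by
      simp only [Matrix.mulVec, dotProduct, map_sum, map_mul, hf.invol]
      refine Finset.sum_congr rfl fun j _ => ?_
      rw [show σ (M i j) = M i j from congrFun (congrFun hMσ i) j],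
      mulVec_mulVec, hMM, one_mulVec, LinearEquiv.apply_symm_apply]

end CfsgLib.MaxSub
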