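import Mathlib
import Cfsg.Prelude.Def_GeometricClasses

/-!
# Transvection calculus in `GL(ι, F)` and a criterion for containing the special linear group

For column vectors `v` and `a` with `a ⬝ᵥ v = 0`, `tv v a` is the transvection `x ↦ x + (a ⬝ᵥ x) • v`
(the identity if `a ⬝ᵥ v ≠ 0`); `v` is its centre and `a` its axis. The main result is
`specialLinear_le_of_fullAxis`: an irreducible subgroup containing all transvections with one
given axis contains the special linear group.
-/

set_option autoImplicit false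

namespace CfsgLib.MaxSub

open Matrix Cfsg.Geo

variable {ι : Type} [Fintype ι] [DecidableEq ι] {F : Type*} [Field F]

/-- A linear form given by a dot product separates a subspace from a vector outside it. -/
theorem exists_dot_of_notMem (W : Submodule F (ι → F)) {x : ι → F} (hx : x ∉ W) :
    ∃ a : ι → F, (∀ w ∈ W, a ⬝ᵥ w = 0) ∧ a ⬝ᵥ x = 1 := by
  obtain ⟨f, hfx, hfW⟩ := Submodule.exists_dual_map_eq_bot_of_notMem hx inferInstance
  refine ⟨(f x)⁻¹ • (dotProductEquiv F ι).symm f, fun w hw => ?_, ?_⟩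
  · have h : f w = 0 := by
      have : f w ∈ W.map f := Submodule.mem_map_of_mem hw
      simpa [hfW] using this
    rw [smul_dotProduct]
    have e : (dotProductEquiv F ι ((dotProductEquiv F ι).symm f)) w = f w := by
      rw [LinearEquiv.apply_symm_apply]
    change (dotProductEquiv F ι).symm f ⬝ᵥ w = f w at e
    rw [e, h, smul_zero]
  · have e : (dotProductEquiv F ι ((dotProductEquiv F ι).symm f)) x = f x := by
      rw [LinearEquiv.apply_symm_apply]
    change (dotProductEquiv F ι).symm f ⬝ᵥ x = f x at e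
    rw [smul_dotProduct, e, smul_eq_mul, inv_mul_cancel₀ hfx]

/-- Two independent vectors: one is separated from the other. -/
theorem exists_dot_eq_zero_one {a b : ι → F} (h : ∀ c : F, c • a ≠ b) :
    ∃ x : ι → F, a ⬝ᵥ x = 0 ∧ b ⬝ᵥ x = 1 := by
  have hb : b ∉ Submodule.span F ({a} : Set (ι → F)) := by
    rw [Submodule.mem_span_singleton]
    rintro ⟨c, hc⟩
    exact h c hc
  obtain ⟨x, hx, hx'⟩ := exists_dot_of_notMem _ hb
  exact ⟨x, by rw [dotProduct_comm]; exact hx a (Submodule.mem_span_singleton_self a),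
    by rw [dotProduct_comm]; exact hx'⟩

/-- A non-zero vector is not killed by every dot product. -/
theorem exists_dot_eq_one {x : ι → F} (hx : x ≠ 0) : ∃ a : ι → F, a ⬝ᵥ x = 1 := by
  obtain ⟨a, -, ha⟩ := exists_dot_of_notMem (⊥ : Submodule F (ι → F))
    (by simpa using hx : x ∉ (⊥ : Submodule F (ι → F)))
  exact ⟨a, ha⟩

omit [DecidableEq ι] in
theorem vecMulVec_mulVec' (u a x : ι → F) : vecMulVec u a *ᵥ x = (a ⬝ᵥ x) • u := by
  rw [vecMulVec_mulVec]; simp

omit [DecidableEq ι] in
theorem vecMulVec_sq {v a : ι → F} (h : a ⬝ᵥ v = 0) : vecMulVec v a * vecMulVec v a = 0 := by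
  rw [vecMulVec_mul_vecMulVec, h, zero_smul, vecMulVec_zero]

/-! ### The element `tv v a` -/

open Classical in
/-- The transvection `x ↦ x + (a ⬝ᵥ x) • v` when `a ⬝ᵥ v = 0`; the identity otherwise. -/
noncomputable def tv (v a : ι → F) : GL ι F :=
  if h : a ⬝ᵥ v = 0 then
    { val := 1 + vecMulVec v a
      inv := 1 - vecMulVec v a
      val_inv := by
        have := vecMulVec_sq h
        simp only [mul_sub, mul_one, add_mul, one_mul, this, add_zero]
        abel
      inv_val := by
        have := vecMulVec_sq h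
        simp only [mul_add, mul_one, sub_mul, one_mul, this, sub_zero]
        abel }
  else 1

theorem tv_coe {v a : ι → F} (h : a ⬝ᵥ v = 0) :
    (tv v a : Matrix ι ι F) = 1 + vecMulVec v a := by
  rw [tv, dif_pos h]

theorem tv_mulVec {v a : ι → F} (h : a ⬝ᵥ v = 0) (x : ι → F) :
    (tv v a : Matrix ι ι F) *ᵥ x = x + (a ⬝ᵥ x) • v := by
  rw [tv_coe h, add_mulVec, one_mulVec, vecMulVec_mulVec']

theorem vecMul_tv {v a : ι → F} (h : a ⬝ᵥ v = 0) (x : ι → F) :
    x ᵥ* (tv v a : Matrix ι ι F) = x + (x ⬝ᵥ v) • a := by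
  rw [tv_coe h, vecMul_add, vecMul_one, vecMul_vecMulVec]

theorem tv_zero_left (a : ι → F) : tv (0 : ι → F) a = 1 := by
  apply Units.ext; rw [tv_coe (by simp)]; simp

theorem tv_zero_right (v : ι → F) : tv v (0 : ι → F) = 1 := by
  apply Units.ext; rw [tv_coe (by simp)]; simp

theorem tv_mul_left {v w a : ι → F} (hv : a ⬝ᵥ v = 0) (hw : a ⬝ᵥ w = 0) :
    tv v a * tv w a = tv (v + w) a := by
  apply Units.ext
  rw [Units.val_mul, tv_coe hv, tv_coe hw, tv_coe (by rw [dotProduct_add, hv, hw, add_zero]),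
    add_mul, one_mul, mul_add, mul_one, vecMulVec_mul_vecMulVec, hw, zero_smul, vecMulVec_zero,
    add_zero, add_vecMulVec]
  abel

theorem tv_mul_right {v a b : ι → F} (ha : a ⬝ᵥ v = 0) (hb : b ⬝ᵥ v = 0) :
    tv v a * tv v b = tv v (a + b) := by
  apply Units.ext
  rw [Units.val_mul, tv_coe ha, tv_coe hb, tv_coe (by rw [add_dotProduct, ha, hb, add_zero]),
    add_mul, one_mul, mul_add, mul_one, vecMulVec_mul_vecMulVec, ha, zero_smul, vecMulVec_zero,
    add_zero, vecMulVec_add]
  abel

theorem tv_inv (v a : ι → F) : (tv v a)⁻¹ = tv (-v) a := by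
  by_cases h : a ⬝ᵥ v = 0
  · apply inv_eq_of_mul_eq_one_right
    rw [tv_mul_left h (by simpa using h), add_neg_cancel, tv_zero_left]
  · have h' : ¬ a ⬝ᵥ (-v) = 0 := by simpa using h
    rw [tv, dif_neg h, tv, dif_neg h', inv_one]

theorem tv_neg_right (v a : ι → F) : tv v (-a) = tv (-v) a := by
  by_cases h : a ⬝ᵥ v = 0
  · apply Units.ext
    rw [tv_coe (by simpa using h), tv_coe (by simpa using h), vecMulVec_neg, neg_vecMulVec]
  · rw [tv, dif_neg (by simpa using h), tv, dif_neg (by simpa using h)]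

theorem tv_smul_right (c : F) (v a : ι → F) : tv v (c • a) = tv (c • v) a := by
  rcases eq_or_ne c 0 with rfl | hc
  · simp [tv_zero_left, tv_zero_right]
  by_cases h : a ⬝ᵥ v = 0
  · apply Units.ext
    rw [tv_coe (by simp [h]), tv_coe (by simp [h]), vecMulVec_smul, smul_vecMulVec]
  · rw [tv, dif_neg (by simp [h, hc]), tv, dif_neg (by simp [h, hc])]

omit [DecidableEq ι] in
theorem dot_vecMul_mulVec (a x : ι → F) (A B : Matrix ι ι F) :
    (a ᵥ* A) ⬝ᵥ (B *ᵥ x) = a ⬝ᵥ ((A * B) *ᵥ x) := by
  rw [← dotProduct_mulVec, mulVec_mulVec]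

theorem dot_conj (g : GL ι F) (a x : ι → F) :
    (a ᵥ* ((g⁻¹ : GL ι F) : Matrix ι ι F)) ⬝ᵥ ((g : Matrix ι ι F) *ᵥ x) = a ⬝ᵥ x := by
  rw [dot_vecMul_mulVec, Units.inv_mul, one_mulVec]

/-- Conjugation of a transvection. -/
theorem conj_tv (g : GL ι F) (v a : ι → F) :
    g * tv v a * g⁻¹ =
      tv ((g : Matrix ι ι F) *ᵥ v) (a ᵥ* ((g⁻¹ : GL ι F) : Matrix ι ι F)) := by
  by_cases h : a ⬝ᵥ v = 0
  · apply Units.ext
    rw [Units.val_mul, Units.val_mul, tv_coe h, tv_coe (by rw [dot_conj, h]), mul_add, mul_one,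
      add_mul, Units.mul_inv, mul_vecMulVec, vecMulVec_mul]
  · have h' : ¬ (a ᵥ* ((g⁻¹ : GL ι F) : Matrix ι ι F)) ⬝ᵥ ((g : Matrix ι ι F) *ᵥ v) = 0 := by
      rwa [dot_conj]
    rw [tv, dif_neg h, tv, dif_neg h', mul_one, mul_inv_cancel]

theorem tv_mem_conj {M : Subgroup (GL ι F)} {g : GL ι F} (hg : g ∈ M) {v a : ι → F}
    (h : tv v a ∈ M) :
    tv ((g : Matrix ι ι F) *ᵥ v) (a ᵥ* ((g⁻¹ : GL ι F) : Matrix ι ι F)) ∈ M := by
  rw [← conj_tv]; exact M.mul_mem (M.mul_mem hg h) (M.inv_mem hg)

theorem tv_mem_specialLinear (v a : ι → F) : tv v a ∈ specialLinear ι F := by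
  rw [specialLinear, MonoidHom.mem_ker]
  by_cases h : a ⬝ᵥ v = 0
  · apply Units.ext
    rw [Matrix.GeneralLinearGroup.val_det_apply, Units.val_one, tv_coe h]
    have := det_one_add_replicateCol_mul_replicateRow (ι := Unit) v a
    rw [h, add_zero] at this
    rw [← this]
    congr 1
    ext i j
    simp [vecMulVec, mul_apply]
  · rw [tv, dif_neg h, map_one]

/-- A non-zero centre and axis give a non-identity transvection. -/
theorem tv_ne_one {v a : ι → F} (h : a ⬝ᵥ v = 0) (hv : v ≠ 0) (ha : a ≠ 0) : tv v a ≠ 1 := by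
  intro he
  obtain ⟨x, hx⟩ := exists_dot_eq_one ha
  have := tv_mulVec h x
  rw [he, Units.val_one, one_mulVec, dotProduct_comm, hx, one_smul] at this
  exact hv (add_eq_left.mp this.symm)

/-! ### Closure rules -/

theorem tv_mem_add_left {M : Subgroup (GL ι F)} {v w a : ι → F} (hv : a ⬝ᵥ v = 0)
    (hw : a ⬝ᵥ w = 0) (h1 : tv v a ∈ M) (h2 : tv w a ∈ M) : tv (v + w) a ∈ M := by
  rw [← tv_mul_left hv hw]; exact M.mul_mem h1 h2

theorem tv_mem_add_right {M : Subgroup (GL ι F)} {v a b : ι → F} (ha : a ⬝ᵥ v = 0)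
    (hb : b ⬝ᵥ v = 0) (h1 : tv v a ∈ M) (h2 : tv v b ∈ M) : tv v (a + b) ∈ M := by
  rw [← tv_mul_right ha hb]; exact M.mul_mem h1 h2

/-- Commutator rule: `(v, a)` and `(w, b)` with `a ⬝ᵥ w = 0` give `(w, (b ⬝ᵥ v) • a)`. -/
theorem tv_rule_axis {M : Subgroup (GL ι F)} {v a w b : ι → F} (ha : a ⬝ᵥ v = 0)
    (hb : b ⬝ᵥ w = 0) (haw : a ⬝ᵥ w = 0) (h1 : tv v a ∈ M) (h2 : tv w b ∈ M) :
    tv w ((b ⬝ᵥ v) • a) ∈ M := by
  have hc := tv_mem_conj h1 h2
  rw [tv_mulVec ha, haw, zero_smul, add_zero, tv_inv, vecMul_tv (by simpa using ha)] at hc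
  have hc' := M.inv_mem hc
  rw [tv_inv, ← tv_neg_right] at hc'
  have hb' : (b + (b ⬝ᵥ -v) • a) ⬝ᵥ w = 0 := by simp [add_dotProduct, hb, haw]
  have := tv_mem_add_right hb (by rw [neg_dotProduct, hb', neg_zero]) h2 hc'
  convert this using 2
  simp [dotProduct_neg]

/-- Commutator rule: `(v, a)` and `(w, b)` with `b ⬝ᵥ v = 0` give `((a ⬝ᵥ w) • v, b)`. -/
theorem tv_rule_centre {M : Subgroup (GL ι F)} {v a w b : ι → F} (ha : a ⬝ᵥ v = 0)
    (hb : b ⬝ᵥ w = 0) (hbv : b ⬝ᵥ v = 0) (h1 : tv v a ∈ M) (h2 : tv w b ∈ M) :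
    tv ((a ⬝ᵥ w) • v) b ∈ M := by
  have hc := tv_mem_conj h1 h2
  rw [tv_mulVec ha, tv_inv, vecMul_tv (by simpa using ha)] at hc
  simp only [dotProduct_neg, hbv, neg_zero, zero_smul, add_zero] at hc
  have hi := M.inv_mem h2
  rw [tv_inv] at hi
  have := tv_mem_add_left (by simp [dotProduct_add, hb, hbv]) (by simpa using hb) hc hi
  convert this using 2
  abel

/-! ### Root groups, full axes and centres -/

/-- `M` contains the whole root group with centre `v` and axis `a`. -/
def RootIn (M : Subgroup (GL ι F)) (v a : ι → F) : Prop :=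
  a ⬝ᵥ v = 0 ∧ ∀ c : F, tv (c • v) a ∈ M

theorem RootIn.mem {M : Subgroup (GL ι F)} {v a : ι → F} (h : RootIn M v a) : tv v a ∈ M := by
  simpa using h.2 1

theorem RootIn.smul_right {M : Subgroup (GL ι F)} {v a : ι → F} (h : RootIn M v a) (c : F) :
    RootIn M v (c • a) := by
  refine ⟨by simp [h.1], fun d => ?_⟩
  rw [tv_smul_right, smul_smul]; exact h.2 _

theorem RootIn.smul_left {M : Subgroup (GL ι F)} {v a : ι → F} (h : RootIn M v a) (c : F) :
    RootIn M (c • v) a := by
  refine ⟨by simp [h.1], fun d => ?_⟩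
  rw [smul_smul]; exact h.2 _

theorem RootIn.add_left {M : Subgroup (GL ι F)} {v w a : ι → F} (h : RootIn M v a)
    (h' : RootIn M w a) : RootIn M (v + w) a := by
  refine ⟨by simp [dotProduct_add, h.1, h'.1], fun d => ?_⟩
  rw [smul_add]
  exact tv_mem_add_left (by simp [h.1]) (by simp [h'.1]) (h.2 d) (h'.2 d)

theorem RootIn.add_right {M : Subgroup (GL ι F)} {v a b : ι → F} (h : RootIn M v a)
    (h' : RootIn M v b) : RootIn M v (a + b) := by
  refine ⟨by simp [add_dotProduct, h.1, h'.1], fun d => ?_⟩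
  exact tv_mem_add_right (by simp [h.1]) (by simp [h'.1]) (h.2 d) (h'.2 d)

theorem RootIn.conj {M : Subgroup (GL ι F)} {v a : ι → F} (h : RootIn M v a) {g : GL ι F}
    (hg : g ∈ M) :
    RootIn M ((g : Matrix ι ι F) *ᵥ v) (a ᵥ* ((g⁻¹ : GL ι F) : Matrix ι ι F)) := by
  refine ⟨by rw [dot_conj, h.1], fun c => ?_⟩
  rw [← mulVec_smul]; exact tv_mem_conj hg (h.2 c)

/-- A root group and one transvection `(w, b)`: new root group with centre `w`. -/
theorem RootIn.rule_axis {M : Subgroup (GL ι F)} {v a w b : ι → F} (h : RootIn M v a)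
    (hb : b ⬝ᵥ w = 0) (hm : tv w b ∈ M) (haw : a ⬝ᵥ w = 0) (hbv : b ⬝ᵥ v ≠ 0) :
    RootIn M w a := by
  refine ⟨haw, fun d => ?_⟩
  have := tv_rule_axis (by simp [h.1]) hb haw (h.2 (d / (b ⬝ᵥ v))) hm
  rw [dotProduct_smul, smul_eq_mul, div_mul_cancel₀ _ hbv, tv_smul_right] at this
  exact this

/-- A root group and one transvection `(w, b)`: new root group with axis `b`. -/
theorem RootIn.rule_centre {M : Subgroup (GL ι F)} {v a w b : ι → F} (h : RootIn M v a)
    (hb : b ⬝ᵥ w = 0) (hm : tv w b ∈ M) (hbv : b ⬝ᵥ v = 0) (haw : a ⬝ᵥ w ≠ 0) :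
    RootIn M v b := by
  refine ⟨hbv, fun d => ?_⟩
  have := tv_rule_centre (by simp [h.1]) hb (by simp [hbv]) (h.2 (d / (a ⬝ᵥ w))) hm
  rwa [smul_smul, mul_div_cancel₀ _ haw] at this

/-- The centres `v` of the root groups in `M` with axis `a`. -/
noncomputable def centres (M : Subgroup (GL ι F)) (a : ι → F) : Submodule F (ι → F) where
  carrier := {v | RootIn M v a}
  add_mem' h h' := h.add_left h'
  zero_mem' := ⟨dotProduct_zero a, fun c => by rw [smul_zero, tv_zero_left]; exact M.one_mem⟩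
  smul_mem' c _ h := h.smul_left c

/-- The axes `a` of the root groups in `M` with centre `v`. -/
noncomputable def axes (M : Subgroup (GL ι F)) (v : ι → F) : Submodule F (ι → F) where
  carrier := {a | RootIn M v a}
  add_mem' h h' := h.add_right h'
  zero_mem' := ⟨zero_dotProduct v, fun c => by rw [tv_zero_right]; exact M.one_mem⟩
  smul_mem' c _ h := h.smul_right c

theorem mem_centres {M : Subgroup (GL ι F)} {v a : ι → F} : v ∈ centres M a ↔ RootIn M v a :=
  Iff.rfl

theorem mem_axes {M : Subgroup (GL ι F)} {v a : ι → F} : a ∈ axes M v ↔ RootIn M v a :=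
  Iff.rfl

/-- `M` contains all transvections with axis `a`. -/
def FullAxis (M : Subgroup (GL ι F)) (a : ι → F) : Prop :=
  ∀ v : ι → F, a ⬝ᵥ v = 0 → tv v a ∈ M

/-- `M` leaves no subspace other than `⊥` and `⊤` invariant. -/
def Irreducible (M : Subgroup (GL ι F)) : Prop :=
  ∀ W : Submodule F (ι → F),
    (∀ g ∈ M, ∀ w ∈ W, (g : Matrix ι ι F) *ᵥ w ∈ W) → W = ⊥ ∨ W = ⊤

theorem Irreducible.mono {H M : Subgroup (GL ι F)} (h : Irreducible H) (hle : H ≤ M) :
    Irreducible M :=
  fun W hW => h W fun g hg => hW g (hle hg)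

theorem FullAxis.smul {M : Subgroup (GL ι F)} {a : ι → F} (h : FullAxis M a) (c : F) :
    FullAxis M (c • a) := by
  intro v hv
  rcases eq_or_ne c 0 with rfl | hc
  · rw [zero_smul, tv_zero_right]; exact M.one_mem
  rw [tv_smul_right]
  exact h _ (by simpa [hc] using hv)

theorem FullAxis.add {M : Subgroup (GL ι F)} {a b : ι → F} (ha : FullAxis M a) (hb : FullAxis M b) :
    FullAxis M (a + b) := by
  by_cases hdep : ∃ c : F, c • a = b
  · obtain ⟨c, rfl⟩ := hdep
    rw [show a + c • a = (1 + c) • a by rw [add_smul, one_smul]]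
    exact ha.smul _
  push Not at hdep
  obtain ⟨x, hax, hbx⟩ := exists_dot_eq_zero_one hdep
  intro v hv
  rw [add_dotProduct] at hv
  have hax' : a ⬝ᵥ (-x) = 0 := by simpa using hax
  set w := v + (a ⬝ᵥ v) • x with hw
  have hbw : b ⬝ᵥ w = 0 := by
    simp [hw, dotProduct_add, dotProduct_smul, hbx]; linear_combination hv
  have := tv_mem_conj (ha _ hax') (hb w hbw)
  rw [tv_mulVec hax', tv_inv, neg_neg, vecMul_tv hax, hbx, one_smul, add_comm b a] at this
  convert this using 2
  simp [hw, dotProduct_add, dotProduct_smul, hax]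

theorem FullAxis.conj {M : Subgroup (GL ι F)} {a : ι → F} (h : FullAxis M a) {g : GL ι F}
    (hg : g ∈ M) : FullAxis M (a ᵥ* ((g⁻¹ : GL ι F) : Matrix ι ι F)) := by
  intro v hv
  have h0 : a ⬝ᵥ (((g⁻¹ : GL ι F) : Matrix ι ι F) *ᵥ v) = 0 := by
    rwa [dotProduct_mulVec]
  have := tv_mem_conj hg (h _ h0)
  rwa [mulVec_mulVec, Units.mul_inv, one_mulVec] at this

/-- The axes all of whose transvections lie in `M`, as a subspace. -/
noncomputable def fullAxes (M : Subgroup (GL ι F)) : Submodule F (ι → F) where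
  carrier := {a | FullAxis M a}
  add_mem' h h' := h.add h'
  zero_mem' := fun v _ => by rw [tv_zero_right]; exact M.one_mem
  smul_mem' c _ h := h.smul c

/-- An irreducible subgroup with one full axis contains every transvection. -/
theorem tv_mem_of_fullAxis {M : Subgroup (GL ι F)} (hirr : Irreducible M) {a : ι → F} (ha : a ≠ 0)
    (hfa : FullAxis M a) (v b : ι → F) : tv v b ∈ M := by
  suffices hb : b ∈ fullAxes M by
    by_cases h : b ⬝ᵥ v = 0
    · exact hb v h
    · rw [tv, dif_neg h]; exact M.one_mem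
  by_contra hb
  obtain ⟨x, hx, hbx⟩ := exists_dot_of_notMem _ hb
  let W : Submodule F (ι → F) :=
    { carrier := {w | ∀ d ∈ fullAxes M, d ⬝ᵥ w = 0}
      add_mem' := fun h h' d hd => by rw [dotProduct_add, h d hd, h' d hd, add_zero]
      zero_mem' := fun d _ => dotProduct_zero d
      smul_mem' := fun c w h d hd => by rw [dotProduct_smul, h d hd, smul_zero] }
  have hxW : x ∈ W := fun d hd => by rw [dotProduct_comm]; exact hx d hd
  rcases hirr W (fun g hg w hw d hd => by
    rw [dotProduct_mulVec]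
    refine hw _ ?_
    have hd' : FullAxis M (d ᵥ* (((g⁻¹)⁻¹ : GL ι F) : Matrix ι ι F)) :=
      FullAxis.conj hd (M.inv_mem hg)
    rw [inv_inv] at hd'
    exact hd') with hW | hW
  · rw [hW, Submodule.mem_bot] at hxW
    rw [hxW, zero_dotProduct] at hbx
    exact zero_ne_one hbx
  · apply ha
    by_contra ha'
    obtain ⟨y, hy⟩ := exists_dot_eq_one ha'
    have hyW : y ∈ W := hW ▸ Submodule.mem_top
    have := hyW a hfa
    rw [dotProduct_comm, hy] at this
    exact one_ne_zero this

theorem tv_single {i j : ι} (hij : i ≠ j) (c : F) :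
    (tv (Pi.single i c) (Pi.single j 1) : Matrix ι ι F) = Matrix.transvection i j c := by
  rw [tv_coe (by simp [hij]), Matrix.transvection]
  congr 1
  ext a b
  simp only [vecMulVec, of_apply, Pi.single_apply, single_apply]
  by_cases ha : a = i <;> by_cases hb : b = j <;> simp [ha, hb, Ne.symm]

/-- A subgroup containing every transvection contains the special linear group. -/
theorem specialLinear_le_of_forall_tv {M : Subgroup (GL ι F)} (h : ∀ v a, tv v a ∈ M) :
    specialLinear ι F ≤ M := by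
  intro g hg
  have hdet : (g : Matrix ι ι F).det = 1 := by
    rw [specialLinear, MonoidHom.mem_ker] at hg
    rw [← Matrix.GeneralLinearGroup.val_det_apply, hg, Units.val_one]
  rcases subsingleton_or_nontrivial ι with hs | hs
  · have : g = 1 := by
      apply Units.ext
      ext i j
      have : Unique ι := uniqueOfSubsingleton i
      rw [Subsingleton.elim j i, Units.val_one, one_apply_eq]
      rwa [det_unique, Subsingleton.elim (default : ι) i] at hdet
    rw [this]; exact M.one_mem
  have key : ∀ A : SpecialLinearGroup ι F, Matrix.SpecialLinearGroup.toGL A ∈ M := by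
    intro A
    have ht : ∀ (i j : ι) (hij : i ≠ j) (c : F),
        Matrix.SpecialLinearGroup.toGL (SpecialLinearGroup.transvection hij c) ∈ M := by
      intro i j hij c
      have e : Matrix.SpecialLinearGroup.toGL (SpecialLinearGroup.transvection hij c) =
          tv (Pi.single i c) (Pi.single j 1) := Units.ext (tv_single hij c).symm
      rw [e]; exact h _ _
    refine SpecialLinearGroup.diagonal_transvection_induction'
      (fun A => Matrix.SpecialLinearGroup.toGL A ∈ M) A (fun i j hij c hc => ?_) ht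
      (fun A B hA hB => by rw [map_mul]; exact M.mul_mem hA hB)
    have e : SpecialLinearGroup.diag2n hij c hc =
        SpecialLinearGroup.transvection hij c * SpecialLinearGroup.transvection hij.symm (-c⁻¹) *
        SpecialLinearGroup.transvection hij c * SpecialLinearGroup.transvection hij (-1) *
        SpecialLinearGroup.transvection hij.symm 1 * SpecialLinearGroup.transvection hij (-1) := by
      apply Subtype.ext
      simp only [SpecialLinearGroup.diag2n_coe]
      simp only [SpecialLinearGroup.transvection]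
      change _ = Matrix.transvection i j c * Matrix.transvection j i (-c⁻¹) *
        Matrix.transvection i j c * Matrix.transvection i j (-1) *
        Matrix.transvection j i 1 * Matrix.transvection i j (-1)
      apply Matrix.mulVec_injective
      funext x
      have hT : ∀ (p r : ι) (d : F) (y : ι → F),
          Matrix.transvection p r d *ᵥ y = y + Pi.single p (d * y r) := by
        intro p r d y
        rw [Matrix.transvection, add_mulVec, one_mulVec, single_mulVec]
        rfl
      simp only [← mulVec_mulVec, hT]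
      funext k
      by_cases hk : k = i
      · subst hk
        simp [mulVec_diagonal, hij, hij.symm]
        field_simp
        ring
      · by_cases hk' : k = j
        · subst hk'
          simp [mulVec_diagonal, hk, hij]
          field_simp
          ring
        · simp [mulVec_diagonal, hk, hk']
    rw [e]
    simp only [map_mul]
    refine M.mul_mem (M.mul_mem (M.mul_mem (M.mul_mem (M.mul_mem ?_ ?_) ?_) ?_) ?_) ?_
    all_goals exact ht _ _ _ _
  have := key ⟨(g : Matrix ι ι F), hdet⟩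
  convert this
  exact Units.ext rfl

/-- An irreducible subgroup containing all transvections with one axis contains `SL`. -/
theorem specialLinear_le_of_fullAxis {M : Subgroup (GL ι F)} (hirr : Irreducible M) {a : ι → F}
    (ha : a ≠ 0) (hfa : FullAxis M a) : specialLinear ι F ≤ M :=
  specialLinear_le_of_forall_tv (tv_mem_of_fullAxis hirr ha hfa)

/-- A full axis from a spanning set of centres. -/
theorem fullAxis_of_centres {M : Subgroup (GL ι F)} {a : ι → F}
    (h : ∀ v, a ⬝ᵥ v = 0 → v ∈ centres M a) : FullAxis M a :=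
  fun v hv => (mem_centres.mp (h v hv)).mem

/-- Criterion for maximality of `H` in `K`. -/
theorem isMaximalIn_of {G : Type*} [Group G] {K H : Subgroup G} (hle : H ≤ K)
    (hne : ∃ x ∈ K, x ∉ H)
    (hmax : ∀ M : Subgroup G, H ≤ M → M ≤ K → ∀ g ∈ M, g ∉ H → K ≤ M) : IsMaximalIn K H := by
  refine ⟨lt_of_le_of_ne hle ?_, fun M hHM hMK => ?_⟩
  · rintro rfl
    obtain ⟨x, hx, hx'⟩ := hne
    exact hx' hx
  · by_cases h : M ≤ H
    · exact Or.inl (le_antisymm h hHM)
    · obtain ⟨g, hg, hg'⟩ := Set.not_subset.mp h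
      exact Or.inr (le_antisymm hMK (hmax M hHM hMK g hg hg'))

end CfsgLib.MaxSub
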