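import Cfsg.Agent.MaxSub.HermStandard
import Cfsg.Agent.MaxSub.UnitaryBasic
import Cfsg.Agent.AschbacherForms.Adjoint
import Cfsg.Agent.Forms.UnitaryTransvections

/-!
# Overgroups in the special unitary group: the set of isotropic centres of transvections in a subgroup
-/

set_option autoImplicit false
set_option linter.unusedSectionVars false

namespace CfsgLib.MaxSub.UC

open Matrix Cfsg.Geo

variable {F : Type*} [Field F] [Fintype F] {n q : ℕ} {σ : F ≃+* F}

local notation "V" => (Fin n → F)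
local notation "η" => Cfsg.hermForm n F q
local notation "Mat" => Matrix (Fin n) (Fin n) F
local notation "SU" => (Cfsg.GU n F q ⊓ specialLinear (Fin n) F)

/-- The transvection `x ↦ x + c h(x, v) v` of an isotropic vector `v`. -/
noncomputable def uTv (q : ℕ) (v : V) (c : F) : GL (Fin n) F :=
  tv (c • v) (leftVec (Cfsg.hermForm n F q) v)

variable (hf : IsUnitaryForm σ (Cfsg.hermForm n F q))
include hf

theorem uTv_orth {v : V} (hv : η v v = 0) (c : F) : leftVec η v ⬝ᵥ (c • v) = 0 := by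
  rw [dotProduct_smul, (sesqForm_of_unitary hf).dot_leftVec, hv, smul_zero]

theorem uTv_mulVec {v : V} (hv : η v v = 0) (c : F) (x : V) :
    (uTv q v c : Mat) *ᵥ x = x + (c * η x v) • v := by
  rw [uTv, tv_mulVec (uTv_orth hf hv c), (sesqForm_of_unitary hf).dot_leftVec, smul_smul, mul_comm]

theorem uTv_mem {v : V} (hv : η v v = 0) {c : F} (hc : σ c = -c) : uTv q v c ∈ SU :=
  hermTv_mem hf hv hc

theorem leftVec_conj_gu {g : GL (Fin n) F} (hg : g ∈ Cfsg.GU n F q) (v : V) :
    leftVec η v ᵥ* ((g⁻¹ : GL (Fin n) F) : Mat) = leftVec η ((g : Mat) *ᵥ v) := by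
  refine dotProduct_eq _ _ fun x => ?_
  have hs := sesqForm_of_unitary hf
  rw [hs.dot_leftVec_conj, hs.dot_leftVec,
    ← mem_GU_iff_forall.mp hg (((g⁻¹ : GL (Fin n) F) : Mat) *ᵥ x) v]
  rw [mulVec_mulVec, Units.mul_inv, one_mulVec]

theorem conj_uTv {g : GL (Fin n) F} (hg : g ∈ Cfsg.GU n F q) (v : V) (c : F) :
    g * uTv q v c * g⁻¹ = uTv q ((g : Mat) *ᵥ v) c := by
  rw [uTv, conj_tv, mulVec_smul, leftVec_conj_gu hf hg]; rfl

theorem uTv_smul (a : F) (v : V) (c : F) : uTv q (a • v) c = uTv q v (c * (a * σ a)) := by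
  rw [uTv, uTv, (sesqForm_of_unitary hf).leftVec_smul, tv_smul_right, smul_smul, smul_smul]
  congr 2
  ring

omit hf in
/-- The isotropic centres all of whose transvections lie in `M`. -/
def CentreIn (q : ℕ) (σ : F ≃+* F) (M : Subgroup (GL (Fin n) F)) (v : V) : Prop :=
  ∀ c : F, σ c = -c → uTv q v c ∈ M

local notation "C⟦" M "⟧" => CentreIn q σ M

theorem centreIn_smul {M : Subgroup (GL (Fin n) F)} {v : V} (h : C⟦M⟧ v) (a : F) :
    C⟦M⟧ (a • v) := fun c hc => by
  rw [uTv_smul hf]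
  exact h _ (by rw [map_mul, map_mul, hc, hf.involutive]; ring)

theorem centreIn_map {M : Subgroup (GL (Fin n) F)} {v : V} (h : C⟦M⟧ v) {g : GL (Fin n) F}
    (hg : g ∈ Cfsg.GU n F q) (hgM : g ∈ M) : C⟦M⟧ ((g : Mat) *ᵥ v) := fun c hc => by
  rw [← conj_uTv hf hg]; exact M.mul_mem (M.mul_mem hgM (h c hc)) (M.inv_mem hgM)

/-- The isotropic points of the line through two non-orthogonal isotropic centres are centres. -/
theorem centreIn_add {M : Subgroup (GL (Fin n) F)} {x y : V} (hx : C⟦M⟧ x) (hy : C⟦M⟧ y)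
    (hx0 : η x x = 0) (hy0 : η y y = 0) (hxy : η x y ≠ 0) (h : η (x + y) (x + y) = 0) :
    C⟦M⟧ (x + y) := by
  have hs := sesqForm_of_unitary hf
  rw [hs.add_left, hs.add_right, hs.add_right, hx0, hy0, hf.herm y x] at h
  have hc : σ (η x y)⁻¹ = -(η x y)⁻¹ := by
    rw [map_inv₀, ← inv_neg]
    congr 1
    linear_combination h
  have := centreIn_map hf hx (uTv_mem hf hy0 hc).1 (hy _ hc)
  rwa [uTv_mulVec hf hy0, inv_mul_cancel₀ hxy, one_smul] at this

theorem centreIn_zero (M : Subgroup (GL (Fin n) F)) : C⟦M⟧ (0 : V) := fun c _ => by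
  rw [uTv, smul_zero, tv_zero_left]; exact M.one_mem

theorem su_det {g : GL (Fin n) F} : g ∈ specialLinear (Fin n) F ↔ (g : Mat).det = 1 := by
  rw [specialLinear, MonoidHom.mem_ker, Units.ext_iff]
  rfl

/-- The special unitary group is generated by its transvections. -/
theorem su_le_of_forall_uTv (hσ : ∀ a, σ a = a ^ q) (hF : Fintype.card F = q ^ 2) (hn : 4 ≤ n)
    {M : Subgroup (GL (Fin n) F)} (h : ∀ v, η v v = 0 → C⟦M⟧ v) : SU ≤ M := by
  obtain ⟨C, hC⟩ := CfsgLib.RepBounds.Unit.exists_conjField q hF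
  subst hC
  rintro g ⟨hg, hg'⟩
  have key : ∀ A : CfsgLib.RepBounds.Unit.suG C (Fin n), ∃ k ∈ M, (k : Mat) = A.1.1 := by
    intro A
    have hA : A ∈ CfsgLib.RepBounds.Unit.transvs C (Fin n) := by
      rw [CfsgLib.RepBounds.Unit.transvs_eq_top C (by rintro ⟨h3, -⟩; simp at h3; omega)]
      exact Subgroup.mem_top A
    induction hA using Subgroup.closure_induction with
    | mem A hA =>
      obtain ⟨v, c, hv, hc, hA⟩ := hA
      rw [← CfsgLib.RepBounds.Unit.hermForm_eq] at hv
      have hc' : σ c = -c := by rw [hσ, ← C.pow, C.skew_eq hc]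
      refine ⟨uTv C.q v c, h v hv c hc', Matrix.ext_iff_mulVec.mpr fun x => ?_⟩
      rw [uTv_mulVec hf hv, CfsgLib.RepBounds.Unit.hermForm_eq]
      exact (hA x).symm
    | one => exact ⟨1, M.one_mem, rfl⟩
    | mul A B _ _ hA hB =>
      obtain ⟨a, ha, ha'⟩ := hA
      obtain ⟨b, hb, hb'⟩ := hB
      exact ⟨a * b, M.mul_mem ha hb, by rw [Units.val_mul, ha', hb']; rfl⟩
    | inv A _ hA =>
      obtain ⟨a, ha, ha'⟩ := hA
      refine ⟨a⁻¹, M.inv_mem ha, ?_⟩
      apply Units.inv_eq_of_mul_eq_one_right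
      rw [ha']
      exact congrArg (fun B : CfsgLib.RepBounds.Unit.suG C (Fin n) => B.1.1) (mul_inv_cancel A)
  obtain ⟨k, hk, hk'⟩ := key ⟨⟨(g : Mat), (su_det hf).mp hg'⟩, by
    rw [CfsgLib.RepBounds.Unit.suG_fin_eq]; exact hg⟩
  rwa [← Units.ext hk']

/-- A matrix with the isometric action `x ↦ x + c h(x, d) d`. -/
theorem exists_quasiReflection {d : V} {c : F} (hc : c + σ c + c * σ c * η d d = 0) :
    ∃ g ∈ Cfsg.GU n F q, (g : Mat).det = 1 + c * η d d ∧
      ∀ x, (g : Mat) *ᵥ x = x + (c * η x d) • d := by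
  have hs := sesqForm_of_unitary hf
  set A : Mat := 1 + vecMulVec (c • d) (leftVec η d) with hA
  have happ : ∀ x, A *ᵥ x = x + (c * η x d) • d := fun x => by
    rw [hA, add_mulVec, one_mulVec, vecMulVec_mulVec', hs.dot_leftVec, smul_smul, mul_comm]
  have hdet : A.det = 1 + c * η d d := by
    rw [hA, vecMulVec_eq Unit, det_one_add_replicateCol_mul_replicateRow, dotProduct_smul,
      hs.dot_leftVec, smul_eq_mul]
  have hne : A.det ≠ 0 := by
    rw [hdet]
    intro h0
    have h1 : (1 + c * η d d) * σ (1 + c * η d d) = 1 := by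
      rw [map_add, map_one, map_mul, herm_self hf]
      linear_combination η d d * hc
    rw [h0, zero_mul] at h1
    exact zero_ne_one h1
  refine ⟨GeneralLinearGroup.mkOfDetNeZero A hne, mem_GU_iff_forall.mpr fun x y => ?_, hdet, happ⟩
  show η (A *ᵥ x) (A *ᵥ y) = η x y
  rw [happ, happ, hs.add_left, hs.add_right, hs.add_right, hs.smul_left, hs.smul_left,
    hs.smul_right, hs.smul_right, map_mul, ← hf.herm d y]
  linear_combination η x d * η d y * hc

theorem mulVec_eq_zero {g : GL (Fin n) F} {v : V} (h : (g : Mat) *ᵥ v = 0) : v = 0 := by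
  simpa [mulVec_mulVec] using congrArg (fun y => ((g⁻¹ : GL (Fin n) F) : Mat) *ᵥ y) h

theorem finrank_map_gl (g : GL (Fin n) F) (W : Submodule F V) :
    Module.finrank F (W.map (g : Mat).mulVecLin) = Module.finrank F W :=
  ((Submodule.equivMapOfInjective _ (mulVec_injective_iff_isUnit.mpr g.isUnit) W).finrank_eq).symm

/-- The orthogonal complement. -/
def uPerp (W : Submodule F V) : Submodule F V :=
  (CfsgLib.AschbacherForms.isReflexive_unitary hf).perp W

theorem mem_uPerp {W : Submodule F V} {x : V} : x ∈ uPerp hf W ↔ ∀ w ∈ W, η x w = 0 := Iff.rfl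

theorem finrank_uPerp (W : Submodule F V) :
    Module.finrank F (uPerp hf W) + Module.finrank F W = n := by
  have := (CfsgLib.AschbacherForms.isReflexive_unitary hf).finrank_perp W
  rwa [Fintype.card_fin] at this

theorem uPerp_uPerp (W : Submodule F V) : uPerp hf (uPerp hf W) = W :=
  (CfsgLib.AschbacherForms.isReflexive_unitary hf).perp_perp W

/-- A subspace all of whose vectors are isotropic is totally singular. -/
theorem singular_of_forall_iso {K : Submodule F V} (h : ∀ t ∈ K, η t t = 0) :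
    IsTotallySingularFor η K := by
  have hs := sesqForm_of_unitary hf
  intro s hsK t htK
  by_contra hne
  obtain ⟨m, hm⟩ := trace_surjective hf.ne_refl hf.involutive (a := (1 : F)) (map_one σ)
  have := h ((m / η s t) • s + t) (K.add_mem (K.smul_mem _ hsK) htK)
  rw [hs.add_left, hs.add_right, hs.add_right, hs.smul_left, hs.smul_left, hs.smul_right,
    hs.smul_right, h s hsK, h t htK, hf.herm t s, ← map_mul, div_mul_cancel₀ _ hne] at this
  exact one_ne_zero (by linear_combination this - hm)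

/-- An isotropic vector of a subspace with a given partner. -/
theorem exists_iso_partner {U : Submodule F V} {z w : V} (hz : z ∈ U) (hz0 : η z z = 0)
    (hw : w ∈ U) (hwz : η w z ≠ 0) : ∃ z' ∈ U, η z' z' = 0 ∧ η z' z = 1 := by
  have hs := sesqForm_of_unitary hf
  obtain ⟨t, h1, h2⟩ := exists_iso_shift hf hz0 hwz
  refine ⟨(η w z)⁻¹ • (w + t • z), U.smul_mem _ (U.add_mem hw (U.smul_mem _ hz)), ?_, ?_⟩
  · rw [hs.smul_left, hs.smul_right, h1, mul_zero, mul_zero]
  · rw [hs.smul_left, h2, inv_mul_cancel₀ hwz]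

end CfsgLib.MaxSub.UC
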