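import Cfsg.Agent.MaxSub.Transvection

/-!
# Sesquilinear forms given as functions: vectors representing linear forms, orthogonality,
transvections of forms, similarities
-/

set_option autoImplicit false
set_option linter.unusedSectionVars false

namespace CfsgLib.MaxSub

open Matrix Cfsg.Geo

variable {ι : Type} [Fintype ι] [DecidableEq ι] {F : Type*} [Field F]

/-- A non-degenerate sesquilinear form for the ring automorphism `σ`. -/
structure SesqForm (σ : F ≃+* F) (f : (ι → F) → (ι → F) → F) : Prop where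
  add_left : ∀ x y v, f (x + y) v = f x v + f y v
  smul_left : ∀ (c : F) (x v : ι → F), f (c • x) v = c * f x v
  add_right : ∀ v x y, f v (x + y) = f v x + f v y
  smul_right : ∀ (c : F) (v x : ι → F), f v (c • x) = σ c * f v x
  nondegenerate : IsNondegenerateForm f

theorem sesqForm_of_symplectic {f : (ι → F) → (ι → F) → F} (hf : IsSymplecticForm f) :
    SesqForm (RingEquiv.refl F) f :=
  ⟨hf.bilinear.add_left, hf.bilinear.smul_left, hf.bilinear.add_right,
    fun c v x => hf.bilinear.smul_right c v x, hf.nondegenerate⟩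

theorem sesqForm_of_unitary {σ : F ≃+* F} {f : (ι → F) → (ι → F) → F} (hf : IsUnitaryForm σ f) :
    SesqForm σ f :=
  ⟨hf.add_left, hf.smul_left,
    fun v x y => by rw [hf.herm, hf.add_left, map_add, ← hf.herm, ← hf.herm],
    fun c v x => by rw [hf.herm, hf.smul_left, map_mul, ← hf.herm],
    hf.nondegenerate⟩

theorem sesqForm_of_quadratic {Q : (ι → F) → F} (hQ : IsNondegenerateQuadraticForm Q) :
    SesqForm (RingEquiv.refl F) (QuadraticMap.polar Q) :=
  ⟨hQ.polar_bilinear.add_left, hQ.polar_bilinear.smul_left, hQ.polar_bilinear.add_right,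
    fun c v x => hQ.polar_bilinear.smul_right c v x, hQ.nondegenerate⟩

/-- The vector representing the linear form `x ↦ f x v`. -/
def leftVec (f : (ι → F) → (ι → F) → F) (v : ι → F) : ι → F := fun j => f (Pi.single j 1) v

namespace SesqForm

variable {σ : F ≃+* F} {f : (ι → F) → (ι → F) → F} (hf : SesqForm σ f)

include hf

theorem dot_leftVec (v x : ι → F) : leftVec f v ⬝ᵥ x = f x v := by
  let L : (ι → F) →ₗ[F] F :=
    { toFun := fun y => f y v
      map_add' := fun y z => hf.add_left y z v
      map_smul' := fun c y => hf.smul_left c y v }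
  have h := L.pi_apply_eq_sum_univ x
  rw [show f x v = L x from rfl, h, dotProduct]
  refine Finset.sum_congr rfl fun i _ => ?_
  rw [smul_eq_mul, mul_comm, leftVec]
  congr 1
  simp only [L, LinearMap.coe_mk, AddHom.coe_mk]
  congr 1
  ext j
  simp [Pi.single_apply, eq_comm]

theorem zero_left (v : ι → F) : f 0 v = 0 := by simpa using hf.smul_left 0 0 v

theorem zero_right (v : ι → F) : f v 0 = 0 := by simpa using hf.smul_right 0 v 0

theorem neg_left (x v : ι → F) : f (-x) v = - f x v := by
  rw [← neg_one_smul F x, hf.smul_left]; ring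

theorem neg_right (x v : ι → F) : f x (-v) = - f x v := by
  rw [← neg_one_smul F v, hf.smul_right, map_neg, map_one]; ring

theorem sub_left (x y v : ι → F) : f (x - y) v = f x v - f y v := by
  rw [sub_eq_add_neg, hf.add_left, hf.neg_left, sub_eq_add_neg]

theorem sub_right (v x y : ι → F) : f v (x - y) = f v x - f v y := by
  rw [sub_eq_add_neg, hf.add_right, hf.neg_right, sub_eq_add_neg]

theorem ext_right {u v : ι → F} (h : ∀ x, f x u = f x v) : u = v := by
  by_contra hne
  obtain ⟨x, hx⟩ := (hf.nondegenerate (u - v) (sub_ne_zero.mpr hne)).1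
  exact hx (by rw [hf.sub_right, h, sub_self])

theorem exists_left_ne_zero {v : ι → F} (hv : v ≠ 0) : ∃ x, f x v ≠ 0 :=
  (hf.nondegenerate v hv).1

theorem leftVec_ne_zero {v : ι → F} (hv : v ≠ 0) : leftVec f v ≠ 0 := fun h => by
  obtain ⟨x, hx⟩ := hf.exists_left_ne_zero hv
  rw [← hf.dot_leftVec, h, zero_dotProduct] at hx
  exact hx rfl

theorem leftVec_smul (c : F) (v : ι → F) : leftVec f (c • v) = σ c • leftVec f v := by
  ext j; simp [leftVec, hf.smul_right]

theorem leftVec_add (u v : ι → F) : leftVec f (u + v) = leftVec f u + leftVec f v := by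
  ext j; simp [leftVec, hf.add_right]

theorem leftVec_surjective (a : ι → F) : ∃ u : ι → F, leftVec f u = a := by
  let L : (ι → F) →ₗ[F] (ι → F) :=
    { toFun := fun u => fun j => σ.symm (f (Pi.single j 1) u)
      map_add' := fun u v => funext fun j => by simp [hf.add_right]
      map_smul' := fun c u => funext fun j => by simp [hf.smul_right] }
  have hinj : Function.Injective L := by
    rw [injective_iff_map_eq_zero]
    intro u hu
    by_contra hne
    refine hf.leftVec_ne_zero hne (funext fun j => ?_)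
    have := congrFun hu j
    simpa [L, leftVec] using this
  obtain ⟨u, hu⟩ := LinearMap.surjective_of_injective hinj (fun j => σ.symm (a j))
  refine ⟨u, funext fun j => ?_⟩
  have := congrFun hu j
  simpa [L, leftVec] using this

/-- Non-proportional vectors give non-proportional linear forms. -/
theorem leftVec_not_smul {u v : ι → F} (h : ∀ c : F, c • u ≠ v) :
    ∀ c : F, c • leftVec f u ≠ leftVec f v := by
  intro c hc
  refine h (σ.symm c) (hf.ext_right fun x => ?_)
  rw [hf.smul_right, RingEquiv.apply_symm_apply, ← hf.dot_leftVec v x, ← hc, smul_dotProduct,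
    smul_eq_mul, hf.dot_leftVec]

/-- A vector orthogonal to `u` and not to `v`. -/
theorem exists_orth_not_orth {u v : ι → F} (h : ∀ c : F, c • u ≠ v) :
    ∃ x : ι → F, f x u = 0 ∧ f x v = 1 := by
  obtain ⟨x, h1, h2⟩ := exists_dot_eq_zero_one (hf.leftVec_not_smul h)
  exact ⟨x, by rwa [← hf.dot_leftVec], by rwa [← hf.dot_leftVec]⟩

theorem dot_leftVec_conj (g : GL ι F) (v x : ι → F) :
    (leftVec f v ᵥ* ((g⁻¹ : GL ι F) : Matrix ι ι F)) ⬝ᵥ x =
      f (((g⁻¹ : GL ι F) : Matrix ι ι F) *ᵥ x) v := by
  rw [← dotProduct_mulVec, hf.dot_leftVec]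

/-- The vectors on which `g` acts as a similarity with multiplier `μ` form a subspace. -/
def similarOn (g : Matrix ι ι F) (μ : F) : Submodule F (ι → F) where
  carrier := {v | ∀ x, f (g *ᵥ x) (g *ᵥ v) = μ * f x v}
  add_mem' {u v} hu hv x := by rw [mulVec_add, hf.add_right, hf.add_right, hu, hv, mul_add]
  zero_mem' x := by rw [mulVec_zero, hf.zero_right, hf.zero_right, mul_zero]
  smul_mem' c v hv x := by rw [mulVec_smul, hf.smul_right, hf.smul_right, hv]; ring

theorem mem_similarityGroup_of_similarOn (g : GL ι F) (μ : F)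
    (h : hf.similarOn (g : Matrix ι ι F) μ = ⊤) : g ∈ similarityGroup f := by
  have h' : ∀ v x, f ((g : Matrix ι ι F) *ᵥ x) ((g : Matrix ι ι F) *ᵥ v) = μ * f x v := by
    intro v
    have : v ∈ hf.similarOn (g : Matrix ι ι F) μ := h ▸ Submodule.mem_top
    exact this
  rcases isEmpty_or_nonempty ι with hι | hι
  · refine ⟨1, fun u v => ?_⟩
    simp [Subsingleton.elim ((g : Matrix ι ι F) *ᵥ u) u, Subsingleton.elim ((g : Matrix ι ι F) *ᵥ v) v]
  have hμ : μ ≠ 0 := by
    intro hμ
    obtain ⟨v, hv⟩ := exists_ne (0 : ι → F)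
    have hgv : (g : Matrix ι ι F) *ᵥ v ≠ 0 := fun h0 => hv (by
      have := congrArg (fun y => ((g⁻¹ : GL ι F) : Matrix ι ι F) *ᵥ y) h0
      simpa [mulVec_mulVec] using this)
    obtain ⟨y, hy⟩ := hf.exists_left_ne_zero hgv
    refine hy ?_
    have := h' v (((g⁻¹ : GL ι F) : Matrix ι ι F) *ᵥ y)
    rw [mulVec_mulVec, Units.mul_inv, one_mulVec, hμ, zero_mul] at this
    exact this
  exact ⟨Units.mk0 μ hμ, fun u v => h' v u⟩

/-- Multipliers at independent vectors agree with that at a combination of them. -/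
theorem multiplier_eq {g : Matrix ι ι F} {u v : ι → F} {a b μu μv μw : F}
    (hind : ∀ c : F, c • u ≠ v) (hu0 : u ≠ 0) (ha : a ≠ 0) (hb : b ≠ 0)
    (hu : ∀ x, f (g *ᵥ x) (g *ᵥ u) = μu * f x u)
    (hv : ∀ x, f (g *ᵥ x) (g *ᵥ v) = μv * f x v)
    (hw : ∀ x, f (g *ᵥ x) (g *ᵥ (a • u + b • v)) = μw * f x (a • u + b • v)) :
    μw = μu ∧ μw = μv := by
  have key : ∀ x, (μw - μu) * σ a * f x u + (μw - μv) * σ b * f x v = 0 := by
    intro x
    have := hw x
    rw [mulVec_add, mulVec_smul, mulVec_smul, hf.add_right, hf.smul_right, hf.smul_right, hu, hv,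
      hf.add_right, hf.smul_right, hf.smul_right] at this
    linear_combination -this
  obtain ⟨x, hxu, hxv⟩ := hf.exists_orth_not_orth hind
  have hv' : μw = μv := by
    have := key x
    rw [hxu, hxv] at this
    simp [hb, sub_eq_zero] at this
    exact this
  refine ⟨?_, hv'⟩
  obtain ⟨y, hy⟩ := hf.exists_left_ne_zero hu0
  have := key y
  rw [hv'] at this ⊢
  simpa [hy, ha, sub_eq_zero] using this

/-- Transvections moving the form: if the axis is not a multiple of `leftVec f v`, the transvection
is not a similarity. -/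
theorem tv_not_similar {v a : ι → F} (hv : v ≠ 0) (ha : a ⬝ᵥ v = 0)
    (hprop : ∀ c : F, c • leftVec f v ≠ a) : tv v a ∉ similarityGroup f := by
  rintro ⟨c, hc⟩
  obtain ⟨y, hy⟩ := hf.exists_left_ne_zero hv
  have h1 := hc y v
  rw [tv_mulVec ha, tv_mulVec ha, ha, zero_smul, add_zero, hf.add_left, hf.smul_left] at h1
  obtain ⟨x, hxv, hax⟩ := exists_dot_eq_zero_one hprop
  rw [hf.dot_leftVec] at hxv
  have h2 := fun z => hc x z
  -- evaluating at `(x, v)` and at a vector pairing non-trivially with `v`
  obtain ⟨z, hz⟩ := (hf.nondegenerate v hv).2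
  have h3 := hc x v
  rw [tv_mulVec ha, tv_mulVec ha, ha, zero_smul, add_zero, hf.add_left, hf.smul_left, hxv, hax,
    one_mul, mul_zero, zero_add] at h3
  rw [h3, mul_zero, add_zero] at h1
  have hc1 : (c : F) = 1 := by
    exact (mul_eq_right₀ hy).mp h1.symm
  have h4 := h2 z
  rw [tv_mulVec ha, tv_mulVec ha, hax, one_smul, hf.add_left, hf.add_right, hf.add_right,
    hf.smul_right, hf.smul_right, hxv, h3, hc1] at h4
  exact hz (by linear_combination h4)

end SesqForm

end CfsgLib.MaxSub
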