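import Cfsg.Agent.Aschbacher.Reduce
import Cfsg.Agent.Aschbacher.Heisenberg

/-!
# Groups with a normal absolutely irreducible subgroup abelian modulo scalars

Such a group, in dimension `r ^ m`, normalises a symplectic-type group, or preserves a subfield
structure or a form.
-/

set_option autoImplicit false
set_option linter.unusedSectionVars false

namespace CfsgLib.MaxSub

open Matrix Cfsg.Geo CfsgLib.Aschbacher

variable {ι : Type} [Fintype ι] [DecidableEq ι] {F : Type*} [Field F]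

/-- The homomorphism onto the scalar matrices. -/
def scHom (ι : Type) [Fintype ι] [DecidableEq ι] (F : Type*) [Field F] : Fˣ →* GL ι F :=
  Units.map (Matrix.scalar ι : F →+* Matrix ι ι F).toMonoidHom

theorem mat_scHom (c : Fˣ) : mat (scHom ι F c) = (c : F) • 1 := mat_scalarGL c

theorem scHom_mem (c : Fˣ) : scHom ι F c ∈ scalars ι F := ⟨c, rfl⟩

theorem exists_scHom {g : GL ι F} (hg : g ∈ scalars ι F) : ∃ c : Fˣ, g = scHom ι F c := by
  obtain ⟨c, hc⟩ := (mem_scalars_iff g).1 hg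
  exact ⟨c, Units.ext (by rw [hc]; exact (mat_scHom c).symm)⟩

theorem scHom_injective [Nonempty ι] : Function.Injective (scHom ι F) := fun a b h => by
  obtain ⟨i⟩ := ‹Nonempty ι›
  have e : mat (scHom ι F a) = mat (scHom ι F b) := by rw [h]
  rw [mat_scHom, mat_scHom] at e
  exact Units.ext (by simpa using congrFun (congrFun e i) i)

theorem scHom_comm (c : Fˣ) (g : GL ι F) : scHom ι F c * g = g * scHom ι F c :=
  scalars_comm (scHom_mem c)

/-- The hypotheses left by Aschbacher's reduction, with the scalars adjoined. -/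
structure SocleData (H E : Subgroup (GL ι F)) (r : ℕ) : Prop where
  prime : r.Prime
  scalars_le : scalars ι F ≤ E
  normal : Normalizes H E
  absIrred : ActsAbsolutelyIrreducibly (matrixSet E)
  comm : ∀ x ∈ E, ∀ y ∈ E, x * y * x⁻¹ * y⁻¹ ∈ scalars ι F
  pow_mem : ∀ x ∈ E, x ^ r ∈ scalars ι F
  abelian_scalar : ∀ M ≤ E, Normalizes H M → (∀ x ∈ M, ∀ y ∈ M, x * y = y * x) → M ≤ scalars ι F

theorem normalizes_sup_scalars {H N : Subgroup (GL ι F)} (hn : Normalizes H N) :
    Normalizes H (N ⊔ scalars ι F) := by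
  intro g hg x hx
  obtain ⟨a, ha, s, hs, rfl⟩ := Subgroup.mem_sup_of_normal_right.1 hx
  rw [conj_mul_scalar hs]
  exact mul_mem (Subgroup.mem_sup_left (hn g hg a ha)) (Subgroup.mem_sup_right hs)

theorem exists_socleData [Nonempty ι] {H : Subgroup (GL ι F)} (h : HasAbelianSocle H) :
    ∃ (E : Subgroup (GL ι F)) (r m : ℕ), SocleData H E r ∧ Fintype.card ι = r ^ m := by
  obtain ⟨N, r, m, hr, hcard, -, hn, habs, hD, hpow, hab⟩ := h
  refine ⟨N ⊔ scalars ι F, r, m, ⟨hr, le_sup_right, normalizes_sup_scalars hn,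
    absIrred_mono (Set.image_mono (le_sup_left : N ≤ N ⊔ scalars ι F)) habs, ?_, ?_, ?_⟩, hcard⟩
  · intro x hx y hy
    obtain ⟨a, ha, s, hs, rfl⟩ := Subgroup.mem_sup_of_normal_right.1 hx
    obtain ⟨b, hb, t, ht, rfl⟩ := Subgroup.mem_sup_of_normal_right.1 hy
    rw [← commutatorElement_def, commutatorElement_mul_scalar hs ht]
    exact hD (Subgroup.commutator_mem_commutator ha hb)
  · intro x hx
    obtain ⟨a, ha, s, hs, rfl⟩ := Subgroup.mem_sup_of_normal_right.1 hx
    rw [Commute.mul_pow (scalars_comm hs).symm]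
    exact mul_mem (hpow a ha) (pow_mem hs r)
  · intro M hM hMn hMc
    -- trade scalars to land in `N`
    let M' : Subgroup (GL ι F) := (M ⊔ scalars ι F) ⊓ N
    have hM'c : ∀ x ∈ M', ∀ y ∈ M', x * y = y * x := by
      intro x hx y hy
      obtain ⟨a, ha, s, hs, rfl⟩ := Subgroup.mem_sup_of_normal_right.1 hx.1
      obtain ⟨b, hb, t, ht, rfl⟩ := Subgroup.mem_sup_of_normal_right.1 hy.1
      calc a * s * (b * t) = a * b * (s * t) := by
            rw [mul_assoc a, ← mul_assoc s, scalars_comm hs (g := b)]; simp only [mul_assoc]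
        _ = b * a * (t * s) := by rw [hMc a ha b hb, scalars_comm hs (g := t)]
        _ = b * t * (a * s) := by
            rw [mul_assoc b t, ← mul_assoc t, scalars_comm ht (g := a)]; simp only [mul_assoc]
    have hM's := hab M' inf_le_right
      (fun g hg x hx => ⟨normalizes_sup_scalars hMn g hg x hx.1, hn g hg x hx.2⟩) hM'c
    intro x hx
    obtain ⟨a, ha, s, hs, rfl⟩ := Subgroup.mem_sup_of_normal_right.1 (hM hx)
    refine mul_mem (hM's ⟨?_, ha⟩) hs
    simpa using mul_mem (Subgroup.mem_sup_left hx : a * s ∈ M ⊔ scalars ι F)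
      (Subgroup.mem_sup_right (inv_mem hs))

section socle

variable {H E : Subgroup (GL ι F)} {r : ℕ}

/-- The commutation scalar. -/
theorem SocleData.exists_kappa (hS : SocleData H E r) :
    ∃ κ : GL ι F → GL ι F → Fˣ, ∀ x ∈ E, ∀ y ∈ E, x * y = scHom ι F (κ x y) * (y * x) := by
  classical
  refine ⟨fun x y => if h : x ∈ E ∧ y ∈ E then (exists_scHom (hS.comm x h.1 y h.2)).choose else 1,
    fun x hx y hy => ?_⟩
  simp only
  rw [dif_pos ⟨hx, hy⟩, ← (exists_scHom (hS.comm x hx y hy)).choose_spec]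
  group

variable [Nonempty ι]

theorem kappa_eq {κ : GL ι F → GL ι F → Fˣ}
    (hκ : ∀ x ∈ E, ∀ y ∈ E, x * y = scHom ι F (κ x y) * (y * x)) {x y : GL ι F} (hx : x ∈ E)
    (hy : y ∈ E) {c : Fˣ} (h : x * y = scHom ι F c * (y * x)) : κ x y = c :=
  scHom_injective (mul_right_cancel ((hκ x hx y hy).symm.trans h))

theorem kappa_mul_left (hS : SocleData H E r) {κ : GL ι F → GL ι F → Fˣ}
    (hκ : ∀ x ∈ E, ∀ y ∈ E, x * y = scHom ι F (κ x y) * (y * x)) {x x' y : GL ι F} (hx : x ∈ E)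
    (hx' : x' ∈ E) (hy : y ∈ E) : κ (x * x') y = κ x y * κ x' y := by
  refine kappa_eq hκ (mul_mem hx hx') hy ?_
  rw [mul_assoc x x' y, hκ x' hx' y hy, map_mul]
  calc x * (scHom ι F (κ x' y) * (y * x'))
      = scHom ι F (κ x' y) * (x * y * x') := by
        rw [← mul_assoc x, ← scHom_comm]; simp only [mul_assoc]
    _ = scHom ι F (κ x' y) * (scHom ι F (κ x y) * (y * x) * x') := by rw [← hκ x hx y hy]
    _ = scHom ι F (κ x y) * scHom ι F (κ x' y) * (y * (x * x')) := by
        rw [scHom_comm (κ x y) (scHom ι F (κ x' y))]; simp only [mul_assoc]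

theorem kappa_pow_eq_one (hS : SocleData H E r) {κ : GL ι F → GL ι F → Fˣ}
    (hκ : ∀ x ∈ E, ∀ y ∈ E, x * y = scHom ι F (κ x y) * (y * x)) {x y : GL ι F} (hx : x ∈ E)
    (hy : y ∈ E) : κ x y ^ r = 1 := by
  refine scHom_injective (ι := ι) ?_
  have h1 : x * y * x⁻¹ = scHom ι F (κ x y) * y := by
    rw [hκ x hx y hy]; group
  have h2 := congrArg (· ^ r) h1
  simp only [conj_pow] at h2
  rw [Commute.mul_pow (scHom_comm _ _), ← map_pow,
    ← scalars_comm (hS.pow_mem y hy) (g := x), mul_inv_cancel_right] at h2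
  rw [map_one]
  exact mul_eq_right.mp h2.symm

/-- There are at most `|Q|` multiplicative characters of a finite group `Q`. -/
theorem card_char_le (Q : Type*) [Group Q] [Finite Q] :
    Nat.card (Q →* Fˣ) ≤ Nat.card Q := by
  have := Fintype.ofFinite Q
  let θ : (Q →* Fˣ) → (Q →* F) := fun φ => (Units.coeHom F).comp φ
  have hθ : Function.Injective θ := fun a b h =>
    MonoidHom.ext fun q => Units.ext (DFunLike.congr_fun h q)
  have hli : LinearIndependent F fun φ : Q →* Fˣ => ((θ φ : Q →* F) : Q → F) :=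
    (linearIndependent_monoidHom Q F).comp θ hθ
  have := hli.finite
  have := Fintype.ofFinite (Q →* Fˣ)
  rw [Nat.card_eq_fintype_card, Nat.card_eq_fintype_card]
  exact hli.fintype_card_le_finrank.trans (Module.finrank_fintype_fun_eq_card F).le

/-- Every character of `E` trivial on the scalars is a commutation character. -/
theorem exists_eq_kappa [Finite F] (hS : SocleData H E r) {κ : GL ι F → GL ι F → Fˣ}
    (hκ : ∀ x ∈ E, ∀ y ∈ E, x * y = scHom ι F (κ x y) * (y * x)) (φ : E →* Fˣ)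
    (hφ : ∀ s : E, s.1 ∈ scalars ι F → φ s = 1) : ∃ y ∈ E, ∀ x : E, φ x = κ x.1 y := by
  classical
  let S : Subgroup E := (scalars ι F).subgroupOf E
  have : S.Normal := inferInstance
  let ψ : E → (E →* Fˣ) := fun y =>
    { toFun := fun x => κ x.1 y.1
      map_one' := kappa_eq hκ (one_mem E) y.2 (by simp)
      map_mul' := fun x x' => kappa_mul_left hS hκ x.2 x'.2 y.2 }
  have hψ : ∀ y, S ≤ (ψ y).ker := fun y s hs =>
    kappa_eq hκ s.2 y.2 (by rw [map_one, one_mul, scalars_comm (Subgroup.mem_subgroupOf.1 hs)])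
  let θ : E ⧸ S → (E ⧸ S →* Fˣ) := fun q => QuotientGroup.lift S (ψ q.out) (hψ _)
  have hθ : Function.Injective θ := by
    intro q q' h
    rw [← QuotientGroup.out_eq' q, ← QuotientGroup.out_eq' q', QuotientGroup.eq,
      Subgroup.mem_subgroupOf]
    refine mem_scalars_of_commute hS.absIrred fun x hx => ?_
    have e : κ x q.out.1 = κ x q'.out.1 :=
      DFunLike.congr_fun h ((⟨x, hx⟩ : E) : E ⧸ S)
    have h1 : x * q.out.1 * x⁻¹ = scHom ι F (κ x q.out.1) * q.out.1 := by
      rw [hκ x hx _ q.out.2]; group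
    have h2 : x * q'.out.1 * x⁻¹ = scHom ι F (κ x q.out.1) * q'.out.1 := by
      rw [e, hκ x hx _ q'.out.2]; group
    have e1 : x * (q.out.1⁻¹ * q'.out.1) * x⁻¹ = q.out.1⁻¹ * q'.out.1 := by
      calc x * (q.out.1⁻¹ * q'.out.1) * x⁻¹ = (x * q.out.1 * x⁻¹)⁻¹ * (x * q'.out.1 * x⁻¹) := by
            group
        _ = _ := by rw [h1, h2]; group
    show q.out.1⁻¹ * q'.out.1 * x = x * (q.out.1⁻¹ * q'.out.1)
    nth_rewrite 1 [← e1]
    group
  have : Finite (E ⧸ S →* Fˣ) := Finite.of_injective _ (DFunLike.coe_injective)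
  have hsurj : Function.Surjective θ :=
    ((Nat.bijective_iff_injective_and_card θ).2
      ⟨hθ, le_antisymm (Nat.card_le_card_of_injective θ hθ) (card_char_le _)⟩).2
  obtain ⟨q, hq⟩ := hsurj (QuotientGroup.lift S φ fun s hs => hφ s (Subgroup.mem_subgroupOf.1 hs))
  exact ⟨q.out.1, q.out.2, fun x => (DFunLike.congr_fun hq (x : E ⧸ S)).symm⟩

/-- `E` modulo scalars has order `n ^ 2`. -/
theorem card_quot_eq [Finite F] (hS : SocleData H E r) :
    Nat.card (E ⧸ (scalars ι F).subgroupOf E) = Fintype.card ι ^ 2 := by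
  classical
  obtain ⟨κ, hκ⟩ := hS.exists_kappa
  have := Fintype.ofFinite (E ⧸ (scalars ι F).subgroupOf E)
  let s : E ⧸ (scalars ι F).subgroupOf E → Matrix ι ι F := fun q => mat q.out.1
  have hconj : ∀ q (x : E), mat x.1 * s q * mat x.1⁻¹ = ((κ x.1 q.out.1 : Fˣ) : F) • s q := by
    intro q x
    have h1 : x.1 * q.out.1 * x.1⁻¹ = scHom ι F (κ x.1 q.out.1) * q.out.1 := by
      rw [hκ x.1 x.2 _ q.out.2]; group
    have h2 : mat (x.1 * q.out.1 * x.1⁻¹) = mat (scHom ι F (κ x.1 q.out.1) * q.out.1) := by rw [h1]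
    simpa [mat, Units.val_mul, show ((scHom ι F (κ x.1 q.out.1) : GL ι F) : Matrix ι ι F) = _ from
      mat_scHom _, Matrix.smul_mul] using h2
  let χ : E ⧸ (scalars ι F).subgroupOf E → (E →* F) := fun q =>
    (Units.coeHom F).comp
      { toFun := fun x : E => κ x.1 q.out.1
        map_one' := kappa_eq hκ (one_mem E) q.out.2 (by simp)
        map_mul' := fun x x' => kappa_mul_left hS hκ x.2 x'.2 q.out.2 }
  have hχ : Function.Injective χ := by
    intro q q' h
    rw [← QuotientGroup.out_eq' q, ← QuotientGroup.out_eq' q', QuotientGroup.eq,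
      Subgroup.mem_subgroupOf]
    refine mem_scalars_of_commute hS.absIrred fun x hx => ?_
    have e : κ x q.out.1 = κ x q'.out.1 := Units.ext (DFunLike.congr_fun h (⟨x, hx⟩ : E))
    have h1 : x * q.out.1 * x⁻¹ = scHom ι F (κ x q.out.1) * q.out.1 := by
      rw [hκ x hx _ q.out.2]; group
    have h2 : x * q'.out.1 * x⁻¹ = scHom ι F (κ x q.out.1) * q'.out.1 := by
      rw [e, hκ x hx _ q'.out.2]; group
    have e1 : x * (q.out.1⁻¹ * q'.out.1) * x⁻¹ = q.out.1⁻¹ * q'.out.1 := by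
      calc x * (q.out.1⁻¹ * q'.out.1) * x⁻¹ = (x * q.out.1 * x⁻¹)⁻¹ * (x * q'.out.1 * x⁻¹) := by
            group
        _ = _ := by rw [h1, h2]; group
    show q.out.1⁻¹ * q'.out.1 * x = x * (q.out.1⁻¹ * q'.out.1)
    nth_rewrite 1 [← e1]
    group
  have hli : LinearIndependent F s := by
    rw [Fintype.linearIndependent_iff]
    intro c hc q₀
    have h1 : ∀ i j, c q₀ * s q₀ i j = 0 := by
      intro i j
      have h4 := (linearIndependent_monoidHom E F).comp χ hχ
      refine Fintype.linearIndependent_iff.1 h4 (fun q => c q * s q i j) ?_ q₀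
      funext x
      have h3 := congrArg (fun M => (mat x.1 * M * mat x.1⁻¹) i j) hc
      simp only [mul_zero, zero_mul, Matrix.mul_sum, Matrix.sum_mul, Matrix.mul_smul,
        Matrix.smul_mul, hconj, Matrix.sum_apply, Matrix.smul_apply, smul_eq_mul,
        Matrix.zero_apply] at h3
      rw [Finset.sum_apply, Pi.zero_apply, ← h3]
      exact Finset.sum_congr rfl fun q _ => by
        show c q * s q i j * ((κ x.1 q.out.1 : Fˣ) : F) = _
        ring
    by_contra h0
    exact q₀.out.1.ne_zero (by ext i j; exact (mul_eq_zero.1 (h1 i j)).resolve_left h0)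
  have hspan : Submodule.span F (Set.range s) = ⊤ := by
    rw [eq_top_iff, ← span_eq_top_of_absIrred hS.absIrred, Submodule.span_le]
    rintro _ ⟨x, hx, rfl⟩
    let q : E ⧸ (scalars ι F).subgroupOf E := ((⟨x, hx⟩ : E) : _)
    have h1 : q.out⁻¹ * ⟨x, hx⟩ ∈ (scalars ι F).subgroupOf E :=
      QuotientGroup.eq.1 (QuotientGroup.out_eq' q)
    obtain ⟨d, hd⟩ := (mem_scalars_iff _).1 (Subgroup.mem_subgroupOf.1 h1)
    have h2 : mat x = (d : F) • s q := by
      calc mat x = s q * mat (q.out⁻¹ * ⟨x, hx⟩ : E).1 := by simp [s, mat]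
        _ = _ := by rw [show mat (q.out⁻¹ * ⟨x, hx⟩ : E).1 = _ from hd, Matrix.mul_smul, mul_one]
    show mat x ∈ _
    rw [h2]
    exact Submodule.smul_mem _ _ (Submodule.subset_span ⟨q, rfl⟩)
  rw [Nat.card_eq_fintype_card, ← finrank_span_eq_card hli, hspan, finrank_top,
    Module.finrank_matrix, Module.finrank_self, mul_one, sq]

/-- The `r`-th power of a product. -/
theorem pow_mul_socle (hS : SocleData H E r) {κ : GL ι F → GL ι F → Fˣ}
    (hκ : ∀ x ∈ E, ∀ y ∈ E, x * y = scHom ι F (κ x y) * (y * x)) {x y : GL ι F} (hx : x ∈ E)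
    (hy : y ∈ E) (n : ℕ) :
    (x * y) ^ n = x ^ n * y ^ n * scHom ι F (κ y x ^ n.choose 2) := by
  rw [map_pow]
  refine mul_pow_of_central ?_ (scHom_comm _ x) (scHom_comm _ y) n
  rw [hκ y hy x hx, scHom_comm]

/-- If all commutation scalars have suitable roots, `E` consists of scalar multiples of elements
of exponent `k`. -/
theorem exists_scale [Finite F] (hS : SocleData H E r) {k : ℕ}
    (hk : (r ≠ 2 ∧ k = r) ∨ (r = 2 ∧ k = 4)) {ζ : Fˣ} (hζ : IsPrimitiveRoot ζ k) {x : GL ι F}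
    (hx : x ∈ E) : ∃ β : Fˣ, (scHom ι F β * x) ^ k = 1 := by
  classical
  have := Fintype.ofFinite F
  have hrk : r ∣ k := by
    rcases hk with ⟨-, rfl⟩ | ⟨rfl, rfl⟩
    · exact dvd_refl _
    · norm_num
  obtain ⟨a, ha⟩ : k ∣ Fintype.card Fˣ := hζ.eq_orderOf ▸ orderOf_dvd_card
  obtain ⟨b, hb⟩ := hrk
  obtain ⟨M, hM⟩ : ∃ M, M = b * a := ⟨_, rfl⟩
  have hM' : r * M = Fintype.card Fˣ := by rw [ha, hb, hM, mul_assoc]
  have hM0 : M ≠ 0 := fun h => Fintype.card_ne_zero (α := Fˣ) (by rw [← hM', h, mul_zero])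
  obtain ⟨κ, hκ⟩ := hS.exists_kappa
  have hex : ∀ y : E, ∃ α : Fˣ, y.1 ^ r = scHom ι F α := fun y =>
    exists_scHom (hS.pow_mem y.1 y.2)
  choose α hα using hex
  have hαeq : ∀ (y : E) c, y.1 ^ r = scHom ι F c → α y = c := fun y c h =>
    scHom_injective ((hα y).symm.trans h)
  -- the correction term is an `r`-th power
  have hcorr : ∀ y z : E, (κ y.1 z.1 ^ r.choose 2) ^ M = 1 := by
    intro y z
    have hc := kappa_pow_eq_one hS hκ y.2 z.2
    rcases hk with ⟨hr2, -⟩ | ⟨rfl, rfl⟩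
    · obtain ⟨u, hu⟩ : r ∣ r.choose 2 :=
        hS.prime.dvd_choose_self two_ne_zero (lt_of_le_of_ne hS.prime.two_le (Ne.symm hr2))
      rw [hu, pow_mul, hc, one_pow, one_pow]
    · rw [Nat.choose_self, pow_one]
      have h2 : ((κ y.1 z.1 : Fˣ) : F) ^ 2 = 1 := by
        rw [← Units.val_pow_eq_pow_val, hc, Units.val_one]
      rcases sq_eq_one_iff.1 h2 with h | h
      · rw [show κ y.1 z.1 = 1 from Units.ext h, one_pow]
      · have h4 : ((ζ : F) ^ 2) ^ 2 = 1 := by
          rw [← pow_mul, ← Units.val_pow_eq_pow_val, show 2 * 2 = 4 from rfl, hζ.pow_eq_one,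
            Units.val_one]
        have h5 : (ζ : F) ^ 2 = -1 := by
          refine (sq_eq_one_iff.1 h4).resolve_left fun h6 => ?_
          have : ζ ^ 2 = 1 := Units.ext (by simpa using h6)
          have := Nat.le_of_dvd two_pos (hζ.dvd_of_pow_eq_one 2 this)
          omega
        rw [show κ y.1 z.1 = ζ ^ 2 from Units.ext (by rw [Units.val_pow_eq_pow_val, h5, h]),
          ← pow_mul, hM', pow_card_eq_one]
  let φ : E →* Fˣ :=
    { toFun := fun y => α y ^ M
      map_one' := by rw [hαeq 1 1 (by simp), one_pow]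
      map_mul' := fun y z => by
        have : α (y * z) = α y * α z * κ z.1 y.1 ^ r.choose 2 := by
          refine hαeq _ _ ?_
          rw [map_mul, map_mul, ← hα, ← hα]
          exact pow_mul_socle hS hκ y.2 z.2 r
        rw [this, mul_pow, mul_pow, hcorr, mul_one] }
  have hφs : ∀ s : E, s.1 ∈ scalars ι F → φ s = 1 := by
    intro s hs
    obtain ⟨c, hc⟩ := exists_scHom hs
    show α s ^ M = 1
    rw [hαeq s (c ^ r) (by rw [hc, map_pow]), ← pow_mul, hM', pow_card_eq_one]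
  obtain ⟨w, hw, hwφ⟩ := exists_eq_kappa hS hκ φ hφs
  have hwker : φ ⟨w, hw⟩ = 1 := by
    rw [hwφ]
    exact kappa_eq hκ hw hw (by rw [map_one, one_mul])
  have hφ1 : ∀ y, φ y = 1 := by
    let E₀ : Subgroup (GL ι F) := φ.ker.map E.subtype
    have hmem : ∀ y, y ∈ E₀ ↔ ∃ h : y ∈ E, φ ⟨y, h⟩ = 1 := by
      intro y
      constructor
      · rintro ⟨z, hz, rfl⟩; exact ⟨z.2, hz⟩
      · rintro ⟨h, h1⟩; exact ⟨⟨y, h⟩, h1, rfl⟩
    have hnorm : Normalizes H E₀ := by
      intro g hg y hy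
      obtain ⟨h, h1⟩ := (hmem y).1 hy
      refine (hmem _).2 ⟨hS.normal g hg y h, ?_⟩
      have : α ⟨g * y * g⁻¹, hS.normal g hg y h⟩ = α ⟨y, h⟩ := by
        refine hαeq _ _ ?_
        show (g * y * g⁻¹) ^ r = _
        rw [conj_pow, show y ^ r = _ from hα ⟨y, h⟩, ← scHom_comm, mul_inv_cancel_right]
      exact (congrArg (· ^ M) this).trans h1
    let C : Subgroup (GL ι F) := E₀ ⊓ Subgroup.centralizer (E₀ : Set (GL ι F))
    have hC : C ≤ scalars ι F := by
      refine hS.abelian_scalar C (fun y hy => ((hmem y).1 hy.1).1) (fun g hg y hy => ⟨hnorm g hg y hy.1,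
        Subgroup.mem_centralizer_iff.2 fun z hz => ?_⟩) fun a ha b hb =>
          Subgroup.mem_centralizer_iff.1 hb.2 a ha.1
      obtain ⟨z', hz', rfl⟩ : ∃ z' ∈ E₀, g * z' * g⁻¹ = z := by
        have hsub : (fun z' => g * z' * g⁻¹) '' (E₀ : Set (GL ι F)) = E₀ :=
          Set.eq_of_subset_of_ncard_le (by rintro _ ⟨a, ha, rfl⟩; exact hnorm g hg a ha)
            (by rw [Set.ncard_image_of_injective _ fun a b h =>
              mul_left_cancel (mul_right_cancel h)]) (Set.toFinite _)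
        rw [← hsub] at hz
        exact hz
      have := Subgroup.mem_centralizer_iff.1 hy.2 z' hz'
      calc g * z' * g⁻¹ * (g * y * g⁻¹) = g * (z' * y) * g⁻¹ := by group
        _ = g * (y * z') * g⁻¹ := by rw [this]
        _ = g * y * g⁻¹ * (g * z' * g⁻¹) := by group
    intro y
    have hwC : w ∈ C := by
      refine ⟨(hmem w).2 ⟨hw, hwker⟩, Subgroup.mem_centralizer_iff.2 fun z hz => ?_⟩
      obtain ⟨h, h1⟩ := (hmem z).1 hz
      rw [hwφ] at h1
      rw [hκ z h w hw, h1, map_one, one_mul]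
    rw [hwφ]
    exact kappa_eq hκ y.2 hw (by rw [map_one, one_mul, scalars_comm (hC hwC)])
  -- so the `r`-th power scalar is an `r`-th power
  obtain ⟨g, hg⟩ := IsCyclic.exists_generator (α := Fˣ)
  obtain ⟨j, hj⟩ := mem_powers_iff_mem_zpowers.2 (hg (α ⟨x, hx⟩))
  have hj' : g ^ (j * M) = 1 := by
    rw [pow_mul, show g ^ j = α ⟨x, hx⟩ from hj]; exact hφ1 ⟨x, hx⟩
  have hord : Fintype.card Fˣ ∣ j * M := by
    rw [← Nat.card_eq_fintype_card, ← orderOf_eq_card_of_forall_mem_zpowers hg]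
    exact orderOf_dvd_of_pow_eq_one hj'
  obtain ⟨u, hu⟩ : r ∣ j := by
    rw [← hM'] at hord
    exact Nat.dvd_of_mul_dvd_mul_right (Nat.pos_of_ne_zero hM0) hord
  refine ⟨(g ^ u)⁻¹, ?_⟩
  have hr1 : (scHom ι F (g ^ u)⁻¹ * x) ^ r = 1 := by
    rw [Commute.mul_pow (scHom_comm _ _), show x ^ r = _ from hα ⟨x, hx⟩, ← hj, ← map_pow,
      ← map_mul, inv_pow, ← pow_mul, mul_comm u r, ← hu, inv_mul_cancel, map_one]
  rw [hb, pow_mul, hr1, one_pow]

end socle

end CfsgLib.MaxSub
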