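import Cfsg.Agent.AschbacherForms.StarReduction

/-!
# Small facts used when an isometry group is reduced to the geometric classes
-/

set_option autoImplicit false
set_option linter.unusedSectionVars false

namespace CfsgLib.MaxSub

open Matrix Cfsg.Geo CfsgLib.Aschbacher CfsgLib.AschbacherForms

variable {ι : Type} [Fintype ι] [DecidableEq ι] {F : Type*} [Field F]
variable {σ : F ≃+* F} {ε : F} {f : (ι → F) → (ι → F) → F}

/-- A reducible group of isometries stabilises a totally singular subspace, or a non-degenerate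
subspace with its perpendicular. -/
theorem reducible_subspace (hf : IsReflexive σ ε f) {H : Subgroup (GL ι F)}
    (hfix : FixesForm (matrixSet H) f) (hirr : ¬ ActsIrreducibly (matrixSet H)) :
    (∃ W : Submodule F (ι → F), W ≠ ⊥ ∧ IsTotallySingularFor f W ∧ H ≤ subspaceStabilizer W) ∨
    (∃ W : Submodule F (ι → F), W ≠ ⊥ ∧ W ≠ ⊤ ∧ IsNondegenerateOn f W ∧
      H ≤ subspaceStabilizer W ∧ H ≤ subspaceStabilizer (hf.perp W)) := by
  rw [actsIrreducibly_iff] at hirr
  push Not at hirr
  obtain ⟨W, hW, h0, h1⟩ := hirr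
  have hp : H ≤ subspaceStabilizer (hf.perp W) := fun g hg =>
    hf.stabilizer_perp (fun u v => hfix _ (mem_matrixSet hg) u v) (hW hg)
  by_cases hinf : W ⊓ hf.perp W = ⊥
  · exact Or.inr ⟨W, h0, h1, hf.isNondegenerateOn_iff.2 hinf, hW, hp⟩
  · refine Or.inl ⟨W ⊓ hf.perp W, hinf, fun u hu v hv => hu.2 v hv.1, fun g hg => ?_⟩
    rw [mem_subspaceStabilizer_iff]
    exact fun w hw => ⟨mem_subspaceStabilizer_iff.1 (hW hg) w hw.1,
      mem_subspaceStabilizer_iff.1 (hp hg) w hw.2⟩

/-- A non-degenerate half and its perpendicular form a non-degenerate decomposition. -/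
theorem exists_halves (hf : IsReflexive σ ε f) {H : Subgroup (GL ι F)} {W : Submodule F (ι → F)}
    (h0 : W ≠ ⊥) (hW : IsNondegenerateOn f W) (h2 : 2 * Module.finrank F W = Fintype.card ι)
    (hst : H ≤ subspaceStabilizer W) (hp : H ≤ subspaceStabilizer (hf.perp W)) :
    ∃ D : Fin 2 → Submodule F (ι → F),
      IsNondegenerateMDecomposition f (Module.finrank F W) D ∧ H ≤ decompositionStabilizer D := by
  have hrk : Module.finrank F (hf.perp W) = Module.finrank F W := by
    have := hf.finrank_perp W; omega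
  have hdec : IsMDecomposition (Module.finrank F W) ![W, hf.perp W] := by
    refine ⟨le_rfl, Nat.pos_of_ne_zero fun h => h0 (Submodule.finrank_eq_zero.1 h), fun i => ?_, ?_, ?_⟩
    · fin_cases i
      · rfl
      · exact hrk
    · have hd : Disjoint W (hf.perp W) := disjoint_iff.2 (hf.isNondegenerateOn_iff.1 hW)
      rw [iSupIndep_pair (i := (0 : Fin 2)) (j := 1) (by decide) (fun k => by fin_cases k <;> simp)]
      exact hd
    · rw [eq_top_iff, ← hf.sup_perp hW]
      exact sup_le (le_iSup ![W, hf.perp W] 0) (le_iSup ![W, hf.perp W] 1)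
  refine ⟨_, ⟨hdec, fun i => ?_, fun i j hij => ?_⟩, fun g hg =>
    mem_decompositionStabilizer_of hdec fun i => ⟨i, ?_⟩⟩
  · fin_cases i
    · exact hW
    · exact hf.isNondegenerateOn_perp hW
  · fin_cases i <;> fin_cases j
    · exact absurd rfl hij
    · exact fun u hu v hv => hf.orth_comm (hv u hu)
    · exact fun u hu v hv => hu v hv
    · exact absurd rfl hij
  · fin_cases i
    · exact fun v hv => mem_subspaceStabilizer_iff.1 (hst hg) v hv
    · exact fun v hv => mem_subspaceStabilizer_iff.1 (hp hg) v hv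

/-- A power map which is the identity of a finite field. -/
theorem dvd_of_pow_pow_eq_self {K : Type*} [Field K] [Fintype K] {p a j : ℕ} (hp : p.Prime)
    (hK : Fintype.card K = p ^ a) (h : ∀ x : K, x ^ p ^ j = x) : a ∣ j := by
  classical
  obtain ⟨g, hg⟩ := IsCyclic.exists_generator (α := Kˣ)
  have hord : orderOf g = p ^ a - 1 := by
    rw [orderOf_eq_card_of_forall_mem_zpowers hg, Nat.card_eq_fintype_card, Fintype.card_units, hK]
  have h1 : g ^ (p ^ j - 1) = 1 := by
    refine mul_right_cancel (b := g) ?_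
    rw [← pow_succ, Nat.sub_add_cancel (Nat.one_le_pow _ _ hp.pos), one_mul]
    exact Units.ext (by rw [Units.val_pow_eq_pow_val]; exact h g)
  have h2 := Nat.gcd_eq_left (hord ▸ orderOf_dvd_of_pow_eq_one h1 : p ^ a - 1 ∣ p ^ j - 1)
  rw [Nat.pow_sub_one_gcd_pow_sub_one] at h2
  have h3 : p ^ Nat.gcd a j = p ^ a := by
    have := Nat.one_le_pow (Nat.gcd a j) p hp.pos
    have := Nat.one_le_pow a p hp.pos
    omega
  exact Nat.pow_right_injective hp.two_le h3 ▸ Nat.gcd_dvd_right a j

/-- Automorphisms of finite fields are power maps. -/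
theorem exists_pow_of_ringEquiv {K : Type*} [Field K] [Fintype K] {p : ℕ} [Fact p.Prime] [CharP K p]
    (φ : K ≃+* K) : ∃ j : ℕ, ∀ x, φ x = x ^ p ^ j := by
  letI : Algebra (ZMod p) K := ZMod.algebra K p
  let φe : K ≃ₐ[ZMod p] K := AlgEquiv.ofRingEquiv (f := φ) fun c => by
    exact congrFun (congrArg DFunLike.coe (RingHom.ext_zmod
      (φ.toRingHom.comp (algebraMap (ZMod p) K)) (algebraMap (ZMod p) K))) c
  obtain ⟨i, hi⟩ := (FiniteField.bijective_frobeniusAlgEquivOfAlgebraic_pow (ZMod p) K).2 φe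
  refine ⟨i.val, fun x => ?_⟩
  have := congrArg (fun e : K ≃ₐ[ZMod p] K => e x) hi
  simp [AlgEquiv.coe_pow, FiniteField.coe_frobeniusAlgEquivOfAlgebraic, pow_iterate, ZMod.card,
    φe] at this
  exact this.symm

/-- The adjoint on an adjoint-closed field extension: trivial in odd degree when the automorphism of
the scalars is trivial, of odd degree otherwise. -/
theorem closedField_involution [Fintype F] [Nonempty ι] (hf : IsReflexive σ ε f) {r : ℕ}
    {K : Subalgebra F (Matrix ι ι F)} (hK : IsFieldSubalgebra r K) (hadj : ∀ k ∈ K, adj σ f k ∈ K) :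
    ((∀ a, σ a = a) → Odd r → ∀ k ∈ K, adj σ f k = k) ∧ (σ ≠ RingEquiv.refl F → Odd r) := by
  classical
  obtain ⟨p, hchar⟩ := CharP.exists F
  haveI := hchar
  haveI : Fact p.Prime := ⟨CharP.char_is_prime F p⟩
  obtain ⟨a, hp, ha⟩ := FiniteField.card F p
  haveI : Fintype K := Fintype.ofFinite K
  letI : Field K := IsField.toField (R := K)
    { exists_pair_ne := ⟨0, 1, fun h => zero_ne_one (congrArg Subtype.val h)⟩
      mul_comm := fun x y => Subtype.ext (hK.comm x.1 x.2 y.1 y.2)
      mul_inv_cancel := fun {x} hx => by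
        obtain ⟨y, hy, hxy⟩ := hK.inv x.1 x.2 fun h => hx (Subtype.ext h)
        exact ⟨⟨y, hy⟩, Subtype.ext hxy⟩ }
  haveI : CharP K p := charP_of_injective_algebraMap (algebraMap F K).injective p
  have hcardK : Fintype.card K = p ^ ((a : ℕ) * r) := by
    rw [Module.card_eq_pow_finrank (K := F) (V := K), hK.finrank_eq, ha, pow_mul]
  let τ : K ≃+* K :=
    { toFun := fun x => ⟨adj σ f x.1, hadj _ x.2⟩
      invFun := fun x => ⟨adj σ f x.1, hadj _ x.2⟩
      left_inv := fun x => Subtype.ext (hf.adj_adj x.1)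
      right_inv := fun x => Subtype.ext (hf.adj_adj x.1)
      map_mul' := fun x y => Subtype.ext (by
        show adj σ f (x.1 * y.1) = adj σ f x.1 * adj σ f y.1
        rw [hf.adj_mul]
        exact hK.comm _ (hadj _ y.2) _ (hadj _ x.2))
      map_add' := fun x y => Subtype.ext (hf.adj_add x.1 y.1) }
  obtain ⟨j, hj⟩ := exists_pow_of_ringEquiv (p := p) τ
  have hjj : (a : ℕ) * r ∣ 2 * j := dvd_of_pow_pow_eq_self hp hcardK fun x => by
    have h1 : τ (τ x) = x := Subtype.ext (hf.adj_adj x.1)
    rwa [hj, hj, ← pow_mul, ← pow_add, ← two_mul] at h1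
  have hσj : ∀ c : F, c ^ p ^ j = σ c := fun c => by
    have h1 := hj (algebraMap F K c)
    rw [← map_pow] at h1
    have h2 : τ (algebraMap F K c) = algebraMap F K (σ c) := Subtype.ext (by
      show adj σ f (algebraMap F (Matrix ι ι F) c) = algebraMap F (Matrix ι ι F) (σ c)
      rw [Algebra.algebraMap_eq_smul_one, Algebra.algebraMap_eq_smul_one, hf.adj_smul, hf.adj_one])
    exact (algebraMap F K).injective (h1.symm.trans h2)
  refine ⟨fun hσ hr k hk => ?_, fun hne => ?_⟩
  · obtain ⟨l, hl⟩ : (a : ℕ) ∣ j := dvd_of_pow_pow_eq_self hp ha fun c => (hσj c).trans (hσ c)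
    subst hl
    rw [mul_left_comm] at hjj
    obtain ⟨u, hu⟩ := (Nat.coprime_two_right.2 hr).dvd_of_dvd_mul_left
      (Nat.dvd_of_mul_dvd_mul_left a.pos hjj)
    have h1 := hj ⟨k, hk⟩
    rw [hu, ← mul_assoc, pow_mul p, ← hcardK, FiniteField.pow_card_pow] at h1
    exact congrArg Subtype.val h1
  · by_contra hr
    obtain ⟨u, hu⟩ := Nat.not_odd_iff_even.1 hr
    have h1 : (a : ℕ) ∣ j := by
      refine dvd_trans (dvd_mul_right _ u) (Nat.dvd_of_mul_dvd_mul_left two_pos ?_)
      rwa [hu, ← two_mul, mul_left_comm] at hjj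
    obtain ⟨l, rfl⟩ := h1
    exact hne (RingEquiv.ext fun c => by
      show σ c = c
      rw [← hσj, pow_mul, ← ha, FiniteField.pow_card_pow])

/-- A map preserving the polar form and the quadratic values on a spanning set preserves the form. -/
theorem quad_eq_of_span {Q : (ι → F) → F} (hsmul : ∀ (c : F) v, Q (c • v) = c ^ 2 * Q v)
    (M : Matrix ι ι F)
    (hpol : ∀ u v, QuadraticMap.polar Q (M *ᵥ u) (M *ᵥ v) = QuadraticMap.polar Q u v)
    {S : Set (ι → F)} (hS : Submodule.span F S = ⊤) (hval : ∀ v ∈ S, Q (M *ᵥ v) = Q v)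
    (v : ι → F) : Q (M *ᵥ v) = Q v := by
  have hv : v ∈ Submodule.span F S := hS ▸ Submodule.mem_top
  induction hv using Submodule.span_induction with
  | mem v hv => exact hval v hv
  | zero => rw [mulVec_zero]
  | add x y _ _ hx hy =>
    have h := hpol x y
    simp only [QuadraticMap.polar, ← mulVec_add] at h
    linear_combination h + hx + hy
  | smul c x _ hx => rw [mulVec_smul, hsmul, hsmul, hx]

/-- The members of a decomposition permuted by an irreducible group form one orbit. -/
theorem exists_move_member {H : Subgroup (GL ι F)} (hirr : ActsIrreducibly (matrixSet H)) {t m : ℕ}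
    {D : Fin t → Submodule F (ι → F)} (hD : IsMDecomposition m D)
    (hst : H ≤ decompositionStabilizer D) (i j : Fin t) :
    ∃ h ∈ H, (D i).map (Matrix.toLin' (mat h)) = D j := by
  classical
  by_contra hno
  push Not at hno
  have hne : ∀ l, D l ≠ ⊥ := fun l h => by
    have := hD.finrank_eq l
    rw [h, finrank_bot] at this
    exact hD.pos.ne this
  let O : Submodule F (ι → F) := ⨆ h : H, (D i).map (Matrix.toLin' (mat h.1))
  have hO : O = ⊤ := by
    refine ((actsIrreducibly_iff.1 hirr) O fun g hg => ?_).resolve_left fun h0 => hne i ?_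
    · rw [mem_subspaceStabilizer_iff, ← map_le_iff, Submodule.map_iSup]
      refine iSup_le fun h => le_iSup_of_le ⟨g * h.1, H.mul_mem hg h.2⟩ (le_of_eq ?_)
      rw [← Submodule.map_comp, ← Matrix.toLin'_mul]
      rfl
    · refine le_bot_iff.1 (le_trans ?_ h0.le)
      refine le_trans (le_of_eq ?_) (le_iSup _ (1 : H))
      simp
  refine hne j (le_bot_iff.1 ((hD.indep j) le_rfl (le_trans le_top (hO.ge.trans ?_))))
  refine iSup_le fun h => ?_
  obtain ⟨π, hπ⟩ := hst h.2
  rw [hπ i]
  exact le_iSup₂_of_le (π i) (fun e => hno h.1 h.2 (e ▸ hπ i)) le_rfl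

end CfsgLib.MaxSub
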