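import Cfsg.Agent.AschbacherForms.Adjoint
import Cfsg.Agent.MaxSub.FormBasic
import Cfsg.Agent.MaxSub.Subspace
import Cfsg.Agent.Forms.UnitaryTransvections

/-!
# Stabilisers of pairs of complementary Lagrangian subspaces, for a reflexive sesquilinear form

`isMaximalIn_pair` is the general argument; `exists_exchange` gives an isometry exchanging the members.
-/

set_option autoImplicit false
set_option linter.unusedSectionVars false

namespace CfsgLib.MaxSub.LPair

open Matrix Cfsg.Geo CfsgLib.AschbacherForms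

variable {ι : Type} [Fintype ι] [DecidableEq ι] {F : Type*} [Field F] [Fintype F]
variable {σ : F ≃+* F} {ε : F} {f : (ι → F) → (ι → F) → F}

local notation "Mat" => Matrix ι ι F
local notation "V" => (ι → F)

/-- Two complementary totally singular subspaces. -/
structure IsPair (f : (ι → F) → (ι → F) → F) (X Y : Submodule F V) : Prop where
  left : IsTotallySingularFor f X
  right : IsTotallySingularFor f Y
  compl : IsCompl X Y

theorem IsPair.symm {X Y : Submodule F V} (h : IsPair f X Y) : IsPair f Y X :=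
  ⟨h.right, h.left, h.compl.symm⟩

theorem IsPair.disjoint {X Y : Submodule F V} (h : IsPair f X Y) {v : V} (hx : v ∈ X) (hy : v ∈ Y) :
    v = 0 :=
  Submodule.disjoint_def.mp h.compl.disjoint v hx hy

theorem IsPair.decomp {X Y : Submodule F V} (h : IsPair f X Y) (v : V) :
    ∃ a ∈ X, ∃ b ∈ Y, a + b = v :=
  Submodule.mem_sup.mp (h.compl.sup_eq_top ▸ Submodule.mem_top)

variable (hf : IsReflexive σ ε f)
include hf

theorem sesq' : SesqForm σ f :=
  ⟨hf.sesq.add_left, hf.sesq.smul_left, hf.sesq.add_right, hf.sesq.smul_right, hf.nondegenerate⟩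

theorem eps_ne [Nonempty ι] : ε ≠ 0 := fun h => by simpa [h] using hf.eps_mul

/-- A vector of `X` outside `S ≤ X` is separated from `S` by a vector of `Y`. -/
theorem exists_sep {X Y : Submodule F V} (hp : IsPair f X Y) {S : Submodule F V} (hS : S ≤ X) {a : V}
    (ha : a ∈ X) (haS : a ∉ S) : ∃ z ∈ Y, f a z = 1 ∧ ∀ s ∈ S, f s z = 0 := by
  have hs := sesq' hf
  have hY : hf.perp Y = Y := by
    refine le_antisymm (fun x hx => ?_) fun y hy w hw => hp.right y hy w hw
    obtain ⟨x₀, hx₀, x₁, hx₁, rfl⟩ := hp.decomp x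
    suffices x₀ = 0 by rw [this, zero_add]; exact hx₁
    refine hf.ext_left fun v => ?_
    obtain ⟨v₀, hv₀, v₁, hv₁, rfl⟩ := hp.decomp v
    have := hx v₁ hv₁
    rw [hs.add_left, hp.right x₁ hx₁ v₁ hv₁, add_zero] at this
    rw [hs.add_right, hp.left x₀ hx₀ v₀ hv₀, this, hs.zero_left, add_zero]
  suffices ∃ z ∈ Y, f a z ≠ 0 ∧ ∀ s ∈ S, f s z = 0 by
    obtain ⟨z, hz, h1, h2⟩ := this
    refine ⟨σ (f a z)⁻¹ • z, Y.smul_mem _ hz, ?_, fun s hs' => ?_⟩
    · rw [hs.smul_right, hf.invol, inv_mul_cancel₀ h1]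
    · rw [hs.smul_right, h2 s hs', mul_zero]
  by_contra hcon
  push Not at hcon
  have hmem : a ∈ hf.perp (hf.perp (S ⊔ Y)) := by
    intro z hz
    have hzY : z ∈ Y := hY ▸ (fun y hy => hz y (Submodule.mem_sup_right hy))
    by_contra h0
    obtain ⟨s, hs', hsz⟩ := hcon z hzY h0
    exact hsz (hf.orth_comm (hz s (Submodule.mem_sup_left hs')))
  rw [hf.perp_perp] at hmem
  obtain ⟨s, hs', y, hy, hsum⟩ := Submodule.mem_sup.mp hmem
  have : y = 0 := hp.disjoint (v := y) (by
    rw [show y = a - s by rw [← hsum]; abel]; exact X.sub_mem ha (hS hs')) hy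
  exact haS (by rwa [← hsum, this, add_zero])

theorem exists_pair_one {X Y : Submodule F V} (hp : IsPair f X Y) {a : V} (ha : a ∈ X) (ha0 : a ≠ 0) :
    ∃ z ∈ Y, f a z = 1 := by
  obtain ⟨z, hz, h, -⟩ := exists_sep hf hp (S := ⊥) bot_le ha (by simpa using ha0)
  exact ⟨z, hz, h⟩

theorem finrank_right {X Y : Submodule F V} (hp : IsPair f X Y) :
    Module.finrank F X = Module.finrank F Y := by
  have hx := hf.two_finrank_le hp.left
  have hy := hf.two_finrank_le hp.right
  have h := Submodule.finrank_add_eq_of_isCompl hp.compl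
  rw [Module.finrank_pi] at h
  omega

theorem two_finrank {X Y : Submodule F V} (hp : IsPair f X Y) :
    2 * Module.finrank F X = Fintype.card ι := by
  have h1 := finrank_right hf hp
  have h := Submodule.finrank_add_eq_of_isCompl hp.compl
  rw [Module.finrank_pi] at h
  omega

theorem finrank_map_gl (g : GL ι F) (W : Submodule F V) :
    Module.finrank F (W.map (g : Mat).mulVecLin) = Module.finrank F W :=
  ((Submodule.equivMapOfInjective _ (mulVec_injective_iff_isUnit.mpr g.isUnit) W).finrank_eq).symm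

theorem mulVec_inv_mulVec' (g : GL ι F) (x : V) : (g : Mat) *ᵥ (((g⁻¹ : GL ι F) : Mat) *ᵥ x) = x := by
  rw [mulVec_mulVec, Units.mul_inv, one_mulVec]

theorem inv_mulVec_mulVec' (g : GL ι F) (x : V) : ((g⁻¹ : GL ι F) : Mat) *ᵥ ((g : Mat) *ᵥ x) = x := by
  rw [mulVec_mulVec, Units.inv_mul, one_mulVec]

/-- Being an isometry. -/
def Iso (f : (ι → F) → (ι → F) → F) (g : Mat) : Prop := ∀ u v, f (g *ᵥ u) (g *ᵥ v) = f u v

theorem exists_gl_of_iso {A : Mat} (hA : Iso f A) : ∃ g : GL ι F, (g : Mat) = A := by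
  have hinj : Function.Injective A.mulVec := fun u v h => hf.ext_left fun x => by
    rw [← hA u x, h, hA]
  exact ⟨(mulVec_injective_iff_isUnit.mp hinj).unit, rfl⟩

theorem det_norm {g : GL ι F} (hg : Iso f (g : Mat)) : (g : Mat).det * σ (g : Mat).det = 1 := by
  have h : σ.symm (g : Mat).det = ((g⁻¹ : GL ι F) : Mat).det := by
    have h0 : ((gramMatrix f)⁻¹ * (g : Mat)ᵀ * gramMatrix f).det = (g : Mat).det := by
      rw [det_mul, det_mul, det_transpose, mul_right_comm, ← det_mul,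
        nonsing_inv_mul _ hf.gram_det_unit, det_one, one_mul]
    rw [← h0, RingEquiv.map_det]
    exact congrArg Matrix.det (hf.adj_isometry hg)
  have h2 : (g : Mat).det * ((g⁻¹ : GL ι F) : Mat).det = 1 := by
    rw [← det_mul, Units.mul_inv, det_one]
  rw [show ((g⁻¹ : GL ι F) : Mat).det = σ.symm (g : Mat).det from h.symm] at h2
  have := congrArg σ h2
  rwa [map_mul, RingEquiv.apply_symm_apply, map_one, mul_comm] at this

theorem map_eq_of_le {g : GL ι F} {W W' : Submodule F V} (h : ∀ w ∈ W, (g : Mat) *ᵥ w ∈ W')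
    (hd : Module.finrank F W = Module.finrank F W') : W.map (toLin' (g : Mat)) = W' := by
  refine Submodule.eq_of_le_of_finrank_eq ?_ (by rw [Matrix.toLin'_apply', finrank_map_gl hf, hd])
  rintro _ ⟨x, hx, rfl⟩
  rw [toLin'_apply]; exact h x hx

section general

variable {K : Subgroup (GL ι F)} (hKiso : ∀ g ∈ K, Iso f (g : Matrix ι ι F))
  (hKmem : ∀ g : GL ι F, Iso f (g : Matrix ι ι F) → (g : Matrix ι ι F).det = 1 → g ∈ K)
  (hKdet : ∀ g ∈ K, ∀ h : GL ι F, Iso f (h : Matrix ι ι F) →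
    (h : Matrix ι ι F).det = (g : Matrix ι ι F).det → h ∈ K)

/-- The Eichler element of an orthogonal pair of isotropic vectors. -/
theorem exists_eich {a b : V} (haa : f a a = 0) (hbb : f b b = 0) (hab : f a b = 0) :
    ∃ g : GL ι F, Iso f (g : Mat) ∧ (g : Mat).det = 1 ∧
      ∀ x, (g : Mat) *ᵥ x = x + f x a • b - (σ ε * f x b) • a := by
  have hs := sesq' hf
  have hba : f b a = 0 := hf.orth_comm hab
  let L : V →ₗ[F] V :=
    { toFun := fun y => y + f y a • b - (σ ε * f y b) • a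
      map_add' := fun y z => by
        simp only [hs.add_left]
        module
      map_smul' := fun c y => by
        simp only [hs.smul_left, RingHom.id_apply]
        module }
  set A : Mat := LinearMap.toMatrix' L with hA
  have happ : ∀ y, A *ᵥ y = y + f y a • b - (σ ε * f y b) • a := fun y => by
    rw [hA, LinearMap.toMatrix'_mulVec]; rfl
  have hiso : Iso f A := by
    intro x y
    rcases isEmpty_or_nonempty ι with hι | hι
    · rw [Subsingleton.elim (A *ᵥ x) x, Subsingleton.elim (A *ᵥ y) y]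
    have he := hf.eps_mul
    simp only [happ, hs.add_left, hs.add_right, hs.sub_left, hs.sub_right, hs.smul_left, hs.smul_right,
      haa, hbb, hab, hba, map_mul, hf.invol]
    rw [hf.refl y a, hf.refl y b]
    linear_combination (-(f x b * σ (f y a))) * he
  obtain ⟨g, hg⟩ := exists_gl_of_iso hf hiso
  refine ⟨g, hg ▸ hiso, hg ▸ ?_, fun x => by rw [hg, happ]⟩
  refine CfsgLib.RepBounds.Unit.det_eq_one_of_cube _ (Matrix.ext_iff_mulVec.2 fun y => ?_)
  have hN : ∀ z, (A - 1) *ᵥ z = f z a • b - (σ ε * f z b) • a := fun z => by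
    rw [sub_mulVec, one_mulVec, happ]; abel
  rw [pow_succ, pow_two, ← mulVec_mulVec, ← mulVec_mulVec, hN, hN, hN, zero_mulVec]
  simp [hs.sub_left, hs.smul_left, hf.zero_left, haa, hbb, hab, hba]

include hKmem in
/-- The Eichler elements with one vector in each member fix both members. -/
theorem exists_eich_fix {X Y : Submodule F V} (hp : IsPair f X Y) {a b : V} (ha : a ∈ X) (hb : b ∈ Y)
    (hab : f a b = 0) :
    ∃ g ∈ K, (∀ x ∈ X, (g : Mat) *ᵥ x ∈ X) ∧ (∀ y ∈ Y, (g : Mat) *ᵥ y ∈ Y) ∧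
      ∀ x, (g : Mat) *ᵥ x = x + f x a • b - (σ ε * f x b) • a := by
  obtain ⟨g, hg, hd, hga⟩ := exists_eich hf (hp.left a ha a ha) (hp.right b hb b hb) hab
  refine ⟨g, hKmem g hg hd, fun x hx => ?_, fun y hy => ?_, hga⟩
  · rw [hga, hp.left x hx a ha, zero_smul, add_zero]
    exact X.sub_mem hx (X.smul_mem _ ha)
  · rw [hga, hp.right y hy b hb, mul_zero, zero_smul, sub_zero]
    exact Y.add_mem hy (Y.smul_mem _ hb)

omit hf in
/-- The elements of `K` fixing both members lie in `M`. -/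
def FixIn (K M : Subgroup (GL ι F)) (X Y : Submodule F V) : Prop :=
  ∀ h ∈ K, (∀ x ∈ X, (h : Mat) *ᵥ x ∈ X) → (∀ y ∈ Y, (h : Mat) *ᵥ y ∈ Y) → h ∈ M

omit hf in
theorem FixIn.symm {M : Subgroup (GL ι F)} {X Y : Submodule F V} (h : FixIn K M X Y) : FixIn K M Y X :=
  fun g hg hy hx => h g hg hx hy

omit hf in
/-- The coefficient of an isometric transvection. -/
def Coef (σ : F ≃+* F) (ε c : F) : Prop := σ (ε * c) = -c

omit hf in
/-- All transvections with centre `v` lie in `M`. -/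
def Centre (σ : F ≃+* F) (ε : F) (f : (ι → F) → (ι → F) → F) (M : Subgroup (GL ι F)) (v : V) : Prop :=
  ∀ c : F, Coef σ ε c → tv (c • v) (leftVec f v) ∈ M

theorem ftv_mulVec {v : V} (hv : f v v = 0) (c : F) (x : V) :
    (tv (c • v) (leftVec f v) : Mat) *ᵥ x = x + (c * f x v) • v := by
  have hs := sesq' hf
  rw [tv_mulVec (by rw [dotProduct_smul, hs.dot_leftVec, hv, smul_zero]), hs.dot_leftVec, smul_smul,
    mul_comm]

theorem ftv_iso {v : V} (hv : f v v = 0) {c : F} (hc : Coef σ ε c) :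
    Iso f (tv (c • v) (leftVec f v) : Mat) := by
  intro x y
  have hs := sesq' hf
  simp only [ftv_mulVec hf hv, hs.add_left, hs.add_right, hs.smul_left, hs.smul_right, hv, map_mul]
  rw [hf.refl y v]
  simp only [Coef, map_mul] at hc
  rcases isEmpty_or_nonempty ι with hι | hι
  · rw [show x = 0 from Subsingleton.elim _ _]; simp [hf.zero_left]
  have he := hf.eps_mul
  linear_combination (f x v * ε * σ (f y v)) * hc + (-(f x v * σ c * σ (f y v))) * he

theorem conj_ftv {g : GL ι F} (hg : Iso f (g : Mat)) (v : V) (c : F) :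
    g * tv (c • v) (leftVec f v) * g⁻¹ = tv (c • ((g : Mat) *ᵥ v)) (leftVec f ((g : Mat) *ᵥ v)) := by
  have hs := sesq' hf
  rw [conj_tv, mulVec_smul]
  congr 1
  refine dotProduct_eq _ _ fun x => ?_
  rw [hs.dot_leftVec_conj, hs.dot_leftVec, ← hg (((g⁻¹ : GL ι F) : Mat) *ᵥ x) v, mulVec_inv_mulVec' hf]

include hKiso in
theorem centre_map {M : Subgroup (GL ι F)} (hMK : M ≤ K) {v : V} (h : Centre σ ε f M v) {g : GL ι F}
    (hg : g ∈ M) : Centre σ ε f M ((g : Mat) *ᵥ v) := fun c hc => by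
  rw [← conj_ftv hf (hKiso g (hMK hg))]
  exact M.mul_mem (M.mul_mem hg (h c hc)) (M.inv_mem hg)

theorem centre_neg {M : Subgroup (GL ι F)} {v : V} (h : Centre σ ε f M v) : Centre σ ε f M (-v) := by
  intro c hc
  have hs := sesq' hf
  have : tv (c • -v) (leftVec f (-v)) = tv (c • v) (leftVec f v) := by
    rw [← neg_one_smul F v, hs.leftVec_smul, tv_smul_right, map_neg, map_one, smul_smul, smul_smul]
    congr 2
    ring
  rw [this]; exact h c hc

include hKiso in
theorem centre_add {M : Subgroup (GL ι F)} (hMK : M ≤ K) {x y : V} (hx : Centre σ ε f M x)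
    (hy : Centre σ ε f M y) (hy0 : f y y = 0) (hxy : f x y ≠ 0) (h : f x y + f y x = 0) :
    Centre σ ε f M (x + y) := by
  rw [hf.refl x y] at h
  have hne : σ (f x y) ≠ 0 := (map_ne_zero_iff σ σ.injective).mpr hxy
  rcases isEmpty_or_nonempty ι with hι | hι
  · exact absurd (by rw [show x = 0 from Subsingleton.elim _ _, hf.zero_left]) hxy
  have he := hf.eps_mul
  have hc : Coef σ ε (f x y)⁻¹ := by
    rw [Coef, map_mul, map_inv₀]
    field_simp
    linear_combination σ ε * h - σ (f x y) * he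
  have := centre_map hf hKiso hMK hx (hy _ hc)
  rwa [ftv_mulVec hf hy0, inv_mul_cancel₀ hxy, one_smul] at this

variable (hmove : ∃ γ : F, σ ε * σ γ ≠ γ)
  (hskew : ∃ δ : F, δ ≠ 0 ∧ δ + ε * σ δ = 0)
  (hscal : ∀ c₀ c : F, c₀ ≠ 0 → Coef σ ε c₀ → Coef σ ε c →
    ∃ l m : F, c = c₀ * (l * σ l) - c₀ * (m * σ m))

include hKmem in
/-- Commutating a unipotent element with an Eichler element. -/
theorem exists_comm {M : Subgroup (GL ι F)} (hMK : M ≤ K) {X Y : Submodule F V} (hp : IsPair f X Y)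
    (hfix : FixIn K M X Y) (hKiso : ∀ g ∈ K, Iso f (g : Mat)) {u : GL ι F} (hu : u ∈ M)
    (hu0 : ∀ x ∈ X, (u : Mat) *ᵥ x = x) (hu1 : ∀ x, (u : Mat) *ᵥ x - x ∈ X)
    {a b : V} (ha : a ∈ X) (hb : b ∈ Y) (hab : f a b = 0) :
    ∃ v ∈ M, ∀ x, (v : Mat) *ᵥ x = x + ((σ ε * f x ((u : Mat) *ᵥ b - b)) • a -
      f x a • ((u : Mat) *ᵥ b - b) + (σ ε * f ((u : Mat) *ᵥ b - b) b * f x a) • a) := by
  have hs := sesq' hf
  set w := (u : Mat) *ᵥ b - b with hw
  obtain ⟨L, hL, hLX, hLY, hLa⟩ := exists_eich_fix hf hKmem hp ha hb hab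
  obtain ⟨L', hL', hL'X, hL'Y, hL'a⟩ := exists_eich_fix hf hKmem hp (X.neg_mem ha) hb
    (by rw [hf.neg_left, hab, neg_zero])
  refine ⟨L * u * L' * u⁻¹, M.mul_mem (M.mul_mem (M.mul_mem (hfix L hL hLX hLY) hu)
    (hfix L' hL' hL'X hL'Y)) (M.inv_mem hu), fun x => ?_⟩
  -- the inverse of `u`
  have hinv : ((u⁻¹ : GL ι F) : Mat) *ᵥ x = x - ((u : Mat) *ᵥ x - x) := by
    have h1 : (u : Mat) *ᵥ (x - ((u : Mat) *ᵥ x - x)) = x := by
      rw [mulVec_sub, hu0 _ (hu1 x)]; abel
    rw [← congrArg (fun z => ((u⁻¹ : GL ι F) : Mat) *ᵥ z) h1, inv_mulVec_mulVec' hf]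
  set p := (u : Mat) *ᵥ x - x with hp'
  have hpX : p ∈ X := hu1 x
  have hwX : w ∈ X := hu1 b
  have hiso : f p b + f x w = 0 := by
    have h1 := hKiso u (hMK hu) x b
    rw [show (u : Mat) *ᵥ x = x + p by rw [hp']; abel, show (u : Mat) *ᵥ b = b + w by rw [hw]; abel,
      hs.add_left, hs.add_right, hs.add_right, hp.left p hpX w hwX] at h1
    linear_combination h1
  have haa := hp.left a ha a ha
  have hbb := hp.right b hb b hb
  have hba : f b a = 0 := hf.orth_comm hab
  have hpa := hp.left p hpX a ha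
  have hwa := hp.left w hwX a ha
  have hux : (u : Mat) *ᵥ x = x + p := by rw [hp']; abel
  have hub : (u : Mat) *ᵥ b = b + w := by rw [hw]; abel
  rw [Units.val_mul, Units.val_mul, Units.val_mul, ← mulVec_mulVec, ← mulVec_mulVec, ← mulVec_mulVec,
    hinv, hL'a]
  simp only [mulVec_add, mulVec_sub, mulVec_smul, mulVec_neg, smul_neg, hu0 a ha, hu0 p hpX,
    hux, hub, hLa]
  simp only [hs.add_left, hs.sub_left, hs.smul_left, hf.neg_right, hf.neg_left, haa, hbb, hab, hba, hpa,
    hwa]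
  rw [show f p b = - f x w by linear_combination hiso]
  match_scalars <;> ring

include hKiso hKdet hKmem in
/-- An element fixing `X` but not `Y` gives a non-trivial unipotent element. -/
theorem exists_unipotent {M : Subgroup (GL ι F)} (hMK : M ≤ K) {X Y : Submodule F V} (hp : IsPair f X Y)
    (hfix : FixIn K M X Y) {k : GL ι F} (hk : k ∈ M) (hkX : ∀ x ∈ X, (k : Mat) *ᵥ x ∈ X)
    (hkY : ¬ ∀ y ∈ Y, (k : Mat) *ᵥ y ∈ Y) :
    ∃ u ∈ M, (∀ x ∈ X, (u : Mat) *ᵥ x = x) ∧ (∀ x, (u : Mat) *ᵥ x - x ∈ X) ∧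
      ∃ y ∈ Y, (u : Mat) *ᵥ y ≠ y := by
  have hs := sesq' hf
  let P : V →ₗ[F] V := X.projection Y hp.compl
  let Q : V →ₗ[F] V := Y.projection X hp.compl.symm
  have hPX : ∀ x, P x ∈ X := fun x => Submodule.coe_projectionOnto_apply hp.compl x ▸ Submodule.coe_mem _
  have hQY : ∀ x, Q x ∈ Y := fun x =>
    Submodule.coe_projectionOnto_apply hp.compl.symm x ▸ Submodule.coe_mem _
  have hPQ : ∀ x, P x + Q x = x := fun x => Submodule.projection_add_projection_eq_self hp.compl x
  let A₀ : V →ₗ[F] V := (k : Mat).mulVecLin.comp P + (Q.comp (k : Mat).mulVecLin).comp Q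
  set A : Mat := LinearMap.toMatrix' A₀ with hA
  have happ : ∀ x, A *ᵥ x = (k : Mat) *ᵥ P x + Q ((k : Mat) *ᵥ Q x) := fun x => by
    rw [hA, LinearMap.toMatrix'_mulVec]; rfl
  have hk' := hKiso k (hMK hk)
  -- `k` on `Y` is its `Y`-part plus something in `X`
  have hsplit : ∀ y, (k : Mat) *ᵥ y = P ((k : Mat) *ᵥ y) + Q ((k : Mat) *ᵥ y) := fun y => (hPQ _).symm
  have hiso : Iso f A := by
    intro x y
    conv_rhs => rw [← hPQ x, ← hPQ y, ← hk' _ _, mulVec_add, mulVec_add, hsplit (Q x), hsplit (Q y)]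
    rw [happ, happ]
    simp only [hs.add_left, hs.add_right]
    have e1 := hp.left _ (hPX ((k : Mat) *ᵥ Q x)) _ (hkX _ (hPX y))
    have e2 := hp.left _ (hkX _ (hPX x)) _ (hPX ((k : Mat) *ᵥ Q y))
    have e3 : f ((k : Mat) *ᵥ Q x) ((k : Mat) *ᵥ Q y) = 0 := by
      rw [hk']; exact hp.right _ (hQY x) _ (hQY y)
    rw [hsplit (Q x), hsplit (Q y)] at e3
    simp only [hs.add_left, hs.add_right] at e3
    have e4 := hp.right _ (hQY ((k : Mat) *ᵥ Q x)) _ (hQY ((k : Mat) *ᵥ Q y))
    linear_combination (-1 : F) * e1 - e2 - e3 + e4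
  obtain ⟨a, ha⟩ := exists_gl_of_iso hf hiso
  have haX : ∀ x ∈ X, (a : Mat) *ᵥ x = (k : Mat) *ᵥ x := fun x hx => by
    rw [ha, happ, Submodule.projection_apply_of_mem_left hp.compl hx,
      show Q x = 0 from (Submodule.projection_apply_eq_zero_iff hp.compl.symm).mpr hx, mulVec_zero,
      map_zero, add_zero]
  have haY : ∀ y ∈ Y, (a : Mat) *ᵥ y = Q ((k : Mat) *ᵥ y) := fun y hy => by
    rw [ha, happ, show P y = 0 from (Submodule.projection_apply_eq_zero_iff hp.compl).mpr hy,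
      Submodule.projection_apply_of_mem_left hp.compl.symm hy, mulVec_zero, zero_add]
  set u := a⁻¹ * k with hu
  have hiX : ∀ x ∈ X, ((a⁻¹ : GL ι F) : Mat) *ᵥ x ∈ X := by
    intro x hx
    have heq := map_eq_of_le hf (g := a) (W := X) (W' := X) (fun w hw => haX w hw ▸ hkX w hw) rfl
    rw [← heq] at hx
    obtain ⟨w, hw, rfl⟩ := hx
    rw [toLin'_apply, inv_mulVec_mulVec' hf]; exact hw
  have huX : ∀ x ∈ X, (u : Mat) *ᵥ x = x := fun x hx => by
    rw [hu, Units.val_mul, ← mulVec_mulVec, ← haX x hx, inv_mulVec_mulVec' hf]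
  have huS : ∀ x, (u : Mat) *ᵥ x - x ∈ X := fun x => by
    have h1 : (k : Mat) *ᵥ Q x = P ((k : Mat) *ᵥ Q x) + (a : Mat) *ᵥ Q x := by
      rw [haY _ (hQY x), ← hsplit]
    have h2 : (u : Mat) *ᵥ Q x = ((a⁻¹ : GL ι F) : Mat) *ᵥ P ((k : Mat) *ᵥ Q x) + Q x := by
      rw [hu, Units.val_mul, ← mulVec_mulVec]
      conv_lhs => rw [h1]
      rw [mulVec_add, inv_mulVec_mulVec' hf]
    conv in _ - x => rw [← hPQ x, mulVec_add, huX _ (hPX x), h2]
    rw [show ∀ p q r : V, p + (r + q) - (p + q) = r from fun p q r => by abel]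
    exact hiX _ (hPX _)
  have hdetu : (u : Mat).det = 1 := by
    refine CfsgLib.RepBounds.Unit.det_eq_one_of_cube _ (Matrix.ext_iff_mulVec.2 fun x => ?_)
    rw [pow_succ, pow_two, ← mulVec_mulVec, ← mulVec_mulVec, zero_mulVec]
    have hN : ∀ z, ((u : Mat) - 1) *ᵥ z = (u : Mat) *ᵥ z - z := fun z => by
      rw [sub_mulVec, one_mulVec]
    rw [hN, hN x, hN ((u : Mat) *ᵥ x - x), huX _ (huS x), sub_self, mulVec_zero, sub_zero]
  have hda : (a : Mat).det = (k : Mat).det := by
    rw [show k = a * u by rw [hu, mul_inv_cancel_left], Units.val_mul, det_mul, hdetu, mul_one]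
  have haM : a ∈ M := hfix a (hKdet k (hMK hk) a (ha ▸ hiso) hda)
    (fun x hx => haX x hx ▸ hkX x hx) (fun y hy => haY y hy ▸ hQY _)
  refine ⟨u, M.mul_mem (M.inv_mem haM) hk, huX, huS, ?_⟩
  by_contra hcon
  push Not at hcon
  refine hkY fun y hy => ?_
  rw [show k = a * u by rw [hu, mul_inv_cancel_left], Units.val_mul, ← mulVec_mulVec, hcon y hy, haY y hy]
  exact hQY _

include hKiso hKmem hKdet hmove hscal in
/-- An element fixing `X` but not `Y` makes all vectors of `X` centres. -/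
theorem centre_of_fix {M : Subgroup (GL ι F)} (hMK : M ≤ K) {X Y : Submodule F V} (hp : IsPair f X Y)
    (hX3 : 3 ≤ Module.finrank F X) (hfix : FixIn K M X Y) {k : GL ι F} (hk : k ∈ M)
    (hkX : ∀ x ∈ X, (k : Mat) *ᵥ x ∈ X) (hkY : ¬ ∀ y ∈ Y, (k : Mat) *ᵥ y ∈ Y) :
    ∀ x ∈ X, Centre σ ε f M x := by
  have hs := sesq' hf
  have : Nonempty ι := by
    by_contra hι
    have := two_finrank hf hp
    rw [not_nonempty_iff] at hι
    rw [Fintype.card_eq_zero] at this
    omega
  have he := hf.eps_mul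
  obtain ⟨u, hu, hu0, hu1, b, hb, hub⟩ := exists_unipotent hf hKiso hKmem hKdet hMK hp hfix hk hkX hkY
  set w := (u : Mat) *ᵥ b - b with hw
  have hwX : w ∈ X := hu1 b
  have hw0 : w ≠ 0 := sub_ne_zero.mpr hub
  have small : ∀ T : Submodule F V, Module.finrank F T ≤ 1 → ∀ z : V,
      ∃ a ∈ X, a ∉ T ∧ f a z = 0 := by
    intro T hT z
    by_contra hcon
    push Not at hcon
    have hle : X ⊓ hf.perp (Submodule.span F {z}) ≤ T := fun a ha => by
      by_contra haT
      exact hcon a ha.1 haT (ha.2 z (Submodule.mem_span_singleton_self z))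
    have h1 := Submodule.finrank_mono hle
    have h2 := Submodule.finrank_sup_add_finrank_inf_eq X (hf.perp (Submodule.span F {z}))
    have h3 := hf.finrank_perp (Submodule.span F {z})
    have h4 := Submodule.finrank_le (X ⊔ hf.perp (Submodule.span F {z}))
    have h5 : Module.finrank F (Submodule.span F {z}) ≤ 1 := by
      rcases eq_or_ne z 0 with rfl | hz
      · rw [Submodule.span_zero_singleton, finrank_bot]; exact zero_le_one
      · rw [finrank_span_singleton hz]
    rw [Module.finrank_pi] at h4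
    omega
  obtain ⟨a, ha, haw, hab⟩ := small (Submodule.span F {w}) (finrank_span_singleton hw0).le b
  have ha0 : a ≠ 0 := fun h => haw (h ▸ Submodule.zero_mem _)
  obtain ⟨v, hv, hva⟩ := exists_comm hf hKmem hMK hp hfix hKiso hu hu0 hu1 ha hb hab
  -- a partner `b'` of `w` orthogonal to `a`
  have hwa : w ∉ Submodule.span F {a} := fun h => by
    obtain ⟨c, hc⟩ := Submodule.mem_span_singleton.mp h
    have hc0 : c ≠ 0 := fun h0 => hw0 (by rw [← hc, h0, zero_smul])
    exact haw (Submodule.mem_span_singleton.mpr ⟨c⁻¹, by rw [← hc, inv_smul_smul₀ hc0]⟩)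
  obtain ⟨γ, hγ⟩ := hmove
  obtain ⟨z, hz, hwz, haz⟩ := exists_sep hf hp
    ((Submodule.span_singleton_le_iff_mem _ _).mpr ha) hwX hwa
  have haz0 : f a z = 0 := haz a (Submodule.mem_span_singleton_self a)
  set b' := γ • z with hb'
  have hb'w : σ ε * f b' w = γ := by
    rw [hb', hs.smul_left, hf.refl w z, hwz, map_one, mul_one]
    linear_combination γ * he
  have hab' : f a b' = 0 := by rw [hb', hs.smul_right, haz0, mul_zero]
  have hb'a : f b' a = 0 := hf.orth_comm hab'
  have hv0 : ∀ x ∈ X, (v : Mat) *ᵥ x = x := fun x hx => by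
    rw [hva, hp.left x hx w hwX, hp.left x hx a ha]; simp
  have hv1 : ∀ x, (v : Mat) *ᵥ x - x ∈ X := fun x => by
    rw [hva, add_sub_cancel_left]
    exact X.add_mem (X.sub_mem (X.smul_mem _ ha) (X.smul_mem _ hwX)) (X.smul_mem _ ha)
  obtain ⟨t, ht, hta⟩ := exists_comm hf hKmem hMK hp hfix hKiso hv hv0 hv1 ha (Y.smul_mem γ hz) hab'
  have hvb : (v : Mat) *ᵥ b' - b' = γ • a := by
    rw [hva, add_sub_cancel_left, hb'w, hb'a]; simp
  rw [hvb] at hta
  set c₀ := σ ε * σ γ - γ with hc₀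
  have hc₀0 : c₀ ≠ 0 := sub_ne_zero.mpr hγ
  have hcoef₀ : Coef σ ε c₀ := by
    rw [Coef, hc₀, map_mul, map_sub, map_mul, hf.invol, hf.invol]
    linear_combination γ * he
  have haa := hp.left a ha a ha
  have ht' : t = tv (c₀ • a) (leftVec f a) := by
    refine Units.ext (Matrix.ext_iff_mulVec.2 fun x => ?_)
    rw [hta, ftv_mulVec hf haa, hs.smul_left, hab', hs.smul_right, hc₀]
    match_scalars <;> ring
  -- `a` may be moved to every non-zero vector of `X`
  have step : ∀ p ∈ X, ∀ p' ∈ X, p ≠ 0 → p' ∉ Submodule.span F {p} →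
      ∃ h ∈ M, (h : Mat) *ᵥ p = p' := by
    intro p hpX p' hp'X hp0 hind
    have hp2 : p ∉ Submodule.span F {(-ε) • (p' - p)} := fun h => by
      obtain ⟨c, hc⟩ := Submodule.mem_span_singleton.mp h
      refine hind (Submodule.mem_span_singleton.mpr ?_)
      rw [smul_smul] at hc
      have hc0 : c * -ε ≠ 0 := fun h0 => hp0 (by rw [← hc, h0, zero_smul])
      refine ⟨1 + (c * -ε)⁻¹, ?_⟩
      rw [add_smul, one_smul]
      nth_rewrite 2 [← hc]
      rw [inv_smul_smul₀ hc0, add_sub_cancel]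
    have hp2X : (-ε) • (p' - p) ∈ X := X.smul_mem _ (X.sub_mem hp'X hpX)
    obtain ⟨y, hy, hpy, hp2y⟩ := exists_sep hf hp ((Submodule.span_singleton_le_iff_mem _ _).mpr hp2X)
      hpX hp2
    obtain ⟨h, hh, hhX, hhY, hha⟩ := exists_eich_fix hf hKmem hp hp2X hy
      (hp2y _ (Submodule.mem_span_singleton_self _))
    refine ⟨h, hfix h hh hhX hhY, ?_⟩
    rw [hha, hp.left p hpX _ hp2X, hpy, zero_smul, add_zero, mul_one, smul_smul,
      show σ ε * -ε = -1 by linear_combination -he, neg_one_smul, sub_neg_eq_add, add_sub_cancel]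
  have all : ∀ p ∈ X, p ≠ 0 → tv (c₀ • p) (leftVec f p) ∈ M := by
    intro p hpX hp0
    have key : ∀ q, (∃ h ∈ M, (h : Mat) *ᵥ a = q) → tv (c₀ • q) (leftVec f q) ∈ M := by
      rintro q ⟨h, hh, rfl⟩
      rw [← conj_ftv hf (hKiso h (hMK hh)), ← ht']
      exact M.mul_mem (M.mul_mem hh ht) (M.inv_mem hh)
    by_cases hind : p ∈ Submodule.span F {a}
    · obtain ⟨q, hq, hqa, -⟩ := small (Submodule.span F {a}) (finrank_span_singleton ha0).le 0
      obtain ⟨h₁, hh₁, e₁⟩ := step a ha q hq ha0 hqa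
      have hpq : p ∉ Submodule.span F {q} := fun h => by
        obtain ⟨c, hc⟩ := Submodule.mem_span_singleton.mp h
        obtain ⟨d, hd⟩ := Submodule.mem_span_singleton.mp hind
        have hc0 : c ≠ 0 := fun h0 => hp0 (by rw [← hc, h0, zero_smul])
        exact hqa (Submodule.mem_span_singleton.mpr ⟨c⁻¹ * d, by
          rw [← smul_smul, hd, ← hc, inv_smul_smul₀ hc0]⟩)
      obtain ⟨h₂, hh₂, e₂⟩ := step q hq p hpX (fun h => hqa (h ▸ Submodule.zero_mem _)) hpq
      exact key p ⟨h₂ * h₁, M.mul_mem hh₂ hh₁, by rw [Units.val_mul, ← mulVec_mulVec, e₁, e₂]⟩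
    · exact key p (step a ha p hpX ha0 hind)
  intro p hpX c hc
  obtain ⟨l, m, rfl⟩ := hscal c₀ c hc₀0 hcoef₀ hc
  have hsc : ∀ l : F, tv ((c₀ * (l * σ l)) • p) (leftVec f p) ∈ M := by
    intro l
    rcases eq_or_ne (l • p) 0 with h0 | h0
    · rcases smul_eq_zero.mp h0 with rfl | rfl
      · simp [tv_zero_left, M.one_mem]
      · simp [tv_zero_left, M.one_mem]
    have := all _ (X.smul_mem l hpX) h0
    rw [hs.leftVec_smul, tv_smul_right, smul_smul, smul_smul] at this
    rwa [show c₀ * (l * σ l) = σ l * (c₀ * l) by ring, ← mul_assoc] at *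
  have hpp : ∀ r : F, leftVec f p ⬝ᵥ (r • p) = 0 := fun r => by
    rw [dotProduct_smul, hs.dot_leftVec, hp.left p hpX p hpX, smul_zero]
  rw [sub_smul, sub_eq_add_neg, ← tv_mul_left (hpp _) (by rw [← neg_smul]; exact hpp _), ← tv_inv]
  exact M.mul_mem (hsc l) (M.inv_mem (hsc m))

include hKiso hKmem hmove in
/-- If no element of `M` fixes `X` but not `Y`, an element sending `a ∈ X` into `X` sends the vectors of `Y`
orthogonal to `a` into `Y`. -/
theorem mem_right_of_mem_left {M : Subgroup (GL ι F)} (hMK : M ≤ K) {X Y : Submodule F V} (hp : IsPair f X Y)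
    (hfix : FixIn K M X Y)
    (hno : ∀ h ∈ M, (∀ x ∈ X, (h : Mat) *ᵥ x ∈ X) → ∀ y ∈ Y, (h : Mat) *ᵥ y ∈ Y)
    {m : GL ι F} (hm : m ∈ M) {a : V} (ha : a ∈ X) (ha0 : a ≠ 0) (hma : (m : Mat) *ᵥ a ∈ X)
    {b : V} (hb : b ∈ Y) (hab : f a b = 0) : (m : Mat) *ᵥ b ∈ Y := by
  have hs := sesq' hf
  have : Nonempty ι := by
    by_contra hι
    rw [not_nonempty_iff] at hι
    exact ha0 (Subsingleton.elim _ _)
  have he := hf.eps_mul
  have hmi := hKiso m (hMK hm)
  set a' := (m : Mat) *ᵥ a with ha'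
  have ha'0 : a' ≠ 0 := fun h =>
    ha0 (mulVec_injective_iff_isUnit.mpr m.isUnit (h.trans (mulVec_zero _).symm))
  obtain ⟨y, hy, hy1⟩ := exists_pair_one hf hp hma ha'0
  have hya : f y a' = ε := by rw [hf.refl a' y, hy1, map_one, mul_one]
  -- the component in `X` of an image is a multiple of `a'` with a restricted coefficient
  have key : ∀ b ∈ Y, f a b = 0 →
      ∃ lam : F, σ ε * σ lam = lam ∧ (m : Mat) *ᵥ b - lam • a' ∈ Y := by
    intro b hb hab
    obtain ⟨L, hL, hLX, hLY, hLa⟩ := exists_eich_fix hf hKmem hp ha hb hab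
    have hn : ∀ z, ((m * L * m⁻¹ : GL ι F) : Mat) *ᵥ z
        = z + f z a' • ((m : Mat) *ᵥ b) - (σ ε * f z ((m : Mat) *ᵥ b)) • a' := by
      intro z
      have e : ∀ w, f (((m⁻¹ : GL ι F) : Mat) *ᵥ z) w = f z ((m : Mat) *ᵥ w) := fun w => by
        conv_rhs => rw [← mulVec_inv_mulVec' hf m z]
        rw [hmi]
      rw [Units.val_mul, Units.val_mul, ← mulVec_mulVec, ← mulVec_mulVec, hLa, e, e, mulVec_sub,
        mulVec_add, mulVec_smul, mulVec_smul, mulVec_inv_mulVec' hf]
    have hnX : ∀ z ∈ X, ((m * L * m⁻¹ : GL ι F) : Mat) *ᵥ z ∈ X := fun z hz => by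
      rw [hn, hp.left z hz a' hma, zero_smul, add_zero]
      exact X.sub_mem hz (X.smul_mem _ hma)
    have h := hno _ (M.mul_mem (M.mul_mem hm (hfix L hL hLX hLY)) (M.inv_mem hm)) hnX y hy
    rw [hn, hya, add_sub_assoc, Submodule.add_mem_iff_right _ hy] at h
    obtain ⟨x₀, hx₀, y₀, hy₀, hxy⟩ := hp.decomp ((m : Mat) *ᵥ b)
    have hfy : f y ((m : Mat) *ᵥ b) = f y x₀ := by
      rw [← hxy, hs.add_right, hp.right y hy y₀ hy₀, add_zero]
    rw [hfy, ← hxy, smul_add, add_sub_right_comm, Submodule.add_mem_iff_left _ (Y.smul_mem _ hy₀)] at h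
    have h0 : ε • x₀ - (σ ε * f y x₀) • a' = 0 :=
      hp.disjoint (X.sub_mem (X.smul_mem _ hx₀) (X.smul_mem _ hma)) h
    set lam := σ ε * (σ ε * f y x₀) with hlam
    have hx : x₀ = lam • a' := by
      rw [hlam, mul_smul, ← sub_eq_zero.mp h0, smul_smul, mul_comm (σ ε), he, one_smul]
    refine ⟨lam, ?_, by rw [← hxy, hx, add_sub_cancel_left]; exact hy₀⟩
    have hh : f y x₀ = σ lam * ε := by rw [hx, hs.smul_right, hya]
    rw [hh] at hlam
    linear_combination -(σ ε * σ lam) * he - hlam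
  obtain ⟨lam, hlam, hmem⟩ := key b hb hab
  rcases eq_or_ne lam 0 with rfl | hne
  · simpa using hmem
  exfalso
  obtain ⟨γ, hγ⟩ := hmove
  obtain ⟨lam', hlam', hmem'⟩ := key ((γ / lam) • b) (Y.smul_mem _ hb) (by rw [hs.smul_right, hab, mul_zero])
  have h1 := Y.sub_mem (Y.smul_mem (γ / lam) hmem) hmem'
  rw [mulVec_smul, smul_sub, smul_smul, div_mul_cancel₀ _ hne, sub_sub_sub_cancel_left, ← sub_smul] at h1
  have h2 := hp.disjoint (X.smul_mem _ hma) h1
  rw [smul_eq_zero, sub_eq_zero] at h2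
  obtain h2 | h2 := h2
  · exact hγ (h2 ▸ hlam')
  · exact ha'0 h2

include hKiso hKmem hKdet hmove hscal in
/-- An element fixing neither member makes one of them consist of centres, provided it fixes a vector of one
member. -/
theorem centre_of_near {M : Subgroup (GL ι F)} (hMK : M ≤ K) {X Y : Submodule F V} (hp : IsPair f X Y)
    (hX3 : 3 ≤ Module.finrank F X) (hfix : FixIn K M X Y) {k : GL ι F} (hk : k ∈ M)
    {R : Submodule F V} (hR : Module.finrank F R ≤ 2) (hRk : ∀ x ∈ X, (∀ r ∈ R, f x r = 0) → (k : Mat) *ᵥ x = x)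
    (hkY : ¬ ∀ y ∈ Y, (k : Mat) *ᵥ y ∈ Y) :
    (∀ x ∈ X, Centre σ ε f M x) ∨ (∀ y ∈ Y, Centre σ ε f M y) := by
  by_cases h1 : ∃ h ∈ M, (∀ x ∈ X, (h : Mat) *ᵥ x ∈ X) ∧ ¬ ∀ y ∈ Y, (h : Mat) *ᵥ y ∈ Y
  · obtain ⟨h, hh, hhX, hhY⟩ := h1
    exact Or.inl (centre_of_fix hf hKiso hKmem hKdet hmove hscal hMK hp hX3 hfix hh hhX hhY)
  by_cases h2 : ∃ h ∈ M, (∀ y ∈ Y, (h : Mat) *ᵥ y ∈ Y) ∧ ¬ ∀ x ∈ X, (h : Mat) *ᵥ x ∈ X
  · obtain ⟨h, hh, hhY, hhX⟩ := h2
    exact Or.inr (centre_of_fix hf hKiso hKmem hKdet hmove hscal hMK hp.symm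
      (finrank_right hf hp ▸ hX3) hfix.symm hh hhY hhX)
  push Not at h1 h2
  exfalso
  obtain ⟨a, ⟨haX, haR⟩, ha0⟩ := Submodule.exists_mem_ne_zero_of_ne_bot (p := X ⊓ hf.perp R) fun h => by
    have h2 := Submodule.finrank_sup_add_finrank_inf_eq X (hf.perp R)
    have h3 := hf.finrank_perp R
    have h4 := Submodule.finrank_le (X ⊔ hf.perp R)
    rw [Module.finrank_pi] at h4
    rw [h, finrank_bot] at h2
    omega
  have hka : (k : Mat) *ᵥ a ∈ X := by rw [hRk a haX haR]; exact haX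
  set B := Y ⊓ hf.perp (Submodule.span F {a}) with hB
  have hkB : ∀ b ∈ B, (k : Mat) *ᵥ b ∈ Y := fun b hb =>
    mem_right_of_mem_left hf hKiso hKmem hmove hMK hp hfix h1 hk haX ha0 hka hb.1
      (hf.orth_comm (hb.2 a (Submodule.mem_span_singleton_self a)))
  have hdY := finrank_right hf hp
  have hB2 : 2 ≤ Module.finrank F B := by
    have h2 := Submodule.finrank_sup_add_finrank_inf_eq Y (hf.perp (Submodule.span F {a}))
    have h3 := hf.finrank_perp (Submodule.span F {a})
    have h4 := Submodule.finrank_le (Y ⊔ hf.perp (Submodule.span F {a}))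
    rw [Module.finrank_pi] at h4
    rw [finrank_span_singleton ha0] at h3
    rw [← hB] at h2
    omega
  have hkX : ∀ x ∈ X, (k : Mat) *ᵥ x ∈ X := by
    intro x hx
    obtain ⟨b₁, hb₁, hb₁0⟩ := Submodule.exists_mem_ne_zero_of_ne_bot (p := B) fun h => by
      rw [h, finrank_bot] at hB2; omega
    obtain ⟨b₂, hb₂, hb₂n⟩ : ∃ b₂ ∈ B, b₂ ∉ Submodule.span F {b₁} := by
      by_contra h
      push Not at h
      have h' := Submodule.finrank_mono (h : B ≤ _)
      rw [finrank_span_singleton hb₁0] at h'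
      omega
    have hb₂0 : b₂ ≠ 0 := fun h => hb₂n (h ▸ Submodule.zero_mem _)
    have hmv : ∀ b ∈ B, b ≠ 0 → ∀ x ∈ X, f b x = 0 → (k : Mat) *ᵥ x ∈ X := fun b hb hb0 x hx hbx =>
      mem_right_of_mem_left hf hKiso hKmem hmove hMK hp.symm hfix.symm h2 hk hb.1 hb0 (hkB b hb) hx hbx
    obtain ⟨z, hz, hz2, hz1⟩ := exists_sep hf hp.symm
      ((Submodule.span_singleton_le_iff_mem _ _).mpr hb₁.1) hb₂.1 hb₂n
    have hs := sesq' hf
    have h' := hmv b₂ hb₂ hb₂0 (x - σ (f b₂ x) • z) (X.sub_mem hx (X.smul_mem _ hz))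
      (by rw [hs.sub_right, hs.smul_right, hf.invol, hz2, mul_one, sub_self])
    rw [mulVec_sub, mulVec_smul, Submodule.sub_mem_iff_left _
      (X.smul_mem _ (hmv b₁ hb₁ hb₁0 z hz (hz1 _ (Submodule.mem_span_singleton_self _))))] at h'
    exact h'
  exact hkY (h1 k hk hkX)

/-- No Lagrangian subspace containing a vector with two components is invariant under all Eichler elements
of the pair. -/
theorem not_invariant {X Y S : Submodule F V} (hp : IsPair f X Y) (hd : 3 ≤ Module.finrank F X)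
    (hS : Module.finrank F S = Module.finrank F X) {p q : V} (hpX : p ∈ X) (hp0 : p ≠ 0) (hqY : q ∈ Y)
    (hq0 : q ≠ 0)
    (hinv : ∀ a ∈ X, ∀ b ∈ Y, f a b = 0 → f (p + q) a • b - (σ ε * f (p + q) b) • a ∈ S) : False := by
  have hs := sesq' hf
  have hdim := finrank_right hf hp
  have hperp : ∀ (A : Submodule F V) (w : V),
      Module.finrank F A ≤ Module.finrank F ↥(A ⊓ hf.perp (Submodule.span F {w})) + 1 := by
    intro A w
    have h2 := Submodule.finrank_sup_add_finrank_inf_eq A (hf.perp (Submodule.span F {w}))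
    have h3 := hf.finrank_perp (Submodule.span F {w})
    have h4 := Submodule.finrank_le (A ⊔ hf.perp (Submodule.span F {w}))
    have h5 : Module.finrank F (Submodule.span F {w}) ≤ 1 := by
      rcases eq_or_ne w 0 with rfl | hw
      · rw [Submodule.span_zero_singleton, finrank_bot]; exact zero_le_one
      · rw [finrank_span_singleton hw]
    rw [Module.finrank_pi] at h4
    omega
  -- spreading from the vectors outside a line to a whole subspace
  have spread : ∀ (B : Submodule F V) (w : V), 2 ≤ Module.finrank F B →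
      (∀ b ∈ B, b ∉ Submodule.span F {w} → b ∈ S) → B ≤ S := by
    intro B w hB hout b hb
    by_cases hbw : b ∈ Submodule.span F {w}
    · obtain ⟨b₂, hb₂, hb₂w⟩ : ∃ b₂ ∈ B, b₂ ∉ Submodule.span F {w} := by
        by_contra h
        push Not at h
        have h1 := Submodule.finrank_mono (h : B ≤ _)
        have h2 : Module.finrank F (Submodule.span F {w}) ≤ 1 := by
          rcases eq_or_ne w 0 with rfl | hw
          · rw [Submodule.span_zero_singleton, finrank_bot]; exact zero_le_one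
          · rw [finrank_span_singleton hw]
        omega
      have h3 : b + b₂ ∉ Submodule.span F {w} := fun h =>
        hb₂w ((Submodule.add_mem_iff_right _ hbw).mp h)
      simpa using S.sub_mem (hout _ (B.add_mem hb hb₂) h3) (hout b₂ hb₂ hb₂w)
    · exact hout b hb hbw
  have hY : Y ⊓ hf.perp (Submodule.span F {p}) ≤ S := by
    refine spread _ q (by have := hperp Y p; omega) fun b hb hbq => ?_
    have hbp : f b p = 0 := hb.2 p (Submodule.mem_span_singleton_self p)
    have hqb : q ∉ Submodule.span F {b} := fun h => by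
      obtain ⟨c, hc⟩ := Submodule.mem_span_singleton.mp h
      have hc0 : c ≠ 0 := fun h0 => hq0 (by rw [← hc, h0, zero_smul])
      exact hbq (Submodule.mem_span_singleton.mpr ⟨c⁻¹, by rw [← hc, inv_smul_smul₀ hc0]⟩)
    obtain ⟨a, ha, hqa, hba⟩ := exists_sep hf hp.symm
      ((Submodule.span_singleton_le_iff_mem _ _).mpr hb.1) hqY hqb
    have hab : f a b = 0 := hf.orth_comm (hba b (Submodule.mem_span_singleton_self b))
    have h := hinv a ha b hb.1 hab
    rwa [hs.add_left, hs.add_left, hp.left p hpX a ha, hp.right q hqY b hb.1, add_zero, zero_add, hqa,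
      one_smul, hf.orth_comm hbp, mul_zero, zero_smul, sub_zero] at h
  have hX : X ⊓ hf.perp (Submodule.span F {q}) ≤ S := by
    refine spread _ p (by have := hperp X q; omega) fun a ha hap => ?_
    have haq : f a q = 0 := ha.2 q (Submodule.mem_span_singleton_self q)
    have hpa : p ∉ Submodule.span F {a} := fun h => by
      obtain ⟨c, hc⟩ := Submodule.mem_span_singleton.mp h
      have hc0 : c ≠ 0 := fun h0 => hp0 (by rw [← hc, h0, zero_smul])
      exact hap (Submodule.mem_span_singleton.mpr ⟨c⁻¹, by rw [← hc, inv_smul_smul₀ hc0]⟩)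
    obtain ⟨b, hb, hpb, hab⟩ := exists_sep hf hp
      ((Submodule.span_singleton_le_iff_mem _ _).mpr ha.1) hpX hpa
    have h := hinv a ha.1 b hb (hab a (Submodule.mem_span_singleton_self a))
    rw [hs.add_left, hs.add_left, hp.left p hpX a ha.1, hp.right q hqY b hb, add_zero, zero_add, hpb,
      hf.orth_comm haq, zero_smul, zero_sub, mul_one, neg_mem_iff, S.smul_mem_iff] at h
    · exact h
    · have : Nonempty ι := by
        by_contra hι
        rw [not_nonempty_iff] at hι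
        exact hp0 (Subsingleton.elim _ _)
      exact (map_ne_zero_iff σ σ.injective).mpr (eps_ne hf)
  have h1 := Submodule.finrank_mono (sup_le hY hX)
  have h2 := Submodule.finrank_sup_add_finrank_inf_eq (Y ⊓ hf.perp (Submodule.span F {p}))
    (X ⊓ hf.perp (Submodule.span F {q}))
  have h3 : Y ⊓ hf.perp (Submodule.span F {p}) ⊓ (X ⊓ hf.perp (Submodule.span F {q})) = ⊥ := by
    rw [eq_bot_iff]
    rintro v ⟨⟨hvY, -⟩, ⟨hvX, -⟩⟩
    simpa using hp.disjoint hvX hvY
  rw [h3, finrank_bot] at h2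
  have := hperp X q
  have := hperp Y p
  omega

include hKiso hKmem hKdet hmove hskew hscal in
/-- The stabiliser of a Lagrangian pair is maximal. -/
theorem isMaximalIn_pair {D : Fin 2 → Submodule F V} (hp : IsPair f (D 0) (D 1))
    (hd : 3 ≤ Module.finrank F (D 0))
    (hgen : ∀ M : Subgroup (GL ι F), (∀ v, f v v = 0 → Centre σ ε f M v) → K ≤ M)
    (hswap : ∃ J ∈ K, (∀ x ∈ D 0, (J : Mat) *ᵥ x ∈ D 1) ∧ ∀ y ∈ D 1, (J : Mat) *ᵥ y ∈ D 0) :
    IsMaximalIn K (decompositionStabilizer D ⊓ K) := by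
  have hs := sesq' hf
  obtain ⟨δ, hδ0, hδ⟩ := hskew
  have hne : Nonempty ι := by
    by_contra hι
    have := two_finrank hf hp
    rw [not_nonempty_iff] at hι
    rw [Fintype.card_eq_zero] at this
    omega
  have he := hf.eps_mul
  have hdim := finrank_right hf hp
  have hstab : ∀ g : GL ι F,
      ((∀ x ∈ D 0, (g : Mat) *ᵥ x ∈ D 0) ∧ ∀ y ∈ D 1, (g : Mat) *ᵥ y ∈ D 1) ∨
      ((∀ x ∈ D 0, (g : Mat) *ᵥ x ∈ D 1) ∧ ∀ y ∈ D 1, (g : Mat) *ᵥ y ∈ D 0) →
      g ∈ decompositionStabilizer D := by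
    rintro g (⟨h0, h1⟩ | ⟨h0, h1⟩)
    · exact ⟨1, fun i => by
        fin_cases i <;> [exact map_eq_of_le hf h0 rfl; exact map_eq_of_le hf h1 rfl]⟩
    · exact ⟨Equiv.swap 0 1, fun i => by
        fin_cases i <;> [exact map_eq_of_le hf h0 hdim; exact map_eq_of_le hf h1 hdim.symm]⟩
  obtain ⟨a, ha, ha0⟩ := Submodule.exists_mem_ne_zero_of_ne_bot (p := D 0) fun h => by
    rw [h, finrank_bot] at hd; omega
  obtain ⟨b, hb, hab⟩ := exists_pair_one hf hp ha ha0
  refine isMaximalIn_of inf_le_right ?_ fun M hHM hMK g hg hg' => ?_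
  · obtain ⟨c, hc0, hc⟩ : ∃ c, c ≠ 0 ∧ Coef σ ε c := by
      have hσδ : σ δ ≠ 0 := (map_ne_zero_iff σ σ.injective).mpr hδ0
      refine ⟨δ⁻¹, inv_ne_zero hδ0, ?_⟩
      rw [Coef, map_mul, map_inv₀]
      field_simp
      linear_combination σ ε * hδ - σ δ * he
    refine ⟨tv (c • a) (leftVec f a), hKmem _ (ftv_iso hf (hp.left a ha a ha) hc) ?_, fun h => ?_⟩
    · have := tv_mem_specialLinear (c • a) (leftVec f a)
      rw [specialLinear, MonoidHom.mem_ker, Units.ext_iff] at this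
      exact this
    obtain ⟨π, hπ⟩ := h.1
    have hmem : (tv (c • a) (leftVec f a) : Mat) *ᵥ b ∈ D (π 1) :=
      hπ 1 ▸ ⟨b, hb, toLin'_apply _ _⟩
    rw [ftv_mulVec hf (hp.left a ha a ha), hf.refl a b, hab, map_one σ, mul_one] at hmem
    have hce : (c * ε) • a ≠ 0 := smul_ne_zero (mul_ne_zero hc0 (eps_ne hf)) ha0
    obtain h0 | h1 : π 1 = 0 ∨ π 1 = 1 := by
      rcases π 1 with ⟨_ | _ | n, hn⟩
      · exact Or.inl rfl
      · exact Or.inr rfl
      · omega
    · rw [h0, Submodule.add_mem_iff_left _ ((D 0).smul_mem _ ha)] at hmem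
      have hb0 : b ≠ 0 := fun h => by rw [h, hf.zero_right] at hab; exact zero_ne_one hab
      exact hb0 (hp.disjoint hmem hb)
    · rw [h1, Submodule.add_mem_iff_right _ hb] at hmem
      exact hce (hp.disjoint ((D 0).smul_mem _ ha) hmem)
  have hfix : FixIn K M (D 0) (D 1) := fun h hh h0 h1 => hHM ⟨hstab h (Or.inl ⟨h0, h1⟩), hh⟩
  obtain ⟨J, hJ, hJ0, hJ1⟩ := hswap
  have hJM : J ∈ M := hHM ⟨hstab J (Or.inr ⟨hJ0, hJ1⟩), hJ⟩
  -- centres in one member give all
  have hfinish : ∀ {X Y : Submodule F V}, IsPair f X Y → (∀ x ∈ X, Centre σ ε f M x) →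
      (∀ x ∈ X, (J : Mat) *ᵥ x ∈ Y) → Module.finrank F X = Module.finrank F Y → K ≤ M := by
    intro X Y hp' hcX hJXY hd'
    have hcY : ∀ y ∈ Y, Centre σ ε f M y := by
      intro y hy
      rw [← map_eq_of_le hf hJXY hd'] at hy
      obtain ⟨x, hx, rfl⟩ := hy
      rw [toLin'_apply]
      exact centre_map hf hKiso hMK (hcX x hx) hJM
    refine hgen M fun v hv => ?_
    obtain ⟨p, hp1, q, hq, rfl⟩ := hp'.decomp v
    have hpq : f p q + f q p = 0 := by
      rw [hs.add_left, hs.add_right, hs.add_right, hp'.left p hp1 p hp1, hp'.right q hq q hq] at hv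
      linear_combination hv
    rcases eq_or_ne p 0 with rfl | hp0
    · rw [zero_add]; exact hcY q hq
    by_cases hz : f p q = 0
    · obtain ⟨q', hq', hpq'⟩ := exists_pair_one hf hp' hp1 hp0
      set b' := σ δ • q' with hb'
      have e1 : f p b' = δ := by rw [hb', hs.smul_right, hpq', hf.invol, mul_one]
      have h1 := centre_add hf hKiso hMK (hcX p hp1) (hcY b' (Y.smul_mem _ hq'))
        (hp'.right _ (Y.smul_mem _ hq') _ (Y.smul_mem _ hq')) (e1 ▸ hδ0) (by rw [hf.refl p b', e1]; exact hδ)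
      have hqb : q - b' ∈ Y := Y.sub_mem hq (Y.smul_mem _ hq')
      have e2 : f (p + b') (q - b') = -δ := by
        rw [hs.add_left, hs.sub_right, hz, e1, hp'.right _ (Y.smul_mem _ hq') _ hqb, zero_sub, add_zero]
      have h2 := centre_add hf hKiso hMK h1 (hcY _ hqb) (hp'.right _ hqb _ hqb) (e2 ▸ neg_ne_zero.mpr hδ0)
        (by rw [hf.refl (p + b') (q - b'), e2, map_neg]; linear_combination -hδ)
      rwa [add_assoc, add_sub_cancel] at h2
    · exact centre_add hf hKiso hMK (hcX p hp1) (hcY q hq) (hp'.right q hq q hq) hz hpq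
  -- the conjugates of the Eichler elements by `g` cannot all fix both members
  obtain ⟨k, hk, R, hR, hRk, hkfix⟩ : ∃ k ∈ M, ∃ R : Submodule F V, Module.finrank F R ≤ 2 ∧
      (∀ x, (∀ r ∈ R, f x r = 0) → (k : Mat) *ᵥ x = x) ∧
      ¬ ((∀ x ∈ D 0, (k : Mat) *ᵥ x ∈ D 0) ∧ ∀ y ∈ D 1, (k : Mat) *ᵥ y ∈ D 1) := by
    by_contra hcon
    push Not at hcon
    have hgi := hKiso g (hMK hg)
    set g' := (g⁻¹ : GL ι F)
    have hgi' : Iso f (g' : Mat) := hKiso g' (hMK (M.inv_mem hg))
    have hinv : ∀ a ∈ D 0, ∀ b ∈ D 1, f a b = 0 → ∀ i : Fin 2, ∀ z ∈ D i,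
        f ((g' : Mat) *ᵥ z) a • b - (σ ε * f ((g' : Mat) *ᵥ z) b) • a ∈ (D i).map (toLin' (g' : Mat)) := by
      intro a ha b hb hab i z hz
      obtain ⟨L, hL, hL0, hL1, hLa⟩ := exists_eich_fix hf hKmem hp ha hb hab
      have hk := M.mul_mem (M.mul_mem hg (hfix L hL hL0 hL1)) (M.inv_mem hg)
      classical
      have hsp := finrank_span_finset_le_card (R := F) ({(g : Mat) *ᵥ a, (g : Mat) *ᵥ b} : Finset V)
      rw [Finset.coe_pair] at hsp
      obtain ⟨h0, h1⟩ := hcon (g * L * g') hk (Submodule.span F {(g : Mat) *ᵥ a, (g : Mat) *ᵥ b})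
        (hsp.trans Finset.card_le_two) fun x hx => by
          have e : ∀ w, (g : Mat) *ᵥ w ∈ ({(g : Mat) *ᵥ a, (g : Mat) *ᵥ b} : Set V) →
              f ((g' : Mat) *ᵥ x) w = 0 := fun w hw => by
            rw [← hgi, mulVec_inv_mulVec' hf]
            exact hx _ (Submodule.subset_span hw)
          rw [Units.val_mul, Units.val_mul, ← mulVec_mulVec, ← mulVec_mulVec, hLa, e a (by simp),
            e b (by simp)]
          simp [g']
      have hz' : ((g * L * g' : GL ι F) : Mat) *ᵥ z ∈ D i := by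
        fin_cases i
        · exact h0 z hz
        · exact h1 z hz
      have hLz : (L : Mat) *ᵥ ((g' : Mat) *ᵥ z) ∈ (D i).map (toLin' (g' : Mat)) :=
        ⟨_, hz', by rw [toLin'_apply, Units.val_mul, Units.val_mul, ← mulVec_mulVec, ← mulVec_mulVec,
          inv_mulVec_mulVec' hf]⟩
      rw [hLa, add_sub_assoc] at hLz
      exact (Submodule.add_mem_iff_right _ (show (g' : Mat) *ᵥ z ∈ (D i).map (toLin' (g' : Mat)) from
        ⟨z, hz, toLin'_apply _ _⟩)).mp hLz
    -- so each preimage of a member is a member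
    have hwhich : ∀ i : Fin 2, ∃ j : Fin 2, ∀ z ∈ D i, (g' : Mat) *ᵥ z ∈ D j := by
      intro i
      by_contra hno
      push Not at hno
      obtain ⟨z, hz, hz0⟩ := hno 0
      obtain ⟨z', hz', hz'1⟩ := hno 1
      -- a vector with both components
      obtain ⟨x, hx, hx0, hx1⟩ : ∃ x ∈ D i, (g' : Mat) *ᵥ x ∉ D 0 ∧ (g' : Mat) *ᵥ x ∉ D 1 := by
        by_cases h1 : (g' : Mat) *ᵥ z ∈ D 1
        · by_cases h2 : (g' : Mat) *ᵥ z' ∈ D 0
          · refine ⟨z + z', (D i).add_mem hz hz', fun h => hz0 ?_, fun h => hz'1 ?_⟩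
            · rw [mulVec_add] at h; exact ((D 0).add_mem_iff_left h2).mp h
            · rw [mulVec_add] at h; exact ((D 1).add_mem_iff_right h1).mp h
          · exact ⟨z', hz', h2, hz'1⟩
        · exact ⟨z, hz, hz0, h1⟩
      obtain ⟨p, hp0, q, hq, hpq⟩ := hp.decomp ((g' : Mat) *ᵥ x)
      have hpne : p ≠ 0 := fun h => hx1 (by rw [← hpq, h, zero_add]; exact hq)
      have hqne : q ≠ 0 := fun h => hx0 (by rw [← hpq, h, add_zero]; exact hp0)
      refine not_invariant hf hp hd (S := (D i).map (toLin' (g' : Mat))) ?_ hp0 hpne hq hqne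
        fun a ha b hb hab => ?_
      · rw [Matrix.toLin'_apply', finrank_map_gl hf]
        fin_cases i
        · rfl
        · exact hdim.symm
      · rw [hpq]; exact hinv a ha b hb hab i x hx
    choose π hπ using hwhich
    have hmap : ∀ i, (D i).map (toLin' (g' : Mat)) = D (π i) := fun i => map_eq_of_le hf (hπ i) (by
      have h2 : ∀ l : Fin 2, Module.finrank F (D l) = Module.finrank F (D 0) := fun l => by
        fin_cases l
        · rfl
        · exact hdim.symm
      rw [h2, h2 (π i)])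
    have hinj : Function.Injective π := by
      intro i l hil
      have h2 : D i = D l := by
        have := (hmap i).trans ((congrArg D hil).trans (hmap l).symm)
        exact Submodule.map_injective_of_injective (by
          rw [Matrix.toLin'_apply']; exact mulVec_injective_iff_isUnit.mpr g'.isUnit) this
      by_contra hil'
      have h01 : D 0 = D 1 := by
        fin_cases i <;> fin_cases l <;> first | exact absurd rfl hil' | exact h2 | exact h2.symm
      exact ha0 (hp.disjoint ha (h01 ▸ ha))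
    have hmem : g' ∈ decompositionStabilizer D :=
      ⟨Equiv.ofBijective π (Finite.injective_iff_bijective.mp hinj), hmap⟩
    refine hg' ⟨?_, hMK hg⟩
    simpa [g'] using inv_mem hmem
  by_cases hk1 : ∀ y ∈ D 1, (k : Mat) *ᵥ y ∈ D 1
  · have hk0 : ¬ ∀ x ∈ D 0, (k : Mat) *ᵥ x ∈ D 0 := fun h => hkfix ⟨h, hk1⟩
    rcases centre_of_near hf hKiso hKmem hKdet hmove hscal hMK hp.symm (by omega)
      hfix.symm hk hR (fun x _ h => hRk x h) hk0 with h | h
    · exact hfinish hp.symm h hJ1 hdim.symm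
    · exact hfinish hp h hJ0 hdim
  · rcases centre_of_near hf hKiso hKmem hKdet hmove hscal hMK hp hd hfix hk hR
      (fun x _ h => hRk x h) hk1 with h | h
    · exact hfinish hp h hJ0 hdim
    · exact hfinish hp.symm h hJ1 hdim.symm

end general

end CfsgLib.MaxSub.LPair
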