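import Cfsg.Agent.MaxSub.LagrangianPair
import Cfsg.Agent.MaxSub.SymplecticBasic
import Cfsg.Agent.MaxSub.UnitaryCentres

/-!
# Stabilisers of Lagrangian pairs in the symplectic and special unitary groups
-/

set_option autoImplicit false
set_option linter.unusedSectionVars false

namespace CfsgLib.MaxSub.LPair

open Matrix Cfsg.Geo CfsgLib.AschbacherForms

section generic

variable {ι : Type} [Fintype ι] [DecidableEq ι] {F : Type*} [Field F] [Fintype F]
variable {σ : F ≃+* F} {ε : F} {f : (ι → F) → (ι → F) → F}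

local notation "Mat" => Matrix ι ι F
local notation "V" => (ι → F)

variable (hf : IsReflexive σ ε f)
include hf

/-- Dual bases of a pair. -/
theorem exists_dual {X Y : Submodule F V} (hp : IsPair f X Y) :
    ∃ e w : Fin (Module.finrank F X) → V, (∀ i, e i ∈ X) ∧ (∀ i, w i ∈ Y) ∧
      (∀ i j, f (e i) (w j) = if i = j then 1 else 0) ∧
      ∀ x, x = ∑ i, f x (w i) • e i + ∑ i, (σ ε * f x (e i)) • w i := by
  classical
  have hs := sesq' hf
  let B := Module.finBasis F X
  let e : Fin (Module.finrank F X) → V := fun i => (B i : V)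
  have he : LinearIndependent F e := B.linearIndependent.map' X.subtype (Submodule.ker_subtype X)
  have hw : ∀ j, ∃ z ∈ Y, f (e j) z = 1 ∧ ∀ i, i ≠ j → f (e i) z = 0 := by
    intro j
    obtain ⟨z, hz, h1, h0⟩ := exists_sep hf hp (S := Submodule.span F (e '' {i | i ≠ j}))
      (Submodule.span_le.mpr (by rintro _ ⟨i, -, rfl⟩; exact (B i).2)) (B j).2
      (he.notMem_span_image (by simp))
    exact ⟨z, hz, h1, fun i hi => h0 _ (Submodule.subset_span ⟨i, hi, rfl⟩)⟩
  choose w hwY hw1 hw0 using hw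
  have hd : ∀ i j, f (e i) (w j) = if i = j then 1 else 0 := by
    intro i j
    by_cases h : i = j
    · subst h; rw [if_pos rfl]; exact hw1 i
    · rw [if_neg h]; exact hw0 j i h
  refine ⟨e, w, fun i => (B i).2, hwY, hd, fun x => ?_⟩
  -- pairing with both members
  refine hf.ext_left fun v => ?_
  obtain ⟨p, hpX, q, hq, rfl⟩ := hp.decomp v
  obtain ⟨x₀, hx₀, x₁, hx₁, rfl⟩ := hp.decomp x
  have hexp : ∀ z ∈ X, z = ∑ i, f z (w i) • e i := by
    intro z hz
    have h1 : (∑ i, B.repr ⟨z, hz⟩ i • (B i : V)) = z := by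
      have h := congrArg X.subtype (B.sum_repr ⟨z, hz⟩)
      simp only [map_sum, map_smul, Submodule.subtype_apply] at h
      exact h
    conv_lhs => rw [← h1]
    refine Finset.sum_congr rfl fun i _ => ?_
    congr 1
    conv_rhs => rw [← h1]
    rw [hf.sesq.sum_left, Finset.sum_eq_single i (fun j _ hj => by
      rw [hs.smul_left, show f (B j : V) (w i) = if j = i then 1 else 0 from hd j i, if_neg hj, mul_zero])
      (fun h => absurd (Finset.mem_univ i) h)]
    rw [hs.smul_left, show f (B i : V) (w i) = if i = i then 1 else 0 from hd i i, if_pos rfl, mul_one]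
  have a1 : ∀ i, f (x₀ + x₁) (w i) = f x₀ (w i) := fun i => by
    rw [hs.add_left, hp.right x₁ hx₁ _ (hwY i), add_zero]
  have a2 : ∀ i, f (x₀ + x₁) (e i) = f x₁ (e i) := fun i => by
    rw [hs.add_left, hp.left x₀ hx₀ _ (B i).2, zero_add]
  simp only [a1, a2]
  rw [← hexp x₀ hx₀, hs.add_left, hs.add_left]
  congr 1
  have e1 : f x₁ (p + q) = f x₁ p := by rw [hs.add_right, hp.right x₁ hx₁ q hq, add_zero]
  have e2 : f (∑ i, (σ ε * f x₁ (e i)) • w i) (p + q) = f (∑ i, (σ ε * f x₁ (e i)) • w i) p := by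
    rw [hs.add_right, hp.right _ (Submodule.sum_mem _ fun i _ => Y.smul_mem _ (hwY i)) q hq, add_zero]
  rw [e1, e2]
  conv_lhs => rw [hexp p hpX]
  rw [hf.sesq.sum_right, hf.sesq.sum_left]
  refine Finset.sum_congr rfl fun i _ => ?_
  rw [hs.smul_left, hs.smul_right, hf.refl p (w i)]
  rcases isEmpty_or_nonempty ι with hι | hι
  · rw [show x₁ = 0 from Subsingleton.elim _ _, hf.zero_left, mul_zero, mul_zero, zero_mul]
  linear_combination -(σ (f p (w i)) * f x₁ (e i)) * hf.eps_mul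

/-- Applying a map given by the two families of coefficients. -/
theorem exists_coord_iso {X Y : Submodule F V} {d : ℕ} {e w : Fin d → V}
    (hdec : ∀ x, x = ∑ i, f x (w i) • e i + ∑ i, (σ ε * f x (e i)) • w i)
    (e' w' : Fin d → V) (hee : ∀ i j, f (e' i) (e' j) = f (e i) (e j))
    (hew : ∀ i j, f (e' i) (w' j) = f (e i) (w j)) (hww : ∀ i j, f (w' i) (w' j) = f (w i) (w j))
    (hXe : ∀ i, e' i ∈ X) (hYw : ∀ i, w' i ∈ Y) :
    ∃ g : GL ι F, Iso f (g : Mat) ∧
      (∀ x, (g : Mat) *ᵥ x = ∑ i, f x (w i) • e' i + ∑ i, (σ ε * f x (e i)) • w' i) := by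
  have hs := sesq' hf
  let L : V →ₗ[F] V :=
    { toFun := fun x => ∑ i, f x (w i) • e' i + ∑ i, (σ ε * f x (e i)) • w' i
      map_add' := fun x y => by
        simp only [hs.add_left, mul_add, add_smul, Finset.sum_add_distrib]
        abel
      map_smul' := fun c x => by
        simp only [hs.smul_left, RingHom.id_apply, smul_add, Finset.smul_sum, smul_smul]
        congr 1
        exact Finset.sum_congr rfl fun i _ => by rw [mul_left_comm] }
  set A : Mat := LinearMap.toMatrix' L with hA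
  have happ : ∀ x, A *ᵥ x = ∑ i, f x (w i) • e' i + ∑ i, (σ ε * f x (e i)) • w' i := fun x => by
    rw [hA, LinearMap.toMatrix'_mulVec]; rfl
  have hwe : ∀ i j, f (w' i) (e' j) = f (w i) (e j) := fun i j => by
    rw [hf.refl (e' j) (w' i), hew, ← hf.refl]
  have hiso : Iso f A := by
    intro x y
    conv_rhs => rw [hdec x, hdec y]
    simp only [happ, hs.add_left, hs.add_right, hf.sesq.sum_left, hf.sesq.sum_right, hs.smul_left,
      hs.smul_right, hee, hew, hww, hwe]
  obtain ⟨g, hg⟩ := exists_gl_of_iso hf hiso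
  exact ⟨g, hg ▸ hiso, fun x => by rw [hg, happ]⟩

/-- Some isometry exchanges the members of a pair. -/
theorem exists_exchange {X Y : Submodule F V} (hp : IsPair f X Y) (hne : Nonempty ι) :
    ∃ g : GL ι F, Iso f (g : Mat) ∧ (∀ x ∈ X, (g : Mat) *ᵥ x ∈ Y) ∧ ∀ y ∈ Y, (g : Mat) *ᵥ y ∈ X := by
  have hs := sesq' hf
  have he := hf.eps_mul
  obtain ⟨e, w, heX, hwY, hd, hdec⟩ := exists_dual hf hp
  have hwe : ∀ i j, f (w i) (e j) = ε * if i = j then 1 else 0 := by
    intro i j
    rw [hf.refl (e j) (w i), hd j i]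
    by_cases h : i = j
    · subst h; simp
    · simp [h, Ne.symm h]
  obtain ⟨g, hg, hga⟩ := exists_coord_iso hf (X := Y) (Y := X) hdec w (fun i => ε • e i)
    (fun i j => by rw [hp.right _ (hwY i) _ (hwY j), hp.left _ (heX i) _ (heX j)])
    (fun i j => by
      rw [hs.smul_right, hwe, hd, ← mul_assoc, mul_comm (σ ε), he, one_mul])
    (fun i j => by
      rw [hs.smul_left, hs.smul_right, hp.left _ (heX i) _ (heX j), hp.right _ (hwY i) _ (hwY j),
        mul_zero, mul_zero])
    hwY (fun i => X.smul_mem _ (heX i))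
  refine ⟨g, hg, fun x hx => ?_, fun y hy => ?_⟩
  · rw [hga]
    refine Y.add_mem (Submodule.sum_mem _ fun i _ => Y.smul_mem _ (hwY i))
      (Submodule.sum_mem _ fun i _ => ?_)
    rw [hp.left x hx _ (heX i), mul_zero, zero_smul]
    exact Y.zero_mem
  · rw [hga]
    refine X.add_mem (Submodule.sum_mem _ fun i _ => ?_)
      (Submodule.sum_mem _ fun i _ => X.smul_mem _ (X.smul_mem _ (heX i)))
    rw [hp.right y hy _ (hwY i), zero_smul]
    exact X.zero_mem

/-- The dilations of one hyperbolic pair adjust determinants. -/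
theorem exists_dilation {X Y : Submodule F V} (hp : IsPair f X Y) (hX : 0 < Module.finrank F X) {l : F}
    (hl : l ≠ 0) :
    ∃ g : GL ι F, Iso f (g : Mat) ∧ (g : Mat).det = l * (σ l)⁻¹ ∧ (∀ x ∈ X, (g : Mat) *ᵥ x ∈ X) ∧
      ∀ y ∈ Y, (g : Mat) *ᵥ y ∈ Y := by
  classical
  have hs := sesq' hf
  have hι : Nonempty ι := by
    by_contra hι
    have := two_finrank hf hp
    rw [not_nonempty_iff] at hι
    rw [Fintype.card_eq_zero] at this
    omega
  have he := hf.eps_mul
  obtain ⟨e, w, heX, hwY, hd, -⟩ := exists_dual hf hp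
  set i₀ : Fin (Module.finrank F X) := ⟨0, hX⟩
  set e₀ := e i₀
  set w₀ := w i₀
  have hew : f e₀ w₀ = 1 := by rw [hd, if_pos rfl]
  have hwe : f w₀ e₀ = ε := by rw [hf.refl e₀ w₀, hew, map_one, mul_one]
  have hee := hp.left _ (heX i₀) _ (heX i₀)
  have hww := hp.right _ (hwY i₀) _ (hwY i₀)
  have hσl : σ l ≠ 0 := (map_ne_zero_iff σ σ.injective).mpr hl
  let U : Matrix ι (Fin 2) F := Matrix.of fun k s =>
    (![(l - 1) • e₀, (((σ l)⁻¹ - 1) * σ ε) • w₀] : Fin 2 → V) s k
  let W : Matrix (Fin 2) ι F := Matrix.of ![leftVec f w₀, leftVec f e₀]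
  set A : Mat := 1 + U * W with hA
  have happ : ∀ x, A *ᵥ x = x + ((l - 1) * f x w₀) • e₀ + (((σ l)⁻¹ - 1) * σ ε * f x e₀) • w₀ := by
    intro x
    rw [hA, add_mulVec, one_mulVec, ← mulVec_mulVec, add_assoc]
    congr 1
    ext k
    have h0 : (W *ᵥ x) 0 = f x w₀ := by
      rw [← hs.dot_leftVec]; rfl
    have h1 : (W *ᵥ x) 1 = f x e₀ := by
      rw [← hs.dot_leftVec]; rfl
    show ∑ s, U k s * (W *ᵥ x) s = _
    rw [Fin.sum_univ_two, h0, h1]
    simp only [U, Matrix.of_apply, Matrix.cons_val_zero, Matrix.cons_val_one, Matrix.cons_val_fin_one,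
      Pi.smul_apply, Pi.add_apply, smul_eq_mul]
    ring
  have hdet : A.det = l * (σ l)⁻¹ := by
    rw [hA, det_one_add_mul_comm, Matrix.det_fin_two]
    have hWU : ∀ s t, (W * U) s t =
        f ((![(l - 1) • e₀, (((σ l)⁻¹ - 1) * σ ε) • w₀] : Fin 2 → V) t) ((![w₀, e₀] : Fin 2 → V) s) := by
      intro s t
      rw [← hs.dot_leftVec]
      fin_cases s <;> rfl
    simp only [Matrix.add_apply, hWU, Matrix.cons_val_zero, Matrix.cons_val_one, Matrix.cons_val_fin_one,
      hs.smul_left, hew, hwe, hee, hww, Matrix.one_apply_eq,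
      Matrix.one_apply_ne (show (0 : Fin 2) ≠ 1 by decide),
      Matrix.one_apply_ne (show (1 : Fin 2) ≠ 0 by decide)]
    rw [show f e₀ e₀ = 0 from hee, show f w₀ w₀ = 0 from hww]
    linear_combination (l * ((σ l)⁻¹ - 1)) * he
  have hiso : Iso f A := by
    intro x y
    simp only [happ, hs.add_left, hs.add_right, hs.smul_left, hs.smul_right, hee, hww, hew, hwe, map_mul,
      map_sub, map_one, map_inv₀, hf.invol]
    rw [hf.refl y w₀, hf.refl y e₀, show f e₀ e₀ = 0 from hee, show f w₀ w₀ = 0 from hww]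
    field_simp
    grind
  obtain ⟨g, hg⟩ := exists_gl_of_iso hf hiso
  refine ⟨g, hg ▸ hiso, hg ▸ hdet, fun x hx => ?_, fun y hy => ?_⟩
  · rw [hg, happ, hp.left x hx _ (heX i₀), mul_zero, zero_smul, add_zero]
    exact X.add_mem hx (X.smul_mem _ (heX i₀))
  · rw [hg, happ, hp.right y hy _ (hwY i₀), mul_zero, zero_smul, add_zero]
    exact Y.add_mem hy (Y.smul_mem _ (hwY i₀))

end generic

theorem isPair_of {ι : Type} [Fintype ι] [DecidableEq ι] {F : Type*} [Field F]
    {f : (ι → F) → (ι → F) → F} {k : ℕ} {D : Fin 2 → Submodule F (ι → F)} (hD : IsMDecomposition k D)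
    (hts : ∀ i, IsTotallySingularFor f (D i)) : IsPair f (D 0) (D 1) := by
  refine ⟨hts 0, hts 1, hD.indep.pairwiseDisjoint (by decide), ?_⟩
  rw [codisjoint_iff, ← hD.iSup_eq_top]
  refine le_antisymm (sup_le (le_iSup D 0) (le_iSup D 1)) (iSup_le fun i => ?_)
  fin_cases i
  · exact le_sup_left
  · exact le_sup_right

/-- Scalars of transvections, symplectic case. -/
theorem exists_square_diff {F : Type*} [Field F] (h2 : (2 : F) ≠ 0) {c₀ : F} (h0 : c₀ ≠ 0) (c : F) :
    ∃ l m : F, c = c₀ * (l * l) - c₀ * (m * m) :=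
  ⟨(c / c₀ + 1) / 2, (c / c₀ - 1) / 2, by field_simp; ring⟩

/-- The stabiliser of a pair of complementary Lagrangian subspaces is maximal in `Sp`. -/
theorem isMaximalIn_spPair {F : Type*} [Field F] [Fintype F] {m : ℕ} (hm : 3 ≤ m) (h2 : (2 : F) ≠ 0)
    {D : Fin 2 → Submodule F (Fin m ⊕ Fin m → F)} (hD : IsMDecomposition m D)
    (hts : ∀ i, IsTotallySingularFor (Cfsg.sympForm m F) (D i)) :
    IsMaximalIn (Cfsg.spGL m F) (decompositionStabilizer D ⊓ Cfsg.spGL m F) := by
  have hf := isReflexive_symplectic (isSymplecticForm_sympForm (m := m) (F := F))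
  have hp := isPair_of hD hts
  have hmem : ∀ g : GL (Fin m ⊕ Fin m) F,
      Iso (Cfsg.sympForm m F) (g : Matrix (Fin m ⊕ Fin m) (Fin m ⊕ Fin m) F) → g ∈ Cfsg.spGL m F :=
    fun g hg => mem_spGL_iff.mpr hg
  refine isMaximalIn_pair hf (K := Cfsg.spGL m F) (fun g hg => mem_spGL_iff.mp hg)
    (fun g hg _ => hmem g hg) (fun _ _ h hh _ => hmem h hh) ⟨1, ?_⟩ ⟨1, one_ne_zero, by simp⟩
    (fun c₀ c h0 _ _ => exists_square_diff h2 h0 c) hp (by rw [hD.finrank_eq]; omega) (fun M hM => ?_) ?_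
  · simp only [map_neg, map_one, mul_one, ne_eq]
    intro h
    exact h2 (by linear_combination -h)
  · refine spGL_le_of_forall_spTv fun v c => hM v (Forms.sympForm_self v) c ?_
    simp [Coef]
  · obtain ⟨g, hg, h0, h1⟩ := exists_exchange hf hp ⟨Sum.inl ⟨0, by omega⟩⟩
    exact ⟨g, hmem g hg, h0, h1⟩

/-- The stabiliser of a pair of complementary Lagrangian subspaces is maximal in `SU`. -/
theorem isMaximalIn_suPair {F : Type*} [Field F] [Fintype F] {n q : ℕ} (hF : Fintype.card F = q ^ 2)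
    {k : ℕ} (hk : 3 ≤ k) (hn : 4 ≤ n) {D : Fin 2 → Submodule F (Fin n → F)} (hD : IsMDecomposition k D)
    (hts : ∀ i, IsTotallySingularFor (Cfsg.hermForm n F q) (D i)) :
    IsMaximalIn (Cfsg.GU n F q ⊓ specialLinear (Fin n) F)
      (decompositionStabilizer D ⊓ (Cfsg.GU n F q ⊓ specialLinear (Fin n) F)) := by
  obtain ⟨σ, hne, hinv, hσ⟩ := exists_conjEquiv hF
  have hu := isUnitaryForm_hermForm (n := n) hne hinv hσ
  have hf := isReflexive_unitary hu
  have hp := isPair_of hD hts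
  obtain ⟨δ, hδ0, hδ⟩ := exists_traceZero hne hinv
  have hmem : ∀ g : GL (Fin n) F, Iso (Cfsg.hermForm n F q) (g : Matrix (Fin n) (Fin n) F) →
      (g : Matrix (Fin n) (Fin n) F).det = 1 → g ∈ Cfsg.GU n F q ⊓ specialLinear (Fin n) F :=
    fun g hg hd => ⟨mem_GU_iff_forall.mpr hg, (UC.su_det hu).mpr hd⟩
  refine isMaximalIn_pair hf (K := Cfsg.GU n F q ⊓ specialLinear (Fin n) F)
    (fun g hg => mem_GU_iff_forall.mp hg.1) hmem
    (fun g hg h hh hd => hmem h hh (hd.trans ((UC.su_det hu).mp hg.2))) ?_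
    ⟨δ, hδ0, by rw [one_mul, hδ, add_neg_cancel]⟩ ?_ hp (by rw [hD.finrank_eq]; omega) (fun M hM => ?_) ?_
  · obtain ⟨γ, hγ⟩ := exists_moved hne
    exact ⟨γ, by rwa [map_one, one_mul]⟩
  · intro c₀ c h0 hc₀ hc
    simp only [Coef, one_mul] at hc₀ hc
    obtain ⟨l, hl⟩ := norm_surjective hne hinv (a := c / c₀)
      (by rw [map_div₀, hc, hc₀, neg_div_neg_eq])
    exact ⟨l, 0, by rw [hl, zero_mul, mul_zero, sub_zero, mul_div_cancel₀ _ h0]⟩
  · refine UC.su_le_of_forall_uTv hu hσ hF hn fun v hv c hc => hM v hv c ?_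
    rw [Coef, one_mul, hc]
  · obtain ⟨g, hg, h0, h1⟩ := exists_exchange hf hp ⟨⟨0, by omega⟩⟩
    have hN := det_norm hf hg
    set d := (g : Matrix (Fin n) (Fin n) F).det
    have hd0 : d ≠ 0 := left_ne_zero_of_mul_eq_one hN
    obtain ⟨l, hl0, hl⟩ : ∃ l, l ≠ 0 ∧ l * (σ l)⁻¹ * d = 1 := by
      by_cases hd1 : d = -1
      · refine ⟨δ, hδ0, ?_⟩
        rw [hd1, hδ]
        field_simp
      · refine ⟨1 + σ d, fun h => hd1 ?_, ?_⟩
        · have h' := congrArg σ h
          rw [map_add, map_one, hinv, map_zero] at h'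
          linear_combination h'
        · have hne1 : σ (1 + σ d) ≠ 0 := by
            rw [map_add, map_one, hinv]
            exact fun h => hd1 (by linear_combination h)
          rw [mul_right_comm, mul_inv_eq_one₀ hne1, map_add, map_one, hinv]
          linear_combination hN
    obtain ⟨t, ht, htd, ht0, ht1⟩ := exists_dilation hf hp (by rw [hD.finrank_eq]; omega) hl0
    refine ⟨t * g, hmem _ (fun u v => ?_) (by rw [Units.val_mul, det_mul, htd]; exact hl),
      fun x hx => ?_, fun y hy => ?_⟩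
    · rw [Units.val_mul, ← mulVec_mulVec, ← mulVec_mulVec, ht, hg]
    · rw [Units.val_mul, ← mulVec_mulVec]; exact ht1 _ (h0 x hx)
    · rw [Units.val_mul, ← mulVec_mulVec]; exact ht0 _ (h1 y hy)

end CfsgLib.MaxSub.LPair
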