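import Mathlib

/-!
Complements in subgroup lattices below a unique maximal overgroup.
-/

set_option autoImplicit false

namespace CfsgLib.MaxSub

variable {G : Type*} [Group G]

/-- the interval `[T, X]` of the subgroup lattice is complemented -/
def IntervalComplemented (T X : Subgroup G) : Prop :=
  ∀ Y : Subgroup G, T ≤ Y → Y ≤ X → ∃ C : Subgroup G, T ≤ C ∧ C ≤ X ∧ Y ⊔ C = X ∧ Y ⊓ C = T

theorem exists_complement_of_interval [Finite G] (T X M : Subgroup G) (hTX : T ≤ X)
    (hint : IntervalComplemented T X)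
    (hM : IsCoatom M) (huniq : ∀ M' : Subgroup G, IsCoatom M' → X ≤ M' → M' = M)
    (H : Subgroup G) (hH : ¬ H ≤ M) (hHT : H ⊓ T = ⊥) :
    ∃ C : Subgroup G, H ⊔ C = ⊤ ∧ H ⊓ C = ⊥ := by
  obtain ⟨C, hTC, hCX, hsup, hinf⟩ := hint ((H ⊓ X) ⊔ T) le_sup_right (sup_le inf_le_right hTX)
  refine ⟨C, ?_, le_bot_iff.1 ?_⟩
  · by_contra hne
    obtain ⟨M', hM', hle⟩ := (eq_top_or_exists_le_coatom (H ⊔ C)).resolve_left hne
    have hX : X ≤ M' := by
      rw [← hsup]
      exact sup_le (sup_le (le_trans (le_trans inf_le_left le_sup_left) hle)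
        (le_trans (le_trans hTC le_sup_right) hle)) (le_trans le_sup_right hle)
    exact hH (huniq M' hM' hX ▸ le_trans le_sup_left hle)
  · calc H ⊓ C ≤ H ⊓ T := le_inf inf_le_left
          (hinf ▸ le_inf (le_trans (le_inf inf_le_left (le_trans inf_le_right hCX)) le_sup_left)
            inf_le_right)
      _ = ⊥ := hHT
      _ ≤ ⊥ := le_rfl

/-- a complemented quotient lattice gives a complemented interval -/
theorem intervalComplemented_of_quotient (N X : Subgroup G) (hNX : N ≤ X)
    [(N.subgroupOf X).Normal] (hK : ComplementedLattice (Subgroup (X ⧸ N.subgroupOf X))) :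
    IntervalComplemented N X := by
  intro Y hNY hYX
  let π := QuotientGroup.mk' (N.subgroupOf X)
  have hπ : Function.Surjective π := QuotientGroup.mk'_surjective _
  obtain ⟨D, hD⟩ := exists_isCompl ((Y.subgroupOf X).map π)
  have hker : π.ker = N.subgroupOf X := QuotientGroup.ker_mk' _
  have hkY : π.ker ≤ Y.subgroupOf X := by rw [hker]; exact fun x hx => hNY hx
  refine ⟨(D.comap π).map X.subtype, ?_, Subgroup.map_subtype_le _, ?_, ?_⟩
  · intro x hx
    refine ⟨⟨x, hNX hx⟩, ?_, rfl⟩
    show π _ ∈ D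
    have : π ⟨x, hNX hx⟩ = 1 := by
      rw [← MonoidHom.mem_ker, hker]; exact hx
    rw [this]; exact D.one_mem
  · have h1 : Y.subgroupOf X ⊔ D.comap π = ⊤ := by
      conv_lhs => arg 1; rw [← Subgroup.comap_map_eq_self hkY]
      rw [Subgroup.comap_sup_eq π _ _ hπ, hD.sup_eq_top, Subgroup.comap_top]
    have h2 := congrArg (Subgroup.map X.subtype) h1
    rw [Subgroup.map_sup, Subgroup.map_subgroupOf_eq_of_le hYX, ← MonoidHom.range_eq_map,
      Subgroup.range_subtype] at h2
    exact h2
  · have h1 : Y.subgroupOf X ⊓ D.comap π = N.subgroupOf X := by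
      conv_lhs => arg 1; rw [← Subgroup.comap_map_eq_self hkY]
      rw [← Subgroup.comap_inf, hD.inf_eq_bot, MonoidHom.comap_bot, hker]
    have h2 := congrArg (Subgroup.map X.subtype) h1
    rw [Subgroup.map_inf _ _ _ X.subtype_injective, Subgroup.map_subgroupOf_eq_of_le hYX,
      Subgroup.map_subgroupOf_eq_of_le hNX] at h2
    exact h2

/-- a complemented subgroup lattice gives a complemented interval above the trivial subgroup -/
theorem intervalComplemented_bot (X : Subgroup G) (hK : ComplementedLattice (Subgroup X)) :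
    IntervalComplemented ⊥ X := by
  intro Y _ hYX
  obtain ⟨D, hD⟩ := exists_isCompl (Y.subgroupOf X)
  refine ⟨D.map X.subtype, bot_le, Subgroup.map_subtype_le _, ?_, ?_⟩
  · have h2 := congrArg (Subgroup.map X.subtype) hD.sup_eq_top
    rwa [Subgroup.map_sup, Subgroup.map_subgroupOf_eq_of_le hYX, ← MonoidHom.range_eq_map,
      Subgroup.range_subtype] at h2
  · have h2 := congrArg (Subgroup.map X.subtype) hD.inf_eq_bot
    rwa [Subgroup.map_inf _ _ _ X.subtype_injective, Subgroup.map_subgroupOf_eq_of_le hYX,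
      Subgroup.map_bot] at h2

end CfsgLib.MaxSub
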