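import Cfsg.Agent.MaxSub.MonomialFour
import Cfsg.Agent.MaxSub.Decomposition

/-!
# Decomposition stabilisers are maximal in the special linear group

In coordinates `Fin t × Fin m` a decomposition stabiliser consists of the block monomial matrices.
-/

set_option autoImplicit false
set_option linter.unusedSectionVars false

namespace CfsgLib.MaxSub.LinDecomp

open Matrix Cfsg.Geo Monomial

variable {t m : ℕ} {F : Type*} [Field F] [Fintype F]

local notation "κ" => Fin t × Fin m
local notation "V" => (Fin t × Fin m → F)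
local notation "Mat" => Matrix (Fin t × Fin m) (Fin t × Fin m) F
local notation "ε⟦" r "⟧" => (Pi.single r (1 : F) : Fin t × Fin m → F)

/-- Block monomial matrices. -/
def BlockMono (g : GL (Fin t × Fin m) F) : Prop :=
  ∃ σ : Equiv.Perm (Fin t), ∀ p r, (g : Mat) p r ≠ 0 → p.1 = σ r.1

/-- `M` contains the block monomial elements of determinant one. -/
def BlockMonoIn (M : Subgroup (GL (Fin t × Fin m) F)) : Prop :=
  ∀ g : GL (Fin t × Fin m) F, BlockMono g → (g : Mat).det = 1 → g ∈ M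

theorem blockMono_of_diag {g : GL κ F} (h : ∀ p r, p.1 ≠ r.1 → (g : Mat) p r = 0) : BlockMono g :=
  ⟨1, fun p r hpr => by_contra fun hne => hpr (h p r hne)⟩

/-- A vector of one block. -/
def emb (j : Fin t) (x : Fin m → F) : V := fun p => if p.1 = j then x p.2 else 0

/-- The part of a vector in one block. -/
def res (j : Fin t) (x : V) : Fin m → F := fun s => x (j, s)

theorem emb_dot (j : Fin t) (c : Fin m → F) (x : V) : emb j c ⬝ᵥ x = c ⬝ᵥ res j x := by
  rw [dotProduct, Fintype.sum_prod_type, Finset.sum_eq_single j]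
  · simp [emb, res, dotProduct]
  · intro i _ hi; simp [emb, hi]
  · exact fun h => absurd (Finset.mem_univ _) h

theorem res_emb (j : Fin t) (c : Fin m → F) : res j (emb j c) = c := by
  funext s; simp [res, emb]

theorem tv_block_mem {M : Subgroup (GL κ F)} (hM : BlockMonoIn M) (j : Fin t) {v a : V}
    (hv : ∀ p : κ, p.1 ≠ j → v p = 0) (ha : ∀ p : κ, p.1 ≠ j → a p = 0) : tv v a ∈ M := by
  by_cases h : a ⬝ᵥ v = 0
  · refine hM _ (blockMono_of_diag fun p r hpr => ?_) ?_
    · rw [tv_coe h, Matrix.add_apply, Matrix.one_apply_ne (fun e => hpr (by rw [e])), zero_add,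
        vecMulVec_apply]
      by_cases hp : p.1 = j
      · rw [ha r (fun e => hpr (hp.trans e.symm)), mul_zero]
      · rw [hv p hp, zero_mul]
    · have hd := tv_mem_specialLinear v a
      rw [specialLinear, MonoidHom.mem_ker, Units.ext_iff] at hd
      simpa using hd
  · rw [tv, dif_neg h]; exact M.one_mem

theorem tv_single_mem {M : Subgroup (GL κ F)} (hM : BlockMonoIn M) {p r : κ} (h : p.1 = r.1) :
    tv ε⟦p⟧ ε⟦r⟧ ∈ M :=
  tv_block_mem hM p.1 (fun x hx => Pi.single_eq_of_ne (M := fun _ => F) (fun e => hx (by rw [e])) _)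
    (fun x hx => Pi.single_eq_of_ne (M := fun _ => F) (fun e => hx (by rw [e, h])) _)

/-- `M` contains an elementary root group joining two blocks. -/
def CrossRoot (M : Subgroup (GL (Fin t × Fin m) F)) : Prop :=
  ∃ p r : Fin t × Fin m, p.1 ≠ r.1 ∧ RootIn M ε⟦p⟧ ε⟦r⟧

theorem exists_mate (hm : 2 ≤ m) (p : κ) : ∃ p' : κ, p'.1 = p.1 ∧ p' ≠ p := by
  by_cases h : (p.2 : ℕ) = 0
  · exact ⟨(p.1, ⟨1, hm⟩), rfl, fun e => by have := congrArg (fun x : κ => (x.2 : ℕ)) e; simp [h] at this⟩
  · refine ⟨(p.1, ⟨0, by omega⟩), rfl, fun e => h ?_⟩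
    exact (congrArg (fun x : κ => (x.2 : ℕ)) e).symm

/-- A root group whose axis misses a block met by the centre. -/
theorem cross_of_centre (hm : 2 ≤ m) {M : Subgroup (GL κ F)} (hM : BlockMonoIn M) {u f : V}
    (h : RootIn M u f) (hf : f ≠ 0) {p : κ} (hp : u p ≠ 0) (hfp : ∀ s, f (p.1, s) = 0) : CrossRoot M := by
  obtain ⟨p', hp'1, hp'⟩ := exists_mate hm p
  have hfp' : f p' = 0 := by rw [show p' = (p.1, p'.2) from Prod.ext hp'1 rfl]; exact hfp _
  have h1 : RootIn M ε⟦p'⟧ f := h.rule_axis (b := ε⟦p⟧) (by simp [hp']) (tv_single_mem hM hp'1)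
    (by simp [hfp']) (by simpa using hp)
  obtain ⟨r, hr⟩ : ∃ r, f r ≠ 0 := Function.ne_iff.mp hf
  have hr1 : r.1 ≠ p.1 := fun e => hr (by rw [show r = (p.1, r.2) from Prod.ext e rfl]; exact hfp _)
  obtain ⟨r', hr'1, hr'⟩ := exists_mate hm r
  have hne : p'.1 ≠ r'.1 := fun e => hr1 (by rw [← hr'1, ← e, hp'1])
  refine ⟨p', r', hne, h1.rule_centre (w := ε⟦r⟧) (by simp [Ne.symm hr']) (tv_single_mem hM hr'1.symm) ?_
    (by simpa using hr)⟩
  simp [show p' ≠ r' from fun e => hne (by rw [e])]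

/-- A root group whose centre misses a block met by the axis. -/
theorem cross_of_axis (hm : 2 ≤ m) {M : Subgroup (GL κ F)} (hM : BlockMonoIn M) {u f : V}
    (h : RootIn M u f) (hu : u ≠ 0) {r : κ} (hr : f r ≠ 0) (hur : ∀ s, u (r.1, s) = 0) : CrossRoot M := by
  obtain ⟨r', hr'1, hr'⟩ := exists_mate hm r
  have hur' : u r' = 0 := by rw [show r' = (r.1, r'.2) from Prod.ext hr'1 rfl]; exact hur _
  have h1 : RootIn M u ε⟦r'⟧ := h.rule_centre (w := ε⟦r⟧) (by simp [Ne.symm hr']) (tv_single_mem hM hr'1.symm)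
    (by simp [hur']) (by simpa using hr)
  obtain ⟨p, hp⟩ : ∃ p, u p ≠ 0 := Function.ne_iff.mp hu
  have hp1 : p.1 ≠ r.1 := fun e => hp (by rw [show p = (r.1, p.2) from Prod.ext e rfl]; exact hur _)
  obtain ⟨p', hp'1, hp'⟩ := exists_mate hm p
  have hne : p'.1 ≠ r'.1 := fun e => hp1 (by rw [← hp'1, e, hr'1])
  refine ⟨p', r', hne, h1.rule_axis (b := ε⟦p⟧) (by simp [hp']) (tv_single_mem hM hp'1) ?_ (by simpa using hp)⟩
  simp [show p' ≠ r' from fun e => hne (by rw [e])]

/-- A homology. -/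
noncomputable def homEl {e c : V} (h : c ⬝ᵥ e = 1) (l : Fˣ) : GL (Fin t × Fin m) F where
  val := 1 + ((l : F) - 1) • vecMulVec e c
  inv := 1 + ((l : F)⁻¹ - 1) • vecMulVec e c
  val_inv := by
    have hl := l.ne_zero
    simp only [add_mul, mul_add, mul_one, one_mul, smul_mul_assoc, mul_smul_comm, vecMulVec_mul_vecMulVec, h,
      one_smul]
    match_scalars
    · rfl
    · field_simp; ring
  inv_val := by
    have hl := l.ne_zero
    simp only [add_mul, mul_add, mul_one, one_mul, smul_mul_assoc, mul_smul_comm, vecMulVec_mul_vecMulVec, h,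
      one_smul]
    match_scalars
    · rfl
    · field_simp; ring

theorem homEl_mulVec {e c : V} (h : c ⬝ᵥ e = 1) (l : Fˣ) (x : V) :
    ((homEl h l : GL κ F) : Mat) *ᵥ x = x + (((l : F) - 1) * (c ⬝ᵥ x)) • e := by
  show (1 + ((l : F) - 1) • vecMulVec e c) *ᵥ x = _
  rw [add_mulVec, one_mulVec, smul_mulVec, vecMulVec_mulVec', smul_smul]

theorem vecMul_homEl_inv {e c : V} (h : c ⬝ᵥ e = 1) (l : Fˣ) (a : V) :
    a ᵥ* (((homEl h l)⁻¹ : GL κ F) : Mat) = a + (((l : F)⁻¹ - 1) * (a ⬝ᵥ e)) • c := by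
  show a ᵥ* (1 + ((l : F)⁻¹ - 1) • vecMulVec e c) = _
  rw [vecMul_add, vecMul_one, vecMul_smul, vecMul_vecMulVec, smul_smul]

theorem det_homEl {e c : V} (h : c ⬝ᵥ e = 1) (l : Fˣ) : ((homEl h l : GL κ F) : Mat).det = l := by
  show (1 + ((l : F) - 1) • vecMulVec e c).det = _
  rw [← smul_vecMulVec, vecMulVec_eq Unit, det_one_add_replicateCol_mul_replicateRow, dotProduct_smul, h,
    smul_eq_mul, mul_one, add_sub_cancel]

theorem homEl_offDiag {j : Fin t} {e c : Fin m → F} (h : emb j c ⬝ᵥ emb j e = 1) (l : Fˣ) :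
    ∀ p r, p.1 ≠ r.1 → ((homEl h l : GL κ F) : Mat) p r = 0 := fun p r hpr => by
  show ((1 : Mat) + ((l : F) - 1) • vecMulVec (emb j e) (emb j c)) p r = 0
  rw [Matrix.add_apply, Matrix.one_apply_ne (fun e => hpr (by rw [e])), Matrix.smul_apply, vecMulVec_apply]
  by_cases hp : p.1 = j
  · simp [emb, show r.1 ≠ j from fun e => hpr (hp.trans e.symm)]
  · simp [emb, hp]

/-- Two planes: a homology pair scales the two halves of the axis apart. -/
theorem cross_of_mixed_two (hm : 2 ≤ m) (h4 : 4 ≤ Fintype.card F) {M : Subgroup (GL κ F)}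
    (hM : BlockMonoIn M) {u f : V} (h : RootIn M u f) (ht : t = 2) {p q : κ} (hpq : p.1 ≠ q.1)
    (hq : u q ≠ 0) (hfj0 : res p.1 f ≠ 0) (hfl0 : res q.1 f ≠ 0) (hKu : res p.1 f ⬝ᵥ res p.1 u = 0) :
    CrossRoot M := by
  classical
  set j := p.1 with hj
  set l := q.1 with hl
  have hblocks : ∀ i : Fin t, i = j ∨ i = l := fun i => by
    subst ht
    rcases Fin.exists_fin_two.1 ⟨i, rfl⟩ with e | e <;> rcases Fin.exists_fin_two.1 ⟨j, rfl⟩ with e1 | e1 <;>
      rcases Fin.exists_fin_two.1 ⟨l, rfl⟩ with e2 | e2 <;> omega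
  have hfu : f ⬝ᵥ u = res j f ⬝ᵥ res j u + res l f ⬝ᵥ res l u := by
    rw [dotProduct, Fintype.sum_prod_type, show (Finset.univ : Finset (Fin t)) = {j, l} from
      (Finset.eq_univ_of_forall fun i => by simpa using hblocks i).symm, Finset.sum_pair hpq]
    rfl
  have hKl : res l f ⬝ᵥ res l u = 0 := by
    rw [h.1, hKu, zero_add] at hfu
    exact hfu.symm
  obtain ⟨δ, hδ⟩ : ∃ δ : Fˣ, (δ : F) * δ ≠ 1 := by
    by_contra hcon
    push Not at hcon
    have hsub : (Finset.univ : Finset F) ⊆ {0, 1, -1} := fun x _ => by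
      by_cases hx : x = 0
      · simp [hx]
      · have h1 : (x - 1) * (x + 1) = 0 := by
          have h2 := hcon (Units.mk0 x hx)
          rw [Units.val_mk0] at h2
          linear_combination h2
        rcases mul_eq_zero.mp h1 with e | e
        · simp [sub_eq_zero.mp e]
        · simp [eq_neg_of_add_eq_zero_left e]
    have := (Finset.card_le_card hsub).trans Finset.card_le_three
    rw [Finset.card_univ] at this
    omega
  obtain ⟨ej, hej⟩ := exists_dot_eq_one hfj0
  rw [dotProduct_comm] at hej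
  obtain ⟨el, hel⟩ := exists_dot_eq_one hfl0
  rw [dotProduct_comm] at hel
  have hj1 : emb j (res j f) ⬝ᵥ emb j ej = 1 := by rw [emb_dot, res_emb, hej]
  have hl1 : emb l (res l f) ⬝ᵥ emb l el = 1 := by rw [emb_dot, res_emb, hel]
  set z := homEl hj1 δ * homEl hl1 δ⁻¹ with hz
  have hzM : z ∈ M := by
    refine hM _ (blockMono_of_diag fun a b hab => ?_) ?_
    · rw [hz, Units.val_mul, Matrix.mul_apply]
      refine Finset.sum_eq_zero fun x _ => ?_
      by_cases hx : a.1 = x.1
      · rw [homEl_offDiag hl1 _ x b (fun e => hab (hx.trans e)), mul_zero]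
      · rw [homEl_offDiag hj1 _ a x hx, zero_mul]
    · rw [hz, Units.val_mul, det_mul, det_homEl, det_homEl, ← Units.val_mul, mul_inv_cancel, Units.val_one]
  have h2 := h.conj hzM
  have e1 : (z : Mat) *ᵥ u = u := by
    rw [hz, Units.val_mul, ← mulVec_mulVec, homEl_mulVec hl1, emb_dot, hKl, mul_zero, zero_smul, add_zero,
      homEl_mulVec hj1, emb_dot, hKu, mul_zero, zero_smul, add_zero]
  rw [e1] at h2
  have e2 : f ᵥ* ((z⁻¹ : GL κ F) : Mat) = f + ((δ : F) - 1) • emb l (res l f) +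
      ((δ : F)⁻¹ - 1) • emb j (res j f) := by
    rw [hz, _root_.mul_inv_rev, Units.val_mul, ← vecMul_vecMul, vecMul_homEl_inv hl1, vecMul_homEl_inv hj1,
      add_dotProduct, smul_dotProduct, emb_dot l (res l f) (emb j ej)]
    have ej' : f ⬝ᵥ emb j ej = 1 := by rw [dotProduct_comm, emb_dot, dotProduct_comm, hej]
    have el' : f ⬝ᵥ emb l el = 1 := by rw [dotProduct_comm, emb_dot, dotProduct_comm, hel]
    have e0 : res l (emb j ej : V) = 0 := funext fun x => if_neg (Ne.symm hpq)
    rw [ej', el', e0, dotProduct_zero, smul_zero, add_zero, mul_one, mul_one, Units.val_inv_eq_inv_val, inv_inv]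
  have h3 := h2.add_right (h.smul_right (-(δ : F)))
  refine cross_of_centre hm hM h3 ?_ hq fun s => ?_
  · obtain ⟨s, hs⟩ : ∃ s, res j f s ≠ 0 := Function.ne_iff.mp hfj0
    refine Function.ne_iff.mpr ⟨(j, s), ?_⟩
    rw [e2]
    simp only [Pi.add_apply, Pi.smul_apply, smul_eq_mul, emb, if_pos, if_neg hpq, Pi.zero_apply, mul_zero]
    have hfs : f (j, s) = res j f s := rfl
    rw [hfs]
    intro h0
    have hd0 := δ.ne_zero
    have h5 : (1 - (δ : F) * δ) * res j f s = 0 := by
      field_simp at h0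
      linear_combination h0
    rcases mul_eq_zero.mp h5 with h6 | h6
    · exact hδ (sub_eq_zero.mp h6).symm
    · exact hs h6
  · rw [e2]
    simp only [Pi.add_apply, Pi.smul_apply, smul_eq_mul, emb, if_pos, if_neg (Ne.symm hpq), mul_zero]
    simp only [← hl, if_true, if_neg (Ne.symm hpq), mul_zero, res]
    ring

/-- A root group with centre meeting two blocks gives a root group joining two blocks. -/
theorem cross_of_mixed (hm : 2 ≤ m)
    (ht : m = 2 → (3 ≤ t ∧ 3 ≤ Fintype.card F) ∨ (t = 2 ∧ 4 ≤ Fintype.card F)) {M : Subgroup (GL κ F)}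
    (hM : BlockMonoIn M) {u f : V} (h : RootIn M u f) (hf : f ≠ 0) {p q : κ} (hpq : p.1 ≠ q.1)
    (hp : u p ≠ 0) (hq : u q ≠ 0) : CrossRoot M := by
  classical
  by_cases hfp : ∀ s, f (p.1, s) = 0
  · exact cross_of_centre hm hM h hf hp hfp
  by_cases hfq : ∀ s, f (q.1, s) = 0
  · exact cross_of_centre hm hM h hf hq hfq
  push Not at hfp hfq
  obtain ⟨sq, hsq⟩ := hfq
  set j := p.1 with hj
  set uj := res j u with huj
  set fj := res j f with hfj
  have huj0 : uj ≠ 0 := fun e => hp (congrFun e p.2)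
  have hfj0 : fj ≠ 0 := fun e => let ⟨s, hs⟩ := hfp; hs (congrFun e s)
  by_cases hgood : ∃ w : Fin m → F, w ≠ 0 ∧ fj ⬝ᵥ w = 0 ∧ uj ∉ Submodule.span F ({w} : Set (Fin m → F))
  · obtain ⟨w, hw0, hfw, huw⟩ := hgood
    obtain ⟨c, hc, hcu⟩ := exists_dot_of_notMem _ huw
    have h1 : RootIn M (emb j w) f := h.rule_axis (b := emb j c)
      (by rw [emb_dot, res_emb]; exact hc w (Submodule.mem_span_singleton_self w))
      (tv_block_mem hM j (fun x hx => if_neg hx) (fun x hx => if_neg hx))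
      (by rw [dotProduct_comm, emb_dot, dotProduct_comm]; exact hfw)
      (by rw [emb_dot, ← huj, hcu]; exact one_ne_zero)
    refine cross_of_axis hm hM h1 (fun e => hw0 ?_) (r := (q.1, sq)) hsq (fun s => if_neg (Ne.symm hpq))
    rw [← res_emb (t := t) j w, e]; rfl
  push Not at hgood
  -- now the centre spans the kernel of the axis in the block
  set K := LinearMap.ker (dotProductEquiv F (Fin m) fj) with hK
  have hKle : K ≤ Submodule.span F ({uj} : Set (Fin m → F)) := by
    intro w hw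
    by_cases hw0 : w = 0
    · subst hw0; exact Submodule.zero_mem _
    obtain ⟨a, ha⟩ := Submodule.mem_span_singleton.mp (hgood w hw0 hw)
    have ha0 : a ≠ 0 := fun e => huj0 (by rw [← ha, e, zero_smul])
    exact Submodule.mem_span_singleton.mpr ⟨a⁻¹, by rw [← ha, inv_smul_smul₀ ha0]⟩
  have hKdim : m ≤ Module.finrank F K + 1 := by
    have h1 := LinearMap.finrank_range_add_finrank_ker (dotProductEquiv F (Fin m) fj)
    have h2 := Submodule.finrank_le (LinearMap.range (dotProductEquiv F (Fin m) fj))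
    rw [Module.finrank_self] at h2
    rw [Module.finrank_pi, Fintype.card_fin, ← hK] at h1
    omega
  have hKdim' := Submodule.finrank_mono hKle
  rw [finrank_span_singleton huj0] at hKdim'
  have hm2 : m = 2 := by omega
  have hKu : fj ⬝ᵥ uj = 0 := by
    have he := Submodule.eq_of_le_of_finrank_le hKle (by rw [finrank_span_singleton huj0]; omega)
    have hmem : uj ∈ K := he ▸ Submodule.mem_span_singleton_self uj
    exact hmem
  rcases ht hm2 with ⟨ht3, hq3⟩ | ⟨ht2, hq4⟩
  swap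
  · exact cross_of_mixed_two hm hq4 hM h ht2 hpq hq hfj0 (fun e => hsq (congrFun e sq)) hKu
  obtain ⟨l, hl⟩ : ∃ l : Fin t, l ∉ ({j, q.1} : Finset (Fin t)) := by
    by_contra hcon
    push Not at hcon
    have := Finset.card_le_card (s := (Finset.univ : Finset (Fin t))) (t := {j, q.1}) fun x _ => hcon x
    rw [Finset.card_univ, Fintype.card_fin] at this
    have := this.trans Finset.card_le_two
    omega
  simp only [Finset.mem_insert, Finset.mem_singleton, not_or] at hl
  obtain ⟨δ, hδ⟩ : ∃ δ : Fˣ, δ ≠ 1 :=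
    Fintype.exists_ne_of_one_lt_card (by rw [Fintype.card_units]; omega) 1
  obtain ⟨ej, hej⟩ := exists_dot_eq_one hfj0
  rw [dotProduct_comm] at hej
  obtain ⟨cl, hcl, hcl0⟩ : ∃ cl : Fin m → F, cl ⬝ᵥ res l u = 0 ∧ cl ≠ 0 := by
    by_cases hul : res l u = 0
    · exact ⟨fj, by rw [hul, dotProduct_zero], hfj0⟩
    · have hne : Submodule.span F ({res l u} : Set (Fin m → F)) ≠ ⊤ := by
        intro e
        have := finrank_span_singleton (K := F) hul
        rw [e, finrank_top, Module.finrank_pi, Fintype.card_fin] at this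
        omega
      obtain ⟨x, -, hx⟩ := SetLike.exists_of_lt (lt_top_iff_ne_top.mpr hne)
      obtain ⟨c, hc, hcx⟩ := exists_dot_of_notMem _ hx
      exact ⟨c, hc _ (Submodule.mem_span_singleton_self _), fun e => by simp [e] at hcx⟩
  obtain ⟨el, hel⟩ := exists_dot_eq_one hcl0
  rw [dotProduct_comm] at hel
  have hj1 : emb j fj ⬝ᵥ emb j ej = 1 := by rw [emb_dot, res_emb, hej]
  have hl1 : emb l cl ⬝ᵥ emb l el = 1 := by rw [emb_dot, res_emb, hel]
  set z := homEl hj1 δ * homEl hl1 δ⁻¹ with hz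
  have hzM : z ∈ M := by
    refine hM _ (blockMono_of_diag fun a b hab => ?_) ?_
    · rw [hz, Units.val_mul, Matrix.mul_apply]
      refine Finset.sum_eq_zero fun x _ => ?_
      by_cases hx : a.1 = x.1
      · rw [homEl_offDiag hl1 _ x b (fun e => hab (hx.trans e)), mul_zero]
      · rw [homEl_offDiag hj1 _ a x hx, zero_mul]
    · rw [hz, Units.val_mul, det_mul, det_homEl, det_homEl, ← Units.val_mul, mul_inv_cancel, Units.val_one]
  have h2 := h.conj hzM
  have e1 : (z : Mat) *ᵥ u = u := by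
    rw [hz, Units.val_mul, ← mulVec_mulVec, homEl_mulVec hl1, emb_dot, hcl, mul_zero, zero_smul, add_zero,
      homEl_mulVec hj1, emb_dot, ← huj, hKu, mul_zero, zero_smul, add_zero]
  have e2 : ∀ x : κ, (f ᵥ* ((z⁻¹ : GL κ F) : Mat)) x = f x +
      (if x.1 = j then (((δ : F)⁻¹ - 1) * ((f ᵥ* (((homEl hl1 δ⁻¹)⁻¹ : GL κ F) : Mat)) ⬝ᵥ emb j ej)) * fj x.2
        else 0) + if x.1 = l then ((((δ⁻¹ : Fˣ) : F))⁻¹ - 1) * (f ⬝ᵥ emb l el) * cl x.2 else 0 := by
    intro x
    rw [hz, _root_.mul_inv_rev, Units.val_mul, ← vecMul_vecMul, vecMul_homEl_inv hj1, Pi.add_apply,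
      Pi.smul_apply, smul_eq_mul]
    conv_lhs => rw [show (f ᵥ* (((homEl hl1 δ⁻¹)⁻¹ : GL κ F) : Mat)) x =
      f x + ((((δ⁻¹ : Fˣ) : F))⁻¹ - 1) * (f ⬝ᵥ emb l el) * emb l cl x by
        rw [vecMul_homEl_inv hl1, Pi.add_apply, Pi.smul_apply, smul_eq_mul]]
    simp only [emb, mul_ite, mul_zero]
    ring
  rw [e1] at h2
  have h3 := h2.add_right (h.smul_right (-1))
  refine cross_of_centre hm hM h3 ?_ hq fun s => ?_
  · obtain ⟨s, hs⟩ : ∃ s, fj s ≠ 0 := Function.ne_iff.mp hfj0
    refine Function.ne_iff.mpr ⟨(j, s), ?_⟩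
    have hdot : (f ᵥ* (((homEl hl1 δ⁻¹)⁻¹ : GL κ F) : Mat)) ⬝ᵥ emb j ej = 1 := by
      rw [vecMul_homEl_inv hl1, add_dotProduct, smul_dotProduct, emb_dot l,
        show res l (emb j ej : V) = 0 from funext fun x => if_neg hl.1, dotProduct_zero, smul_zero,
        add_zero, dotProduct_comm f, emb_dot, ← hfj, dotProduct_comm, hej]
    simp only [Pi.add_apply, Pi.smul_apply, smul_eq_mul, e2, if_pos, if_neg (Ne.symm hl.1), hdot,
      Pi.zero_apply]
    intro h0
    have h4 : ((δ : F)⁻¹ - 1) * fj s = 0 := by linear_combination h0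
    rcases mul_eq_zero.mp h4 with h5 | h5
    · exact hδ (Units.ext (by simpa using inv_eq_one.mp (sub_eq_zero.mp h5)))
    · exact hs h5
  · simp only [Pi.add_apply, Pi.smul_apply, smul_eq_mul, e2, if_neg (Ne.symm hpq), if_neg (Ne.symm hl.2)]
    ring

/-- A root group with centre meeting two blocks. -/
theorem exists_mixed_root (hm : 2 ≤ m) {M : Subgroup (GL κ F)} (hM : BlockMonoIn M) {g : GL κ F}
    (hg : g ∈ M) (hg' : ¬ BlockMono g) :
    ∃ u f : V, RootIn M u f ∧ f ≠ 0 ∧ ∃ p q : κ, p.1 ≠ q.1 ∧ u p ≠ 0 ∧ u q ≠ 0 := by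
  classical
  obtain ⟨i, v, p, q, hpq, hp, hq⟩ : ∃ (i : Fin t) (v : Fin m → F) (p q : κ), p.1 ≠ q.1 ∧
      ((g : Mat) *ᵥ emb i v) p ≠ 0 ∧ ((g : Mat) *ᵥ emb i v) q ≠ 0 := by
    by_contra hcon
    push Not at hcon
    have he : ∀ r : κ, emb r.1 (Pi.single r.2 (1 : F)) = ε⟦r⟧ := fun r => by
      funext x
      by_cases h : x = r
      · subst h; simp [emb]
      · rw [Pi.single_eq_of_ne h]
        by_cases h1 : x.1 = r.1
        · simp [emb, h1, show x.2 ≠ r.2 from fun h2 => h (Prod.ext h1 h2)]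
        · simp [emb, h1]
    have hone : ∀ p q r : κ, (g : Mat) p r ≠ 0 → (g : Mat) q r ≠ 0 → p.1 = q.1 := fun p q r h1 h2 => by
      by_contra hne
      exact h2 (by simpa [he] using hcon r.1 (Pi.single r.2 1) p q hne (by simpa [he] using h1))
    have hblock : ∀ p q r r' : κ, r.1 = r'.1 → (g : Mat) p r ≠ 0 → (g : Mat) q r' ≠ 0 → p.1 = q.1 := by
      intro p q r r' hrr h1 h2
      by_contra hne
      have e : emb r.1 (Pi.single r.2 (1 : F) + Pi.single r'.2 1) = ε⟦r⟧ + ε⟦r'⟧ := by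
        rw [← he r, ← he r']; funext x; by_cases hx : x.1 = r.1 <;> simp [emb, hx, ← hrr]
      have h3 : (g : Mat) p r' = 0 := by_contra fun h => hne (hone p q r' h h2)
      have h4 : (g : Mat) q r = 0 := by_contra fun h => hne (hone p q r h1 h)
      have h5 := hcon r.1 (Pi.single r.2 1 + Pi.single r'.2 1) p q hne (by simp [e, mulVec_add, h1, h3])
      simp [e, mulVec_add, h2, h4] at h5
    have hcol : ∀ i : Fin t, ∃ p : κ, (g : Mat) p (i, ⟨0, by omega⟩) ≠ 0 := fun i => by
      by_contra h0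
      push Not at h0
      have hz : (g : Mat) *ᵥ ε⟦(i, ⟨0, by omega⟩)⟧ = 0 := funext fun x => by simp [h0]
      have := congrArg (fun y => ((g⁻¹ : GL κ F) : Mat) *ᵥ y) hz
      simp only [mulVec_mulVec, Units.inv_mul, one_mulVec, mulVec_zero] at this
      simpa using congrFun this (i, ⟨0, by omega⟩)
    choose P hP using hcol
    have hsupp : ∀ x r : κ, (g : Mat) x r ≠ 0 → x.1 = (P r.1).1 := fun x r hx =>
      hblock x (P r.1) r (r.1, ⟨0, by omega⟩) rfl hx (hP r.1)
    have hsurj : Function.Surjective fun i => (P i).1 := by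
      intro j
      by_contra hj
      push Not at hj
      have hz : ε⟦(j, ⟨0, by omega⟩)⟧ ᵥ* (g : Mat) = 0 := funext fun x => by
        rw [single_one_vecMul, row_apply, Pi.zero_apply]
        by_contra hx
        exact hj x.1 (hsupp _ x hx).symm
      have := congrArg (fun y => y ᵥ* ((g⁻¹ : GL κ F) : Mat)) hz
      simp only [vecMul_vecMul, Units.mul_inv, vecMul_one, zero_vecMul] at this
      simpa using congrFun this (j, ⟨0, by omega⟩)
    exact hg' ⟨Equiv.ofBijective _ (Finite.surjective_iff_bijective.mp hsurj), hsupp⟩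
  have hv0 : v ≠ 0 := by
    rintro rfl
    rw [show emb (t := t) i (0 : Fin m → F) = 0 from funext fun x => by simp [emb], mulVec_zero] at hp
    exact hp rfl
  obtain ⟨x, -, hx⟩ := SetLike.exists_of_lt
    (lt_top_iff_ne_top.mpr (show Submodule.span F ({v} : Set (Fin m → F)) ≠ ⊤ from fun e => by
      have := finrank_span_singleton (K := F) hv0
      rw [e, finrank_top, Module.finrank_pi, Fintype.card_fin] at this
      omega))
  obtain ⟨a, ha, hax⟩ := exists_dot_of_notMem _ hx
  have hroot : RootIn M (emb i v) (emb i a) :=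
    ⟨by rw [emb_dot, res_emb]; exact ha v (Submodule.mem_span_singleton_self v), fun c =>
      tv_block_mem hM i (fun x hx => by simp [emb, hx]) (fun x hx => by simp [emb, hx])⟩
  refine ⟨_, _, hroot.conj hg, fun h0 => ?_, p, q, hpq, hp, hq⟩
  have := congrArg (fun y => y ᵥ* (g : Mat)) h0
  simp only [vecMul_vecMul, Units.inv_mul, vecMul_one, zero_vecMul] at this
  have h1 := congrArg (res i) this
  rw [res_emb] at h1
  rw [h1, show res i (0 : V) = 0 from rfl, zero_dotProduct] at hax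
  exact zero_ne_one hax

theorem exists_perm_two {α : Type} [DecidableEq α] {a b a' b' : α} (h : a ≠ b) (h' : a' ≠ b') :
    ∃ π : Equiv.Perm α, π a = a' ∧ π b = b' := by
  refine ⟨Equiv.swap (Equiv.swap a a' b) b' * Equiv.swap a a', ?_, ?_⟩
  · rw [Equiv.Perm.mul_apply, Equiv.swap_apply_left, Equiv.swap_apply_of_ne_of_ne _ h']
    intro e
    exact h ((Equiv.swap a a').injective (by rw [← e, Equiv.swap_apply_left]))
  · rw [Equiv.Perm.mul_apply, Equiv.swap_apply_left]

/-- One root group joining two blocks gives every elementary root group. -/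
theorem all_roots {M : Subgroup (GL κ F)} (hM : BlockMonoIn M) (h : CrossRoot M) (p' r' : κ)
    (hne : p' ≠ r') : RootIn M ε⟦p'⟧ ε⟦r'⟧ := by
  classical
  by_cases hblk : p'.1 = r'.1
  · refine ⟨by simp [hne], fun c => tv_block_mem hM p'.1 (fun x hx => ?_) (fun x hx => ?_)⟩
    · simp [show x ≠ p' from fun e => hx (by rw [e])]
    · simp [show x ≠ r' from fun e => hx (by rw [e, hblk])]
  obtain ⟨p, r, hpr, hroot⟩ := h
  obtain ⟨π, hπp, hπr⟩ := exists_perm_two hpr hblk
  let τ : Fin t → Equiv.Perm (Fin m) := fun i =>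
    if i = p.1 then Equiv.swap p.2 p'.2 else if i = r.1 then Equiv.swap r.2 r'.2 else 1
  set φ : Equiv.Perm κ := Equiv.prodShear π τ with hφ
  have hφp : φ p = p' := by simp [hφ, τ, hπp]
  have hφr : φ r = r' := by simp [hφ, τ, hπr, Ne.symm hpr]
  set P : Fˣ := Units.map (Int.castRingHom F).toMonoidHom (Equiv.Perm.sign φ)
  set d : κ → Fˣ := fun x => if x = p then P⁻¹ else 1 with hd
  have hmem : monEl φ d ∈ M := by
    refine hM _ ⟨π, fun x y hxy => ?_⟩ ?_
    · rw [monEl_apply] at hxy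
      by_contra hc
      exact hxy (if_neg fun e => hc (by rw [e, hφ]; rfl))
    · rw [det_monEl, ← Units.coe_prod, hd, Finset.prod_ite_eq' _ p, if_pos (Finset.mem_univ _)]
      show ((P : Fˣ) : F) * _ = 1
      simp
  have h2 := hroot.conj hmem
  have e2 : ε⟦r⟧ ᵥ* (((monEl φ d)⁻¹ : GL κ F) : Mat) = ε⟦r'⟧ := by
    funext x
    rw [vecMul_monEl_inv]
    by_cases hx : x = r'
    · rw [hx, show φ.symm r' = r by rw [Equiv.symm_apply_eq, hφr]]
      simp [hd, show r ≠ p from fun e => hpr (by rw [e])]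
    · rw [Pi.single_eq_of_ne hx, Pi.single_eq_of_ne (fun e => hx (by rw [← hφr, ← e, Equiv.apply_symm_apply])),
        zero_mul]
  rw [monEl_single, hφp, e2] at h2
  simpa using h2.smul_left (d p : F)⁻¹

theorem forall_tv {M : Subgroup (GL κ F)} (h : ∀ p r : κ, p ≠ r → RootIn M ε⟦p⟧ ε⟦r⟧) (v a : V) :
    tv v a ∈ M := by
  classical
  have hfull : ∀ r : κ, FullAxis M ε⟦r⟧ := by
    intro r w hw
    have hwr : w r = 0 := by simpa using hw
    have hmem : w ∈ centres M ε⟦r⟧ := by
      rw [pi_eq_sum_univ' w]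
      refine Submodule.sum_mem _ fun p _ => ?_
      by_cases hp : p = r
      · subst hp; rw [hwr, zero_smul]; exact Submodule.zero_mem _
      · exact Submodule.smul_mem _ _ (h p r hp)
    exact (mem_centres.mp hmem).mem
  have ha : a ∈ fullAxes M := by
    rw [pi_eq_sum_univ' a]
    exact Submodule.sum_mem _ fun r _ => Submodule.smul_mem _ _ (hfull r)
  by_cases hd : a ⬝ᵥ v = 0
  · exact ha v hd
  · rw [tv, dif_neg hd]; exact M.one_mem

/-- Overgroups of the block monomial group contain all transvections. -/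
theorem tv_mem_of_not_blockMono (hm : 0 < m) (h1 : m = 1 → (5 ≤ t ∧ 5 ≤ Fintype.card F) ∨ (t = 4 ∧ 7 ≤ Fintype.card F))
    (h2 : m = 2 → (3 ≤ t ∧ 3 ≤ Fintype.card F) ∨ (t = 2 ∧ 4 ≤ Fintype.card F)) {M : Subgroup (GL κ F)} (hM : BlockMonoIn M)
    (hMS : ∀ g ∈ M, (g : Mat).det = 1) {g : GL κ F} (hg : g ∈ M) (hg' : ¬ BlockMono g) (v a : V) :
    tv v a ∈ M := by
  refine forall_tv (all_roots hM ?_) v a
  rcases Nat.lt_or_ge m 2 with hm1 | hm2
  · obtain rfl : m = 1 := by omega
    have hfst : ∀ x y : Fin t × Fin 1, x.1 = y.1 → x = y := fun x y h => Prod.ext h (Subsingleton.elim _ _)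
    have hmono : ∀ b : GL (Fin t × Fin 1) F, Mono b → BlockMono b := fun b ⟨π, hπ⟩ => by
      refine ⟨((Equiv.prodUnique (Fin t) (Fin 1)).symm.trans π).trans (Equiv.prodUnique (Fin t) (Fin 1)),
        fun p r hpr => ?_⟩
      rw [hπ p r hpr]
      show (π r).1 = (π (r.1, default)).1
      rw [hfst r (r.1, default) rfl]
    obtain ⟨p, r, hpr, hroot⟩ : HasRoot M := by
      rcases h1 rfl with ⟨ht, hq⟩ | ⟨ht, hq⟩
      · exact exists_elementary_root (by simpa using ht) hq
          (fun b hb hdet => hM b (hmono b hb) hdet) hMS hg (fun h => hg' (hmono g h))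
      · exact exists_elementary_root_four (by simpa using ht) hq
          (fun b hb hdet => hM b (hmono b hb) hdet) hMS hg (fun h => hg' (hmono g h))
    exact ⟨p, r, fun e => hpr (hfst p r e), hroot⟩
  · obtain ⟨u, f, hroot, hf, p, q, hpq, hp, hq⟩ := exists_mixed_root hm2 hM hg hg'
    exact cross_of_mixed hm2 h2 hM hroot hf hpq hp hq

/-! ### Arbitrary decompositions -/

theorem isMaximalIn_decomposition'' {F : Type*} [Field F] [Fintype F] {n t m : ℕ}
    {D : Fin t → Submodule F (Fin n → F)} (hD : IsMDecomposition m D)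
    (hm1 : m = 1 → (5 ≤ t ∧ 5 ≤ Fintype.card F) ∨ (t = 4 ∧ 7 ≤ Fintype.card F)) (hm2 : m = 2 → (3 ≤ t ∧ 3 ≤ Fintype.card F) ∨ (t = 2 ∧ 4 ≤ Fintype.card F)) :
    IsMaximalIn (specialLinear (Fin n) F) (decompositionStabilizer D ⊓ specialLinear (Fin n) F) := by
  classical
  have htwo := hD.two_le
  have hpos := hD.pos
  obtain ⟨b, a, hb, hab, hzero, hsum⟩ := exists_decompCoords hD
  set A : Matrix (Fin t × Fin m) (Fin n) F := Matrix.of fun p x => a p.1 p.2 x with hA
  set B : Matrix (Fin n) (Fin t × Fin m) F := Matrix.of fun x p => b p.1 p.2 x with hB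
  have hAB : A * B = 1 := by
    ext p r
    rw [Matrix.mul_apply, Matrix.one_apply, show ∑ x, A p x * B x r = a p.1 p.2 ⬝ᵥ b r.1 r.2 from rfl, hab]
    by_cases hpr : p = r
    · subst hpr; simp
    · rw [if_neg hpr, if_neg fun h => hpr (Prod.ext h.1 h.2)]
  have hBA : B * A = 1 := by
    refine Matrix.ext_iff_mulVec.mpr fun x => ?_
    rw [one_mulVec, ← mulVec_mulVec]
    funext y
    show ∑ p, B y p * (∑ z, A p z * x z) = x y
    conv_rhs => rw [hsum x]
    simp only [hA, hB, of_apply, Fintype.sum_prod_type, Finset.sum_apply, Pi.smul_apply, smul_eq_mul, dotProduct]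
    exact Finset.sum_congr rfl fun i _ => Finset.sum_congr rfl fun r _ => mul_comm _ _
  have htm : t * m = n := by
    have e : (Fin n → F) ≃ₗ[F] (Fin t × Fin m → F) :=
      LinearEquiv.ofLinear A.mulVecLin B.mulVecLin (by rw [← mulVecLin_mul, hAB, mulVecLin_one])
        (by rw [← mulVecLin_mul, hBA, mulVecLin_one])
    have := e.finrank_eq
    simp only [Module.finrank_pi, Fintype.card_prod, Fintype.card_fin] at this
    exact this.symm
  have hBAx : ∀ x : Fin n → F, B *ᵥ (A *ᵥ x) = x := fun x => by rw [mulVec_mulVec, hBA, one_mulVec]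
  let φ : GL (Fin t × Fin m) F →* GL (Fin n) F :=
    { toFun := fun g => ⟨B * (g : Matrix (Fin t × Fin m) (Fin t × Fin m) F) * A, B * ((g⁻¹ : GL (Fin t × Fin m) F) : Matrix (Fin t × Fin m) (Fin t × Fin m) F) * A,
        by rw [show B * (g : Matrix (Fin t × Fin m) (Fin t × Fin m) F) * A * (B * ((g⁻¹ : GL (Fin t × Fin m) F) : Matrix (Fin t × Fin m) (Fin t × Fin m) F) * A) =
          B * ((g : Matrix (Fin t × Fin m) (Fin t × Fin m) F) * (A * B) * ((g⁻¹ : GL (Fin t × Fin m) F) : Matrix (Fin t × Fin m) (Fin t × Fin m) F)) * A by simp only [Matrix.mul_assoc],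
          hAB, Matrix.mul_one, Units.mul_inv, Matrix.mul_one, hBA],
        by rw [show B * ((g⁻¹ : GL (Fin t × Fin m) F) : Matrix (Fin t × Fin m) (Fin t × Fin m) F) * A * (B * (g : Matrix (Fin t × Fin m) (Fin t × Fin m) F) * A) =
          B * (((g⁻¹ : GL (Fin t × Fin m) F) : Matrix (Fin t × Fin m) (Fin t × Fin m) F) * (A * B) * (g : Matrix (Fin t × Fin m) (Fin t × Fin m) F)) * A by simp only [Matrix.mul_assoc],
          hAB, Matrix.mul_one, Units.inv_mul, Matrix.mul_one, hBA]⟩
      map_one' := Units.ext (by simp [hBA])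
      map_mul' := fun g h => Units.ext (by
        show B * ((g : Matrix (Fin t × Fin m) (Fin t × Fin m) F) * (h : Matrix (Fin t × Fin m) (Fin t × Fin m) F)) * A =
          B * (g : Matrix (Fin t × Fin m) (Fin t × Fin m) F) * A * (B * (h : Matrix (Fin t × Fin m) (Fin t × Fin m) F) * A)
        rw [show B * (g : Matrix (Fin t × Fin m) (Fin t × Fin m) F) * A * (B * (h : Matrix (Fin t × Fin m) (Fin t × Fin m) F) * A) =
          B * ((g : Matrix (Fin t × Fin m) (Fin t × Fin m) F) * (A * B) * (h : Matrix (Fin t × Fin m) (Fin t × Fin m) F)) * A by simp only [Matrix.mul_assoc],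
          hAB, Matrix.mul_one]) }
  have hsurj : Function.Surjective φ := by
    intro g
    refine ⟨⟨A * (g : Matrix (Fin n) (Fin n) F) * B, A * ((g⁻¹ : GL (Fin n) F) : Matrix (Fin n) (Fin n) F) * B, ?_, ?_⟩, Units.ext ?_⟩
    · rw [show A * (g : Matrix (Fin n) (Fin n) F) * B * (A * ((g⁻¹ : GL (Fin n) F) : Matrix (Fin n) (Fin n) F) * B) =
        A * ((g : Matrix (Fin n) (Fin n) F) * (B * A) * ((g⁻¹ : GL (Fin n) F) : Matrix (Fin n) (Fin n) F)) * B by simp only [Matrix.mul_assoc],
        hBA, Matrix.mul_one, Units.mul_inv, Matrix.mul_one, hAB]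
    · rw [show A * ((g⁻¹ : GL (Fin n) F) : Matrix (Fin n) (Fin n) F) * B * (A * (g : Matrix (Fin n) (Fin n) F) * B) =
        A * (((g⁻¹ : GL (Fin n) F) : Matrix (Fin n) (Fin n) F) * (B * A) * (g : Matrix (Fin n) (Fin n) F)) * B by simp only [Matrix.mul_assoc],
        hBA, Matrix.mul_one, Units.inv_mul, Matrix.mul_one, hAB]
    · show B * (A * (g : Matrix (Fin n) (Fin n) F) * B) * A = (g : Matrix (Fin n) (Fin n) F)
      rw [show B * (A * (g : Matrix (Fin n) (Fin n) F) * B) * A = (B * A) * (g : Matrix (Fin n) (Fin n) F) * (B * A) by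
        simp only [Matrix.mul_assoc], hBA, Matrix.one_mul, Matrix.mul_one]
  have hdet : ∀ h, φ h ∈ specialLinear (Fin n) F ↔ (h : Matrix (Fin t × Fin m) (Fin t × Fin m) F).det = 1 := fun h => by
    rw [specialLinear, MonoidHom.mem_ker, Units.ext_iff, Matrix.GeneralLinearGroup.val_det_apply, Units.val_one]
    show (B * (h : Matrix (Fin t × Fin m) (Fin t × Fin m) F) * A).det = 1 ↔ _
    rw [det_conj_of_mul_eq_one hBA hAB]
  have hcol : ∀ (h : GL (Fin t × Fin m) F) (r : Fin t × Fin m),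
      ((φ h : GL (Fin n) F) : Matrix (Fin n) (Fin n) F) *ᵥ b r.1 r.2 = ∑ p, (h : Matrix (Fin t × Fin m) (Fin t × Fin m) F) p r • b p.1 p.2 := by
    intro h r
    show (B * (h : Matrix (Fin t × Fin m) (Fin t × Fin m) F) * A) *ᵥ b r.1 r.2 = _
    have e : A *ᵥ b r.1 r.2 = Pi.single r (1 : F) := by
      funext p
      show a p.1 p.2 ⬝ᵥ b r.1 r.2 = _
      rw [hab, Pi.single_apply]
      by_cases hpr : p = r
      · subst hpr; simp
      · rw [if_neg hpr, if_neg fun h => hpr (Prod.ext h.1 h.2)]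
    rw [← mulVec_mulVec, e, ← mulVec_mulVec, mulVec_single_one]
    funext x
    simp [Matrix.mulVec, dotProduct, hB, mul_comm]
  have hstab : ∀ h, φ h ∈ decompositionStabilizer D ↔ BlockMono h := by
    intro h
    constructor
    · rintro ⟨σ, hσ⟩
      refine ⟨σ, fun p r hpr => ?_⟩
      by_contra hne
      refine hpr ?_
      have hmem : ((φ h : GL (Fin n) F) : Matrix (Fin n) (Fin n) F) *ᵥ b r.1 r.2 ∈ D (σ r.1) := by
        rw [← hσ r.1]; exact ⟨_, hb r.1 r.2, by rw [toLin'_apply]⟩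
      have := hzero p.1 (σ r.1) p.2 hne _ hmem
      rw [hcol, dotProduct_sum, Finset.sum_eq_single p] at this
      · simpa [dotProduct_smul, hab] using this
      · intro x _ hx
        rw [dotProduct_smul, hab, if_neg (fun h => hx (Prod.ext h.1 h.2).symm), smul_zero]
      · simp
    · rintro ⟨σ, hσ⟩
      refine ⟨σ, fun i => ?_⟩
      refine Submodule.eq_of_le_of_finrank_le ?_ (by rw [finrank_map_gl', hD.finrank_eq, hD.finrank_eq])
      rintro _ ⟨x, hx, rfl⟩
      rw [toLin'_apply, hsum x, mulVec_sum]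
      refine Submodule.sum_mem _ fun j _ => ?_
      rw [mulVec_sum]
      refine Submodule.sum_mem _ fun r _ => ?_
      rw [mulVec_smul]
      by_cases hji : j = i
      · subst hji
        refine Submodule.smul_mem _ _ ?_
        rw [hcol h (j, r)]
        refine Submodule.sum_mem _ fun p _ => ?_
        by_cases hp : (h : Matrix (Fin t × Fin m) (Fin t × Fin m) F) p (j, r) = 0
        · rw [hp, zero_smul]; exact Submodule.zero_mem _
        · exact Submodule.smul_mem _ _ ((hσ p (j, r) hp) ▸ hb p.1 p.2)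
      · rw [hzero j i r hji x hx, zero_smul]; exact Submodule.zero_mem _
  refine ⟨lt_of_le_of_ne inf_le_right ?_, fun N hle hN => ?_⟩
  · intro he
    set p : Fin t × Fin m := (⟨0, by omega⟩, ⟨0, by omega⟩) with hp
    set r : Fin t × Fin m := (⟨1, by omega⟩, ⟨0, by omega⟩) with hr
    have hpr : p ≠ r := by simp [hp, hr]
    have hd := tv_mem_specialLinear (Pi.single p (1 : F)) (Pi.single r 1)
    rw [specialLinear, MonoidHom.mem_ker, Units.ext_iff, Matrix.GeneralLinearGroup.val_det_apply,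
      Units.val_one] at hd
    have hmem := (hdet _).mpr hd
    rw [← he] at hmem
    obtain ⟨σ, hσ⟩ := (hstab _).mp hmem.1
    have e1 := hσ r r (by rw [tv_coe (by simp [hpr]), Matrix.add_apply, Matrix.one_apply, vecMulVec_apply]; simp [hpr, Ne.symm hpr])
    have e2 := hσ p r (by rw [tv_coe (by simp [hpr]), Matrix.add_apply, Matrix.one_apply, vecMulVec_apply]; simp [hpr])
    rw [← e1] at e2
    simp [hp, hr] at e2
  · rw [or_iff_not_imp_left]
    intro hne
    obtain ⟨g, hgN, hg⟩ := SetLike.exists_of_lt (lt_of_le_of_ne hle (Ne.symm hne))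
    obtain ⟨h, rfl⟩ := hsurj g
    have hh : ¬ BlockMono h := fun hbm => hg ⟨(hstab h).mpr hbm, hN hgN⟩
    have key := tv_mem_of_not_blockMono (M := N.comap φ) hpos hm1 hm2
      (fun x hx hdx => hle ⟨(hstab x).mpr hx, (hdet x).mpr hdx⟩) (fun x hx => (hdet x).mp (hN hx)) hgN hh
    refine le_antisymm hN (specialLinear_le_of_forall_tv fun v c => ?_)
    by_cases hd : c ⬝ᵥ v = 0
    · have e : φ (tv (A *ᵥ v) (c ᵥ* B)) = tv v c := by
        have hd' : (c ᵥ* B) ⬝ᵥ (A *ᵥ v) = 0 := by rw [← dotProduct_mulVec, hBAx, hd]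
        refine Units.ext ?_
        show B * (tv (A *ᵥ v) (c ᵥ* B) : Matrix (Fin t × Fin m) (Fin t × Fin m) F) * A = _
        rw [tv_coe hd', tv_coe hd, Matrix.mul_add, Matrix.add_mul, Matrix.mul_one, hBA,
          mul_vecMulVec, vecMulVec_mul, hBAx, vecMul_vecMul, hBA, vecMul_one]
      exact e ▸ key _ _
    · rw [tv, dif_neg hd]; exact N.one_mem

theorem isMaximalIn_decomposition' {F : Type*} [Field F] [Fintype F] {n t m : ℕ}
    {D : Fin t → Submodule F (Fin n → F)} (hD : IsMDecomposition m D)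
    (hm1 : m = 1 → 5 ≤ t ∧ 5 ≤ Fintype.card F) (hm2 : m = 2 → 3 ≤ t ∧ 3 ≤ Fintype.card F) :
    IsMaximalIn (specialLinear (Fin n) F) (decompositionStabilizer D ⊓ specialLinear (Fin n) F) :=
  isMaximalIn_decomposition'' hD (fun e => Or.inl (hm1 e)) fun e => Or.inl (hm2 e)

theorem card_eq_of_decomposition {F : Type*} [Field F] {n t m : ℕ}
    {D : Fin t → Submodule F (Fin n → F)} (hD : IsMDecomposition m D) : t * m = n := by
  classical
  have hint := DirectSum.isInternal_submodule_of_iSupIndep_of_iSup_eq_top hD.indep hD.iSup_eq_top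
  have B := hint.collectedBasis fun i => Module.finBasisOfFinrankEq F (D i) (hD.finrank_eq i)
  have := Module.finrank_eq_card_basis B
  simpa [Module.finrank_pi, Fintype.card_sigma] using this.symm

theorem isMaximalIn_decomposition {F : Type*} [Field F] [Fintype F] {n t m : ℕ} (hn : 13 ≤ n)
    {D : Fin t → Submodule F (Fin n → F)} (hD : IsMDecomposition m D)
    (h1 : ¬ (m = 1 ∧ Fintype.card F ≤ 4)) (h2 : ¬ (m = 2 ∧ Fintype.card F = 2)) :
    IsMaximalIn (specialLinear (Fin n) F) (decompositionStabilizer D ⊓ specialLinear (Fin n) F) := by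
  have htm := card_eq_of_decomposition hD
  have hq := Fintype.one_lt_card (α := F)
  exact isMaximalIn_decomposition' hD
    (fun e => ⟨by subst e; omega, by by_contra hq'; exact h1 ⟨e, by omega⟩⟩)
    (fun e => ⟨by subst e; omega, by by_contra hq'; exact h2 ⟨e, by omega⟩⟩)

end CfsgLib.MaxSub.LinDecomp
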