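import Cfsg.Agent.Aschbacher.LinearComposite
import Cfsg.Agent.MaxSub.AbelianSocleClasses
import Cfsg.Agent.MaxSub.CentralProduct

/-!
# The geometric classes and the residual class in the linear case
-/

set_option autoImplicit false
set_option linter.unusedSectionVars false

namespace CfsgLib.MaxSub

open Matrix Cfsg.Geo CfsgLib.Aschbacher CfsgLib.TensorNonmax

variable {F : Type*} [Field F]

/-- A tensor decomposition with two equal factors is a tensor power decomposition. -/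
theorem slot_action_of_tensor {ι : Type} [Fintype ι] [DecidableEq ι] {k : ℕ}
    {e : ι ≃ Fin k × Fin k} {P g : GL ι F} (hg : g ∈ tensorProductSubgroup k k e P) :
    ∃ as : Fin 2 → GL (Fin k) F, ∀ xs,
      (g : Matrix ι ι F) *ᵥ ptmul (e.trans (finTwoArrowEquiv _).symm) P xs =
        ptmul (e.trans (finTwoArrowEquiv _).symm) P
          (fun j => (as j : Matrix (Fin k) (Fin k) F) *ᵥ xs ((1 : Equiv.Perm (Fin 2)) j)) := by
  obtain ⟨a, b, hab⟩ := TensorNonmax.mem_tensorProductSubgroup hg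
  have key : ∀ xs : Fin 2 → Fin k → F,
      ptmul (e.trans (finTwoArrowEquiv _).symm) P xs = tmul e P (xs 0) (xs 1) := by
    intro xs
    rw [ptmul, tmul_apply, cvec_apply, cvec_apply]
    congr 1
    funext i
    simp [Fin.prod_univ_two]
  refine ⟨![a, b], fun xs => ?_⟩
  rw [key, key, hab]
  simp

/-- Aschbacher's theorem for the linear groups in dimension at least three. -/
theorem linear_structure [Fintype F] {n : ℕ} (hn : 3 ≤ n) (H : Subgroup (GL (Fin n) F)) :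
    (∃ M, InLinearClass n F M ∧ H ≤ M) ∨ InLinearResidualClass H := by
  classical
  have : Nonempty (Fin n) := ⟨⟨0, by omega⟩⟩
  have hcard : Fintype.card (Fin n) = n := Fintype.card_fin n
  have hdec : ∀ {t m : ℕ} {D : Fin t → Submodule F (Fin n → F)}, IsMDecomposition m D →
      H ≤ decompositionStabilizer D → ∃ M, InLinearClass n F M ∧ H ≤ M :=
    fun hD hle => ⟨_, Or.inr (Or.inr (Or.inr (Or.inl ⟨_, _, _, hD, rfl⟩))), hle⟩
  have hsub : ∀ {F₀ : Subfield F} {r : ℕ} {P : GL (Fin n) F}, r.Prime →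
      Fintype.card F = Nat.card F₀ ^ r → H ≤ subfieldSubgroup F₀ P →
      ∃ M, InLinearClass n F M ∧ H ≤ M :=
    fun hr hc hle => ⟨_, Or.inr (Or.inr (Or.inr (Or.inr (Or.inr (Or.inr (Or.inl
      ⟨_, _, _, hr, hc, rfl⟩)))))), hle⟩
  have hsymp : ∀ {f : (Fin n → F) → (Fin n → F) → F}, IsSymplecticForm f →
      H ≤ similarityGroup f → ∃ M, InLinearClass n F M ∧ H ≤ M := by
    intro f hf hle
    have hev : Even n := by
      rw [← Nat.not_odd_iff_even]
      exact fun ho => no_symplectic_of_odd hf (by rwa [hcard])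
    refine ⟨_, Or.inr (Or.inr (Or.inr (Or.inr (Or.inr (Or.inr (Or.inr (Or.inr (Or.inr (Or.inl
      ⟨f, hf, hev, ?_, rfl⟩))))))))), hle⟩
    obtain ⟨l, hl⟩ := hev
    omega
  have hunit : ∀ {σ : F ≃+* F} {f : (Fin n → F) → (Fin n → F) → F}, IsUnitaryForm σ f →
      H ≤ similarityGroup f → ∃ M, InLinearClass n F M ∧ H ≤ M :=
    fun hf hle => ⟨_, Or.inr (Or.inr (Or.inr (Or.inr (Or.inr (Or.inr (Or.inr (Or.inr (Or.inr
      (Or.inr (Or.inl ⟨_, _, hf, hn, rfl⟩)))))))))), hle⟩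
  have hquad : ∀ {Q : (Fin n → F) → F}, IsNondegenerateQuadraticForm Q → Odd (Fintype.card F) →
      H ≤ quadSimilarityGroup Q → ∃ M, InLinearClass n F M ∧ H ≤ M :=
    fun hQ ho hle => ⟨_, Or.inr (Or.inr (Or.inr (Or.inr (Or.inr (Or.inr (Or.inr (Or.inr (Or.inr
      (Or.inr (Or.inr ⟨_, hQ, ho, hn, rfl⟩)))))))))), hle⟩
  have hslots : ∀ {d t : ℕ} (e : Fin n ≃ (Fin t → Fin d)) (P : GL (Fin n) F), 2 ≤ d → 2 ≤ t →
      (∀ g ∈ H, ∃ (σ : Equiv.Perm (Fin t)) (as : Fin t → GL (Fin d) F),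
        ∀ xs, (g : Matrix (Fin n) (Fin n) F) *ᵥ ptmul e P xs =
          ptmul e P (fun j => (as j : Matrix (Fin d) (Fin d) F) *ᵥ xs (σ j))) →
      ∃ M, InLinearClass n F M ∧ H ≤ M := by
    intro d t e P hd ht hact
    rcases Nat.lt_or_eq_of_le hd with hd3 | rfl
    · refine ⟨_, Or.inr (Or.inr (Or.inr (Or.inr (Or.inr (Or.inr (Or.inr (Or.inr (Or.inl
        ⟨d, t, e, P, hd3, ht, rfl⟩)))))))), fun g hg => ?_⟩
      obtain ⟨σ, as, h⟩ := hact g hg
      exact mem_tensorWreathSubgroup_of h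
    · rcases similarity_of_planes ht e P hact with ⟨f, hf, hle⟩ | ⟨Q, hQ, ho, hle⟩
      · exact hsymp hf hle
      · exact hquad hQ ho hle
  by_cases hirr : ActsIrreducibly (matrixSet H)
  swap
  · rw [actsIrreducibly_iff] at hirr
    simp only [not_forall, not_or] at hirr
    obtain ⟨W, hW, h0, h1⟩ := hirr
    exact Or.inl ⟨_, Or.inl ⟨W, h0, h1, rfl⟩, hW⟩
  rcases reduction (by omega) hirr with
    ⟨t, m, D, hD, -, hst⟩ | ⟨r, K, hr, -, hK, hle⟩ | ⟨k, d, e, P, hk, hd, -, hle⟩ | hsoc | hcp |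
    ⟨P, hP⟩
  · exact Or.inl (hdec hD hst)
  · exact Or.inl ⟨_, Or.inr (Or.inr (Or.inr (Or.inr (Or.inl ⟨r, K, hr, hK, rfl⟩)))), hle⟩
  · left
    rcases lt_trichotomy k d with h | rfl | h
    · exact ⟨_, Or.inr (Or.inr (Or.inr (Or.inr (Or.inr (Or.inl ⟨k, d, e, P, hk, h, rfl⟩))))), hle⟩
    · refine hslots (e.trans (finTwoArrowEquiv _).symm) P hk le_rfl fun g hg => ?_
      obtain ⟨as, has⟩ := slot_action_of_tensor (hle hg)
      exact ⟨1, as, has⟩
    · exact ⟨_, Or.inr (Or.inr (Or.inr (Or.inr (Or.inr (Or.inl ⟨d, k, _, _, hd, h, rfl⟩))))),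
        hle.trans (tensorProductSubgroup_swap e P)⟩
  · left
    rcases abelianSocle_cases (by omega) hsoc with ⟨F₀, s, P, hs, hc, hle⟩ | ⟨r, R, hR, hle⟩ |
      ⟨σ, f, hf, hle⟩ | ⟨f, hf, hle⟩ | ⟨ho, Q, hQ, hle⟩
    · exact hsub hs hc hle
    · exact ⟨_, Or.inr (Or.inr (Or.inr (Or.inr (Or.inr (Or.inr (Or.inr (Or.inl
        ⟨r, R, hR, rfl⟩))))))), hle⟩
    · exact hunit hf hle
    · exact hsymp hf hle
    · exact hquad hQ ho hle
  · obtain ⟨d, t, e, P, hd, ht, -, hact⟩ := exists_slot_decomposition hcp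
    exact Or.inl (hslots e P hd ht hact)
  · rcases residual_or_form_general (by omega) hP with ⟨F₀, r, B, hr, hc, hle⟩ | ⟨ho, Q, hQ, hle⟩ |
      ⟨f, hf, hle⟩ | ⟨σ, f, hf, hle⟩ | hres
    · exact Or.inl (hsub hr hc hle)
    · exact Or.inl (hquad hQ ho hle)
    · exact Or.inl (hsymp hf hle)
    · exact Or.inl (hunit hf hle)
    · exact Or.inr hres

end CfsgLib.MaxSub
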