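import Cfsg.Agent.MaxSub.Transvection

/-!
# Overgroups of the monomial group in the special linear group

`exists_elementary_root`: for at least five field elements, a subgroup of `SL` containing the monomial
matrices of determinant one and another element contains an elementary root group.
-/

set_option autoImplicit false
set_option linter.unusedSectionVars false

namespace CfsgLib.MaxSub.Monomial

open Matrix Cfsg.Geo

variable {κ : Type} [Fintype κ] [DecidableEq κ] {F : Type*} [Field F]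

local notation "V" => (κ → F)
local notation "Mat" => Matrix κ κ F
local notation "ε⟦" r "⟧" => (Pi.single r (1 : F) : κ → F)

/-- Every column has at most one non-zero entry, in distinct rows. -/
def Mono (g : GL κ F) : Prop :=
  ∃ π : Equiv.Perm κ, ∀ p r, (g : Matrix κ κ F) p r ≠ 0 → p = π r

/-- The monomial matrix sending the `r`-th unit vector to `d r` times the `σ r`-th. -/
def monMat (σ : Equiv.Perm κ) (d : κ → F) : Matrix κ κ F :=
  Matrix.of fun p r => if p = σ r then d r else 0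

theorem monMat_mul (σ τ : Equiv.Perm κ) (c d : κ → F) :
    monMat σ c * monMat τ d = monMat (σ * τ) (fun r => c (τ r) * d r) := by
  ext p r
  simp only [monMat, Matrix.mul_apply, of_apply, Equiv.Perm.mul_apply]
  rw [Finset.sum_eq_single (τ r)]
  · by_cases h : p = σ (τ r) <;> simp [h]
  · intro q _ hq; simp [hq]
  · exact fun h => absurd (Finset.mem_univ _) h

theorem monMat_one : monMat (1 : Equiv.Perm κ) (fun _ => (1 : F)) = 1 := by
  ext p r
  simp only [monMat, Matrix.one_apply, of_apply, Equiv.Perm.one_apply]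
  by_cases h : p = r <;> simp [h]

/-- The monomial element. -/
def monEl (σ : Equiv.Perm κ) (d : κ → Fˣ) : GL κ F where
  val := monMat σ fun r => d r
  inv := monMat σ⁻¹ fun r => ((d (σ⁻¹ r))⁻¹ : Fˣ)
  val_inv := by
    rw [monMat_mul, mul_inv_cancel, ← monMat_one]
    congr 1
    funext r
    simp
  inv_val := by
    rw [monMat_mul, inv_mul_cancel, ← monMat_one]
    congr 1
    funext r
    simp

theorem monEl_apply (σ : Equiv.Perm κ) (d : κ → Fˣ) (p r : κ) :
    (monEl σ d : Mat) p r = if p = σ r then (d r : F) else 0 := rfl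

theorem mono_monEl (σ : Equiv.Perm κ) (d : κ → Fˣ) : Mono (monEl σ d) :=
  ⟨σ, fun p r h => by rw [monEl_apply] at h; by_contra hne; exact h (if_neg hne)⟩

theorem monEl_mulVec (σ : Equiv.Perm κ) (d : κ → Fˣ) (x : V) (p : κ) :
    ((monEl σ d : Mat) *ᵥ x) p = d (σ.symm p) * x (σ.symm p) := by
  show ∑ r, (monEl σ d : Mat) p r * x r = _
  rw [Finset.sum_eq_single (σ.symm p)]
  · rw [monEl_apply, Equiv.apply_symm_apply, if_pos rfl]
  · intro r _ hr
    rw [monEl_apply, if_neg (fun h => hr (by rw [h, Equiv.symm_apply_apply])), zero_mul]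
  · exact fun h => absurd (Finset.mem_univ _) h

theorem vecMul_monEl_inv (σ : Equiv.Perm κ) (d : κ → Fˣ) (a : V) (p : κ) :
    (a ᵥ* (((monEl σ d)⁻¹ : GL κ F) : Mat)) p = a (σ.symm p) * ((d (σ.symm p))⁻¹ : Fˣ) := by
  show ∑ r, a r * monMat σ⁻¹ (fun r => (((d (σ⁻¹ r))⁻¹ : Fˣ) : F)) r p = _
  rw [Finset.sum_eq_single (σ.symm p)]
  · simp [monMat]
  · intro r _ hr
    simp [monMat, hr]
  · exact fun h => absurd (Finset.mem_univ _) h

theorem det_monEl (σ : Equiv.Perm κ) (d : κ → Fˣ) :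
    (monEl σ d : Mat).det = (Equiv.Perm.sign σ : ℤ) * ∏ r, (d r : F) := by
  have e : (monEl σ d : Mat) = (diagonal fun r => (d r : F)).submatrix σ.symm id := by
    ext p r
    rw [monEl_apply, submatrix_apply, id, diagonal_apply]
    by_cases h : p = σ r
    · subst h; simp
    · rw [if_neg h, if_neg (fun h' => h (by rw [← h']; simp))]
  rw [e, det_permute, det_diagonal, Equiv.Perm.sign_symm]

theorem monEl_single (σ : Equiv.Perm κ) (d : κ → Fˣ) (r : κ) :
    (monEl σ d : Mat) *ᵥ ε⟦r⟧ = (d r : F) • ε⟦σ r⟧ := by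
  funext p
  rw [monEl_mulVec, Pi.smul_apply, smul_eq_mul]
  by_cases h : p = σ r
  · subst h; simp
  · rw [Pi.single_eq_of_ne h, Pi.single_eq_of_ne (fun h' => h (by rw [← h', Equiv.apply_symm_apply]))]
    simp

theorem exists_outside (hκ : 5 ≤ Fintype.card κ) (s : Finset κ) (hs : s.card ≤ 4) : ∃ r, r ∉ s := by
  by_contra h
  push Not at h
  have : (Finset.univ : Finset κ) ⊆ s := fun r _ => h r
  have := Finset.card_le_card this
  rw [Finset.card_univ] at this
  omega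

theorem exists_outside₄ (hκ : 4 ≤ Fintype.card κ) (s : Finset κ) (hs : s.card ≤ 3) : ∃ r, r ∉ s := by
  obtain ⟨r, -, hr⟩ := Finset.exists_mem_notMem_of_card_lt_card
    (s := s) (t := Finset.univ) (by rw [Finset.card_univ]; omega)
  exact ⟨r, hr⟩

theorem exists_unit [Fintype F] (hq : 5 ≤ Fintype.card F) (s : Finset F) (hs : s.card ≤ 3) :
    ∃ l : Fˣ, (l : F) ∉ s := by
  classical
  have h : ((Finset.univ : Finset F).erase 0 \ s).Nonempty := by
    rw [← Finset.card_pos]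
    have := Finset.le_card_sdiff s ((Finset.univ : Finset F).erase 0)
    rw [Finset.card_erase_of_mem (Finset.mem_univ _), Finset.card_univ] at this
    omega
  obtain ⟨l, hl⟩ := h
  rw [Finset.mem_sdiff, Finset.mem_erase] at hl
  exact ⟨Units.mk0 l hl.1.1, hl.2⟩

/-- `M` contains the monomial elements of determinant one. -/
def MonoIn (M : Subgroup (GL κ F)) : Prop :=
  ∀ g : GL κ F, Mono g → (g : Matrix κ κ F).det = 1 → g ∈ M

/-- Diagonal element with `l` at `i` and `l⁻¹` at `j`. -/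
def pairDiag (i j : κ) (l : Fˣ) : GL κ F :=
  monEl 1 fun r => if r = i then l else if r = j then l⁻¹ else 1

theorem pairDiag_mem {M : Subgroup (GL κ F)} (hM : MonoIn M) {i j : κ} (hij : i ≠ j) (l : Fˣ) :
    pairDiag i j l ∈ M := by
  refine hM _ (mono_monEl _ _) ?_
  rw [pairDiag, det_monEl, map_one, Units.val_one, Int.cast_one, one_mul, ← Units.coe_prod]
  rw [show (∏ r, if r = i then l else if r = j then l⁻¹ else 1) = (1 : Fˣ) by
    rw [Finset.prod_eq_mul i j hij (fun r _ hr => by simp [hr.1, hr.2]) (by simp) (by simp)]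
    simp [Ne.symm hij]]
  rfl

theorem pairDiag_mulVec (i j : κ) (l : Fˣ) (x : V) (p : κ) :
    (((pairDiag i j l : GL κ F) : Mat) *ᵥ x) p =
      (if p = i then (l : F) else if p = j then (l : F)⁻¹ else 1) * x p := by
  rw [pairDiag, monEl_mulVec]
  simp only [Equiv.Perm.coe_one, id_eq, show ((1 : Equiv.Perm κ).symm : κ → κ) = id from rfl]
  split_ifs <;> simp

theorem vecMul_pairDiag_inv (i j : κ) (l : Fˣ) (a : V) (p : κ) :
    (a ᵥ* (((pairDiag i j l)⁻¹ : GL κ F) : Mat)) p =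
      a p * (if p = i then (l : F) else if p = j then (l : F)⁻¹ else 1)⁻¹ := by
  rw [pairDiag, vecMul_monEl_inv]
  simp only [Equiv.Perm.coe_one, id_eq, show ((1 : Equiv.Perm κ).symm : κ → κ) = id from rfl]
  split_ifs <;> simp

/-- From one elementary transvection to its root group. -/
theorem root_of_elementary [Fintype F] (hκ : 4 ≤ Fintype.card κ) {M : Subgroup (GL κ F)} (hM : MonoIn M)
    {p r : κ} (hpr : p ≠ r) {c : F} (hc : c ≠ 0) (h : tv (c • ε⟦p⟧) ε⟦r⟧ ∈ M) :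
    RootIn M ε⟦p⟧ ε⟦r⟧ := by
  refine ⟨by simp [hpr], fun d => ?_⟩
  rcases eq_or_ne d 0 with rfl | hd
  · rw [zero_smul, tv_zero_left]; exact M.one_mem
  obtain ⟨s, hs⟩ := exists_outside₄ hκ {p, r} (Finset.card_le_two.trans (by norm_num))
  simp only [Finset.mem_insert, Finset.mem_singleton, not_or] at hs
  have hconj := tv_mem_conj (pairDiag_mem hM (Ne.symm hs.1) (Units.mk0 (d / c) (div_ne_zero hd hc))) h
  have e1 : ((pairDiag p s (Units.mk0 (d / c) (div_ne_zero hd hc)) : GL κ F) : Mat) *ᵥ (c • ε⟦p⟧) =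
      d • ε⟦p⟧ := by
    funext x
    rw [pairDiag_mulVec]
    by_cases hx : x = p
    · subst hx; simp [hc]
    · simp [hx]
  have e2 : ε⟦r⟧ ᵥ* (((pairDiag p s (Units.mk0 (d / c) (div_ne_zero hd hc)))⁻¹ : GL κ F) : Mat) =
      ε⟦r⟧ := by
    funext x
    rw [vecMul_pairDiag_inv]
    by_cases hx : x = r
    · subst hx; simp [Ne.symm hpr, Ne.symm hs.2]
    · simp [hx]
  rwa [e1, e2] at hconj

/-- A transvection centred at a unit vector gives an elementary root group. -/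
theorem root_of_centre [Fintype F] (hκ : 4 ≤ Fintype.card κ) (hq : 5 ≤ Fintype.card F)
    {M : Subgroup (GL κ F)} (hM : MonoIn M) {k : κ} {W : V} (hWk : W k = 0) (hW : W ≠ 0)
    (h : tv ε⟦k⟧ W ∈ M) : ∃ p r, p ≠ r ∧ RootIn M ε⟦p⟧ ε⟦r⟧ := by
  classical
  obtain ⟨i, hi⟩ : ∃ i, W i ≠ 0 := by
    by_contra hcon
    push Not at hcon
    exact hW (funext hcon)
  have hik : i ≠ k := fun e => hi (e ▸ hWk)
  obtain ⟨l, hl⟩ := exists_unit hq {1} (by simp)
  simp only [Finset.mem_singleton] at hl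
  -- removing the entries away from `i` and one auxiliary coordinate
  have step : ∀ W : V, W k = 0 → W i ≠ 0 → ∀ s, s ≠ i → s ≠ k → tv ε⟦k⟧ W ∈ M →
      ∃ W' : V, (∀ x, x ≠ i → (x ≠ s ∨ W s = 0) → W' x = 0) ∧ W' i ≠ 0 ∧ tv ε⟦k⟧ W' ∈ M := by
    intro W hWk hi s hsi hsk hW
    have hconj := tv_mem_conj (pairDiag_mem hM (Ne.symm hsi) l) hW
    have e1 : ((pairDiag i s l : GL κ F) : Mat) *ᵥ ε⟦k⟧ = ε⟦k⟧ := by
      funext x
      rw [pairDiag_mulVec]
      by_cases hx : x = k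
      · subst hx; simp [Ne.symm hik, Ne.symm hsk]
      · simp [hx]
    rw [e1] at hconj
    refine ⟨W ᵥ* (((pairDiag i s l)⁻¹ : GL κ F) : Mat) + -W, ?_, ?_, ?_⟩
    · intro x hxi hxs
      rw [Pi.add_apply, vecMul_pairDiag_inv]
      rcases hxs with hxs | hxs
      · simp [hxi, hxs]
      · by_cases hx : x = s
        · subst hx; simp [hxs]
        · simp [hxi, hx]
    · rw [Pi.add_apply, vecMul_pairDiag_inv, if_pos rfl, Pi.neg_apply]
      intro h0
      have h1 : W i * ((l : F)⁻¹ - 1) = 0 := by linear_combination h0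
      rcases mul_eq_zero.mp h1 with h2 | h2
      · exact hi h2
      · exact hl (inv_eq_one.mp (sub_eq_zero.mp h2))
    · refine tv_mem_add_right ?_ (by rw [neg_dotProduct]; simp [hWk]) hconj ?_
      · rw [dotProduct_single, vecMul_pairDiag_inv, hWk]; simp
      · rw [tv_neg_right, ← tv_inv]; exact M.inv_mem hW
  obtain ⟨s, hs⟩ := exists_outside₄ hκ {i, k} (Finset.card_le_two.trans (by norm_num))
  simp only [Finset.mem_insert, Finset.mem_singleton, not_or] at hs
  obtain ⟨W₁, hz₁, hi₁, hm₁⟩ := step W hWk hi s hs.1 hs.2 h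
  obtain ⟨s', hs'⟩ := exists_outside₄ hκ {i, k, s} (Finset.card_le_three.trans (by norm_num))
  simp only [Finset.mem_insert, Finset.mem_singleton, not_or] at hs'
  have hW₁k : W₁ k = 0 := hz₁ k (Ne.symm hik) (Or.inl (Ne.symm hs.2))
  have hW₁s' : W₁ s' = 0 := hz₁ s' hs'.1 (Or.inl hs'.2.2)
  obtain ⟨W₂, hz₂, hi₂, hm₂⟩ := step W₁ hW₁k hi₁ s' hs'.1 hs'.2.1 hm₁
  have e : W₂ = W₂ i • ε⟦i⟧ := by
    funext x
    by_cases hx : x = i
    · subst hx; simp
    · rw [hz₂ x hx (Or.inr hW₁s')]; simp [hx]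
  rw [e, tv_smul_right] at hm₂
  exact ⟨k, i, Ne.symm hik, root_of_elementary hκ hM (Ne.symm hik) hi₂ hm₂⟩

/-! ### Matrices with Levi part -/

/-- `L` is the part of `h` outside the `k`-th coordinate, `h` fixing the line of `ε k`. -/
def IsLevi (k : κ) (h L : GL κ F) : Prop :=
  (L : Matrix κ κ F) *ᵥ ε⟦k⟧ = ε⟦k⟧ ∧ (∀ x, ((L : Matrix κ κ F) *ᵥ x) k = x k) ∧
    (∃ α : F, (h : Matrix κ κ F) *ᵥ ε⟦k⟧ = α • ε⟦k⟧) ∧
    ∀ x p, p ≠ k → ((h : Matrix κ κ F) *ᵥ x) p = ((L : Matrix κ κ F) *ᵥ x) p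

theorem mulVec_congr_of_ne {k : κ} {L : GL κ F} (hL : (L : Mat) *ᵥ ε⟦k⟧ = ε⟦k⟧) {x y : V}
    (h : ∀ p, p ≠ k → x p = y p) {p : κ} (hp : p ≠ k) :
    ((L : Mat) *ᵥ x) p = ((L : Mat) *ᵥ y) p := by
  have e : x = y + (x k - y k) • ε⟦k⟧ := by
    funext r
    by_cases hr : r = k
    · subst hr; simp
    · simp [hr, h r hr]
  rw [e, mulVec_add, mulVec_smul, hL]
  simp [hp]

theorem IsLevi.mul {k : κ} {h h' L L' : GL κ F} (a : IsLevi k h L) (b : IsLevi k h' L') :
    IsLevi k (h * h') (L * L') := by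
  obtain ⟨h1, h2, ⟨α, h3⟩, h4⟩ := a
  obtain ⟨h1', h2', ⟨α', h3'⟩, h4'⟩ := b
  refine ⟨?_, fun x => ?_, ⟨α' * α, ?_⟩, fun x p hp => ?_⟩
  · rw [Units.val_mul, ← mulVec_mulVec, h1', h1]
  · rw [Units.val_mul, ← mulVec_mulVec, h2, h2']
  · rw [Units.val_mul, ← mulVec_mulVec, h3', mulVec_smul, h3, smul_smul]
  · rw [Units.val_mul, Units.val_mul, ← mulVec_mulVec, ← mulVec_mulVec, h4 _ p hp]
    exact mulVec_congr_of_ne h1 (h4' x) hp

theorem IsLevi.inv {k : κ} {h L : GL κ F} (a : IsLevi k h L) : IsLevi k h⁻¹ L⁻¹ := by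
  obtain ⟨h1, h2, ⟨α, h3⟩, h4⟩ := a
  have hLi : ((L⁻¹ : GL κ F) : Mat) *ᵥ ε⟦k⟧ = ε⟦k⟧ := by
    conv_lhs => rw [← h1]
    rw [mulVec_mulVec, Units.inv_mul, one_mulVec]
  have hα : α ≠ 0 := by
    rintro rfl
    rw [zero_smul] at h3
    have := congrArg (fun y => ((h⁻¹ : GL κ F) : Mat) *ᵥ y) h3
    simp only [mulVec_mulVec, Units.inv_mul, one_mulVec, mulVec_zero] at this
    simpa using congrFun this k
  refine ⟨hLi, fun x => ?_, ⟨α⁻¹, ?_⟩, fun x p hp => ?_⟩
  · conv_rhs => rw [← one_mulVec x, ← Units.mul_inv L, ← mulVec_mulVec, h2]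
  · have := congrArg (fun y => ((h⁻¹ : GL κ F) : Mat) *ᵥ y) h3
    simp only [mulVec_mulVec, Units.inv_mul, one_mulVec, mulVec_smul] at this
    nth_rewrite 2 [this]
    rw [inv_smul_smul₀ hα]
  · set y := ((h⁻¹ : GL κ F) : Mat) *ᵥ x with hy'
    have hy : ∀ r, r ≠ k → ((L : Mat) *ᵥ y) r = x r := fun r hr => by
      rw [← h4 y r hr, hy', mulVec_mulVec, Units.mul_inv, one_mulVec]
    have := mulVec_congr_of_ne hLi hy hp
    rwa [mulVec_mulVec, Units.inv_mul, one_mulVec] at this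

/-- The Levi parts of the elements of `M`. -/
def leviParts (M : Subgroup (GL κ F)) (k : κ) : Subgroup (GL κ F) where
  carrier := {L | ∃ h ∈ M, IsLevi k h L}
  one_mem' := ⟨1, M.one_mem, by rw [Units.val_one, one_mulVec], fun x => by simp,
    ⟨1, by rw [Units.val_one, one_mulVec, one_smul]⟩, fun x p _ => by simp⟩
  mul_mem' := by
    rintro L L' ⟨h, hh, hL⟩ ⟨h', hh', hL'⟩
    exact ⟨h * h', M.mul_mem hh hh', hL.mul hL'⟩
  inv_mem' := by
    rintro L ⟨h, hh, hL⟩
    exact ⟨h⁻¹, M.inv_mem hh, hL.inv⟩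

/-- A monomial element of `M` with prescribed monomial Levi part. -/
theorem exists_mono_lift {M : Subgroup (GL κ F)} (hM : MonoIn M) {k : κ} (σ : Equiv.Perm κ)
    (hσ : σ k = k) (d : κ → Fˣ) (hd : d k = 1) : ∃ h ∈ M, Mono h ∧ IsLevi k h (monEl σ d) := by
  set P : Fˣ := Units.map (Int.castRingHom F).toMonoidHom (Equiv.Perm.sign σ) * ∏ r, d r with hP
  let d' : κ → Fˣ := fun r => if r = k then P⁻¹ else d r
  have hd' : ∏ r, d' r = P⁻¹ * ∏ r, d r := by
    rw [← Finset.mul_prod_erase _ d' (Finset.mem_univ k), ← Finset.mul_prod_erase _ d (Finset.mem_univ k), hd,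
      one_mul, show d' k = P⁻¹ from if_pos rfl]
    congr 1
    exact Finset.prod_congr rfl fun r hr => if_neg (Finset.ne_of_mem_erase hr)
  refine ⟨monEl σ d', hM _ (mono_monEl _ _) ?_, mono_monEl _ _, ?_, fun x => ?_, ⟨(P⁻¹ : Fˣ), ?_⟩,
    fun x p hp => ?_⟩
  · rw [det_monEl, ← Units.coe_prod, hd']
    show ((Units.map (Int.castRingHom F).toMonoidHom (Equiv.Perm.sign σ) : Fˣ) : F) * _ = 1
    rw [← Units.val_mul, ← mul_assoc, mul_comm _ P⁻¹, mul_assoc, hP, inv_mul_cancel, Units.val_one]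
  · rw [monEl_single, hσ, hd]; simp
  · rw [monEl_mulVec, show σ.symm k = k by rw [Equiv.symm_apply_eq, hσ], hd]; simp
  · rw [monEl_single, hσ]; simp [d']
  · have hne : σ.symm p ≠ k := fun e => hp (by rw [Equiv.symm_apply_eq] at e; rw [e, hσ])
    rw [monEl_mulVec, monEl_mulVec, show d' (σ.symm p) = d (σ.symm p) from if_neg hne]

theorem monEl_mem_leviParts {M : Subgroup (GL κ F)} (hM : MonoIn M) {k : κ} (σ : Equiv.Perm κ)
    (hσ : σ k = k) (d : κ → Fˣ) (hd : d k = 1) : monEl σ d ∈ leviParts M k := by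
  obtain ⟨h, hh, -, hL⟩ := exists_mono_lift hM σ hσ d hd
  exact ⟨h, hh, hL⟩

/-- The diagonal element with one entry different from one. -/
def oneDiag (c : κ) (μ : Fˣ) : GL κ F := monEl 1 fun r => if r = c then μ else 1

theorem oneDiag_mem {M : Subgroup (GL κ F)} (hM : MonoIn M) {k c : κ} (hck : c ≠ k) (μ : Fˣ) :
    oneDiag c μ ∈ leviParts M k :=
  monEl_mem_leviParts hM 1 (by simp) _ (by simp [Ne.symm hck])

theorem oneDiag_mulVec (c : κ) (μ : Fˣ) (x : V) :
    ((oneDiag c μ : GL κ F) : Mat) *ᵥ x = x + (((μ : F) - 1) * x c) • ε⟦c⟧ := by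
  funext p
  rw [oneDiag, monEl_mulVec, show (1 : Equiv.Perm κ).symm = 1 from rfl, Equiv.Perm.one_apply]
  by_cases hp : p = c
  · subst hp; simp; ring
  · simp [hp]

theorem vecMul_oneDiag_inv (c : κ) (μ : Fˣ) (a : V) :
    a ᵥ* (((oneDiag c μ)⁻¹ : GL κ F) : Mat) = a + (((μ : F)⁻¹ - 1) * a c) • ε⟦c⟧ := by
  funext p
  rw [oneDiag, vecMul_monEl_inv, show (1 : Equiv.Perm κ).symm = 1 from rfl, Equiv.Perm.one_apply]
  by_cases hp : p = c
  · subst hp; simp; ring
  · simp [hp]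

/-- A homology `x ↦ x + (λ - 1) (f ⬝ x) u` lies in `N` for all `λ`. -/
def HomologyIn (N : Subgroup (GL κ F)) (u f : V) : Prop :=
  f ⬝ᵥ u = 1 ∧ ∀ l : Fˣ, ∃ R ∈ N, ∀ x, (R : Mat) *ᵥ x = x + (((l : F) - 1) * (f ⬝ᵥ x)) • u

theorem homologyIn_conj {N : Subgroup (GL κ F)} {u f : V} (h : HomologyIn N u f) {g : GL κ F} (hg : g ∈ N) :
    HomologyIn N ((g : Mat) *ᵥ u) (f ᵥ* ((g⁻¹ : GL κ F) : Mat)) := by
  refine ⟨by rw [← dotProduct_mulVec, mulVec_mulVec, Units.inv_mul, one_mulVec, h.1], fun l => ?_⟩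
  obtain ⟨R, hR, hRa⟩ := h.2 l
  refine ⟨g * R * g⁻¹, N.mul_mem (N.mul_mem hg hR) (N.inv_mem hg), fun x => ?_⟩
  rw [Units.val_mul, Units.val_mul, ← mulVec_mulVec, ← mulVec_mulVec, hRa, mulVec_add, mulVec_smul,
    mulVec_mulVec _ (g : Mat), Units.mul_inv, one_mulVec, dotProduct_mulVec]

theorem homologyIn_unit {M : Subgroup (GL κ F)} (hM : MonoIn M) {k c : κ} (hck : c ≠ k) :
    HomologyIn (leviParts M k) ε⟦c⟧ ε⟦c⟧ := by
  refine ⟨by simp, fun l => ⟨_, oneDiag_mem hM hck l, fun x => ?_⟩⟩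
  rw [oneDiag_mulVec, single_dotProduct, one_mul]

/-- Two homologies with a common centre give a transvection; likewise for a common axis. -/
theorem tv_of_two_homologies {N : Subgroup (GL κ F)} {u u' f f' : V} (h : HomologyIn N u f)
    (h' : HomologyIn N u' f') (heq : u' = u ∨ f' = f) (l : Fˣ) :
    (u' = u → tv (((l : F) - 1) • u) (f' - f) ∈ N) ∧
      (f' = f → tv ((1 - (l : F)⁻¹) • (u' - u)) f ∈ N) := by
  obtain ⟨R, hR, hRa⟩ := h'.2 l
  obtain ⟨S, hS, hSa⟩ := h.2 l⁻¹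
  have hRS := N.mul_mem hR hS
  have e : ∀ x, ((R * S : GL κ F) : Mat) *ᵥ x = x + ((((l⁻¹ : Fˣ) : F) - 1) * (f ⬝ᵥ x)) • u +
      (((l : F) - 1) * (f' ⬝ᵥ (x + ((((l⁻¹ : Fˣ) : F) - 1) * (f ⬝ᵥ x)) • u))) • u' := fun x => by
    rw [Units.val_mul, ← mulVec_mulVec, hSa, hRa]
  have hl : (l : F) * ((l⁻¹ : Fˣ) : F) = 1 := by simp
  constructor
  · rintro rfl
    have hd : (f' - f) ⬝ᵥ (((l : F) - 1) • u') = 0 := by
      rw [dotProduct_smul, sub_dotProduct, h'.1, h.1, sub_self, smul_zero]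
    convert hRS using 1
    refine Units.ext (Matrix.ext_iff_mulVec.2 fun x => ?_)
    rw [tv_mulVec hd, e, dotProduct_add, dotProduct_smul, h'.1, sub_dotProduct,
      smul_eq_mul]
    simp only [Units.val_inv_eq_inv_val]
    match_scalars
    all_goals (field_simp [l.ne_zero]; try ring)
  · rintro rfl
    have hd : f' ⬝ᵥ ((1 - (l : F)⁻¹) • (u' - u)) = 0 := by
      rw [dotProduct_smul, dotProduct_sub, h'.1, h.1, sub_self, smul_zero]
    convert hRS using 1
    refine Units.ext (Matrix.ext_iff_mulVec.2 fun x => ?_)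
    rw [tv_mulVec hd, e, dotProduct_add, dotProduct_smul, h.1,
      smul_eq_mul]
    simp only [Units.val_inv_eq_inv_val]
    match_scalars
    all_goals (field_simp [l.ne_zero]; try ring)

variable [Fintype F]

/-- An elementary root group among the Levi parts from a homology with differing supports. -/
theorem levi_root_of_pattern (hq : 5 ≤ Fintype.card F) {M : Subgroup (GL κ F)} (hM : MonoIn M) {k : κ}
    {u f : V} (huk : u k = 0) (hfk : f k = 0) (h : HomologyIn (leviParts M k) u f) {c : κ}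
    (hc : (u c = 0 ∧ f c ≠ 0) ∨ (u c ≠ 0 ∧ f c = 0)) :
    ∃ i j, i ≠ j ∧ i ≠ k ∧ j ≠ k ∧ ∃ s : F, s ≠ 0 ∧ tv (s • ε⟦i⟧) ε⟦j⟧ ∈ leviParts M k := by
  classical
  set N := leviParts M k
  obtain ⟨l, hl⟩ := exists_unit hq {1} (by simp)
  simp only [Finset.mem_singleton] at hl
  have hl1 : (l : F) - 1 ≠ 0 := sub_ne_zero.mpr hl
  have hli : (l : F)⁻¹ - 1 ≠ 0 := sub_ne_zero.mpr fun e => hl (inv_eq_one.mp e)
  have hck : c ≠ k := fun e => by subst e; simp [huk, hfk] at hc
  have hdiff : ∀ {v a : V}, a ⬝ᵥ v = 0 → tv v a ∈ N → ∀ j, j ≠ k →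
      tv (((oneDiag j l : GL κ F) : Mat) *ᵥ v) (a ᵥ* (((oneDiag j l)⁻¹ : GL κ F) : Mat)) ∈ N :=
    fun _ ht j hj => tv_mem_conj (oneDiag_mem hM hj l) ht
  rcases hc with ⟨huc, hfc⟩ | ⟨huc, hfc⟩
  · have h' := homologyIn_conj h (oneDiag_mem hM hck l)
    have e : ((oneDiag c l : GL κ F) : Mat) *ᵥ u = u := by rw [oneDiag_mulVec, huc]; simp
    rw [e] at h'
    have ht := (tv_of_two_homologies h h' (Or.inl rfl) l).1 rfl
    rw [vecMul_oneDiag_inv, add_sub_cancel_left, tv_smul_right, smul_smul] at ht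
    set s := ((l : F)⁻¹ - 1) * f c * ((l : F) - 1) with hs
    have hs0 : s ≠ 0 := mul_ne_zero (mul_ne_zero hli hfc) hl1
    obtain ⟨j, hj⟩ : ∃ j, u j ≠ 0 := by
      by_contra hcon
      push Not at hcon
      exact one_ne_zero (h.1.symm.trans (by rw [show u = 0 from funext hcon, dotProduct_zero]))
    have hjc : j ≠ c := fun e => hj (e ▸ huc)
    have hjk : j ≠ k := fun e => hj (e ▸ huk)
    have hd : ε⟦c⟧ ⬝ᵥ (s • u) = 0 := by simp [huc]
    have h2 := hdiff hd ht j hjk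
    rw [oneDiag_mulVec, vecMul_oneDiag_inv, Pi.single_eq_of_ne hjc, mul_zero, zero_smul, add_zero] at h2
    have hd2 : ε⟦c⟧ ⬝ᵥ ((((l : F) - 1) * (s • u) j) • ε⟦j⟧) = 0 := by simp [Ne.symm hjc]
    have hinv := N.inv_mem ht
    rw [tv_inv] at hinv
    have h3 := tv_mem_add_left (by rw [dotProduct_add, hd, hd2, add_zero])
      (by rw [dotProduct_neg, hd, neg_zero]) h2 hinv
    rw [add_neg_cancel_comm] at h3
    refine ⟨j, c, hjc, hjk, hck, _, mul_ne_zero hl1 ?_, h3⟩
    rw [Pi.smul_apply, smul_eq_mul]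
    exact mul_ne_zero hs0 hj
  · have h' := homologyIn_conj h (oneDiag_mem hM hck l)
    have e : f ᵥ* (((oneDiag c l)⁻¹ : GL κ F) : Mat) = f := by rw [vecMul_oneDiag_inv, hfc]; simp
    rw [e] at h'
    have ht := (tv_of_two_homologies h h' (Or.inr rfl) l).2 rfl
    rw [oneDiag_mulVec, add_sub_cancel_left, smul_smul] at ht
    set s := (1 - (l : F)⁻¹) * (((l : F) - 1) * u c) with hs
    have hs0 : s ≠ 0 := mul_ne_zero (by rw [← neg_sub]; exact neg_ne_zero.mpr hli) (mul_ne_zero hl1 huc)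
    obtain ⟨j, hj⟩ : ∃ j, f j ≠ 0 := by
      by_contra hcon
      push Not at hcon
      exact one_ne_zero (h.1.symm.trans (by rw [show f = 0 from funext hcon, zero_dotProduct]))
    have hjc : j ≠ c := fun e => hj (e ▸ hfc)
    have hjk : j ≠ k := fun e => hj (e ▸ hfk)
    have hd : f ⬝ᵥ (s • ε⟦c⟧) = 0 := by simp [hfc]
    have h2 := hdiff hd ht j hjk
    rw [oneDiag_mulVec, Pi.smul_apply, Pi.single_eq_of_ne hjc, smul_zero, mul_zero, zero_smul, add_zero,
      vecMul_oneDiag_inv] at h2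
    have hd2 : ((((l : F)⁻¹ - 1) * f j) • ε⟦j⟧) ⬝ᵥ (s • ε⟦c⟧) = 0 := by simp [Ne.symm hjc]
    have hinv := N.inv_mem ht
    rw [tv_inv, ← tv_neg_right] at hinv
    have h3 := tv_mem_add_right (by rw [add_dotProduct, hd, hd2, add_zero])
      (by rw [neg_dotProduct, hd, neg_zero]) h2 hinv
    rw [add_neg_cancel_comm, tv_smul_right, smul_smul] at h3
    exact ⟨c, j, Ne.symm hjc, hck, hjk, _, mul_ne_zero (mul_ne_zero hli hj) hs0, h3⟩

/-- A homology of at least three coordinates gives an elementary root group among the Levi parts. -/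
theorem levi_root_of_three (hq : 5 ≤ Fintype.card F) {M : Subgroup (GL κ F)} (hM : MonoIn M) {k : κ}
    {u f : V} (huk : u k = 0) (hfk : f k = 0) (h : HomologyIn (leviParts M k) u f)
    {c d r : κ} (hcd : c ≠ d) (hrc : r ≠ c) (hrd : r ≠ d) (hc : u c ≠ 0) (hd : u d ≠ 0) (hr : u r ≠ 0) :
    ∃ i j, i ≠ j ∧ i ≠ k ∧ j ≠ k ∧ ∃ s : F, s ≠ 0 ∧ tv (s • ε⟦i⟧) ε⟦j⟧ ∈ leviParts M k := by
  classical
  by_cases hpat : ∃ p, (u p = 0 ∧ f p ≠ 0) ∨ (u p ≠ 0 ∧ f p = 0)
  · obtain ⟨p, hp⟩ := hpat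
    exact levi_root_of_pattern hq hM huk hfk h hp
  push Not at hpat
  have hfc : f c ≠ 0 := (hpat c).2 hc
  have hfd : f d ≠ 0 := (hpat d).2 hd
  have hfr : f r ≠ 0 := (hpat r).2 hr
  have hdk : d ≠ k := fun e => hd (e ▸ huk)
  have hrk : r ≠ k := fun e => hr (e ▸ huk)
  have hP : f r * u r ≠ 0 := mul_ne_zero hfr hr
  set P := f r * u r with hPdef
  -- two parameters
  obtain ⟨l, hl⟩ := exists_unit hq {1} (by simp)
  simp only [Finset.mem_singleton] at hl
  set t := (l : F) - 1 with ht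
  have ht0 : t ≠ 0 := sub_ne_zero.mpr hl
  obtain ⟨l', hl'1, hl'2, hl'3⟩ : ∃ l' : Fˣ, (l' : F) ≠ 1 ∧ (l : F) * l' ≠ 1 ∧
      1 - (l : F) * l' + t * ((l' : F) - 1) * P ≠ 0 := by
    by_cases hco : t * P - (l : F) = 0
    · obtain ⟨l', hl'⟩ := exists_unit hq {1, (l : F)⁻¹} (Finset.card_le_two.trans (by norm_num))
      simp only [Finset.mem_insert, Finset.mem_singleton, not_or] at hl'
      refine ⟨l', hl'.1, fun e => hl'.2 (eq_inv_of_mul_eq_one_right e), fun e => hl ?_⟩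
      linear_combination ((l' : F) - 1) * hco - e
    · obtain ⟨l', hl'⟩ := exists_unit hq {1, (l : F)⁻¹, (t * P - 1) / (t * P - (l : F))} Finset.card_le_three
      simp only [Finset.mem_insert, Finset.mem_singleton, not_or] at hl'
      refine ⟨l', hl'.1, fun e => hl'.2.1 (eq_inv_of_mul_eq_one_right e), fun e => hl'.2.2 ?_⟩
      rw [eq_div_iff hco]
      linear_combination e
  set t' := (l' : F) - 1 with ht'
  have ht'0 : t' ≠ 0 := sub_ne_zero.mpr hl'1
  set e₀ := (1 - (l : F) * l') / (t * t' * P) with he₀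
  have hne : t * t' * P ≠ 0 := mul_ne_zero (mul_ne_zero ht0 ht'0) hP
  have he₀mul : e₀ * (t * t' * P) = 1 - (l : F) * l' := div_mul_cancel₀ _ hne
  have he₀0 : e₀ ≠ 0 := div_ne_zero (sub_ne_zero.mpr (Ne.symm hl'2)) hne
  have hτ : 1 + e₀ ≠ 0 := fun e => hl'3 (by linear_combination (t * t' * P) * e - he₀mul)
  obtain ⟨R₁, hR₁, hR₁a⟩ := h.2 l
  obtain ⟨R₂, hR₂, hR₂a⟩ := h.2 l'
  obtain ⟨S₁, hS₁, hS₁a⟩ := h.2 l⁻¹
  obtain ⟨S₂, hS₂, hS₂a⟩ := h.2 l'⁻¹
  have hRS : ∀ (l : Fˣ) (R S : GL κ F), (∀ x, (R : Mat) *ᵥ x = x + (((l : F) - 1) * (f ⬝ᵥ x)) • u) →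
      (∀ x, (S : Mat) *ᵥ x = x + ((((l⁻¹ : Fˣ) : F) - 1) * (f ⬝ᵥ x)) • u) → S * R = 1 := by
    intro l R S hRa hSa
    refine Units.ext (Matrix.ext_iff_mulVec.2 fun x => ?_)
    rw [Units.val_mul, ← mulVec_mulVec, hRa, hSa, dotProduct_add, dotProduct_smul, h.1, Units.val_one,
      one_mulVec, smul_eq_mul, Units.val_inv_eq_inv_val]
    have := l.ne_zero
    match_scalars
    field_simp
    grind
  set T := oneDiag r (Units.mk0 _ hτ) with hT
  set T' := oneDiag r (Units.mk0 _ hτ)⁻¹ with hT'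
  have hTT : T' * T = 1 := by
    refine Units.ext ?_
    rw [Units.val_mul, Units.val_one, hT, hT', oneDiag, oneDiag]
    show monMat _ _ * monMat _ _ = _
    rw [monMat_mul, mul_one, ← monMat_one]
    congr 1
    funext x
    simp only [Equiv.Perm.coe_one, id_eq]
    by_cases hx : x = r <;> simp [hx, hτ]
  set b := R₁ * T * R₂ with hb'
  have hb : b ∈ leviParts M k :=
    Subgroup.mul_mem _ (Subgroup.mul_mem _ hR₁ (oneDiag_mem hM hrk _)) hR₂
  have hbinv : (b⁻¹ : GL κ F) = S₂ * T' * S₁ := by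
    refine inv_eq_of_mul_eq_one_left ?_
    rw [hb', show S₂ * T' * S₁ * (R₁ * T * R₂) = S₂ * (T' * (S₁ * R₁) * T) * R₂ by simp only [mul_assoc],
      hRS l R₁ S₁ hR₁a hS₁a, mul_one, hTT, mul_one, hRS l' R₂ S₂ hR₂a hS₂a]
  have hh := homologyIn_conj (homologyIn_unit hM hdk) hb
  have hbk : ∀ g ∈ leviParts M k, ∀ x : V, x k = 0 → ((g : Mat) *ᵥ x) k = 0 := by
    rintro g ⟨_, -, -, hg, -, -⟩ x hx
    rw [hg x, hx]
  have hvk : (ε⟦d⟧ ᵥ* ((b⁻¹ : GL κ F) : Mat)) k = 0 := by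
    obtain ⟨_, -, hb1, -, -, -⟩ := (leviParts M k).inv_mem hb
    rw [← dotProduct_single_one (ε⟦d⟧ ᵥ* ((b⁻¹ : GL κ F) : Mat)) k, ← dotProduct_mulVec, hb1]
    simp [Ne.symm hdk]
  refine levi_root_of_pattern hq hM (hbk b hb _ (by simp [Ne.symm hdk])) hvk hh (c := c) (Or.inl ⟨?_, ?_⟩)
  · have e2 : (ε⟦d⟧ : V) r = 0 := Pi.single_eq_of_ne hrd 1
    have e3 : (ε⟦d⟧ : V) c = 0 := Pi.single_eq_of_ne hcd 1
    have e4 : (ε⟦r⟧ : V) c = 0 := Pi.single_eq_of_ne (Ne.symm hrc) 1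
    simp only [hb', Units.val_mul, ← mulVec_mulVec, hR₁a, hR₂a, hT, oneDiag_mulVec, dotProduct_add,
      dotProduct_smul, h.1, Pi.add_apply, Pi.smul_apply, smul_eq_mul, Units.val_mk0, e2, e3, e4,
      dotProduct_single, mul_one, add_sub_cancel_left]
    linear_combination (f d * u c) * he₀mul + (f d * u c) * (1 : F) * (congrArg (fun z : F => 0 * z) hPdef)
  · rw [hbinv, show ∀ A : Mat, (ε⟦d⟧ ᵥ* A) c = (A *ᵥ ε⟦c⟧) d from fun A => by simp]
    have e2 : (ε⟦c⟧ : V) r = 0 := Pi.single_eq_of_ne hrc 1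
    have e3 : (ε⟦c⟧ : V) d = 0 := Pi.single_eq_of_ne (Ne.symm hcd) 1
    have e4 : (ε⟦r⟧ : V) d = 0 := Pi.single_eq_of_ne (Ne.symm hrd) 1
    simp only [Units.val_mul, ← mulVec_mulVec, hS₁a, hS₂a, hT', oneDiag_mulVec, dotProduct_add,
      dotProduct_smul, h.1, Pi.add_apply, Pi.smul_apply, smul_eq_mul, Units.val_inv_eq_inv_val,
      Units.val_mk0, e2, e3, e4, dotProduct_single, mul_one]
    have key : f c * u d * ((1 - (l : F) * l') * e₀) ≠ 0 :=
      mul_ne_zero (mul_ne_zero hfc hd) (mul_ne_zero (sub_ne_zero.mpr (Ne.symm hl'2)) he₀0)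
    intro h0
    refine key ?_
    have := l.ne_zero
    have := l'.ne_zero
    rw [ht, ht', hPdef] at he₀mul
    field_simp at h0
    linear_combination h0 + (f c * u d) * he₀mul

/-- The translation part of an element acting as a given one outside `k`. -/
theorem exists_translation {M : Subgroup (GL κ F)} (hMS : ∀ g ∈ M, (g : Mat).det = 1) {k : κ} {h L : GL κ F}
    (hh : h ∈ M) (hL : IsLevi k h L) (hdet : (L : Mat).det = 1) :
    ∃ W : V, W k = 0 ∧ h = L * tv ε⟦k⟧ W := by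
  obtain ⟨h1, h2, ⟨α, h3⟩, h4⟩ := hL
  set m := L⁻¹ * h with hm
  have hLi : ((L⁻¹ : GL κ F) : Mat) *ᵥ ε⟦k⟧ = ε⟦k⟧ := by
    conv_lhs => rw [← h1]
    rw [mulVec_mulVec, Units.inv_mul, one_mulVec]
  set W : V := fun r => (m : Mat) k r - (if r = k then 1 else 0) with hW
  have hrow : ∀ p, p ≠ k → ∀ x, ((m : Mat) *ᵥ x) p = x p := fun p hp x => by
    rw [hm, Units.val_mul, ← mulVec_mulVec,
      mulVec_congr_of_ne hLi (y := (L : Mat) *ᵥ x) (h4 x) hp, mulVec_mulVec, Units.inv_mul, one_mulVec]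
  have hmeq : (m : Mat) = 1 + vecMulVec ε⟦k⟧ W := by
    ext p r
    rw [Matrix.add_apply, vecMulVec_apply, Matrix.one_apply]
    by_cases hp : p = k
    · subst hp; simp [hW, eq_comm]
    · have := hrow p hp ε⟦r⟧
      simp only [mulVec_single_one, col_apply] at this
      rw [this, Pi.single_apply]
      simp [hp]
  have hWk : W k = 0 := by
    have h5 : (m : Mat).det = 1 := by
      rw [hm, Units.val_mul, det_mul, hMS h hh, mul_one]
      have := congrArg Matrix.det L.inv_mul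
      rw [det_mul, det_one, hdet, mul_one] at this
      exact this
    rw [hmeq, vecMulVec_eq Unit, det_one_add_replicateCol_mul_replicateRow] at h5
    simpa using h5
  refine ⟨W, hWk, ?_⟩
  rw [show tv ε⟦k⟧ W = m from Units.ext (by rw [tv_coe (by simp [hWk]), hmeq]), hm, mul_inv_cancel_left]

/-- Lifting an element whose Levi part is elementary or trivial. -/
theorem root_of_levi (hκ : 4 ≤ Fintype.card κ) (hq : 5 ≤ Fintype.card F) {M : Subgroup (GL κ F)}
    (hM : MonoIn M) (hMS : ∀ g ∈ M, (g : Mat).det = 1) {k i j : κ} (hij : i ≠ j) (hik : i ≠ k) (hjk : j ≠ k)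
    {s : F} {h : GL κ F} (hh : h ∈ M) (hh1 : h ≠ 1) {W : V} (hWk : W k = 0)
    (heq : h = tv (s • ε⟦i⟧) ε⟦j⟧ * tv ε⟦k⟧ W) : ∃ p r, p ≠ r ∧ RootIn M ε⟦p⟧ ε⟦r⟧ := by
  classical
  by_cases hW : W = 0
  · rw [hW, tv_zero_right, mul_one] at heq
    subst heq
    have hs : s ≠ 0 := fun e => hh1 (by rw [e, zero_smul, tv_zero_left])
    exact ⟨i, j, hij, root_of_elementary hκ hM hij hs hh⟩
  obtain ⟨l, hl⟩ := exists_unit hq {1, -1} (Finset.card_le_two.trans (by norm_num))
  simp only [Finset.mem_insert, Finset.mem_singleton, not_or] at hl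
  obtain ⟨z, hz⟩ := exists_outside₄ hκ {i, j, k} (Finset.card_le_three.trans (by norm_num))
  simp only [Finset.mem_insert, Finset.mem_singleton, not_or] at hz
  set t := pairDiag k z l with ht
  have htM : t ∈ M := pairDiag_mem hM (Ne.symm hz.2.2) l
  have e1 : (t : Mat) *ᵥ (s • ε⟦i⟧) = s • ε⟦i⟧ := by
    funext x
    rw [ht, pairDiag_mulVec]
    by_cases hx : x = i
    · subst hx; simp [hik, Ne.symm hz.1]
    · simp [hx]
  have e2 : ε⟦j⟧ ᵥ* ((t⁻¹ : GL κ F) : Mat) = ε⟦j⟧ := by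
    funext x
    rw [ht, vecMul_pairDiag_inv]
    by_cases hx : x = j
    · subst hx; simp [hjk, Ne.symm hz.2.1]
    · simp [hx]
  have e3 : (t : Mat) *ᵥ ε⟦k⟧ = (l : F) • ε⟦k⟧ := by
    funext x
    rw [ht, pairDiag_mulVec]
    by_cases hx : x = k
    · subst hx; simp
    · simp [hx]
  set W' := (l : F) • (W ᵥ* ((t⁻¹ : GL κ F) : Mat)) with hW'
  have hW'k : W' k = 0 := by rw [hW', Pi.smul_apply, ht, vecMul_pairDiag_inv, hWk]; simp
  have hconj : h⁻¹ * (t * h * t⁻¹) = tv ε⟦k⟧ (W' - W) := by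
    have e4 : t * h * t⁻¹ = tv (s • ε⟦i⟧) ε⟦j⟧ * tv ε⟦k⟧ W' := by
      rw [heq, show t * (tv (s • ε⟦i⟧) ε⟦j⟧ * tv ε⟦k⟧ W) * t⁻¹ =
        (t * tv (s • ε⟦i⟧) ε⟦j⟧ * t⁻¹) * (t * tv ε⟦k⟧ W * t⁻¹) by group, conj_tv, conj_tv, e1, e2, e3,
        hW', tv_smul_right]
    rw [e4, heq, _root_.mul_inv_rev, mul_assoc, inv_mul_cancel_left, tv_inv, ← tv_neg_right,
      tv_mul_right (by simp [hWk]) (by simp [hW'k]), neg_add_eq_sub]
  refine root_of_centre hκ hq hM (k := k) (W := W' - W) (by simp [hW'k, hWk]) (fun h0 => hW (funext fun x => ?_))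
    (hconj ▸ M.mul_mem (M.inv_mem hh) (M.mul_mem (M.mul_mem htM hh) (M.inv_mem htM)))
  have := congrFun h0 x
  rw [Pi.sub_apply, hW', Pi.smul_apply, ht, vecMul_pairDiag_inv, smul_eq_mul, Pi.zero_apply] at this
  by_cases hxk : x = k
  · rw [hxk]; exact hWk
  rw [if_neg hxk] at this
  have hl0 := l.ne_zero
  by_cases hxz : x = z
  · rw [if_pos hxz, inv_inv] at this
    have h6 : ((l : F) - 1) * ((l : F) + 1) * W x = 0 := by linear_combination this
    simpa [sub_eq_zero, hl.1, add_eq_zero_iff_eq_neg, hl.2] using h6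
  · rw [if_neg hxz, inv_one, mul_one] at this
    have h6 : ((l : F) - 1) * W x = 0 := by linear_combination this
    simpa [sub_eq_zero, hl.1] using h6

/-- A non-monomial element fixing a line gives an elementary root group. -/
theorem root_of_fix_point (hκ : 4 ≤ Fintype.card κ) (hq : 5 ≤ Fintype.card F) {M : Subgroup (GL κ F)}
    (hM : MonoIn M) (hMS : ∀ g ∈ M, (g : Mat).det = 1) {g : GL κ F} (hg : g ∈ M) (hg' : ¬ Mono g)
    {k : κ} {α : F} (hk : (g : Mat) *ᵥ ε⟦k⟧ = α • ε⟦k⟧) :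
    ∃ p r, p ≠ r ∧ RootIn M ε⟦p⟧ ε⟦r⟧ := by
  classical
  have hfin : (∃ i j, i ≠ j ∧ i ≠ k ∧ j ≠ k ∧ ∃ s : F, s ≠ 0 ∧ tv (s • ε⟦i⟧) ε⟦j⟧ ∈ leviParts M k) →
      ∃ p r, p ≠ r ∧ RootIn M ε⟦p⟧ ε⟦r⟧ := by
    rintro ⟨i, j, hij, hik, hjk, s, hs, h, hh, hL⟩
    have hd := tv_mem_specialLinear (s • ε⟦i⟧) (ε⟦j⟧ : V)
    rw [specialLinear, MonoidHom.mem_ker, Units.ext_iff] at hd
    obtain ⟨W, hWk, heq⟩ := exists_translation hMS hh hL hd
    refine root_of_levi hκ hq hM hMS hij hik hjk hh ?_ hWk heq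
    intro h0
    have e := hL.2.2.2 ε⟦j⟧ i hik
    rw [h0, Units.val_one, one_mulVec, tv_mulVec (by simp [hij])] at e
    simp [hij] at e
    exact hs e.symm
  have hα : α ≠ 0 := by
    rintro rfl
    rw [zero_smul] at hk
    have := congrArg (fun y => ((g⁻¹ : GL κ F) : Mat) *ᵥ y) hk
    simp only [mulVec_mulVec, Units.inv_mul, one_mulVec, mulVec_zero] at this
    simpa using congrFun this k
  -- the Levi part
  set L₀ : Mat := Matrix.of fun p r => if p = k then (if r = k then 1 else 0) else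
    if r = k then 0 else (g : Mat) p r with hL₀
  have hgk : ∀ p, p ≠ k → (g : Mat) p k = 0 := fun p hp => by
    have := congrFun hk p
    simpa [hp] using this
  have hL₀v : ∀ x p, p ≠ k → (L₀ *ᵥ x) p = ((g : Mat) *ᵥ x) p := fun x p hp => by
    refine Finset.sum_congr rfl fun r _ => ?_
    simp only [hL₀, of_apply, if_neg hp]
    by_cases hr : r = k
    · subst hr; simp [hgk p hp]
    · rw [if_neg hr]
  have hL₀k : ∀ x, (L₀ *ᵥ x) k = x k := fun x => by
    show ∑ r, L₀ k r * x r = x k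
    simp [hL₀]
  have hL₀e : L₀ *ᵥ ε⟦k⟧ = ε⟦k⟧ := by
    funext p
    by_cases hp : p = k
    · subst hp; rw [hL₀k]
    · rw [hL₀v _ _ hp, hk]; simp [hp]
  have hinj : Function.Injective L₀.mulVec := by
    intro x y hxy
    have e1 : x k = y k := by rw [← hL₀k x, ← hL₀k y, hxy]
    have e2 : ∀ p, p ≠ k → ((g : Mat) *ᵥ (x - y)) p = 0 := fun p hp => by
      rw [mulVec_sub, Pi.sub_apply, ← hL₀v x p hp, ← hL₀v y p hp, hxy, sub_self]
    set z := (g : Mat) *ᵥ (x - y) with hz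
    have e3 : (g : Mat) *ᵥ (x - y - (z k / α) • ε⟦k⟧) = 0 := by
      rw [mulVec_sub _ (x - y), mulVec_smul, hk, smul_smul, div_mul_cancel₀ _ hα, ← hz]
      funext p
      by_cases hp : p = k
      · subst hp; simp
      · simp [hp, e2 p hp]
    have e4 := congrArg (fun w => ((g⁻¹ : GL κ F) : Mat) *ᵥ w) e3
    simp only [mulVec_mulVec, Units.inv_mul, one_mulVec, mulVec_zero] at e4
    have e5 : z k / α = 0 := by simpa [e1] using congrFun e4 k
    rwa [e5, zero_smul, sub_zero, sub_eq_zero] at e4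
  set L : GL κ F := (mulVec_injective_iff_isUnit.mp hinj).unit
  have hLv : (L : Mat) = L₀ := rfl
  have hLN : L ∈ leviParts M k := ⟨g, hg, by rw [hLv]; exact hL₀e, fun x => by rw [hLv]; exact hL₀k x,
    ⟨α, hk⟩, fun x p hp => by rw [hLv, hL₀v x p hp]⟩
  by_cases hmono : ∀ d, d ≠ k → ∃ p, ∀ x, x ≠ p → (L₀ *ᵥ ε⟦d⟧) x = 0
  · -- monomial Levi part: a translation
    have hall : ∀ d, ∃ p, ∀ x, x ≠ p → (L₀ *ᵥ ε⟦d⟧) x = 0 := fun d => by
      by_cases hd : d = k
      · subst hd; exact ⟨d, fun x hx => by rw [hL₀e]; simp [hx]⟩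
      · exact hmono d hd
    choose π hπ using hall
    have hπ0 : ∀ d, (L₀ *ᵥ ε⟦d⟧) (π d) ≠ 0 := fun d h0 => by
      have hz : L₀ *ᵥ ε⟦d⟧ = L₀ *ᵥ 0 := by
        rw [mulVec_zero]; funext x
        by_cases hx : x = π d
        · subst hx; exact h0
        · exact hπ d x hx
      simpa using congrFun (hinj hz) d
    have hπinj : Function.Injective π := by
      intro d d' he
      by_contra hne
      set a := (L₀ *ᵥ ε⟦d⟧) (π d)
      set a' := (L₀ *ᵥ ε⟦d'⟧) (π d)
      have hz : L₀ *ᵥ (a' • ε⟦d⟧) = L₀ *ᵥ (a • ε⟦d'⟧) := by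
        funext x
        rw [mulVec_smul, mulVec_smul, Pi.smul_apply, Pi.smul_apply]
        by_cases hx : x = π d
        · subst hx; exact mul_comm a' a
        · rw [hπ d x hx, hπ d' x (he ▸ hx), smul_zero, smul_zero]
      have := congrFun (hinj hz) d'
      simp [Ne.symm hne] at this
      exact hπ0 d this.symm
    set σ := Equiv.ofBijective π (Finite.injective_iff_bijective.mp hπinj)
    have hσ : ∀ d, σ d = π d := fun _ => rfl
    have hσk : σ k = k := by
      rw [hσ]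
      by_contra hne
      exact hπ0 k (by rw [hL₀e]; simp [hne])
    set δ : κ → Fˣ := fun d => Units.mk0 _ (hπ0 d)
    have hδk : δ k = 1 := Units.ext (by
      show (L₀ *ᵥ ε⟦k⟧) (π k) = 1
      rw [← hσ, hσk, hL₀e]; simp)
    have heq : L = monEl σ δ := by
      refine Units.ext (Matrix.ext fun p r => ?_)
      rw [hLv, monEl_apply]
      have e : L₀ p r = (L₀ *ᵥ ε⟦r⟧) p := by simp
      rw [e]
      by_cases hx : p = π r
      · subst hx; simp [hσ, δ]
      · rw [hπ r p hx, if_neg (by rwa [hσ])]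
    obtain ⟨m, hm, hmmono, hmL⟩ := exists_mono_lift hM σ hσk δ hδk
    have hgL : IsLevi k g L :=
      ⟨by rw [hLv]; exact hL₀e, fun x => by rw [hLv]; exact hL₀k x, ⟨α, hk⟩,
        fun x p hp => by rw [hLv, hL₀v x p hp]⟩
    rw [← heq] at hmL
    have hL1 := hmL.inv.mul hgL
    rw [inv_mul_cancel] at hL1
    obtain ⟨W, hWk, hW⟩ := exists_translation hMS (M.mul_mem (M.inv_mem hm) hg) hL1 (by simp)
    rw [one_mul] at hW
    refine root_of_centre hκ hq hM hWk (fun h0 => hg' ?_) (hW ▸ M.mul_mem (M.inv_mem hm) hg)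
    rw [h0, tv_zero_right, inv_mul_eq_one] at hW
    rwa [← hW]
  · push Not at hmono
    obtain ⟨d, hdk, hd⟩ := hmono
    refine hfin ?_
    have hh := homologyIn_conj (homologyIn_unit hM hdk) hLN
    set u := (L : Mat) *ᵥ ε⟦d⟧ with hu
    set f := ε⟦d⟧ ᵥ* ((L⁻¹ : GL κ F) : Mat) with hf
    have huk : u k = 0 := by rw [hu, hLv, hL₀k]; simp [Ne.symm hdk]
    have hfk : f k = 0 := by
      obtain ⟨_, -, hb1, -, -, -⟩ := (leviParts M k).inv_mem hLN
      rw [hf, ← dotProduct_single_one (ε⟦d⟧ ᵥ* ((L⁻¹ : GL κ F) : Mat)) k, ← dotProduct_mulVec, hb1]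
      simp [Ne.symm hdk]
    by_cases hpat : ∃ p, (u p = 0 ∧ f p ≠ 0) ∨ (u p ≠ 0 ∧ f p = 0)
    · obtain ⟨p, hp⟩ := hpat
      exact levi_root_of_pattern hq hM huk hfk hh hp
    push Not at hpat
    obtain ⟨c, -, hc⟩ := hd k
    obtain ⟨e, hec, he⟩ := hd c
    rw [← hLv, ← hu] at hc he
    obtain ⟨r, hr⟩ := exists_outside₄ hκ {c, e, k} (Finset.card_le_three.trans (by norm_num))
    simp only [Finset.mem_insert, Finset.mem_singleton, not_or] at hr
    by_cases hur : u r = 0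
    swap
    · exact levi_root_of_three hq hM huk hfk hh (Ne.symm hec) hr.1 hr.2.1 hc he hur
    have hck : c ≠ k := fun h => hc (h ▸ huk)
    have hek : e ≠ k := fun h => he (h ▸ huk)
    have hfr : f r = 0 := (hpat r).1 hur
    -- spread to three coordinates
    by_contra hno
    set π := monEl (Equiv.swap c r) (fun _ => (1 : Fˣ)) with hπ
    have hπN : π ∈ leviParts M k :=
      monEl_mem_leviParts hM _ (Equiv.swap_apply_of_ne_of_ne (Ne.symm hck) (Ne.symm hr.2.2)) _ rfl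
    have hh' := homologyIn_conj hh hπN
    set u' := (π : Mat) *ᵥ u with hu'
    set f' := f ᵥ* ((π⁻¹ : GL κ F) : Mat) with hf'
    have hu'v : ∀ x, u' x = u (Equiv.swap c r x) := fun x => by rw [hu', hπ, monEl_mulVec]; simp
    have hf'v : ∀ x, f' x = f (Equiv.swap c r x) := fun x => by rw [hf', hπ, vecMul_monEl_inv]; simp
    set P := f' ⬝ᵥ u with hP
    have hsupp : ∀ x, x ≠ c → x ≠ e → u x = 0 ∨ f' x = 0 := by
      intro x hxc hxe
      by_cases hxr : x = r
      · exact Or.inl (hxr ▸ hur)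
      · by_cases hux : u x = 0
        · exact Or.inl hux
        · exact absurd (levi_root_of_three hq hM huk hfk hh (Ne.symm hec) hxc hxe hc he hux) hno
    have hP0 : P ≠ 0 := by
      rw [hP, dotProduct, Finset.sum_eq_single e]
      · rw [hf'v, Equiv.swap_apply_of_ne_of_ne hec (Ne.symm hr.2.1)]
        exact mul_ne_zero ((hpat e).2 he) he
      · intro x _ hxe
        by_cases hxc : x = c
        · subst hxc; rw [hf'v, Equiv.swap_apply_left, hfr, zero_mul]
        · rcases hsupp x hxc hxe with h | h <;> simp [h]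
      · exact fun h => absurd (Finset.mem_univ e) h
    obtain ⟨l, hl⟩ := exists_unit hq {1, 1 - P⁻¹} (Finset.card_le_two.trans (by norm_num))
    simp only [Finset.mem_insert, Finset.mem_singleton, not_or] at hl
    obtain ⟨R, hR, hRa⟩ := hh'.2 l
    have hh'' := homologyIn_conj hh hR
    have hw : ∀ x, ((R : Mat) *ᵥ u) x = u x + ((l : F) - 1) * P * u' x := fun x => by
      rw [hRa]; simp [hP]
    refine hno (levi_root_of_three hq hM ?_ ?_ hh'' (Ne.symm hec) hr.1 hr.2.1 ?_ ?_ ?_)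
    · obtain ⟨_, -, -, hb2, -, -⟩ := hR
      rw [hb2, huk]
    · obtain ⟨_, -, hb1, -, -, -⟩ := (leviParts M k).inv_mem hR
      rw [← dotProduct_single_one (f ᵥ* ((R⁻¹ : GL κ F) : Mat)) k, ← dotProduct_mulVec, hb1]
      simp [hfk]
    · rw [hw, hu'v, Equiv.swap_apply_left, hur, mul_zero, add_zero]; exact hc
    · rw [hw, hu'v, Equiv.swap_apply_of_ne_of_ne hec (Ne.symm hr.2.1)]
      intro h0
      refine hl.2 ?_
      have h7 : u e * (1 + ((l : F) - 1) * P) = 0 := by linear_combination h0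
      have h8 := (mul_eq_zero.mp h7).resolve_left he
      field_simp
      linear_combination h8
    · rw [hw, hu'v, Equiv.swap_apply_right, hur, zero_add]
      exact mul_ne_zero (mul_ne_zero (sub_ne_zero.mpr hl.1) hP0) hc

/-! ### The dual group -/

/-- `M` contains an elementary root group. -/
def HasRoot (M : Subgroup (GL κ F)) : Prop := ∃ p r, p ≠ r ∧ RootIn M ε⟦p⟧ ε⟦r⟧

/-- Inverse transpose. -/
def dualHom : GL κ F →* GL κ F where
  toFun g := ⟨((g⁻¹ : GL κ F) : Mat)ᵀ, (g : Mat)ᵀ,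
    by rw [← transpose_mul, Units.mul_inv, transpose_one],
    by rw [← transpose_mul, Units.inv_mul, transpose_one]⟩
  map_one' := Units.ext (by simp)
  map_mul' g h := Units.ext (by simp [transpose_mul])

theorem dualHom_dualHom (g : GL κ F) : dualHom (dualHom g) = g :=
  Units.ext (show (g : Mat)ᵀᵀ = _ from transpose_transpose _)

/-- The image of `M` under inverse transpose. -/
abbrev dual (M : Subgroup (GL κ F)) : Subgroup (GL κ F) := M.comap dualHom

theorem dualHom_mem {M : Subgroup (GL κ F)} {g : GL κ F} (hg : g ∈ M) : dualHom g ∈ dual M := by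
  rwa [Subgroup.mem_comap, dualHom_dualHom]

theorem det_dual {M : Subgroup (GL κ F)} (hMS : ∀ g ∈ M, (g : Mat).det = 1) :
    ∀ g ∈ dual M, (g : Mat).det = 1 := fun g hg => by
  have h := hMS _ (M.inv_mem (Subgroup.mem_comap.mp hg))
  rwa [show (((dualHom g)⁻¹ : GL κ F) : Mat) = (g : Mat)ᵀ from rfl, det_transpose] at h

theorem Mono.eq_monEl {g : GL κ F} (h : Mono g) : ∃ (π : Equiv.Perm κ) (d : κ → Fˣ), g = monEl π d := by
  obtain ⟨π, hπ⟩ := h
  have hne : ∀ r, (g : Mat) (π r) r ≠ 0 := fun r h0 => by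
    have hz : (g : Mat) *ᵥ ε⟦r⟧ = 0 := by
      funext p
      rw [mulVec_single_one, col_apply, Pi.zero_apply]
      by_contra hp
      exact hp ((hπ p r hp).symm ▸ h0)
    have h1 := congrArg (fun y => ((g⁻¹ : GL κ F) : Mat) *ᵥ y) hz
    simp only [mulVec_mulVec, Units.inv_mul, one_mulVec, mulVec_zero] at h1
    simpa using congrFun h1 r
  refine ⟨π, fun r => Units.mk0 _ (hne r), Units.ext (Matrix.ext fun p r => ?_)⟩
  rw [monEl_apply]
  by_cases hp : p = π r
  · subst hp; simp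
  · rw [if_neg hp]
    by_contra h0
    exact hp (hπ p r h0)

theorem monEl_inv (σ : Equiv.Perm κ) (d : κ → Fˣ) :
    (monEl σ d)⁻¹ = monEl σ⁻¹ fun r => (d (σ⁻¹ r))⁻¹ :=
  Units.ext rfl

theorem Mono.inv {g : GL κ F} (h : Mono g) : Mono g⁻¹ := by
  obtain ⟨π, d, rfl⟩ := h.eq_monEl
  rw [monEl_inv]; exact mono_monEl _ _

theorem Mono.mul {g g' : GL κ F} (h : Mono g) (h' : Mono g') : Mono (g * g') := by
  obtain ⟨π, d, rfl⟩ := h.eq_monEl
  obtain ⟨π', d', rfl⟩ := h'.eq_monEl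
  rw [show monEl π d * monEl π' d' = monEl (π * π') (fun r => d (π' r) * d' r) from
    Units.ext (by show monMat _ _ * monMat _ _ = monMat _ _; rw [monMat_mul]; simp)]
  exact mono_monEl _ _

theorem Mono.dual {g : GL κ F} (h : Mono g) : Mono (dualHom g) := by
  obtain ⟨π, d, rfl⟩ := h.eq_monEl
  refine ⟨π, fun p r hpr => ?_⟩
  change (monMat π⁻¹ fun x => (((d (π⁻¹ x))⁻¹ : Fˣ) : F))ᵀ p r ≠ 0 at hpr
  by_contra hne
  refine hpr ?_
  rw [transpose_apply, monMat, of_apply, if_neg]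
  intro h1
  exact hne (by rw [h1]; simp)

theorem monoIn_dual {M : Subgroup (GL κ F)} (hM : MonoIn M) : MonoIn (dual M) := fun g hg hdet => by
  refine hM _ hg.dual ?_
  show ((g⁻¹ : GL κ F) : Mat)ᵀ.det = 1
  have := congrArg Matrix.det g.inv_mul
  rwa [det_mul, det_one, hdet, mul_one, ← det_transpose] at this

theorem not_mono_dual {g : GL κ F} (hg : ¬ Mono g) : ¬ Mono (dualHom g)⁻¹ := fun h => hg (by
  have := h.inv.dual
  rwa [inv_inv, dualHom_dualHom] at this)

theorem hasRoot_of_dual {M : Subgroup (GL κ F)} (h : HasRoot (dual M)) : HasRoot M := by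
  obtain ⟨p, r, hpr, -, hroot⟩ := h
  refine ⟨r, p, Ne.symm hpr, by simp [Ne.symm hpr], fun c => ?_⟩
  have hm := Subgroup.mem_comap.mp (hroot (-c))
  have e : dualHom (tv ((-c) • ε⟦p⟧) ε⟦r⟧) = tv (c • ε⟦r⟧) ε⟦p⟧ := by
    refine Units.ext ?_
    show (((tv ((-c) • ε⟦p⟧) ε⟦r⟧)⁻¹ : GL κ F) : Mat)ᵀ = _
    rw [tv_inv, neg_smul, neg_neg, tv_coe (by simp [hpr]), tv_coe (by simp [Ne.symm hpr]),
      transpose_add, transpose_one, transpose_vecMulVec, vecMulVec_smul, smul_vecMulVec]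
  rwa [e] at hm

theorem root_of_fix_covec (hκ : 4 ≤ Fintype.card κ) (hq : 5 ≤ Fintype.card F) {M : Subgroup (GL κ F)}
    (hM : MonoIn M) (hMS : ∀ g ∈ M, (g : Mat).det = 1) {g : GL κ F} (hg : g ∈ M) (hg' : ¬ Mono g)
    {k : κ} {α : F} (hk : ε⟦k⟧ ᵥ* (g : Mat) = α • ε⟦k⟧) : HasRoot M := by
  refine hasRoot_of_dual (root_of_fix_point hκ hq (monoIn_dual hM) (det_dual hMS)
    ((dual M).inv_mem (dualHom_mem hg)) (not_mono_dual hg') (k := k) (α := α) ?_)
  show (g : Mat)ᵀ *ᵥ ε⟦k⟧ = α • ε⟦k⟧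
  rw [mulVec_transpose, hk]

theorem exists_perm_mem {M : Subgroup (GL κ F)} (hM : MonoIn M) (π : Equiv.Perm κ) :
    ∃ d : κ → Fˣ, monEl π d ∈ M := by
  rcases isEmpty_or_nonempty κ with hκ | ⟨⟨k⟩⟩
  · exact ⟨fun _ => 1, hM _ (mono_monEl _ _) det_isEmpty⟩
  set P : Fˣ := Units.map (Int.castRingHom F).toMonoidHom (Equiv.Perm.sign π)
  refine ⟨fun r => if r = k then P⁻¹ else 1, hM _ (mono_monEl _ _) ?_⟩
  rw [det_monEl, ← Units.coe_prod, Finset.prod_ite_eq' _ k, if_pos (Finset.mem_univ _)]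
  show ((P : Fˣ) : F) * _ = 1
  simp

/-- A column with one non-zero entry gives a root group. -/
theorem root_single_col (hκ : 4 ≤ Fintype.card κ) (hq : 5 ≤ Fintype.card F) {M : Subgroup (GL κ F)}
    (hM : MonoIn M) (hMS : ∀ g ∈ M, (g : Mat).det = 1) {g : GL κ F} (hg : g ∈ M) (hg' : ¬ Mono g)
    {c r : κ} (h : ∀ p, p ≠ r → (g : Mat) p c = 0) : HasRoot M := by
  obtain ⟨d, hd⟩ := exists_perm_mem hM (Equiv.swap r c)
  set m := monEl (Equiv.swap r c) d with hm
  refine root_of_fix_point hκ hq hM hMS (M.mul_mem hd hg) ?_ (k := c) (α := (g : Mat) r c * d r) ?_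
  · intro hmg
    refine hg' ?_
    have := (mono_monEl (Equiv.swap r c) d).inv.mul hmg
    rwa [inv_mul_cancel_left] at this
  · have e : (g : Mat) *ᵥ ε⟦c⟧ = (g : Mat) r c • ε⟦r⟧ := by
      funext p
      by_cases hp : p = r
      · subst hp; simp
      · simp [hp, h p hp]
    rw [Units.val_mul, ← mulVec_mulVec, e, mulVec_smul, hm, monEl_single, Equiv.swap_apply_left, smul_smul]

theorem root_single_row (hκ : 4 ≤ Fintype.card κ) (hq : 5 ≤ Fintype.card F) {M : Subgroup (GL κ F)}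
    (hM : MonoIn M) (hMS : ∀ g ∈ M, (g : Mat).det = 1) {g : GL κ F} (hg : g ∈ M) (hg' : ¬ Mono g)
    {k x : κ} (h : ∀ s, s ≠ x → (g : Mat) k s = 0) : HasRoot M :=
  hasRoot_of_dual (root_single_col hκ hq (monoIn_dual hM) (det_dual hMS)
    ((dual M).inv_mem (dualHom_mem hg)) (not_mono_dual hg') (c := k) (r := x) h)

/-! ### Producing zeros -/

theorem conj_diag_apply (g : GL κ F) (d : κ → Fˣ) (p r : κ) :
    ((g * monEl 1 d * g⁻¹ : GL κ F) : Mat) p r =
      (1 : Mat) p r + ∑ s, ((d s : F) - 1) * ((g : Mat) p s * ((g⁻¹ : GL κ F) : Mat) s r) := by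
  simp only [sub_mul, one_mul, Finset.sum_sub_distrib]
  rw [show ∑ s, (g : Mat) p s * ((g⁻¹ : GL κ F) : Mat) s r = (1 : Mat) p r by
    rw [← Units.mul_inv g, Matrix.mul_apply], add_sub_cancel, Units.val_mul, Units.val_mul,
    Matrix.mul_apply]
  refine Finset.sum_congr rfl fun s _ => ?_
  rw [Matrix.mul_apply, Finset.sum_eq_single s]
  · rw [monEl_apply]; simp; ring
  · intro x _ hx
    rw [monEl_apply]; simp [hx]
  · exact fun h => absurd (Finset.mem_univ _) h

theorem conj_pair_apply (g : GL κ F) {i j : κ} (hij : i ≠ j) (l : Fˣ) (p r : κ) :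
    ((g * pairDiag i j l * g⁻¹ : GL κ F) : Mat) p r = (1 : Mat) p r +
      (((l : F) - 1) * ((g : Mat) p i * ((g⁻¹ : GL κ F) : Mat) i r) +
        ((l : F)⁻¹ - 1) * ((g : Mat) p j * ((g⁻¹ : GL κ F) : Mat) j r)) := by
  rw [pairDiag, conj_diag_apply, Finset.sum_eq_add i j hij (fun s _ hs => by simp [hs.1, hs.2])
    (by simp) (by simp)]
  simp [Ne.symm hij]

/-- From an element without zero entries, an element with one. -/
theorem exists_zero_entry (hκ : 5 ≤ Fintype.card κ) {M : Subgroup (GL κ F)} (hM : MonoIn M) {g : GL κ F}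
    (hg : g ∈ M) (hG : ∀ p r, (g : Mat) p r ≠ 0) (hG' : ∀ p r, ((g⁻¹ : GL κ F) : Mat) p r ≠ 0) :
    ∃ b ∈ M, ¬ Mono b ∧ ∃ k c, (b : Mat) k c = 0 := by
  classical
  set G := (g : Mat) with hGdef
  set G' := ((g⁻¹ : GL κ F) : Mat) with hG'def
  have hinjL : ∀ x : V, x ᵥ* G = 0 → x = 0 := fun x hx => by
    have := congrArg (fun y => y ᵥ* G') hx
    simpa [hGdef, hG'def, vecMul_vecMul] using this
  have hinjR : ∀ x : V, G *ᵥ x = 0 → x = 0 := fun x hx => by
    have := congrArg (fun y => G' *ᵥ y) hx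
    simpa [hGdef, hG'def, mulVec_mulVec] using this
  obtain ⟨k, c, i, j, hkc, hz⟩ : ∃ k c i j, k ≠ c ∧ G k i * G' i c ≠ G k j * G' j c := by
    by_contra hcon
    push Not at hcon
    obtain ⟨k, -⟩ := exists_outside hκ ∅ (by simp)
    obtain ⟨k', hk'⟩ := exists_outside hκ {k} (by simp)
    obtain ⟨c, hc⟩ := exists_outside hκ {k, k'} (Finset.card_le_two.trans (by norm_num))
    simp only [Finset.mem_insert, Finset.mem_singleton, not_or] at hk' hc
    have hrows : G k' k • ε⟦k⟧ - G k k • ε⟦k'⟧ = 0 := by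
      refine hinjL _ ?_
      funext s
      have e1 := hcon k c k s (Ne.symm hc.1)
      have e2 := hcon k' c k s (Ne.symm hc.2)
      have e3 : (G k' k * G k s - G k k * G k' s) * (G' k c * G' s c) = 0 := by
        linear_combination (G k' s * G' s c) * (0 : F) - (G k' k * G' k c) * e1 + (G k k * G' k c) * e2
      simp only [sub_vecMul, smul_vecMul, single_one_vecMul, Pi.sub_apply, Pi.smul_apply, row_apply,
        smul_eq_mul, Pi.zero_apply]
      exact (mul_eq_zero.mp e3).resolve_right (mul_ne_zero (hG' _ _) (hG' _ _))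
    have := congrFun hrows k'
    simp [hk', hG] at this
  have hij : i ≠ j := fun e => hz (by rw [e])
  set zi := G k i * G' i c
  set zj := G k j * G' j c
  have hzi : zi ≠ 0 := mul_ne_zero (hG _ _) (hG' _ _)
  have hzj : zj ≠ 0 := mul_ne_zero (hG _ _) (hG' _ _)
  set l : Fˣ := Units.mk0 (zj / zi) (div_ne_zero hzj hzi) with hl
  set b := g * pairDiag i j l * g⁻¹
  refine ⟨b, M.mul_mem (M.mul_mem hg (pairDiag_mem hM hij l)) (M.inv_mem hg), ?_, k, c, ?_⟩
  swap
  · rw [conj_pair_apply g hij, Matrix.one_apply_ne hkc, zero_add]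
    show (zj / zi - 1) * zi + ((zj / zi)⁻¹ - 1) * zj = 0
    field_simp
    ring
  rintro ⟨π, hπ⟩
  have hl1 : (l : F) - 1 ≠ 0 := sub_ne_zero.mpr fun e => hz (by
    rw [hl, Units.val_mk0, div_eq_one_iff_eq hzi] at e; exact e.symm)
  have hl2 : (l : F)⁻¹ - 1 ≠ 0 := sub_ne_zero.mpr fun e => sub_ne_zero.mp hl1 (inv_eq_one.mp e)
  have hrel : ∀ p r, p ≠ r → p ≠ π r →
      ((l : F) - 1) * (G p i * G' i r) + ((l : F)⁻¹ - 1) * (G p j * G' j r) = 0 := by
    intro p r hpr hpπ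
    have : (b : Mat) p r = 0 := by
      by_contra h0
      exact hpπ (hπ p r h0)
    rwa [conj_pair_apply g hij, Matrix.one_apply_ne hpr, zero_add] at this
  set a : κ → F := fun r => -(((l : F) - 1) * G' i r) / (((l : F)⁻¹ - 1) * G' j r) with ha
  have hcol : ∀ p r, p ≠ r → p ≠ π r → G p j = a r * G p i := by
    intro p r hpr hpπ
    have := mul_ne_zero hl2 (hG' j r)
    rw [ha, div_mul_eq_mul_div, eq_div_iff this]
    linear_combination hrel p r hpr hpπ
  obtain ⟨r₀, -⟩ := exists_outside hκ ∅ (by simp)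
  obtain ⟨r₁, hr₁⟩ := exists_outside hκ {r₀, π r₀, π.symm r₀} (Finset.card_le_three.trans (by norm_num))
  simp only [Finset.mem_insert, Finset.mem_singleton, not_or] at hr₁
  obtain ⟨q, hq⟩ := exists_outside hκ {r₀, π r₀, r₁, π r₁} (Finset.card_le_four.trans (by norm_num))
  simp only [Finset.mem_insert, Finset.mem_singleton, not_or] at hq
  have heq : a r₁ = a r₀ := mul_right_cancel₀ (hG q i)
    ((hcol q r₁ hq.2.2.1 hq.2.2.2).symm.trans (hcol q r₀ hq.1 hq.2.1))
  have hall : ∀ p, G p j = a r₀ * G p i := by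
    intro p
    by_cases h0 : p = r₀ ∨ p = π r₀
    · rw [← heq]
      rcases h0 with rfl | rfl
      · exact hcol _ r₁ (Ne.symm hr₁.1) (fun e => hr₁.2.2 (by rw [e, Equiv.symm_apply_apply]))
      · exact hcol _ r₁ (Ne.symm hr₁.2.1) (fun e => hr₁.1 (π.injective e).symm)
    · push Not at h0
      exact hcol p r₀ h0.1 h0.2
  have hcomb := hinjR (a r₀ • ε⟦i⟧ - ε⟦j⟧) (by
    funext p
    simp [mulVec_sub, mulVec_smul, hall p])
  have := congrFun hcomb j
  simp [Ne.symm hij] at this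

theorem exists_kernel (A : Matrix (Fin 2) (Fin 3) F) : ∃ w : Fin 3 → F, w ≠ 0 ∧ A *ᵥ w = 0 := by
  have h := LinearMap.ker_ne_bot_of_finrank_lt (f := A.mulVecLin) (by simp)
  obtain ⟨w, hw, hw0⟩ := Submodule.exists_mem_ne_zero_of_ne_bot h
  exact ⟨w, hw0, hw⟩

/-- From an element with a zero entry, one with two zeros in a row or in a column. -/
theorem exists_two_zeros (hκ : 5 ≤ Fintype.card κ) (hq : 5 ≤ Fintype.card F) {M : Subgroup (GL κ F)}
    (hM : MonoIn M) {g : GL κ F} (hg : g ∈ M) (hg' : ¬ Mono g) {k l : κ} (hkl : (g : Mat) k l = 0) :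
    ∃ b ∈ M, ¬ Mono b ∧ ∃ k c c', c ≠ c' ∧
      ((b : Mat) k c = 0 ∧ (b : Mat) k c' = 0 ∨ (b : Mat) c k = 0 ∧ (b : Mat) c' k = 0) := by
  classical
  by_cases hrow : ∃ j, j ≠ l ∧ (g : Mat) k j = 0
  · obtain ⟨j, hjl, hj⟩ := hrow
    exact ⟨g, hg, hg', k, l, j, Ne.symm hjl, Or.inl ⟨hkl, hj⟩⟩
  push Not at hrow
  obtain ⟨a₁, h₁⟩ := exists_outside hκ {l} (by simp)
  obtain ⟨a₂, h₂⟩ := exists_outside hκ {l, a₁} (Finset.card_le_two.trans (by norm_num))
  obtain ⟨a₃, h₃⟩ := exists_outside hκ {l, a₁, a₂} (Finset.card_le_three.trans (by norm_num))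
  obtain ⟨x₀, h₀⟩ := exists_outside hκ {l, a₁, a₂, a₃} (Finset.card_le_four.trans (by norm_num))
  obtain ⟨c, hc⟩ := exists_outside hκ {k} (by simp)
  obtain ⟨c', hc'⟩ := exists_outside hκ {k, c} (Finset.card_le_two.trans (by norm_num))
  simp only [Finset.mem_insert, Finset.mem_singleton, not_or] at h₁ h₂ h₃ h₀ hc hc'
  set a : Fin 3 → κ := ![a₁, a₂, a₃] with ha
  have hainj : Function.Injective a := by
    intro x y hxy
    fin_cases x <;> fin_cases y <;> simp_all [Ne.symm h₂.2, Ne.symm h₃.2.1, Ne.symm h₃.2.2]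
  have hal : ∀ x, a x ≠ l := by intro x; fin_cases x <;> simp [ha, h₁, h₂.1, h₃.1]
  have hax₀ : ∀ x, a x ≠ x₀ := by
    intro x; fin_cases x <;> simp [ha, Ne.symm h₀.2.1, Ne.symm h₀.2.2.1, Ne.symm h₀.2.2.2]
  obtain ⟨w, hw0, hw⟩ := exists_kernel (Matrix.of fun (e : Fin 2) (x : Fin 3) =>
    (g : Mat) k (a x) * ((g⁻¹ : GL κ F) : Mat) (a x) (![c, c'] e))
  obtain ⟨σ, hσ⟩ := exists_unit hq (Finset.univ.image fun x => -(w x)⁻¹)
    (Finset.card_image_le.trans (by simp))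
  simp only [Finset.mem_image, Finset.mem_univ, true_and, not_exists] at hσ
  set W : κ → F := fun s => ∑ x, if a x = s then w x else 0 with hW
  have hWa : ∀ x, W (a x) = w x := fun x => by
    simp only [hW]
    rw [Finset.sum_eq_single x (fun y _ hy => if_neg (hainj.ne hy)) (by simp), if_pos rfl]
  have hWo : ∀ s, (∀ x, a x ≠ s) → W s = 0 := fun s hs => Finset.sum_eq_zero fun x _ => if_neg (hs x)
  have hne : ∀ s, 1 + (σ : F) * W s ≠ 0 := by
    intro s h0
    by_cases hs : ∃ x, a x = s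
    · obtain ⟨x, rfl⟩ := hs
      rw [hWa] at h0
      refine hσ x ?_
      have hwx : w x ≠ 0 := fun e => by simp [e] at h0
      field_simp
      linear_combination -h0
    · rw [hWo s (by simpa using hs)] at h0; simp at h0
  set d₀ : κ → Fˣ := fun s => Units.mk0 _ (hne s) with hd₀
  set P : Fˣ := ∏ s, d₀ s with hP
  set d : κ → Fˣ := fun s => if s = l then P⁻¹ else d₀ s with hd
  have hWl : W l = 0 := hWo l hal
  have hprod : ∏ s, d s = 1 := by
    rw [← Finset.mul_prod_erase _ d (Finset.mem_univ l), show d l = P⁻¹ from if_pos rfl,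
      Finset.prod_congr rfl (g := d₀) (fun s hs => if_neg (Finset.ne_of_mem_erase hs)), hP,
      ← Finset.mul_prod_erase _ d₀ (Finset.mem_univ l),
      show d₀ l = 1 from Units.ext (by simp [hd₀, hWl]), one_mul, inv_mul_cancel]
  set b := g * monEl 1 d * g⁻¹ with hb
  have hbM : b ∈ M := M.mul_mem (M.mul_mem hg (hM _ (mono_monEl _ _)
    (by rw [det_monEl, ← Units.coe_prod, hprod]; simp))) (M.inv_mem hg)
  have hd' : ∀ s, s ≠ l → (d s : F) = 1 + (σ : F) * W s := fun s hs => by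
    simp [hd, hd₀, hs]
  by_cases hmono : Mono b
  swap
  · have hzero : ∀ e : Fin 2, (![c, c'] e) ≠ k → (b : Mat) k (![c, c'] e) = 0 := by
      intro e he
      rw [hb, conj_diag_apply, Matrix.one_apply_ne (Ne.symm he), zero_add]
      have h5 : ∀ s, ((d s : F) - 1) * ((g : Mat) k s * ((g⁻¹ : GL κ F) : Mat) s (![c, c'] e)) =
          (σ : F) * ∑ x, if a x = s then
            w x * ((g : Mat) k (a x) * ((g⁻¹ : GL κ F) : Mat) (a x) (![c, c'] e)) else 0 := by
        intro s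
        by_cases hs : s = l
        · subst hs; simp [hkl, hal]
        · rw [hd' s hs, add_sub_cancel_left, mul_assoc, hW, Finset.sum_mul]
          congr 1
          refine Finset.sum_congr rfl fun x _ => ?_
          by_cases hx : a x = s
          · rw [if_pos hx, if_pos hx, hx]
          · rw [if_neg hx, if_neg hx, zero_mul]
      rw [Finset.sum_congr rfl fun s _ => h5 s, ← Finset.mul_sum, Finset.sum_comm,
        Finset.sum_congr rfl fun x _ => Finset.sum_ite_eq Finset.univ (a x) _]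
      have := congrFun hw e
      simp only [Matrix.mulVec, dotProduct, of_apply, Pi.zero_apply] at this
      simp only [Finset.mem_univ, if_true]
      rw [show ∑ x, w x * ((g : Mat) k (a x) * ((g⁻¹ : GL κ F) : Mat) (a x) (![c, c'] e)) = 0 by
        rw [← this]; exact Finset.sum_congr rfl fun x _ => mul_comm _ _, mul_zero]
    exact ⟨b, hbM, hmono, k, c, c', Ne.symm hc'.2, Or.inl ⟨hzero 0 hc, hzero 1 hc'.1⟩⟩
  obtain ⟨π, δ, hπ⟩ := hmono.eq_monEl
  have hrowk : ∀ s, (g : Mat) k s * d s = δ (π.symm k) * (g : Mat) (π.symm k) s := by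
    intro s
    have e : b * g = g * monEl 1 d := by rw [hb]; group
    have e' := congrArg (fun h : GL κ F => (h : Mat) k s) e
    simp only [Units.val_mul] at e'
    rw [Matrix.mul_apply, Matrix.mul_apply, hπ, Finset.sum_eq_single (π.symm k),
      Finset.sum_eq_single s] at e'
    · rw [monEl_apply, monEl_apply] at e'
      simp at e'
      exact e'.symm
    · intro x _ hx; rw [monEl_apply]; simp [hx]
    · simp
    · intro x _ hx
      rw [monEl_apply, if_neg (fun h => hx (by rw [h, Equiv.symm_apply_apply])), zero_mul]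
    · simp
  refine ⟨g, hg, hg', l, k, π.symm k, ?_, Or.inr ⟨hkl, ?_⟩⟩
  · intro hfix
    obtain ⟨x, hx⟩ : ∃ x, w x ≠ 0 := Function.ne_iff.mp hw0
    have e0 := hrowk x₀
    have ex := hrowk (a x)
    rw [← hfix, hd' x₀ h₀.1, hWo x₀ hax₀, mul_zero, add_zero, mul_one] at e0
    rw [← hfix, hd' (a x) (hal x), hWa] at ex
    have hδ : (δ k : F) = 1 := by
      have : ((δ k : F) - 1) * (g : Mat) k x₀ = 0 := by linear_combination -e0
      exact sub_eq_zero.mp ((mul_eq_zero.mp this).resolve_right (hrow x₀ h₀.1))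
    rw [hδ] at ex
    have : (g : Mat) k (a x) * ((σ : F) * w x) = 0 := by linear_combination ex
    simp [hrow _ (hal x), hx] at this
  · have := hrowk l
    rw [hkl, zero_mul] at this
    exact (mul_eq_zero.mp this.symm).resolve_left (δ _).ne_zero

/-! ### Two zeros in a row -/

theorem exists_unit_six (hq : 5 ≤ Fintype.card F) :
    ∃ l : Fˣ, (l : F) ^ 2 ≠ 1 ∧ (l : F) ^ 3 ≠ 1 := by
  classical
  obtain ⟨l, hl⟩ := IsCyclic.exists_ofOrder_eq_natCard (α := Fˣ)
  have hord : 4 ≤ orderOf l := by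
    rw [hl, Nat.card_eq_fintype_card, Fintype.card_units]; omega
  refine ⟨l, fun h => ?_, fun h => ?_⟩
  · have := Nat.le_of_dvd two_pos (orderOf_dvd_of_pow_eq_one (Units.ext (by simpa using h) : l ^ 2 = 1))
    omega
  · have := Nat.le_of_dvd three_pos (orderOf_dvd_of_pow_eq_one (Units.ext (by simpa using h) : l ^ 3 = 1))
    omega

/-- Two zeros in a row confine two columns to a coordinate plane. -/
theorem pair_zero (hκ : 5 ≤ Fintype.card κ) (hq : 5 ≤ Fintype.card F) {M : Subgroup (GL κ F)}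
    (hM : MonoIn M) (hMS : ∀ g ∈ M, (g : Mat).det = 1) {g : GL κ F} (hg : g ∈ M) (hg' : ¬ Mono g)
    {k c c' : κ} (hcc : c ≠ c') (h1 : (g : Mat) k c = 0) (h2 : (g : Mat) k c' = 0) :
    HasRoot M ∨ ∃ r r', ∀ p, p ≠ r → p ≠ r' → (g : Mat) p c = 0 ∧ (g : Mat) p c' = 0 := by
  classical
  obtain ⟨l, hl2, hl3⟩ := exists_unit_six hq
  set u := g * pairDiag c c' l * g⁻¹ with hu
  have huM : u ∈ M := M.mul_mem (M.mul_mem hg (pairDiag_mem hM hcc l)) (M.inv_mem hg)
  by_cases hmono : Mono u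
  swap
  · refine Or.inl (root_of_fix_covec (by omega) hq hM hMS huM hmono (k := k) (α := 1) ?_)
    funext r
    rw [single_one_vecMul, row_apply, hu, conj_pair_apply g hcc, h1, h2]
    simp [Matrix.one_apply, Pi.single_apply, eq_comm]
  by_contra hno
  push Not at hno
  obtain ⟨hnoroot, hno⟩ := hno
  obtain ⟨σ, δ, hσ⟩ := hmono.eq_monEl
  have hl0 := l.ne_zero
  have hl1 : (l : F) ≠ 1 := fun e => hl2 (by simp [e])
  set P := (g : Mat) *ᵥ ε⟦c⟧ with hP
  set Q := (g : Mat) *ᵥ ε⟦c'⟧ with hQ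
  have heig : ∀ x : V, (u : Mat) *ᵥ ((g : Mat) *ᵥ x) =
      (g : Mat) *ᵥ (((pairDiag c c' l : GL κ F) : Mat) *ᵥ x) := fun x => by
    rw [hu, mulVec_mulVec, mulVec_mulVec, ← Units.val_mul, ← Units.val_mul, inv_mul_cancel_right]
  have hcP : ∀ p, δ (σ.symm p) * P (σ.symm p) = (l : F) * P p := fun p => by
    have := congrFun (heig ε⟦c⟧) p
    rw [← hP, hσ, monEl_mulVec] at this
    rw [this, show ((pairDiag c c' l : GL κ F) : Mat) *ᵥ ε⟦c⟧ = (l : F) • ε⟦c⟧ by
      funext x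
      rw [pairDiag_mulVec]
      by_cases hx : x = c
      · subst hx; simp
      · simp [hx], mulVec_smul, ← hP]
    simp
  have hcQ : ∀ p, δ (σ.symm p) * Q (σ.symm p) = (l : F)⁻¹ * Q p := fun p => by
    have := congrFun (heig ε⟦c'⟧) p
    rw [← hQ, hσ, monEl_mulVec] at this
    rw [this, show ((pairDiag c c' l : GL κ F) : Mat) *ᵥ ε⟦c'⟧ = (l : F)⁻¹ • ε⟦c'⟧ by
      funext x
      rw [pairDiag_mulVec]
      by_cases hx : x = c'
      · subst hx; simp [Ne.symm hcc]
      · simp [hx], mulVec_smul, ← hQ]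
    simp
  -- the image of `u - 1`
  let v : κ → V := fun r => (δ r : F) • ε⟦σ r⟧ - ε⟦r⟧
  have hv : ∀ r, ∃ a b : F, v r = a • P + b • Q := fun r => by
    refine ⟨((l : F) - 1) * ((g⁻¹ : GL κ F) : Mat) c r, ((l : F)⁻¹ - 1) * ((g⁻¹ : GL κ F) : Mat) c' r,
      funext fun p => ?_⟩
    have e := conj_pair_apply g hcc l p r
    rw [← hu, hσ, monEl_apply] at e
    have e1 : v r p = (if p = σ r then (δ r : F) else 0) - (1 : Mat) p r := by
      simp [v, Pi.single_apply, Matrix.one_apply]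
    rw [e1, e]
    simp [hP, hQ]
    ring
  have hind : ∀ a b : F, a • P + b • Q = 0 → a = 0 ∧ b = 0 := fun a b h => by
    have e : (g : Mat) *ᵥ (a • ε⟦c⟧ + b • ε⟦c'⟧) = 0 := by rw [mulVec_add, mulVec_smul, mulVec_smul]; exact h
    have := congrArg (fun y => ((g⁻¹ : GL κ F) : Mat) *ᵥ y) e
    simp only [mulVec_mulVec, Units.inv_mul, one_mulVec, mulVec_zero] at this
    exact ⟨by simpa [hcc] using congrFun this c, by simpa [Ne.symm hcc] using congrFun this c'⟩
  have hcolP : ∀ r, (∀ p, p ≠ r → P p = 0) → False := fun r h =>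
    hnoroot (root_single_col (by omega) hq hM hMS hg hg' (c := c) (r := r) fun p hp => by simpa [hP] using h p hp)
  have hcolQ : ∀ r, (∀ p, p ≠ r → Q p = 0) → False := fun r h =>
    hnoroot (root_single_col (by omega) hq hM hMS hg hg' (c := c') (r := r) fun p hp => by simpa [hQ] using h p hp)
  -- fixed points of the permutation have entry one
  have hfix : ∀ r, σ r = r → (δ r : F) = 1 := by
    intro r hr
    by_contra hne
    obtain ⟨a, b, hab⟩ := hv r
    have hx : ∀ p, p ≠ r → a * P p + b * Q p = 0 := fun p hp => by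
      have := congrFun hab p
      simpa [v, hr, hp] using this.symm
    have hx' : ∀ p, a * ((l : F) - δ r) * P p + b * ((l : F)⁻¹ - δ r) * Q p = 0 := by
      intro p
      by_cases hp : p = r
      · subst hp
        have e1 := hcP p
        have e2 := hcQ p
        rw [show σ.symm p = p by rw [Equiv.symm_apply_eq, hr]] at e1 e2
        linear_combination -a * e1 - b * e2
      · have hp' : σ.symm p ≠ r := fun e => hp (by rw [Equiv.symm_apply_eq] at e; rw [e, hr])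
        linear_combination -a * hcP p - b * hcQ p + (δ (σ.symm p) : F) * hx _ hp' - (δ r : F) * hx p hp
    obtain ⟨ha, hb⟩ := hind (a * ((l : F) - δ r)) (b * ((l : F)⁻¹ - δ r))
      (funext fun p => by simpa using hx' p)
    rcases mul_eq_zero.mp ha with ha0 | ha0
    · refine hcolQ r fun p hp => ?_
      have hb0 : b ≠ 0 := fun hb0 => hne (by
        have := congrFun hab r
        simp [v, hr, ha0, hb0] at this
        linear_combination this)
      have := hx p hp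
      simpa [ha0, hb0] using this
    · rcases mul_eq_zero.mp hb with hb0 | hb0
      · refine hcolP r fun p hp => ?_
        have ha1 : a ≠ 0 := fun ha1 => hne (by
          have := congrFun hab r
          simp [v, hr, ha1, hb0] at this
          linear_combination this)
        have := hx p hp
        simpa [ha1, hb0] using this
      · refine hl2 ?_
        have : (l : F) = (l : F)⁻¹ := by linear_combination ha0 - hb0
        rw [pow_two]
        nth_rewrite 2 [this]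
        exact mul_inv_cancel₀ hl0
  have hPfix : ∀ r, σ r = r → P r = 0 ∧ Q r = 0 := fun r hr => by
    have e1 := hcP r
    have e2 := hcQ r
    rw [show σ.symm r = r by rw [Equiv.symm_apply_eq, hr], hfix r hr, one_mul] at e1 e2
    refine ⟨?_, ?_⟩
    · have : ((l : F) - 1) * P r = 0 := by linear_combination -e1
      exact (mul_eq_zero.mp this).resolve_left (sub_ne_zero.mpr hl1)
    · have : ((l : F)⁻¹ - 1) * Q r = 0 := by linear_combination -e2
      exact (mul_eq_zero.mp this).resolve_left (sub_ne_zero.mpr fun e => hl1 (inv_eq_one.mp e))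
  obtain ⟨r₁, hr₁⟩ : ∃ r, σ r ≠ r := by
    by_contra hcon
    push Not at hcon
    have := (hind 1 0 (funext fun p => by simp [(hPfix p (hcon p)).1])).1
    exact one_ne_zero this
  set r₂ := σ r₁ with hr₂
  have hr₂₂ : σ r₂ ≠ r₂ := fun e => hr₁ (σ.injective e)
  -- two independent vectors of the image span it
  have hspan : ∀ x y : κ, (∀ s t : F, s • v x + t • v y = 0 → s = 0 ∧ t = 0) →
      ∀ a b : F, ∃ s t : F, a • P + b • Q = s • v x + t • v y := by
    intro x y hxy a b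
    obtain ⟨ax, bx, hx⟩ := hv x
    obtain ⟨ay, by', hy⟩ := hv y
    have hD : ax * by' - ay * bx ≠ 0 := by
      intro h0
      obtain ⟨e1, e2⟩ := hxy by' (-bx) (by
        rw [hx, hy]; match_scalars
        · linear_combination h0
        · ring)
      obtain ⟨e3, e4⟩ := hxy ay (-ax) (by
        rw [hx, hy]; match_scalars
        · ring
        · linear_combination -h0)
      have hax : ax = 0 := neg_eq_zero.mp e4
      have hbx : bx = 0 := neg_eq_zero.mp e2
      exact one_ne_zero (hxy 1 0 (by rw [hx, hax, hbx]; simp)).1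
    refine ⟨(a * by' - b * ay) / (ax * by' - ay * bx), (b * ax - a * bx) / (ax * by' - ay * bx), ?_⟩
    have hD' : ax * by' - ay * bx ≠ 0 := hD
    set D := ax * by' - ay * bx with hDdef
    have ea : (a * by' - b * ay) / D * ax + (b * ax - a * bx) / D * ay = a := by
      rw [div_mul_eq_mul_div, div_mul_eq_mul_div, ← add_div, div_eq_iff hD', hDdef]; ring
    have eb : (a * by' - b * ay) / D * bx + (b * ax - a * bx) / D * by' = b := by
      rw [div_mul_eq_mul_div, div_mul_eq_mul_div, ← add_div, div_eq_iff hD', hDdef]; ring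
    rw [hx, hy, smul_add, smul_add, smul_smul, smul_smul, smul_smul, smul_smul, add_add_add_comm,
      ← add_smul, ← add_smul, ea, eb]
  by_cases hσ2 : σ r₂ = r₁
  · -- a transposition
    obtain ⟨r₃, hr₃, h₃1, h₃2⟩ : ∃ r, σ r ≠ r ∧ r ≠ r₁ ∧ r ≠ r₂ := by
      by_contra hcon
      push Not at hcon
      obtain ⟨p, hp1, hp2, hp⟩ := hno r₁ r₂
      by_cases hs : σ p = p
      · exact hp (by simpa [hP] using (hPfix p hs).1) (by simpa [hQ] using (hPfix p hs).2)
      · exact hp2 (hcon p hs hp1)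
    have e31 : σ r₃ ≠ r₁ := fun e => h₃2 (σ.injective (e.trans hσ2.symm))
    have hxy : ∀ s t : F, s • v r₁ + t • v r₃ = 0 → s = 0 ∧ t = 0 := by
      intro s t h
      have e1 := congrFun h r₁
      have e3 := congrFun h r₃
      simp [v, Ne.symm h₃1, Ne.symm e31, Ne.symm hr₁, ← hr₂] at e1
      simp [v, h₃1, Ne.symm hr₃, ← hr₂, h₃2, e1] at e3
      exact ⟨e1, e3⟩
    obtain ⟨s, t, hst⟩ := hv r₂
    obtain ⟨a, b, hab⟩ := hspan r₁ r₃ hxy s t
    rw [← hst] at hab
    have e2 := congrFun hab r₂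
    have e3 := congrFun hab r₃
    have e1 := congrFun hab r₁
    have e32 : σ r₃ ≠ r₂ := fun e => h₃1 (σ.injective e)
    simp [v, hσ2, h₃1, h₃2, Ne.symm hr₃, ← hr₂] at e3
    simp [v, hσ2, ← hr₂, hr₁, e3] at e2
    simp [v, hσ2, ← hr₂, Ne.symm hr₁, e3] at e1
    have hd : (δ r₁ : F) * δ r₂ = 1 := by linear_combination (δ r₁ : F) * e1 + e2
    have hz : ∀ (R : V) (μ : F), μ ^ 2 ≠ 1 → (∀ p, δ (σ.symm p) * R (σ.symm p) = μ * R p) → R r₁ = 0 := by
      intro R μ hμ hR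
      have f1 := hR r₁
      have f2 := hR r₂
      rw [show σ.symm r₁ = r₂ by rw [Equiv.symm_apply_eq, hσ2]] at f1
      rw [show σ.symm r₂ = r₁ by rw [Equiv.symm_apply_eq, hr₂]] at f2
      have : (μ ^ 2 - 1) * R r₁ = 0 := by linear_combination R r₁ * hd - μ * f1 - (δ r₂ : F) * f2
      exact (mul_eq_zero.mp this).resolve_left (sub_ne_zero.mpr hμ)
    obtain ⟨s', t', hst'⟩ := hv r₁
    have := congrFun hst' r₁
    simp [v, ← hr₂, Ne.symm hr₁, hz P l hl2 hcP,
      hz Q (l : F)⁻¹ (by rw [inv_pow]; exact fun e => hl2 (inv_eq_one.mp e)) hcQ] at this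
  · -- a longer cycle
    set r₃ := σ r₂ with hr₃
    have e12 : r₁ ≠ r₂ := Ne.symm hr₁
    have hxy : ∀ s t : F, s • v r₁ + t • v r₂ = 0 → s = 0 ∧ t = 0 := by
      intro s t h
      have e1 := congrFun h r₁
      have e3 := congrFun h r₃
      simp [v, ← hr₂, ← hr₃, e12, Ne.symm hσ2] at e1
      simp [v, ← hr₂, ← hr₃, hr₂₂, hσ2, e1] at e3
      exact ⟨e1, e3⟩
    obtain ⟨s, t, hst⟩ := hv r₃
    obtain ⟨a, b, hab⟩ := hspan r₁ r₂ hxy s t
    rw [← hst] at hab
    have h33 : σ r₃ ≠ r₃ := fun e => hr₂₂ (σ.injective e)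
    have h32 : σ r₃ ≠ r₂ := fun e => hσ2 (σ.injective e)
    have hσ3 : σ r₃ = r₁ := by
      by_contra hne
      have := congrFun hab (σ r₃)
      simp [v, ← hr₂, ← hr₃, hne, h33, h32] at this
    have e1 := congrFun hab r₁
    have e2 := congrFun hab r₂
    have e3 := congrFun hab r₃
    simp [v, hσ3, ← hr₂, ← hr₃, e12, Ne.symm hσ2] at e1
    simp [v, hσ3, ← hr₂, ← hr₃, hr₁, Ne.symm hr₂₂] at e2
    simp [v, hσ3, ← hr₂, ← hr₃, hr₂₂, hσ2] at e3
    have hd : (δ r₁ : F) * δ r₂ * δ r₃ = 1 := by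
      linear_combination (δ r₁ : F) * δ r₂ * e1 + (δ r₂ : F) * e2 + e3
    obtain ⟨sP, tP, hP'⟩ := hspan r₁ r₂ hxy 1 0
    rw [one_smul, zero_smul, add_zero] at hP'
    have hsupp : ∀ p, p ≠ r₁ → p ≠ r₂ → p ≠ r₃ → P p = 0 := fun p a1 a2 a3 => by
      have := congrFun hP' p
      simpa [v, ← hr₂, ← hr₃, a1, a2, a3] using this
    have f1 := hcP r₁
    have f2 := hcP r₂
    have f3 := hcP r₃
    rw [show σ.symm r₁ = r₃ by rw [Equiv.symm_apply_eq, hσ3]] at f1
    rw [show σ.symm r₂ = r₁ by rw [Equiv.symm_apply_eq, hr₂]] at f2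
    rw [show σ.symm r₃ = r₂ by rw [Equiv.symm_apply_eq, hr₃]] at f3
    have hall : ∀ p, ((l : F) ^ 3 - 1) * P p = 0 := fun p => by
      by_cases a1 : p = r₁
      · rw [a1]
        linear_combination P r₁ * hd - (l : F) ^ 2 * f1 - (l : F) * (δ r₃ : F) * f3 - (δ r₃ : F) * δ r₂ * f2
      by_cases a2 : p = r₂
      · rw [a2]
        linear_combination P r₂ * hd - (l : F) ^ 2 * f2 - (l : F) * (δ r₁ : F) * f1 - (δ r₁ : F) * δ r₃ * f3
      by_cases a3 : p = r₃
      · rw [a3]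
        linear_combination P r₃ * hd - (l : F) ^ 2 * f3 - (l : F) * (δ r₂ : F) * f2 - (δ r₂ : F) * δ r₁ * f1
      rw [hsupp p a1 a2 a3, mul_zero]
    exact sub_ne_zero.mpr hl3 (hind ((l : F) ^ 3 - 1) 0 (funext fun p => by simpa using hall p)).1

theorem root_of_two_zeros (hκ : 5 ≤ Fintype.card κ) (hq : 5 ≤ Fintype.card F) {M : Subgroup (GL κ F)}
    (hM : MonoIn M) (hMS : ∀ g ∈ M, (g : Mat).det = 1) {g : GL κ F} (hg : g ∈ M) (hg' : ¬ Mono g)
    {k c c' : κ} (hcc : c ≠ c') (h1 : (g : Mat) k c = 0) (h2 : (g : Mat) k c' = 0) : HasRoot M := by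
  classical
  rcases pair_zero hκ hq hM hMS hg hg' hcc h1 h2 with h | ⟨r, r', hcol⟩
  · exact h
  obtain ⟨k₀, hk₀⟩ := exists_outside hκ {r, r'} (Finset.card_le_two.trans (by norm_num))
  obtain ⟨k₁, hk₁⟩ := exists_outside hκ {r, r', k₀} (Finset.card_le_three.trans (by norm_num))
  obtain ⟨k₂, hk₂⟩ := exists_outside hκ {r, r', k₀, k₁} (Finset.card_le_four.trans (by norm_num))
  simp only [Finset.mem_insert, Finset.mem_singleton, not_or] at hk₀ hk₁ hk₂
  set h := (dualHom g)⁻¹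
  have hplane : ∀ k', k' ≠ r → k' ≠ r' → k₀ ≠ k' → HasRoot M ∨
      ∃ s s', ∀ p, p ≠ s → p ≠ s' → (g : Mat) k₀ p = 0 ∧ (g : Mat) k' p = 0 := by
    intro k' a1 a2 a3
    exact (pair_zero hκ hq (monoIn_dual hM) (det_dual hMS) ((dual M).inv_mem (dualHom_mem hg))
      (not_mono_dual hg') (k := c) (c := k₀) (c' := k') a3 (hcol k₀ hk₀.1 hk₀.2).1
      (hcol k' a1 a2).1).imp_left hasRoot_of_dual
  rcases hplane k₁ hk₁.1 hk₁.2.1 (Ne.symm hk₁.2.2) with h | ⟨s, s', hs⟩
  · exact h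
  rcases hplane k₂ hk₂.1 hk₂.2.1 (Ne.symm hk₂.2.2.1) with h | ⟨t, t', ht⟩
  · exact h
  by_cases hs0 : (g : Mat) k₀ s = 0
  · refine root_single_row (by omega) hq hM hMS hg hg' (k := k₀) (x := s') fun p hp => ?_
    by_cases hps : p = s
    · rw [hps, hs0]
    · exact (hs p hps hp).1
  by_cases hs0' : (g : Mat) k₀ s' = 0
  · refine root_single_row (by omega) hq hM hMS hg hg' (k := k₀) (x := s) fun p hp => ?_
    by_cases hps : p = s'
    · rw [hps, hs0']
    · exact (hs p hp hps).1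
  by_cases hss : s = s'
  · exact root_single_row (by omega) hq hM hMS hg hg' (k := k₀) (x := s) fun p hp => (hs p hp (hss ▸ hp)).1
  exfalso
  have h3 : ∀ p, p ≠ s → p ≠ s' → (g : Mat) k₂ p = 0 := by
    intro p a1 a2
    refine (ht p ?_ ?_).2
    · intro e
      subst e
      by_cases hst : s = t'
      · exact hs0' (ht s' (Ne.symm a2) (fun e => hss (hst.trans e.symm))).1
      · exact hs0 (ht s (Ne.symm a1) hst).1
    · intro e
      subst e
      by_cases hst : s = t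
      · exact hs0' (ht s' (fun e => hss (hst.trans e.symm)) (Ne.symm a2)).1
      · exact hs0 (ht s hst (Ne.symm a1)).1
  set rows : Fin 3 → κ := ![k₀, k₁, k₂] with hrows
  obtain ⟨w, hw0, hw⟩ := exists_kernel (Matrix.of fun (e : Fin 2) (x : Fin 3) =>
    (g : Mat) (rows x) (![s, s'] e))
  have hzero : (∑ x, w x • ε⟦rows x⟧) ᵥ* (g : Mat) = 0 := by
    funext p
    have hp : ((∑ x, w x • ε⟦rows x⟧) ᵥ* (g : Mat)) p = ∑ x, (g : Mat) (rows x) p * w x := by
      simp [Fin.sum_univ_three, add_vecMul, smul_vecMul, mul_comm]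
    rw [hp, Pi.zero_apply]
    by_cases a1 : p = s
    · subst a1; exact congrFun hw 0
    by_cases a2 : p = s'
    · subst a2; exact congrFun hw 1
    refine Finset.sum_eq_zero fun x _ => ?_
    fin_cases x <;> simp [hrows, (hs p a1 a2).1, (hs p a1 a2).2, h3 p a1 a2]
  have h0 := congrArg (fun y => y ᵥ* ((g⁻¹ : GL κ F) : Mat)) hzero
  simp only [vecMul_vecMul, Units.mul_inv, vecMul_one, zero_vecMul] at h0
  refine hw0 (funext fun x => ?_)
  have := congrFun h0 (rows x)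
  have a01 := hk₁.2.2
  have a02 := hk₂.2.2.1
  have a12 := hk₂.2.2.2
  fin_cases x <;> simpa [hrows, Fin.sum_univ_three, a01, a02, a12, Ne.symm a01, Ne.symm a02, Ne.symm a12]
    using this

/-- A subgroup of `SL` properly above the monomial group contains an elementary root group. -/
theorem exists_elementary_root (hκ : 5 ≤ Fintype.card κ) (hq : 5 ≤ Fintype.card F) {M : Subgroup (GL κ F)}
    (hM : MonoIn M) (hMS : ∀ g ∈ M, (g : Mat).det = 1) {g : GL κ F} (hg : g ∈ M) (hg' : ¬ Mono g) :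
    HasRoot M := by
  have main : ∀ b ∈ M, ¬ Mono b → ∀ k l, (b : Mat) k l = 0 → HasRoot M := by
    intro b hb hb' k l hkl
    obtain ⟨a, ha, ha', i, c, c', hcc, ⟨h1, h2⟩ | ⟨h1, h2⟩⟩ := exists_two_zeros hκ hq hM hb hb' hkl
    · exact root_of_two_zeros hκ hq hM hMS ha ha' hcc h1 h2
    · exact hasRoot_of_dual (root_of_two_zeros hκ hq (monoIn_dual hM) (det_dual hMS)
        ((dual M).inv_mem (dualHom_mem ha)) (not_mono_dual ha') hcc h1 h2)
  by_cases h1 : ∃ k l, (g : Mat) k l = 0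
  · obtain ⟨k, l, h⟩ := h1
    exact main g hg hg' k l h
  by_cases h2 : ∃ k l, ((g⁻¹ : GL κ F) : Mat) k l = 0
  · obtain ⟨k, l, h⟩ := h2
    exact main _ (M.inv_mem hg) (fun h' => hg' (by simpa using h'.inv)) k l h
  push Not at h1 h2
  obtain ⟨b, hb, hb', k, c, h⟩ := exists_zero_entry hκ hM hg h1 h2
  exact main b hb hb' k c h

end CfsgLib.MaxSub.Monomial
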