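import Cfsg.Agent.MaxSub.Monomial

/-!
# Overgroups of the monomial group in dimension four

`exists_elementary_root_four`: over at least seven field elements, a subgroup of `SL` in dimension four
containing the monomial matrices of determinant one and another element contains an elementary root group.
-/

set_option autoImplicit false
set_option linter.unusedSectionVars false

namespace CfsgLib.MaxSub.Monomial

open Matrix Cfsg.Geo

variable {κ : Type} [Fintype κ] [DecidableEq κ] {F : Type*} [Field F] [Fintype F]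

local notation "V" => (κ → F)
local notation "Mat" => Matrix κ κ F
local notation "ε⟦" r "⟧" => (Pi.single r (1 : F) : κ → F)

theorem exists_unit_fourth (hq : 7 ≤ Fintype.card F) :
    ∃ l : Fˣ, (l : F) ^ 4 ≠ 1 ∧ (l : F) ^ 2 ≠ 1 := by
  classical
  obtain ⟨l, hl⟩ := IsCyclic.exists_ofOrder_eq_natCard (α := Fˣ)
  have hord : 6 ≤ orderOf l := by
    rw [hl, Nat.card_eq_fintype_card, Fintype.card_units]; omega
  refine ⟨l, fun h => ?_, fun h => ?_⟩
  · have := Nat.le_of_dvd (by norm_num : 0 < 4)
      (orderOf_dvd_of_pow_eq_one (Units.ext (by simpa using h) : l ^ 4 = 1))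
    omega
  · have := Nat.le_of_dvd two_pos (orderOf_dvd_of_pow_eq_one (Units.ext (by simpa using h) : l ^ 2 = 1))
    omega

/-- A zero entry gives a root group or a column with two non-zero entries only. -/
theorem root_or_short_col (hκ : Fintype.card κ = 4) (hq : 7 ≤ Fintype.card F) {M : Subgroup (GL κ F)}
    (hM : MonoIn M) (hMS : ∀ g ∈ M, (g : Mat).det = 1) {g : GL κ F} (hg : g ∈ M) (_hg' : ¬ Mono g)
    {k l : κ} (hkl : (g : Mat) k l = 0) :
    HasRoot M ∨ ∃ p r, ∀ x, x ≠ p → x ≠ r → (g : Mat) x l = 0 := by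
  classical
  by_cases hno : HasRoot M
  · exact Or.inl hno
  refine Or.inr ?_
  obtain ⟨μ, hμ, -⟩ := exists_unit_fourth hq
  set d : κ → Fˣ := fun s => if s = l then (μ ^ 3)⁻¹ else μ with hd
  have hprod : ∏ s, d s = 1 := by
    rw [← Finset.mul_prod_erase _ d (Finset.mem_univ l), show d l = (μ ^ 3)⁻¹ from if_pos rfl,
      Finset.prod_congr rfl (g := fun _ => μ) (fun s hs => if_neg (Finset.ne_of_mem_erase hs)),
      Finset.prod_const, Finset.card_erase_of_mem (Finset.mem_univ l), Finset.card_univ, hκ, inv_mul_cancel]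
  set b := g * monEl 1 d * g⁻¹ with hb
  have hbM : b ∈ M := M.mul_mem (M.mul_mem hg (hM _ (mono_monEl _ _)
    (by rw [det_monEl, ← Units.coe_prod, hprod]; simp))) (M.inv_mem hg)
  set t : F := (((μ ^ 3)⁻¹ : Fˣ) : F) - μ with ht
  have ht0 : t ≠ 0 := sub_ne_zero.mpr fun e => hμ (by
    rw [Units.val_inv_eq_inv_val, Units.val_pow_eq_pow_val] at e
    have h3 : (μ : F) ^ 3 ≠ 0 := pow_ne_zero _ μ.ne_zero
    rw [pow_succ']
    nth_rewrite 1 [← e]
    exact inv_mul_cancel₀ h3)
  have hentry : ∀ p r, (b : Mat) p r =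
      (if p = r then (μ : F) else 0) + t * ((g : Mat) p l * ((g⁻¹ : GL κ F) : Mat) l r) := fun p r => by
    have h1 : ∑ s, (g : Mat) p s * ((g⁻¹ : GL κ F) : Mat) s r = (1 : Mat) p r := by
      rw [← Units.mul_inv g, Matrix.mul_apply]
    rw [hb, conj_diag_apply, show ∑ s, ((d s : F) - 1) * ((g : Mat) p s * ((g⁻¹ : GL κ F) : Mat) s r) =
      ((μ : F) - 1) * (∑ s, (g : Mat) p s * ((g⁻¹ : GL κ F) : Mat) s r) +
        t * ((g : Mat) p l * ((g⁻¹ : GL κ F) : Mat) l r) by
      rw [Finset.mul_sum, ← Finset.add_sum_erase _ _ (Finset.mem_univ l),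
        ← Finset.add_sum_erase (Finset.univ) (fun s => ((μ : F) - 1) * ((g : Mat) p s *
          ((g⁻¹ : GL κ F) : Mat) s r)) (Finset.mem_univ l), hd, ht]
      simp only [if_pos]
      rw [Finset.sum_congr rfl (g := fun s => ((μ : F) - 1) * ((g : Mat) p s * ((g⁻¹ : GL κ F) : Mat) s r))
        (fun s hs => by rw [if_neg (Finset.ne_of_mem_erase hs)])]
      ring, h1, Matrix.one_apply]
    split_ifs <;> ring
  by_cases hmono : Mono b
  swap
  · refine absurd (root_of_fix_covec (by omega) (by omega) hM hMS hbM hmono (k := k) (α := (μ : F)) ?_) hno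
    funext r
    rw [single_one_vecMul, row_apply, hentry, hkl]
    simp [Pi.single_apply, eq_comm]
  obtain ⟨π, hπ⟩ := hmono
  have hw : ∃ r, ((g⁻¹ : GL κ F) : Mat) l r ≠ 0 := by
    by_contra h
    push Not at h
    have h1 : ∑ r, ((g⁻¹ : GL κ F) : Mat) l r * (g : Mat) r l = 1 := by
      rw [← Matrix.mul_apply, Units.inv_mul, Matrix.one_apply_eq]
    simp [h] at h1
  obtain ⟨r, hr⟩ := hw
  refine ⟨r, π r, fun x hx1 hx2 => ?_⟩
  by_contra hx
  refine hx2 (hπ x r ?_)
  rw [hentry, if_neg hx1, zero_add]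
  exact mul_ne_zero ht0 (mul_ne_zero hx hr)

/-- A zero entry gives a root group. -/
theorem root_of_zero_four (hκ : Fintype.card κ = 4) (hq : 7 ≤ Fintype.card F) {M : Subgroup (GL κ F)}
    (hM : MonoIn M) (hMS : ∀ g ∈ M, (g : Mat).det = 1) {g : GL κ F} (hg : g ∈ M) (hg' : ¬ Mono g)
    {k l : κ} (hkl : (g : Mat) k l = 0) : HasRoot M := by
  classical
  by_contra hno
  have hshort : ∀ {k l : κ}, (g : Mat) k l = 0 → ∃ p r, ∀ x, x ≠ p → x ≠ r → (g : Mat) x l = 0 :=
    fun h => (root_or_short_col hκ hq hM hMS hg hg' h).resolve_left hno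
  have hshortR : ∀ {k l : κ}, (g : Mat) k l = 0 → ∃ p r, ∀ x, x ≠ p → x ≠ r → (g : Mat) k x = 0 :=
    fun {k l} h => (root_or_short_col hκ hq (monoIn_dual hM) (det_dual hMS) ((dual M).inv_mem (dualHom_mem hg))
      (not_mono_dual hg') (k := l) (l := k) h).resolve_left fun h' => hno (hasRoot_of_dual h')
  obtain ⟨p, q, hpq⟩ := hshort hkl
  have hsingle : ∀ c r, (∀ x, x ≠ r → (g : Mat) x c = 0) → False := fun c r h =>
    hno (root_single_col (by omega) (by omega) hM hMS hg hg' (c := c) (r := r) h)
  -- a second zero in the row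
  obtain ⟨k', hk'⟩ := exists_outside₄ (by omega) {p, q} (Finset.card_le_two.trans (by norm_num))
  simp only [Finset.mem_insert, Finset.mem_singleton, not_or] at hk'
  have hk'l := hpq k' hk'.1 hk'.2
  obtain ⟨s, s', hs⟩ := hshortR hk'l
  obtain ⟨c, hc⟩ := exists_outside₄ (by omega) {s, s', l} (Finset.card_le_three.trans (by norm_num))
  simp only [Finset.mem_insert, Finset.mem_singleton, not_or] at hc
  have hk'c := hs c hc.1 hc.2.1
  obtain ⟨a, b, hab⟩ := hshort hk'c
  have hP : (g : Mat) p l ≠ 0 := fun h0 => hsingle l q fun x hx => by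
    by_cases hxp : x = p
    · rw [hxp, h0]
    · exact hpq x hxp hx
  have hQ : (g : Mat) q l ≠ 0 := fun h0 => hsingle l p fun x hx => by
    by_cases hxq : x = q
    · rw [hxq, h0]
    · exact hpq x hx hxq
  have hne : p ≠ q := fun e => hsingle l p fun x hx => hpq x hx (e ▸ hx)
  obtain ⟨μ₀, hμ4, hμ2⟩ := exists_unit_fourth hq
  have hl0 := μ₀.ne_zero
  set u := g * pairDiag l c μ₀ * g⁻¹ with hu
  have huM : u ∈ M := M.mul_mem (M.mul_mem hg (pairDiag_mem hM (Ne.symm hc.2.2) μ₀)) (M.inv_mem hg)
  by_cases hmono : Mono u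
  swap
  · refine hno (root_of_fix_covec (by omega) (by omega) hM hMS huM hmono (k := k') (α := 1) ?_)
    funext r
    rw [single_one_vecMul, row_apply, hu, conj_pair_apply g (Ne.symm hc.2.2), hk'l, hk'c]
    simp [Matrix.one_apply, Pi.single_apply, eq_comm]
  obtain ⟨σ, δ, hσ⟩ := hmono.eq_monEl
  have heig : ∀ x : V, (u : Mat) *ᵥ ((g : Mat) *ᵥ x) =
      (g : Mat) *ᵥ (((pairDiag l c μ₀ : GL κ F) : Mat) *ᵥ x) := fun x => by
    rw [hu, mulVec_mulVec, mulVec_mulVec, ← Units.val_mul, ← Units.val_mul, inv_mul_cancel_right]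
  have hev : ∀ (e : κ) (μ : F), ((pairDiag l c μ₀ : GL κ F) : Mat) *ᵥ ε⟦e⟧ = μ • ε⟦e⟧ →
      ∀ x, (δ x : F) * (g : Mat) x e = μ * (g : Mat) (σ x) e := fun e μ hμ x => by
    have := congrFun (heig ε⟦e⟧) (σ x)
    rw [hμ, mulVec_smul, hσ, monEl_mulVec, Equiv.symm_apply_apply] at this
    simpa using this
  have hevl := hev l (μ₀ : F) (by
    funext x; rw [pairDiag_mulVec]
    by_cases hx : x = l
    · subst hx; simp
    · simp [hx])
  have hevc := hev c (μ₀ : F)⁻¹ (by
    funext x; rw [pairDiag_mulVec]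
    by_cases hx : x = c
    · subst hx; simp [hc.2.2]
    · simp [hx])
  have hsupp : ∀ x, (g : Mat) x l ≠ 0 → x = p ∨ x = q := fun x hx => by
    by_contra h
    rw [not_or] at h
    exact hx (hpq x h.1 h.2)
  have hmap : ∀ x, (g : Mat) x l ≠ 0 → σ x = p ∨ σ x = q := fun x hx =>
    hsupp _ fun h0 => hx (by
      have := hevl x
      rw [h0, mul_zero] at this
      exact (mul_eq_zero.mp this).resolve_left (δ x).ne_zero)
  -- the second column avoids the two rows of the first
  have hvan : (g : Mat) p c = 0 ∧ (g : Mat) q c = 0 := by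
    have fp := hevl p
    have fq := hevl q
    have gp := hevc p
    have gq := hevc q
    rcases hmap p hP with e1 | e1
    · rcases hmap q hQ with e2 | e2
      · exact absurd (σ.injective (e1.trans e2.symm)) hne
      rw [e1] at fp gp
      rw [e2] at fq gq
      have hdp : (δ p : F) = μ₀ := mul_right_cancel₀ hP fp
      have hdq : (δ q : F) = μ₀ := mul_right_cancel₀ hQ fq
      have hne' : (μ₀ : F) - (μ₀ : F)⁻¹ ≠ 0 := sub_ne_zero.mpr fun e => hμ2 (by
        rw [pow_two]; nth_rewrite 2 [e]; exact mul_inv_cancel₀ hl0)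
      rw [hdp] at gp
      rw [hdq] at gq
      exact ⟨(mul_eq_zero.mp (show ((μ₀ : F) - (μ₀ : F)⁻¹) * (g : Mat) p c = 0 by linear_combination gp)).resolve_left hne',
        (mul_eq_zero.mp (show ((μ₀ : F) - (μ₀ : F)⁻¹) * (g : Mat) q c = 0 by linear_combination gq)).resolve_left hne'⟩
    · rcases hmap q hQ with e2 | e2
      swap
      · exact absurd (σ.injective (e1.trans e2.symm)) hne
      rw [e1] at fp gp
      rw [e2] at fq gq
      have hd : (δ p : F) * δ q = (μ₀ : F) ^ 2 := mul_right_cancel₀ hP (by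
        linear_combination (δ q : F) * fp + (μ₀ : F) * fq)
      have h4 : (μ₀ : F) ^ 4 - 1 ≠ 0 := sub_ne_zero.mpr hμ4
      have hi : (μ₀ : F) * (μ₀ : F)⁻¹ = 1 := mul_inv_cancel₀ hl0
      obtain ⟨ι', hι⟩ : ∃ ι' : F, ι' = (μ₀ : F)⁻¹ := ⟨_, rfl⟩
      rw [← hι] at gp gq hi
      have kp : ((μ₀ : F) ^ 4 - 1) * (g : Mat) p c = 0 := by
        linear_combination (μ₀ : F) ^ 2 * ((δ q : F) * gp + ι' * gq - (g : Mat) p c * hd) +
          (g : Mat) p c * ((μ₀ : F) * ι' + 1) * hi
      have kq : ((μ₀ : F) ^ 4 - 1) * (g : Mat) q c = 0 := by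
        linear_combination (μ₀ : F) ^ 2 * ((δ p : F) * gq + ι' * gp - (g : Mat) q c * hd) +
          (g : Mat) q c * ((μ₀ : F) * ι' + 1) * hi
      exact ⟨(mul_eq_zero.mp kp).resolve_left h4, (mul_eq_zero.mp kq).resolve_left h4⟩
  -- so that column has a single entry
  obtain ⟨x₀, hx₀⟩ := exists_outside₄ (by omega) {p, q, k'} (Finset.card_le_three.trans (by norm_num))
  simp only [Finset.mem_insert, Finset.mem_singleton, not_or] at hx₀
  refine hsingle c x₀ fun x hx => ?_
  by_cases h1 : x = p
  · rw [h1]; exact hvan.1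
  by_cases h2 : x = q
  · rw [h2]; exact hvan.2
  by_cases h3 : x = k'
  · rw [h3]; exact hk'c
  exfalso
  have hcard : ({p, q, k', x₀, x} : Finset κ).card = 5 := by
    rw [Finset.card_insert_of_notMem (by simp [hne, Ne.symm hk'.1, Ne.symm hx₀.1, Ne.symm h1]),
      Finset.card_insert_of_notMem (by simp [Ne.symm hk'.2, Ne.symm hx₀.2.1, Ne.symm h2]),
      Finset.card_insert_of_notMem (by simp [Ne.symm hx₀.2.2, Ne.symm h3]),
      Finset.card_pair (Ne.symm hx)]
  have := Finset.card_le_univ ({p, q, k', x₀, x} : Finset κ)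
  omega

theorem sum_inv_apply (g : GL κ F) (p r : κ) :
    ∑ s, (g : Mat) p s * ((g⁻¹ : GL κ F) : Mat) s r = if p = r then 1 else 0 := by
  rw [← Matrix.mul_apply, Units.mul_inv, Matrix.one_apply]

/-- From an element without zero entries, an element with one. -/
theorem exists_zero_entry_four (hκ : Fintype.card κ = 4) (hq : 7 ≤ Fintype.card F) {M : Subgroup (GL κ F)}
    (hM : MonoIn M) {g : GL κ F}
    (hg : g ∈ M) (hG : ∀ p r, (g : Mat) p r ≠ 0) (hG' : ∀ p r, ((g⁻¹ : GL κ F) : Mat) p r ≠ 0) :
    ∃ b ∈ M, ¬ Mono b ∧ ∃ k c, (b : Mat) k c = 0 := by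
  classical
  set G := (g : Mat) with hGdef
  set G' := ((g⁻¹ : GL κ F) : Mat) with hG'def
  have hinjL : ∀ x : V, x ᵥ* G = 0 → x = 0 := fun x hx => by
    have := congrArg (fun y => y ᵥ* G') hx
    simpa [hGdef, hG'def, vecMul_vecMul] using this
  obtain ⟨k, c, i, j, hkc, hz⟩ : ∃ k c i j, k ≠ c ∧ G k i * G' i c ≠ G k j * G' j c := by
    by_contra hcon
    push Not at hcon
    obtain ⟨k, -⟩ := exists_outside₄ (κ := κ) (by omega) ∅ (by simp)
    obtain ⟨k', hk'⟩ := exists_outside₄ (κ := κ) (by omega) {k} (by simp)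
    obtain ⟨c, hc⟩ := exists_outside₄ (κ := κ) (by omega) {k, k'} (Finset.card_le_two.trans (by norm_num))
    simp only [Finset.mem_insert, Finset.mem_singleton, not_or] at hk' hc
    have hrows : G k' k • ε⟦k⟧ - G k k • ε⟦k'⟧ = 0 := by
      refine hinjL _ ?_
      funext s
      have e1 := hcon k c k s (Ne.symm hc.1)
      have e2 := hcon k' c k s (Ne.symm hc.2)
      have e3 : (G k' k * G k s - G k k * G k' s) * (G' k c * G' s c) = 0 := by
        linear_combination -(G k' k * G' k c) * e1 + (G k k * G' k c) * e2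
      simp only [sub_vecMul, smul_vecMul, single_one_vecMul, Pi.sub_apply, Pi.smul_apply, row_apply,
        smul_eq_mul, Pi.zero_apply]
      exact (mul_eq_zero.mp e3).resolve_right (mul_ne_zero (hG' _ _) (hG' _ _))
    have := congrFun hrows k'
    simp [hk', hG] at this
  have hij : i ≠ j := fun e => hz (by rw [e])
  set zi := G k i * G' i c with hzid
  set zj := G k j * G' j c with hzjd
  have hzi : zi ≠ 0 := mul_ne_zero (hG _ _) (hG' _ _)
  have hzj : zj ≠ 0 := mul_ne_zero (hG _ _) (hG' _ _)
  have hcol : ∀ (d : κ → Fˣ) (π : Equiv.Perm κ) (δ : κ → Fˣ), g * monEl 1 d * g⁻¹ = monEl π δ →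
      ∀ s x, (δ x : F) * G x s = (d s : F) * G (π x) s := by
    intro d π δ he s x
    have e : monEl π δ * g = g * monEl 1 d := by rw [← he]; group
    have e1 := congrArg (fun h : GL κ F => ((h : Mat) *ᵥ ε⟦s⟧) (π x)) e
    simp only [Units.val_mul, ← mulVec_mulVec, monEl_mulVec, Equiv.symm_apply_apply, monEl_single,
      Equiv.Perm.one_apply, mulVec_smul] at e1
    simpa [hGdef] using e1
  by_cases hsq : zj * zj = zi * zi
  · -- opposite values: two eigenvalues
    have hneg : zi + zj = 0 := by
      have : (zj - zi) * (zj + zi) = 0 := by linear_combination hsq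
      rcases mul_eq_zero.mp this with h | h
      · exact absurd (sub_eq_zero.mp h).symm hz
      · linear_combination h
    obtain ⟨l, hl4, hl2⟩ := exists_unit_fourth hq
    have hl0 := l.ne_zero
    set d : κ → Fˣ := fun s => if s = i ∨ s = j then l else l⁻¹ with hd
    have hS : ((Finset.univ : Finset κ).erase i).erase j = Finset.univ.filter fun s => ¬(s = i ∨ s = j) := by
      ext s; simp [and_comm]
    have hScard : (((Finset.univ : Finset κ).erase i).erase j).card = 2 := by
      rw [Finset.card_erase_of_mem (by simp [Ne.symm hij]), Finset.card_erase_of_mem (Finset.mem_univ i),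
        Finset.card_univ, hκ]
    have hsplit : ∀ (f : κ → Fˣ),
        ∏ s, f s = f i * f j * ∏ s ∈ ((Finset.univ : Finset κ).erase i).erase j, f s := fun f => by
      rw [← Finset.mul_prod_erase _ f (Finset.mem_univ i),
        ← Finset.mul_prod_erase _ f (Finset.mem_erase.mpr ⟨Ne.symm hij, Finset.mem_univ j⟩), mul_assoc]
    have hdS : ∀ s ∈ ((Finset.univ : Finset κ).erase i).erase j, d s = l⁻¹ := fun s hs => by
      rw [hS, Finset.mem_filter] at hs
      exact if_neg hs.2
    have hprod : ∏ s, d s = 1 := by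
      rw [hsplit, Finset.prod_congr rfl (g := fun _ => l⁻¹) hdS, Finset.prod_const, hScard,
        show d i = l from if_pos (Or.inl rfl), show d j = l from if_pos (Or.inr rfl), ← pow_two,
        inv_pow, mul_inv_cancel]
    set b := g * monEl 1 d * g⁻¹ with hb
    refine ⟨b, M.mul_mem (M.mul_mem hg (hM _ (mono_monEl _ _)
      (by rw [det_monEl, ← Units.coe_prod, hprod]; simp))) (M.inv_mem hg), ?_, k, c, ?_⟩
    swap
    · have hsum := sum_inv_apply g k c
      rw [if_neg hkc, ← Finset.add_sum_erase _ _ (Finset.mem_univ i),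
        ← Finset.add_sum_erase _ _ (Finset.mem_erase.mpr ⟨Ne.symm hij, Finset.mem_univ j⟩)] at hsum
      rw [hb, conj_diag_apply, Matrix.one_apply_ne hkc, zero_add, ← Finset.add_sum_erase _ _ (Finset.mem_univ i),
        ← Finset.add_sum_erase _ _ (Finset.mem_erase.mpr ⟨Ne.symm hij, Finset.mem_univ j⟩),
        Finset.sum_congr rfl (g := fun s => ((l : F)⁻¹ - 1) * (G k s * G' s c)) (fun s hs => by
          rw [hdS s hs, Units.val_inv_eq_inv_val]), ← Finset.mul_sum,
        show d i = l from if_pos (Or.inl rfl), show d j = l from if_pos (Or.inr rfl)]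
      rw [← hGdef, ← hG'def, ← hzid, ← hzjd] at hsum ⊢
      linear_combination ((l : F) - (l : F)⁻¹) * hneg + ((l : F)⁻¹ - 1) * hsum
    intro hmono
    obtain ⟨π, δ, hπ⟩ := hmono.eq_monEl
    have hev := hcol d π δ (hb ▸ hπ)
    -- all entries of a column are nonzero, so the permutation is trivial or two values coincide
    obtain ⟨r₁, hr₁⟩ := exists_outside₄ (κ := κ) (by omega) {i, j} (Finset.card_le_two.trans (by norm_num))
    simp only [Finset.mem_insert, Finset.mem_singleton] at hr₁
    have hdi : (d i : F) = l := by rw [show d i = l from if_pos (Or.inl rfl)]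
    have hdr : (d r₁ : F) = (l : F)⁻¹ := by
      rw [show d r₁ = l⁻¹ from if_neg hr₁, Units.val_inv_eq_inv_val]
    have hrel : ∀ x, (l : F) * G (π x) i * G x r₁ = (l : F)⁻¹ * G (π x) r₁ * G x i := fun x => by
      have e1 := hev i x
      have e2 := hev r₁ x
      rw [hdi] at e1
      rw [hdr] at e2
      linear_combination G x i * e2 - G x r₁ * e1
    obtain ⟨x, hx⟩ : ∃ x, π x ≠ x := by
      by_contra h
      push Not at h
      obtain ⟨y, -⟩ := exists_outside₄ (κ := κ) (by omega) ∅ (by simp)
      have := hrel y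
      rw [h y] at this
      have h1 : ((l : F) ^ 2 - 1) * (G y i * G y r₁) = 0 := by
        field_simp at this
        linear_combination this
      exact mul_ne_zero (sub_ne_zero.mpr hl2) (mul_ne_zero (hG _ _) (hG _ _)) h1
    -- the quadratic relation
    have hquad : ∀ s y, (δ (π y) : F) * δ y * G y s + G (π (π y)) s =
        ((l : F) + (l : F)⁻¹) * (δ (π y) : F) * G (π y) s := fun s y => by
      have e1 := hev s y
      have e2 := hev s (π y)
      have hll : (d s : F) * d s + 1 = ((l : F) + (l : F)⁻¹) * d s := by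
        by_cases hs : s = i ∨ s = j
        · rw [show d s = l from if_pos hs]; field_simp
        · rw [show d s = l⁻¹ from if_neg hs, Units.val_inv_eq_inv_val]; field_simp; ring
      linear_combination (δ (π y) : F) * e1 + ((d s : F) - ((l : F) + (l : F)⁻¹)) * e2 + G (π (π y)) s * hll
    have hcomb : (if π (π x) = x then ((δ (π x) : F) * δ x + 1) else (δ (π x) : F) * δ x) • ε⟦x⟧ +
        (if π (π x) = x then 0 else (1 : F)) • ε⟦π (π x)⟧ -
        (((l : F) + (l : F)⁻¹) * (δ (π x) : F)) • ε⟦π x⟧ = 0 := by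
      refine hinjL _ (funext fun s => ?_)
      simp only [sub_vecMul, add_vecMul, smul_vecMul, single_one_vecMul, Pi.sub_apply, Pi.add_apply,
        Pi.smul_apply, row_apply, smul_eq_mul, Pi.zero_apply]
      have h := hquad s x
      by_cases hcyc : π (π x) = x
      · simp only [hcyc, if_pos] at h ⊢
        linear_combination h
      · simp only [if_neg hcyc]
        linear_combination h
    have h1 := congrFun hcomb (π x)
    have hs0 : (l : F) + (l : F)⁻¹ ≠ 0 := fun e => hl4 (by
      have : (l : F) ^ 2 = -1 := by field_simp at e; linear_combination e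
      linear_combination ((l : F) ^ 2 - 1) * this)
    have hne1 : π (π x) ≠ π x := fun e => hx (π.injective e)
    by_cases hcyc : π (π x) = x <;> simp [hcyc, hx, Ne.symm hne1, hs0] at h1
  · -- three values
    set l : Fˣ := Units.mk0 (zj / zi) (div_ne_zero hzj hzi) with hl
    have hl2 : (l : F) * l ≠ 1 := fun e => hsq (by
      rw [hl, Units.val_mk0] at e
      field_simp at e
      linear_combination e)
    set b := g * pairDiag i j l * g⁻¹ with hb
    refine ⟨b, M.mul_mem (M.mul_mem hg (pairDiag_mem hM hij l)) (M.inv_mem hg), ?_, k, c, ?_⟩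
    swap
    · rw [hb, conj_pair_apply g hij, Matrix.one_apply_ne hkc, zero_add]
      show (zj / zi - 1) * zi + ((zj / zi)⁻¹ - 1) * zj = 0
      field_simp
      ring
    intro hmono
    obtain ⟨π, δ, hπ⟩ := hmono.eq_monEl
    set d : κ → Fˣ := fun r => if r = i then l else if r = j then l⁻¹ else 1 with hd
    have hev := hcol d π δ (by rw [← hπ]; rfl)
    obtain ⟨a, ha⟩ := exists_outside₄ (κ := κ) (by omega) {i, j} (Finset.card_le_two.trans (by norm_num))
    obtain ⟨a', ha'⟩ := exists_outside₄ (κ := κ) (by omega) {i, j, a} (Finset.card_le_three.trans (by norm_num))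
    simp only [Finset.mem_insert, Finset.mem_singleton, not_or] at ha ha'
    have hda : (d a : F) = 1 := by simp [hd, ha.1, ha.2]
    have hda' : (d a' : F) = 1 := by simp [hd, ha'.1, ha'.2.1]
    by_cases hinv : ∀ x, π (π x) = x
    · obtain ⟨x, -⟩ := exists_outside₄ (κ := κ) (by omega) ∅ (by simp)
      have e1 := hev a x
      have e2 := hev a (π x)
      have f1 := hev i x
      have f2 := hev i (π x)
      rw [hinv x] at e2 f2
      rw [hda] at e1 e2
      have hdi : (d i : F) = l := by simp [hd]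
      rw [hdi] at f1 f2
      have h1 : (δ x : F) * δ (π x) = 1 := mul_right_cancel₀ (hG x a) (by
        linear_combination (δ (π x) : F) * e1 + e2)
      refine hl2 (mul_right_cancel₀ (hG x i) ?_)
      linear_combination -(δ (π x) : F) * f1 - (l : F) * f2 + G x i * h1
    · push Not at hinv
      obtain ⟨r, hr⟩ := hinv
      have hr1 : π r ≠ r := fun e => hr (by rw [e, e])
      -- fixed columns combined to vanish at `r` vanish on its orbit
      set v : κ → F := fun x => G r a' * G x a - G r a * G x a' with hv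
      have hvstep : ∀ x, v x = 0 → v (π x) = 0 := fun x hx => by
        have e1 := hev a x
        have e2 := hev a' x
        rw [hda, one_mul] at e1
        rw [hda', one_mul] at e2
        simp only [hv] at hx ⊢
        linear_combination (δ x : F) * hx - G r a' * e1 + G r a * e2
      have v0 : v r = 0 := by simp [hv]; ring
      have v1 := hvstep r v0
      have v2 := hvstep _ v1
      obtain ⟨z, hz'⟩ := exists_outside₄ (κ := κ) (by omega) {r, π r, π (π r)} (Finset.card_le_three.trans (by norm_num))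
      simp only [Finset.mem_insert, Finset.mem_singleton, not_or] at hz'
      have hsupp : ∀ x, x ≠ z → v x = 0 := fun x hx => by
        by_cases h1 : x = r
        · rw [h1]; exact v0
        by_cases h2 : x = π r
        · rw [h2]; exact v1
        by_cases h3 : x = π (π r)
        · rw [h3]; exact v2
        exfalso
        have hcard : ({r, π r, π (π r), z, x} : Finset κ).card = 5 := by
          rw [Finset.card_insert_of_notMem (by
              simp only [Finset.mem_insert, Finset.mem_singleton, not_or]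
              exact ⟨Ne.symm hr1, Ne.symm hr, Ne.symm hz'.1, Ne.symm h1⟩),
            Finset.card_insert_of_notMem (by
              simp only [Finset.mem_insert, Finset.mem_singleton, not_or]
              exact ⟨fun e : π r = π (π r) => hr1 (π.injective e).symm, Ne.symm hz'.2.1, Ne.symm h2⟩),
            Finset.card_insert_of_notMem (by simp [Ne.symm hz'.2.2, Ne.symm h3]),
            Finset.card_pair (Ne.symm hx)]
        have := Finset.card_le_univ ({r, π r, π (π r), z, x} : Finset κ)
        omega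
      have hvec : (g : Mat) *ᵥ (G r a' • ε⟦a⟧ - G r a • ε⟦a'⟧) = v z • ε⟦z⟧ := by
        funext x
        by_cases hx : x = z
        · subst hx; simp [mulVec_sub, mulVec_smul, hv, hGdef]
        · have := hsupp x hx
          simp [hv, hGdef] at this
          simp [mulVec_sub, mulVec_smul, hx, hGdef, this]
      have h0 := congrArg (fun y => (((g⁻¹ : GL κ F) : Mat) *ᵥ y) i) hvec
      simp only [mulVec_mulVec, Units.inv_mul, one_mulVec, mulVec_smul] at h0
      have hzero : v z = 0 := by
        simp [Ne.symm ha.1, Ne.symm ha'.1] at h0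
        exact h0.resolve_right (by simpa [hG'def] using hG' i z)
      have h1 := congrArg (fun y => (((g⁻¹ : GL κ F) : Mat) *ᵥ y) a) hvec
      simp only [mulVec_mulVec, Units.inv_mul, one_mulVec, mulVec_smul] at h1
      simp [hzero, Ne.symm ha'.2.2, hG] at h1

/-- A subgroup of `SL` properly above the monomial group in dimension four contains an elementary root group. -/
theorem exists_elementary_root_four (hκ : Fintype.card κ = 4) (hq : 7 ≤ Fintype.card F)
    {M : Subgroup (GL κ F)}
    (hM : MonoIn M) (hMS : ∀ g ∈ M, (g : Mat).det = 1) {g : GL κ F} (hg : g ∈ M) (hg' : ¬ Mono g) :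
    HasRoot M := by
  by_cases h1 : ∃ k l, (g : Mat) k l = 0
  · obtain ⟨k, l, h⟩ := h1
    exact root_of_zero_four hκ hq hM hMS hg hg' h
  by_cases h2 : ∃ k l, ((g⁻¹ : GL κ F) : Mat) k l = 0
  · obtain ⟨k, l, h⟩ := h2
    exact root_of_zero_four hκ hq hM hMS (M.inv_mem hg) (fun h' => hg' (by simpa using h'.inv)) h
  push Not at h1 h2
  obtain ⟨b, hb, hb', k, c, h⟩ := exists_zero_entry_four hκ hq hM hg h1 h2
  exact root_of_zero_four hκ hq hM hMS hb hb' h

end CfsgLib.MaxSub.Monomial
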