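import Cfsg.Agent.MaxSub.UnitaryBasic
import Cfsg.Agent.MaxSub.SymplecticSimilarity

/-!
# The similarity group of a unitary form is maximal in `SL`
-/

set_option autoImplicit false
set_option linter.unusedSectionVars false

namespace CfsgLib.MaxSub

open Matrix Cfsg.Geo

variable {ι : Type} [Fintype ι] [DecidableEq ι] {F : Type*} [Field F]
  {σ : F ≃+* F} {f : (ι → F) → (ι → F) → F}

theorem SesqForm.exists_tv_not_similar (hs : SesqForm σ f) (hn : 3 ≤ Fintype.card ι) :
    ∃ v a, tv v a ∉ similarityGroup f := by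
  have : Nonempty ι := Fintype.card_pos_iff.mp (by omega)
  obtain ⟨v, hv⟩ := exists_ne (0 : ι → F)
  have h := finrank_dotsKer ![v]
  obtain ⟨a, ha, ha'⟩ : ∃ a ∈ dotsKer ![v], a ∉ Submodule.span F {leftVec f v} := by
    by_contra hcon
    push Not at hcon
    have h1 := Submodule.finrank_mono
      (hcon : dotsKer ![v] ≤ Submodule.span F {leftVec f v})
    rw [finrank_span_singleton (hs.leftVec_ne_zero hv)] at h1
    omega
  rw [mem_dotsKer] at ha
  exact ⟨v, a, hs.tv_not_similar hv (by rw [dotProduct_comm]; simpa using ha 0)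
    fun c hc => ha' (Submodule.mem_span_singleton.mpr ⟨c, hc⟩)⟩

theorem unitTv_mem (hf : IsUnitaryForm σ f) {v : ι → F} (hv : f v v = 0) {c : F} (hc : σ c = -c) :
    tv (c • v) (leftVec f v) ∈ similarityGroup f ⊓ specialLinear ι F :=
  ⟨isoTv_mem_similarity (sesqForm_of_unitary hf) hv fun y => by
      rw [hc, ← hf.herm v y]; ring, tv_mem_specialLinear _ _⟩

/-- An element mapping isotropic transvections to isotropic transvections is a similarity. -/
theorem exists_bad_iso [Finite F] (hf : IsUnitaryForm σ f) (hn : 7 ≤ Fintype.card ι) {g : GL ι F}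
    (hg : g ∉ similarityGroup f) :
    ∃ v, f v v = 0 ∧ ∀ μ : F, ∃ x,
      f ((g : Matrix ι ι F) *ᵥ x) ((g : Matrix ι ι F) *ᵥ v) ≠ μ * f x v := by
  by_contra hcon
  push Not at hcon
  choose μ hμ using hcon
  have hs := sesqForm_of_unitary hf
  obtain ⟨z₀, -, hz00, hz0⟩ := exists_iso_mem hf ⊤ (by rw [finrank_top, Module.finrank_pi]; omega)
  obtain ⟨w, hw⟩ := hs.exists_left_ne_zero hz00
  obtain ⟨t, ht1, ht2⟩ := exists_iso_shift hf (w := (f w z₀)⁻¹ • w) hz0
    (by rw [hs.smul_left, inv_mul_cancel₀ hw]; exact one_ne_zero)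
  set z₁ := (f w z₀)⁻¹ • w + t • z₀
  have h10 : f z₁ z₀ = 1 := by rw [ht2, hs.smul_left, inv_mul_cancel₀ hw]
  clear_value z₁
  have hother : ∀ z (hz : f z z = 0), f z z₀ ≠ 0 → μ z hz = σ (μ z₀ hz0) := by
    intro z hz hne
    have h1 := hμ z₀ hz0 z
    have h2 := hμ z hz z₀
    rw [hf.herm, h1, map_mul, ← hf.herm] at h2
    exact (mul_right_cancel₀ (unitary_ne_symm hf hne) h2).symm
  obtain ⟨c, hc0, hc⟩ := exists_traceZero hf.ne_refl hf.involutive
  have hind : ∀ a : F, a • z₀ ≠ z₁ := fun a h => by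
    rw [← h, hs.smul_left, hz0, mul_zero] at h10
    exact zero_ne_one h10
  have h2iso : f (c • z₀ + (1 : F) • z₁) (c • z₀ + (1 : F) • z₁) = 0 := by
    rw [one_smul, hs.add_left, hs.add_right, hs.add_right, hs.smul_left, hs.smul_left,
      hs.smul_right, hs.smul_right, hz0, ht1, h10, hc, hf.herm z₀ z₁, h10, map_one]
    ring
  obtain ⟨e1, e2⟩ := hs.multiplier_eq hind hz00 hc0 one_ne_zero (hμ z₀ hz0) (hμ z₁ ht1)
    (hμ _ h2iso)
  have hfix : σ (μ z₀ hz0) = μ z₀ hz0 := by
    rw [← hother z₁ ht1 (by rw [h10]; exact one_ne_zero), ← e2, e1]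
  refine hg (hs.mem_similarityGroup_of_similarOn g (μ z₀ hz0) ?_)
  set S := hs.similarOn (g : Matrix ι ι F) (μ z₀ hz0) with hS
  have h0S : z₀ ∈ S := hμ z₀ hz0
  have hmem : ∀ z, f z z₀ ≠ 0 → z ∈ S := by
    intro z hz
    obtain ⟨t, h1, h2⟩ := exists_iso_shift hf hz0 hz
    have h3 : z + t • z₀ ∈ S := by
      intro x
      rw [hμ _ h1 x, hother _ h1 (by rw [h2]; exact hz), hfix]
    simpa using S.sub_mem h3 (S.smul_mem t h0S)
  refine Submodule.eq_top_iff'.mpr fun z => ?_
  by_cases hz : f z z₀ = 0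
  · have h1 := hmem (z + z₁) (by rw [hs.add_left, hz, zero_add, h10]; exact one_ne_zero)
    simpa using S.sub_mem h1 (hmem z₁ (by rw [h10]; exact one_ne_zero))
  · exact hmem z hz

/-- A subgroup containing all isotropic transvections is irreducible. -/
theorem irreducible_of_unitTv [Finite F] (hf : IsUnitaryForm σ f) (hn : 7 ≤ Fintype.card ι)
    {M : Subgroup (GL ι F)} {c : F} (hc0 : c ≠ 0)
    (hseed : ∀ z, f z z = 0 → tv (c • z) (leftVec f z) ∈ M) : Irreducible M := by
  have hs := sesqForm_of_unitary hf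
  intro X hX
  by_contra hcon
  push Not at hcon
  have hmove : ∀ x ∈ X, ∀ z, f z z = 0 → f x z ≠ 0 → z ∈ X := by
    intro x hxX z hz hxz
    have h := hX _ (hseed z hz) x hxX
    rw [tv_mulVec (by rw [dotProduct_smul, hs.dot_leftVec, hz, smul_zero]), hs.dot_leftVec,
      smul_smul] at h
    have h' := X.sub_mem h hxX
    rw [add_sub_cancel_left] at h'
    rwa [X.smul_mem_iff (mul_ne_zero hxz hc0)] at h'
  obtain ⟨x, hxX, hx0⟩ := Submodule.exists_mem_ne_zero_of_ne_bot hcon.1
  obtain ⟨z₀, -, hz0, hz0x⟩ := exists_iso_not_orth hf hn (u := 0) (v := x)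
    fun a ha => hx0 (by simpa using ha.symm)
  have hz0X : z₀ ∈ X := hmove x hxX z₀ hz0 (unitary_ne_symm hf hz0x)
  have hmem : ∀ w, f w z₀ ≠ 0 → w ∈ X := by
    intro w hw
    obtain ⟨t, h1, h2⟩ := exists_iso_shift hf hz0 hw
    have h3 := hmove z₀ hz0X _ h1 (unitary_ne_symm hf (h2.symm ▸ hw))
    simpa using X.sub_mem h3 (X.smul_mem t hz0X)
  have hz00 : z₀ ≠ 0 := fun h => hz0x (h ▸ hs.zero_left x)
  obtain ⟨w₀, hw₀⟩ := hs.exists_left_ne_zero hz00
  refine hcon.2 (Submodule.eq_top_iff'.mpr fun w => ?_)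
  by_cases hw : f w z₀ = 0
  · have h1 := hmem (w + w₀) (by rwa [hs.add_left, hw, zero_add])
    simpa using X.sub_mem h1 (hmem w₀ hw₀)
  · exact hmem w hw

/-- A subgroup containing the unitary similarities of determinant one and something else contains
`SL`. -/
theorem specialLinear_le_of_unitary [Finite F] (hf : IsUnitaryForm σ f)
    (hn : 7 ≤ Fintype.card ι) {M : Subgroup (GL ι F)}
    (hM : similarityGroup f ⊓ specialLinear ι F ≤ M) {g : GL ι F} (hg : g ∈ M)
    (hg' : g ∉ similarityGroup f) : specialLinear ι F ≤ M := by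
  have hs := sesqForm_of_unitary hf
  obtain ⟨c, hc0, hc⟩ := exists_traceZero hf.ne_refl hf.involutive
  have hseed : ∀ z, f z z = 0 → tv (c • z) (leftVec f z) ∈ M := fun z hz =>
    hM (unitTv_mem hf hz hc)
  obtain ⟨v, hvv, hv⟩ := exists_bad_iso hf hn hg'
  have hv0 : v ≠ 0 := by
    rintro rfl
    obtain ⟨x, hx⟩ := hv 1
    exact hx (by rw [mulVec_zero, hs.zero_right, hs.zero_right, mul_zero])
  obtain ⟨u, hu⟩ := hs.leftVec_surjective (leftVec f v ᵥ* ((g⁻¹ : GL ι F) : Matrix ι ι F))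
  set v' := (g : Matrix ι ι F) *ᵥ v with hv'
  have hv'0 : v' ≠ 0 := fun h => hv0 (by
    simpa [hv', mulVec_mulVec] using congrArg (fun y => ((g⁻¹ : GL ι F) : Matrix ι ι F) *ᵥ y) h)
  have hfu : ∀ x, f x u = f (((g⁻¹ : GL ι F) : Matrix ι ι F) *ᵥ x) v := by
    intro x; rw [← hs.dot_leftVec, hu, hs.dot_leftVec_conj]
  have hv'u : f v' u = 0 := by
    rw [hfu, hv', mulVec_mulVec, Units.inv_mul, one_mulVec, hvv]
  have hpair : tv (c • v') (leftVec f u) ∈ M := by
    have := tv_mem_conj hg (hseed v hvv)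
    rwa [mulVec_smul, ← hu] at this
  have hne : ∀ b : F, b • v' ≠ u := by
    intro b hb
    have hgx : ∀ x, σ b * f ((g : Matrix ι ι F) *ᵥ x) v' = f x v := by
      intro x
      have := hfu ((g : Matrix ι ι F) *ᵥ x)
      rwa [mulVec_mulVec, Units.inv_mul, one_mulVec, ← hb, hs.smul_right] at this
    obtain ⟨x, hx⟩ := hv (σ b)⁻¹
    rcases eq_or_ne b 0 with rfl | hb0
    · exact hv0 (hs.ext_right fun x => by rw [← hgx x]; simp [hs.zero_right])
    · refine hx ?_
      rw [← hgx x, ← mul_assoc, inv_mul_cancel₀ (by simp [hb0]), one_mul]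
  have hu0 : u ≠ 0 := fun h => hne 0 (by simp [h])
  have hne' : ∀ b : F, b • u ≠ v' := by
    intro b hb
    rcases eq_or_ne b 0 with rfl | hb0
    · exact hv'0 (by simpa using hb.symm)
    · exact hne b⁻¹ (by rw [← hb, inv_smul_smul₀ hb0])
  -- one root group
  obtain ⟨x₁, hx1u, hx1, hx1v⟩ := exists_iso_not_orth hf hn hne'
  obtain ⟨a, ha⟩ := exists_dot_eq_one hu0
  obtain ⟨y, hy, hy0, hyy⟩ := exists_iso_mem hf
    (dotsKer ![leftVec f u, leftVec f v', leftVec f x₁, a])
    (by have := finrank_dotsKer ![leftVec f u, leftVec f v', leftVec f x₁, a]; omega)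
  rw [mem_dotsKer] at hy
  have hyu : f y u = 0 := by have := hy 0; simpa [hs.dot_leftVec] using this
  have hyv : f y v' = 0 := by have := hy 1; simpa [hs.dot_leftVec] using this
  have hyx : f y x₁ = 0 := by have := hy 2; simpa [hs.dot_leftVec] using this
  have hay : a ⬝ᵥ y = 0 := by have := hy 3; simpa using this
  have hyne : ∀ b : F, b • u ≠ y := by
    intro b hb
    rw [← hb, dotProduct_smul, ha, smul_eq_mul, mul_one] at hay
    exact hy0 (by rw [← hb, hay, zero_smul])
  set k := σ c * f v' x₁ * c with hk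
  have hk0 : k ≠ 0 := mul_ne_zero (mul_ne_zero (by simp [hc0]) (unitary_ne_symm hf hx1v)) hc0
  have hz : ∀ l : F, f (x₁ + l • y) u = 0 ∧ tv (k • (x₁ + l • y)) (leftVec f u) ∈ M := by
    intro l
    have hiso : f (x₁ + l • y) (x₁ + l • y) = 0 := by
      rw [hs.add_left, hs.add_right, hs.add_right, hs.smul_left, hs.smul_left, hs.smul_right,
        hs.smul_right, hx1, hyx, hyy, unitary_orth_symm hf hyx]
      ring
    have h1 : f (x₁ + l • y) u = 0 := by rw [hs.add_left, hs.smul_left, hx1u, hyu]; ring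
    have hvz : f v' (x₁ + l • y) = f v' x₁ := by
      rw [hs.add_right, hs.smul_right, unitary_orth_symm hf hyv]; ring
    have := tv_rule_axis (by rw [dotProduct_smul, hs.dot_leftVec, hv'u, smul_zero])
      (by rw [dotProduct_smul, hs.dot_leftVec, hiso, smul_zero])
      (by rw [dotProduct_smul, hs.dot_leftVec, h1, smul_zero]) hpair (hseed _ hiso)
    rw [dotProduct_smul, hs.dot_leftVec, hvz, tv_smul_right, smul_smul] at this
    refine ⟨h1, ?_⟩
    have hce : (c • f v' x₁) * c = c * f v' x₁ * c := by rw [smul_eq_mul]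
    rw [hce] at this
    have hneg : k = -(c * f v' x₁ * c) := by rw [hk, hc]; ring
    rw [hneg, neg_smul]
    have := M.inv_mem this
    rwa [tv_inv] at this
  have hRy : RootIn M y (leftVec f u) := by
    refine ⟨by rw [hs.dot_leftVec, hyu], fun d => ?_⟩
    obtain ⟨h0, h0'⟩ := hz 0
    obtain ⟨h1, h1'⟩ := hz (d / k)
    have h0i := M.inv_mem h0'
    rw [tv_inv] at h0i
    have := tv_mem_add_left (by rw [dotProduct_smul, hs.dot_leftVec, h1, smul_zero])
      (by rw [dotProduct_neg, dotProduct_smul, hs.dot_leftVec, h0, smul_zero, neg_zero]) h1' h0i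
    convert this using 2
    rw [zero_smul, add_zero, smul_add, smul_smul, mul_div_cancel₀ _ hk0]
    abel
  -- all centres for this axis
  have hstep : ∀ z, f z u = 0 → f z z = 0 → f y z ≠ 0 → z ∈ centres M (leftVec f u) := by
    intro z h1 h2 h3
    have hm := hseed z h2
    rw [← tv_smul_right] at hm
    exact hRy.rule_axis (by rw [smul_dotProduct, hs.dot_leftVec, h2, smul_zero]) hm
      (by rw [hs.dot_leftVec, h1]) (by
        rw [smul_dotProduct, hs.dot_leftVec, smul_eq_mul]; exact mul_ne_zero hc0 h3)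
  obtain ⟨w, hwu, hwy⟩ := hs.exists_orth_not_orth hyne
  have hmem : ∀ z, f z u = 0 → f z y ≠ 0 → z ∈ centres M (leftVec f u) := by
    intro z h1 h2
    obtain ⟨t, h3, h4⟩ := exists_iso_shift hf hyy h2
    have h5 := hstep _ (by rw [hs.add_left, hs.smul_left, h1, hyu]; ring) h3
      (unitary_ne_symm hf (h4.symm ▸ h2))
    simpa using (centres M (leftVec f u)).sub_mem h5
      ((centres M (leftVec f u)).smul_mem t (mem_centres.mpr hRy))
  refine specialLinear_le_of_fullAxis (irreducible_of_unitTv hf hn hc0 hseed)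
    (hs.leftVec_ne_zero hu0) (fullAxis_of_centres fun z hz' => ?_)
  rw [hs.dot_leftVec] at hz'
  by_cases h2 : f z y = 0
  · have h1 := hmem (z + w) (by rw [hs.add_left, hz', hwu, add_zero])
      (by rw [hs.add_left, h2, hwy, zero_add]; exact one_ne_zero)
    simpa using (centres M (leftVec f u)).sub_mem h1
      (hmem w hwu (by rw [hwy]; exact one_ne_zero))
  · exact hmem z hz' h2

/-- In dimension at least seven the similarity group of a unitary form is maximal in `SL`. -/
theorem isMaximalIn_unitary [Finite F] (hf : IsUnitaryForm σ f) (hn : 7 ≤ Fintype.card ι) :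
    IsMaximalIn (specialLinear ι F) (similarityGroup f ⊓ specialLinear ι F) := by
  refine isMaximalIn_of inf_le_right ?_ fun M hHM hMK g hg hg' =>
    specialLinear_le_of_unitary hf hn hHM hg fun h => hg' ⟨h, hMK hg⟩
  obtain ⟨v, a, h⟩ := (sesqForm_of_unitary hf).exists_tv_not_similar (by omega)
  exact ⟨tv v a, tv_mem_specialLinear v a, fun h' => h h'.1⟩

end CfsgLib.MaxSub
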