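import Cfsg.Agent.MaxSub.QuadraticBasic
import Cfsg.Agent.MaxSub.UnitarySimilarity

/-!
# The similarity group of a quadratic form in odd characteristic is maximal in `SL`
-/

set_option autoImplicit false
set_option linter.unusedSectionVars false

namespace CfsgLib.MaxSub

open Matrix Cfsg.Geo

variable {ι : Type} [Fintype ι] [DecidableEq ι] {F : Type*} [Field F] [Fintype F]
  {Q : (ι → F) → F}

local notation "B" => QuadraticMap.polar Q

theorem dotsKer_not_orth (hQ : IsNondegenerateQuadraticForm Q) {k : ℕ} (L : Fin k → ι → F)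
    (hk : Fintype.card ι < 2 * (Fintype.card ι - k)) : ∃ t ∈ dotsKer L, Q t ≠ 0 :=
  exists_nonsingular hQ _ (by have := finrank_dotsKer L; omega)

/-- A matrix rescaling `Q` by a constant that commutes with all Siegel transformations is a
similarity. -/
theorem quadSimilar_of_invariant (hQ : IsNondegenerateQuadraticForm Q)
    (hodd : Odd (Fintype.card F)) (hn : 9 ≤ Fintype.card ι) (g : GL ι F)
    (hinv : ∀ u w : ι → F, Q u = 0 → B w u = 0 → ∀ x,
      Q ((g : Matrix ι ι F) *ᵥ ((sieg Q u w : Matrix ι ι F) *ᵥ x)) = Q ((g : Matrix ι ι F) *ᵥ x)) :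
    g ∈ quadSimilarityGroup Q := by
  have hs := sesqForm_of_quadratic hQ
  have h2 := two_ne_zero_of_odd hodd
  set G : (ι → F) → (ι → F) → F :=
    fun x y => B ((g : Matrix ι ι F) *ᵥ x) ((g : Matrix ι ι F) *ᵥ y) with hG
  have hGinv : ∀ u w, Q u = 0 → B w u = 0 → ∀ x y,
      G ((sieg Q u w : Matrix ι ι F) *ᵥ x) ((sieg Q u w : Matrix ι ι F) *ᵥ y) = G x y := by
    intro u w hu huw x y
    simp only [hG, QuadraticMap.polar, ← mulVec_add, hinv u w hu huw]
  have hGal : ∀ x y z, G (x + y) z = G x z + G y z := fun x y z => by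
    simp only [hG, mulVec_add, hs.add_left]
  have hGsl : ∀ (c : F) x z, G (c • x) z = c * G x z := fun c x z => by
    simp only [hG, mulVec_smul, hs.smul_left]
  have hGsub : ∀ x y z, G (x - y) z = G x z - G y z := fun x y z => by
    simp only [hG, mulVec_sub, hs.sub_left]
  have key : ∀ u, Q u = 0 → u ≠ 0 → ∀ w, B w u = 0 → G w u = 0 := by
    intro u hu hu0
    have huu : B u u = 0 := by rw [polar_self hQ, hu, mul_zero]
    have hfix : ∀ w, B w u = 0 → ∀ y, B y u * G w u - (B y w + Q w * B y u) * G u u = 0 := by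
      intro w huw y
      have := hGinv u w hu huw y u
      rw [sieg_mulVec hQ hu huw, sieg_mulVec hQ hu huw, huu, polar_symm u w, huw] at this
      simp only [zero_smul, mul_zero, add_zero, sub_zero] at this
      rw [hGsub, hGal, hGsl, hGsl] at this
      linear_combination this
    obtain ⟨w, hwu, hwne⟩ : ∃ w, B w u = 0 ∧ w ∉ Submodule.span F {u} := by
      by_contra hcon
      push Not at hcon
      have h1 : dotsKer ![leftVec B u] ≤ Submodule.span F {u} := fun w hw => hcon w (by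
        have := (mem_dotsKer.mp hw) 0
        simpa [leftVec_dot hQ] using this)
      have h3 := Submodule.finrank_mono h1
      have h4 := finrank_dotsKer ![leftVec B u]
      rw [finrank_span_singleton hu0] at h3
      omega
    obtain ⟨y, hyu, hyw⟩ := hs.exists_orth_not_orth (u := u) (v := w)
      fun c hc => hwne (Submodule.mem_span_singleton.mpr ⟨c, hc⟩)
    have huG : G u u = 0 := by
      have := hfix w hwu y
      rw [hyu, hyw] at this
      linear_combination -this
    intro w' hw'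
    obtain ⟨y', hy'⟩ := hs.exists_left_ne_zero hu0
    have := hfix w' hw' y'
    rw [huG, mul_zero, sub_zero] at this
    exact (mul_eq_zero.mp this).resolve_left hy'
  -- the multiplier
  obtain ⟨z₀, -, hz00, hz0⟩ := exists_singular_mem hQ hodd ⊤
    (by rw [finrank_top, Module.finrank_pi]; omega)
  obtain ⟨x₀, hx₀⟩ := hs.exists_left_ne_zero hz00
  have hprop : ∀ u, Q u = 0 → ∀ x₁, B x₁ u ≠ 0 → ∀ x, G x u = G x₁ u / B x₁ u * B x u := by
    intro u hu x₁ hx₁ x
    have hu0 : u ≠ 0 := fun h => hx₁ (h ▸ hs.zero_right x₁)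
    have h0 : B (x - (B x u / B x₁ u) • x₁) u = 0 := by
      rw [hs.sub_left, hs.smul_left, div_mul_cancel₀ _ hx₁, sub_self]
    have := key u hu hu0 _ h0
    rw [hGsub, hGsl, sub_eq_zero] at this
    rw [this]; ring
  set μ := G x₀ z₀ / B x₀ z₀ with hμ
  have hμ0 : ∀ x, G x z₀ = μ * B x z₀ := hprop z₀ hz0 x₀ hx₀
  have htop : hs.similarOn (g : Matrix ι ι F) μ = ⊤ := by
    set S := hs.similarOn (g : Matrix ι ι F) μ with hS
    have h0S : z₀ ∈ S := fun x => hμ0 x
    have hsing : ∀ z, Q z = 0 → B z z₀ ≠ 0 → z ∈ S := by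
      intro z hz hne x
      have hne' : B z₀ z ≠ 0 := by rwa [polar_symm]
      have h1 := hprop z hz z₀ hne' x
      have h3 : G z₀ z = μ * B z₀ z := by
        have := hμ0 z
        simp only [hG] at this ⊢
        rw [polar_symm (Q := Q), this, polar_symm (Q := Q) z z₀]
      rw [h3, mul_div_cancel_right₀ _ hne'] at h1
      exact h1
    have hmem : ∀ w, B w z₀ ≠ 0 → w ∈ S := by
      intro w hw
      set t := - Q w / B w z₀
      have h1 : Q (w + t • z₀) = 0 := by
        rw [quad_add (Q := Q), hQ.smul, hz0, hs.smul_right]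
        simp only [RingEquiv.refl_apply, t]
        field_simp
        ring
      have h3 : B (w + t • z₀) z₀ ≠ 0 := by
        rwa [hs.add_left, hs.smul_left, polar_self hQ, hz0, mul_zero, mul_zero, add_zero]
      simpa using S.sub_mem (hsing _ h1 h3) (S.smul_mem t h0S)
    refine Submodule.eq_top_iff'.mpr fun w => ?_
    by_cases hw : B w z₀ = 0
    · have h1 := hmem (w + x₀) (by rwa [hs.add_left, hw, zero_add])
      simpa using S.sub_mem h1 (hmem x₀ hx₀)
    · exact hmem w hw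
  obtain ⟨c, hc⟩ := hs.mem_similarityGroup_of_similarOn g μ htop
  refine ⟨c, fun v => mul_left_cancel₀ h2 ?_⟩
  rw [← polar_self hQ, hc, polar_self hQ]; ring

/-- A subgroup containing the Siegel transformations of a subspace `u⊥` preserves only the trivial
subspaces of it. -/
theorem le_of_sieg_invariant (hQ : IsNondegenerateQuadraticForm Q) (hodd : Odd (Fintype.card F))
    (hn : 9 ≤ Fintype.card ι) {u x : ι → F} (hxu : B x u = 0) (hx : ∀ c : F, c • u ≠ x)
    (X : Submodule F (ι → F)) (hxX : x ∈ X)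
    (hX : ∀ z w, Q z = 0 → B z u = 0 → B w u = 0 → B w z = 0 →
      ∀ y ∈ X, (sieg Q z w : Matrix ι ι F) *ᵥ y ∈ X)
    (v : ι → F) (hv : B v u = 0) : v ∈ X := by
  have hs := sesqForm_of_quadratic hQ
  have h2 := two_ne_zero_of_odd hodd
  obtain ⟨z, hzu, hz, hzx⟩ := exists_singular_not_orth hQ hodd hn hx
  have hxz : B x z ≠ 0 := by rwa [polar_symm]
  have hboth : ∀ w, B w u = 0 → B w z = 0 →
      (Q w * B x z) • z ∈ X ∧ (B x z • w - B x w • z) ∈ X := by
    intro w hwu hwz
    have hp := X.sub_mem (hX z w hz hzu hwu hwz x hxX) hxX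
    have hwz' : B (-w) z = 0 := by rw [hs.neg_left, hwz, neg_zero]
    have hm := X.sub_mem
      (hX z (-w) hz hzu (by rw [hs.neg_left, hwu, neg_zero]) hwz' x hxX) hxX
    rw [sieg_mulVec hQ hz hwz] at hp
    rw [sieg_mulVec hQ hz hwz', hs.neg_right] at hm
    have hQn : Q (-w) = Q w := by rw [← neg_one_smul F w, hQ.smul]; ring
    rw [hQn] at hm
    refine ⟨?_, ?_⟩
    · have := X.smul_mem (-(2 : F)⁻¹) (X.add_mem hp hm)
      convert this using 1
      match_scalars <;> field_simp <;> ring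
    · have := X.smul_mem (2 : F)⁻¹ (X.sub_mem hp hm)
      convert this using 1
      match_scalars <;> field_simp <;> ring
  obtain ⟨w₀, hw₀, hQw₀⟩ := dotsKer_not_orth hQ ![leftVec B u, leftVec B z] (by omega)
  rw [mem_dotsKer] at hw₀
  have hzX : z ∈ X := by
    have h := (hboth w₀ (by have := hw₀ 0; simpa [leftVec_dot hQ] using this)
      (by have := hw₀ 1; simpa [leftVec_dot hQ] using this)).1
    rwa [X.smul_mem_iff (mul_ne_zero hQw₀ hxz)] at h
  have hperp : ∀ w, B w u = 0 → B w z = 0 → w ∈ X := by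
    intro w hwu hwz
    have := X.add_mem (hboth w hwu hwz).2 (X.smul_mem (B x w) hzX)
    rw [sub_add_cancel, X.smul_mem_iff hxz] at this
    exact this
  have := hperp (v - (B v z / B x z) • x)
    (by rw [hs.sub_left, hs.smul_left, hv, hxu, mul_zero, sub_zero])
    (by rw [hs.sub_left, hs.smul_left, div_mul_cancel₀ _ hxz, sub_self])
  simpa using X.add_mem this (X.smul_mem (B v z / B x z) hxX)

/-- A subgroup with a non-orthogonal conjugate Siegel element contains an isotropic root group. -/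
theorem exists_rootIn_singular (hQ : IsNondegenerateQuadraticForm Q)
    (hodd : Odd (Fintype.card F)) (hn : 10 ≤ Fintype.card ι) {M : Subgroup (GL ι F)}
    (hM : quadSimilarityGroup Q ⊓ specialLinear ι F ≤ M) {g : GL ι F} (hg : g ∈ M)
    (hg' : g ∉ quadSimilarityGroup Q) :
    ∃ u, Q u = 0 ∧ u ≠ 0 ∧ RootIn M u (leftVec B u) := by
  have hs := sesqForm_of_quadratic hQ
  have h2 := two_ne_zero_of_odd hodd
  have hsM : ∀ u w, Q u = 0 → B w u = 0 → sieg Q u w ∈ M := fun u w hu huw =>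
    hM (sieg_mem hQ hu huw)
  obtain ⟨u₁, w₁, hu₁, huw₁, hρ⟩ : ∃ u₁ w₁, Q u₁ = 0 ∧ B w₁ u₁ = 0 ∧
      g * sieg Q u₁ w₁ * g⁻¹ ∉ quadSimilarityGroup Q := by
    by_contra hcon
    push Not at hcon
    refine hg' (quadSimilar_of_invariant hQ hodd (by omega) g fun u w hu huw x => ?_)
    obtain ⟨c, hc⟩ := hcon u w hu huw
    have happ : ∀ y, ((g * sieg Q u w * g⁻¹ : GL ι F) : Matrix ι ι F) *ᵥ
        ((g : Matrix ι ι F) *ᵥ y) =
        (g : Matrix ι ι F) *ᵥ ((sieg Q u w : Matrix ι ι F) *ᵥ y) := by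
      intro y
      simp [mulVec_mulVec, mul_assoc]
    obtain ⟨t, ht, hQt⟩ := dotsKer_not_orth hQ
      ![leftVec B u ᵥ* ((g⁻¹ : GL ι F) : Matrix ι ι F),
        leftVec B w ᵥ* ((g⁻¹ : GL ι F) : Matrix ι ι F)] (by omega)
    rw [mem_dotsKer] at ht
    have htu : B (((g⁻¹ : GL ι F) : Matrix ι ι F) *ᵥ t) u = 0 := by
      rw [← hs.dot_leftVec_conj]; simpa using ht 0
    have htw : B (((g⁻¹ : GL ι F) : Matrix ι ι F) *ᵥ t) w = 0 := by
      rw [← hs.dot_leftVec_conj]; simpa using ht 1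
    have hc1 : (c : F) = 1 := by
      have := hc t
      rw [show ((g * sieg Q u w * g⁻¹ : GL ι F) : Matrix ι ι F) *ᵥ t = t by
        have h := happ (((g⁻¹ : GL ι F) : Matrix ι ι F) *ᵥ t)
        rw [sieg_mulVec hQ hu huw, htu, htw] at h
        simpa [mulVec_mulVec, mul_assoc] using h] at this
      exact (mul_eq_right₀ hQt).mp this.symm
    rw [← happ, hc, hc1, one_mul]
  set ρ := g * sieg Q u₁ w₁ * g⁻¹ with hρdef
  have hρM : ρ ∈ M := M.mul_mem (M.mul_mem hg (hsM _ _ hu₁ huw₁)) (M.inv_mem hg)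
  clear_value ρ
  have hρinv : ρ⁻¹ ∉ quadSimilarityGroup Q := fun h => hρ (by simpa using inv_mem h)
  obtain ⟨x₀, hx₀⟩ : ∃ x₀, Q (((ρ⁻¹ : GL ι F) : Matrix ι ι F) *ᵥ x₀) ≠ Q x₀ := by
    by_contra hcon
    push Not at hcon
    exact hρinv ⟨1, fun v => by rw [hcon, Units.val_one, one_mul]⟩
  set P := (g : Matrix ι ι F) *ᵥ u₁ with hP
  set R := (g : Matrix ι ι F) *ᵥ w₁ with hR
  obtain ⟨u, huN, hu0, hu⟩ := exists_singular_mem hQ hodd
    (dotsKer ![leftVec B u₁ ᵥ* ((g⁻¹ : GL ι F) : Matrix ι ι F),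
        leftVec B w₁ ᵥ* ((g⁻¹ : GL ι F) : Matrix ι ι F), leftVec B P, leftVec B R, leftVec B x₀])
    (by
      have := finrank_dotsKer ![leftVec B u₁ ᵥ* ((g⁻¹ : GL ι F) : Matrix ι ι F),
        leftVec B w₁ ᵥ* ((g⁻¹ : GL ι F) : Matrix ι ι F), leftVec B P, leftVec B R, leftVec B x₀]
      omega)
  rw [mem_dotsKer] at huN
  have hu1 : B (((g⁻¹ : GL ι F) : Matrix ι ι F) *ᵥ u) u₁ = 0 := by
    rw [← hs.dot_leftVec_conj]; simpa using huN 0
  have hu2 : B (((g⁻¹ : GL ι F) : Matrix ι ι F) *ᵥ u) w₁ = 0 := by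
    rw [← hs.dot_leftVec_conj]; simpa using huN 1
  have huP : B u P = 0 := by have := huN 2; simpa [leftVec_dot hQ] using this
  have huR : B u R = 0 := by have := huN 3; simpa [leftVec_dot hQ] using this
  have hux : B u x₀ = 0 := by have := huN 4; simpa [leftVec_dot hQ] using this
  have hxu : B x₀ u = 0 := by rwa [polar_symm]
  have hρu : (ρ : Matrix ι ι F) *ᵥ u = u := by
    have h := sieg_mulVec hQ hu₁ huw₁ (((g⁻¹ : GL ι F) : Matrix ι ι F) *ᵥ u)
    rw [hu1, hu2] at h
    simp only [zero_smul, mul_zero, add_zero, sub_zero] at h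
    rw [hρdef, Units.val_mul, Units.val_mul, ← mulVec_mulVec, ← mulVec_mulVec, h, mulVec_mulVec,
      Units.mul_inv, one_mulVec]
  have hρB : ∀ y, B (((ρ⁻¹ : GL ι F) : Matrix ι ι F) *ᵥ y) u = B y u := by
    intro y
    set r := ((ρ⁻¹ : GL ι F) : Matrix ι ι F) *ᵥ y
    have hy : y = (ρ : Matrix ι ι F) *ᵥ r := by simp [r, mulVec_mulVec]
    rw [hy]
    have h := sieg_mulVec hQ hu₁ huw₁ (((g⁻¹ : GL ι F) : Matrix ι ι F) *ᵥ r)
    rw [hρdef, Units.val_mul, Units.val_mul, ← mulVec_mulVec, ← mulVec_mulVec, h, mulVec_sub,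
      mulVec_add, mulVec_smul, mulVec_smul, mulVec_mulVec, Units.mul_inv, one_mulVec, hs.sub_left,
      hs.add_left, hs.smul_left, hs.smul_left, ← hP, ← hR, polar_symm P u, polar_symm R u, huP,
      huR]
    ring
  set x₀' := ((ρ⁻¹ : GL ι F) : Matrix ι ι F) *ᵥ x₀ with hx0'
  have hx'u : B x₀' u = 0 := by rw [hρB, hxu]
  set d := 2 * (Q x₀' - Q x₀) with hd
  have hd0 : d ≠ 0 := mul_ne_zero h2 (sub_ne_zero.mpr hx₀)
  clear_value x₀' d
  refine ⟨u, hu, hu0, by rw [leftVec_dot hQ, polar_self hQ, hu, mul_zero], fun c => ?_⟩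
  obtain ⟨s₁, hs1def⟩ : ∃ s, s = sieg Q u ((c / d) • x₀) := ⟨_, rfl⟩
  obtain ⟨s₂, hs2def⟩ : ∃ s, s = ρ * sieg Q u x₀' * ρ⁻¹ := ⟨_, rfl⟩
  have hcu : B ((c / d) • x₀) u = 0 := by rw [hs.smul_left, hxu, mul_zero]
  have hs1 : s₁ ∈ M := hs1def ▸ hsM _ _ hu hcu
  have hs2 : s₂ ∈ M := hs2def ▸ M.mul_mem (M.mul_mem hρM (hsM _ _ hu hx'u)) (M.inv_mem hρM)
  have key : s₁ * s₂ = tv (c • u) (leftVec B u) * (s₂ * s₁) := by
    refine gl_ext fun x => ?_
    have hB1 : ∀ x, (s₁ : Matrix ι ι F) *ᵥ x = x + B x u • ((c / d) • x₀) -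
        ((c / d) * B x x₀ + (c / d) ^ 2 * Q x₀ * B x u) • u := by
      intro x
      rw [hs1def, sieg_mulVec hQ hu hcu, hs.smul_right, hQ.smul]
      rfl
    have hB2 : ∀ x, (s₂ : Matrix ι ι F) *ᵥ x = x + B x u • x₀ -
        (B (((ρ⁻¹ : GL ι F) : Matrix ι ι F) *ᵥ x) x₀' + Q x₀' * B x u) • u := by
      intro x
      have h := sieg_mulVec hQ hu hx'u (((ρ⁻¹ : GL ι F) : Matrix ι ι F) *ᵥ x)
      rw [hρB] at h
      rw [hs2def, Units.val_mul, Units.val_mul, ← mulVec_mulVec, ← mulVec_mulVec, h, mulVec_sub,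
        mulVec_add, mulVec_smul, mulVec_smul, mulVec_mulVec, Units.mul_inv, one_mulVec, hx0',
        mulVec_mulVec, Units.mul_inv, one_mulVec, hρu]
    have huu : B u u = 0 := by rw [polar_self hQ, hu, mul_zero]
    have hρ'u : ((ρ⁻¹ : GL ι F) : Matrix ι ι F) *ᵥ u = u := by
      conv_lhs => rw [← hρu]
      rw [mulVec_mulVec, Units.inv_mul, one_mulVec]
    rw [Units.val_mul, Units.val_mul, Units.val_mul, ← mulVec_mulVec, ← mulVec_mulVec,
      ← mulVec_mulVec, tv_mulVec (by rw [leftVec_dot hQ, hs.smul_left, huu, mul_zero]),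
      leftVec_dot hQ]
    simp only [hB1, hB2, hs.sub_left, hs.add_left, hs.smul_left,
      mulVec_sub, mulVec_add, mulVec_smul, hρ'u, ← hx0', polar_symm u x₀', hx'u, hxu, hux, huu,
      polar_self hQ x₀, polar_self hQ x₀']
    match_scalars
    all_goals first | ring1 | linear_combination -(B x u * c * d⁻¹) * hd + (B x u * c) * inv_mul_cancel₀ hd0
  have : tv (c • u) (leftVec B u) = s₁ * s₂ * (s₂ * s₁)⁻¹ := by rw [key, mul_inv_cancel_right]
  rw [this]
  exact M.mul_mem (M.mul_mem hs1 hs2) (M.inv_mem (M.mul_mem hs2 hs1))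

/-- A subgroup containing the quadratic similarities of determinant one and something else contains
`SL`. -/
theorem specialLinear_le_of_quadratic (hQ : IsNondegenerateQuadraticForm Q)
    (hodd : Odd (Fintype.card F)) (hn : 10 ≤ Fintype.card ι) {M : Subgroup (GL ι F)}
    (hM : quadSimilarityGroup Q ⊓ specialLinear ι F ≤ M) {g : GL ι F} (hg : g ∈ M)
    (hg' : g ∉ quadSimilarityGroup Q) : specialLinear ι F ≤ M := by
  have hs := sesqForm_of_quadratic hQ
  have h2 := two_ne_zero_of_odd hodd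
  have hsM : ∀ u w, Q u = 0 → B w u = 0 → sieg Q u w ∈ M := fun u w hu huw =>
    hM (sieg_mem hQ hu huw)
  obtain ⟨u, hu, hu0, hRu⟩ := exists_rootIn_singular hQ hodd hn hM hg hg'
  have huu : B u u = 0 := by rw [polar_self hQ, hu, mul_zero]
  have hne : ∀ c : F, c • (0 : ι → F) ≠ u := fun c hc => hu0 (by simpa using hc.symm)
  -- a second such root group, not orthogonal to the first
  obtain ⟨z, -, hz, hzu⟩ := exists_singular_not_orth hQ hodd (by omega) hne
  obtain ⟨w, hw, hQw⟩ := dotsKer_not_orth hQ ![leftVec B z] (by omega)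
  have hwz : B w z = 0 := by have := (mem_dotsKer.mp hw) 0; simpa [leftVec_dot hQ] using this
  have hiso : ∀ x, Q ((sieg Q z w : Matrix ι ι F) *ᵥ x) = Q x := sieg_quad hQ hz hwz
  set u₂ := (sieg Q z w : Matrix ι ι F) *ᵥ u with hu2
  have hR2 : RootIn M u₂ (leftVec B u₂) := by
    have := hRu.conj (hsM z w hz hwz)
    rwa [leftVec_conj_isometry hQ hiso] at this
  set k := B u₂ u with hk
  have hk0 : k ≠ 0 := by
    have huz : B u z ≠ 0 := by rwa [polar_symm]
    rw [hk, hu2, sieg_mulVec hQ hz hwz, hs.sub_left, hs.add_left, hs.smul_left, hs.smul_left, huu,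
      polar_symm w u, polar_symm z u,
      show 0 + B u z * B u w - (B u w + Q w * B u z) * B u z = -(Q w * B u z ^ 2) by ring]
    exact neg_ne_zero.mpr (mul_ne_zero hQw (pow_ne_zero _ huz))
  have hu22 : Q u₂ = 0 := by rw [hu2, hiso, hu]
  have hku : B u u₂ = k := polar_symm u u₂
  have h22 : leftVec B u₂ ⬝ᵥ u₂ = 0 := by rw [leftVec_dot hQ, polar_self hQ, hu22, mul_zero]
  -- a root group whose centre and axis are not proportional
  set v' := u + k • u₂ with hv'
  set u' := u - k • u₂ with hu'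
  have hR' : RootIn M v' (leftVec B u') := by
    have h := hRu.conj hR2.mem
    rw [tv_mulVec h22, leftVec_dot hQ, hku, tv_inv,
      vecMul_tv (by rw [dotProduct_neg, h22, neg_zero]), dotProduct_neg, leftVec_dot hQ, ← hk] at h
    convert h using 1
    rw [hu', sub_eq_add_neg, ← neg_smul, hs.leftVec_add, hs.leftVec_smul]
    rfl
  have hv'u' : B v' u' = 0 := by rw [← leftVec_dot hQ]; exact hR'.1
  have hne' : ∀ c : F, c • u' ≠ v' := by
    intro c hc
    have e1 : B (c • u') u = B v' u := by rw [hc]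
    have e2 : B (c • u') u₂ = B v' u₂ := by rw [hc]
    simp only [hu', hv', hs.smul_left, hs.sub_left, hs.add_left, huu, hku, ← hk, polar_self hQ u₂,
      hu22, mul_zero, sub_zero, zero_sub, zero_add, add_zero] at e1 e2
    have hc1 : c = 1 := (mul_eq_right₀ hk0).mp e2
    rw [hc1, one_mul] at e1
    have : 2 * (k * k) = 0 := by linear_combination -e1
    simp [h2, hk0] at this
  have hu'0 : u' ≠ 0 := by
    intro h
    have e : B u' u₂ = 0 := by rw [h, hs.zero_left]
    rw [hu', hs.sub_left, hs.smul_left, hku, polar_self hQ, hu22] at e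
    exact hk0 (by linear_combination e)
  have hfull : FullAxis M (leftVec B u') := by
    refine fullAxis_of_centres fun v hv => ?_
    rw [leftVec_dot hQ] at hv
    refine le_of_sieg_invariant hQ hodd (by omega) hv'u' hne' _ (mem_centres.mpr hR')
      (fun a b ha hau hbu hba y hy => ?_) v hv
    have hfix : (sieg Q a b : Matrix ι ι F) *ᵥ u' = u' := by
      rw [sieg_mulVec hQ ha hba, polar_symm u' a, hau, polar_symm u' b, hbu]
      simp
    have := (mem_centres.mp hy).conj (hsM a b ha hba)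
    rw [leftVec_conj_isometry hQ (sieg_quad hQ ha hba), hfix] at this
    exact this
  refine specialLinear_le_of_fullAxis (fun X hX => ?_) (hs.leftVec_ne_zero hu'0) hfull
  by_contra hcon
  push Not at hcon
  obtain ⟨x, hxX, hx0⟩ := Submodule.exists_mem_ne_zero_of_ne_bot hcon.1
  refine hcon.2 (Submodule.eq_top_iff'.mpr fun v => ?_)
  exact le_of_sieg_invariant hQ hodd (by omega) (hs.zero_right x)
    (fun c hc => hx0 (by simpa using hc.symm)) X hxX
    (fun a b ha _ _ hba y hy => hX _ (hsM a b ha hba) y hy) v (hs.zero_right v)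

/-- In dimension at least ten and odd characteristic the similarity group of a quadratic form is
maximal in `SL`. -/
theorem isMaximalIn_quadratic (hQ : IsNondegenerateQuadraticForm Q) (hodd : Odd (Fintype.card F))
    (hn : 10 ≤ Fintype.card ι) :
    IsMaximalIn (specialLinear ι F) (quadSimilarityGroup Q ⊓ specialLinear ι F) := by
  refine isMaximalIn_of inf_le_right ?_ fun M hHM hMK g hg hg' =>
    specialLinear_le_of_quadratic hQ hodd hn hHM hg fun h => hg' ⟨h, hMK hg⟩
  obtain ⟨v, a, h⟩ := (sesqForm_of_quadratic hQ).exists_tv_not_similar (by omega)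
  refine ⟨tv v a, tv_mem_specialLinear v a, fun h' => h ?_⟩
  obtain ⟨c, hc⟩ := h'.1
  exact ⟨c, fun x y => by simp only [QuadraticMap.polar, ← mulVec_add, hc]; ring⟩

end CfsgLib.MaxSub
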