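import Cfsg.Agent.MaxSub.Decomposition
import Cfsg.Agent.MaxSub.QuadraticSimilarity

/-!
# Small exceptions: stabilisers of decompositions that are not maximal in `SL`
-/

set_option autoImplicit false
set_option linter.unusedSectionVars false

namespace CfsgLib.MaxSub

open Matrix Cfsg.Geo

variable {ι : Type} [Fintype ι] [DecidableEq ι] {F : Type*} [Field F] [Fintype F]

theorem eq_one_of_card_two (h : Fintype.card F = 2) {a : F} (ha : a ≠ 0) : a = 1 := by
  have := FiniteField.pow_card_sub_one_eq_one a ha
  rwa [h, pow_one] at this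

theorem two_eq_zero_of_card_two (h : Fintype.card F = 2) : (2 : F) = 0 := by
  have h' := FiniteField.cast_card_eq_zero F
  rw [h] at h'
  exact_mod_cast h'

theorem two_eq_zero_of_card_four (h : Fintype.card F = 4) : (2 : F) = 0 := by
  have h' := FiniteField.cast_card_eq_zero F
  rw [h] at h'
  have h4 : (2 : F) * 2 = 0 := by
    rw [show (2 : F) * 2 = ((4 : ℕ) : F) by norm_num]; exact h'
  exact mul_self_eq_zero.mp h4

theorem sq_eq_one_of_card_three (h : Fintype.card F = 3) {a : F} (ha : a ≠ 0) : a * a = 1 := by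
  have := FiniteField.pow_card_sub_one_eq_one a ha
  rwa [h, pow_two] at this

theorem exists_square_automorphism (h : Fintype.card F = 4) :
    ∃ σ : F ≃+* F, σ ≠ RingEquiv.refl F ∧ (∀ a, σ (σ a) = a) ∧ ∀ a, σ a = a ^ 2 := by
  have he : ¬ Odd (Fintype.card F) := by rw [h]; decide
  have h2 : ringChar F = 2 :=
    FiniteField.even_card_iff_char_two.mpr (Nat.even_iff.mp (Nat.not_odd_iff_even.mp he))
  have : CharP F 2 := ringChar.of_eq h2
  let σ : F ≃+* F := frobeniusEquiv F 2
  have hσ : ∀ a, σ a = a ^ 2 := fun a => rfl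
  refine ⟨σ, fun hr => ?_, fun a => ?_, hσ⟩
  · have hall : ∀ a : F, a = 0 ∨ a = 1 := by
      intro a
      have e : σ a = a := by rw [hr]; rfl
      rw [hσ, pow_two] at e
      rcases eq_or_ne a 0 with h0 | h0
      · exact Or.inl h0
      · exact Or.inr ((mul_eq_right₀ h0).mp e)
    classical
    have h1 : (Finset.univ : Finset F) ⊆ {0, 1} := fun a _ => by
      simpa using hall a
    have := Finset.card_le_card h1
    rw [Finset.card_univ, h, Finset.card_pair zero_ne_one] at this
    omega
  · rw [hσ, hσ, ← pow_mul, show 2 * 2 = Fintype.card F by rw [h], FiniteField.pow_card]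

/-- A matrix sending a vector of one member outside every member is not in the stabiliser. -/
theorem notMem_decompositionStabilizer {t m : ℕ} {D : Fin t → Submodule F (ι → F)}
    {a : Fin t → Fin m → ι → F} (hzero : ∀ i j r, i ≠ j → ∀ x ∈ D j, a i r ⬝ᵥ x = 0)
    {g : GL ι F} {i j l : Fin t} {r s : Fin m} {x : ι → F} (hjl : j ≠ l) (hx : x ∈ D i)
    (h1 : a j r ⬝ᵥ ((g : Matrix ι ι F) *ᵥ x) ≠ 0)
    (h2 : a l s ⬝ᵥ ((g : Matrix ι ι F) *ᵥ x) ≠ 0) : g ∉ decompositionStabilizer D := by
  rintro ⟨σ, hσ⟩
  have hmem : (g : Matrix ι ι F) *ᵥ x ∈ D (σ i) := by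
    rw [← hσ i]; exact ⟨x, hx, by rw [toLin'_apply]⟩
  have e1 : j = σ i := not_not.mp fun h => h1 (hzero _ _ _ h _ hmem)
  have e2 : l = σ i := not_not.mp fun h => h2 (hzero _ _ _ h _ hmem)
  exact hjl (e1.trans e2.symm)

/-- The exceptional decomposition stabilisers are not maximal. -/
theorem not_maximal_decomposition (hn : 10 ≤ Fintype.card ι) {t m : ℕ}
    {D : Fin t → Submodule F (ι → F)} (hD : IsMDecomposition m D)
    (h : (m = 1 ∧ Fintype.card F ≤ 4) ∨ (m = 2 ∧ Fintype.card F = 2)) :
    ∃ K : Subgroup (GL ι F),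
      decompositionStabilizer D ⊓ specialLinear ι F < K ∧ K < specialLinear ι F := by
  obtain ⟨b, a, hb, hdual, hzero, hsum⟩ := exists_decompCoords hD
  have hcard : Fintype.card ι ≤ t * m := by
    have := finrank_dotsKer (fun k : Fin (t * m) => a (finProdFinEquiv.symm k).1 (finProdFinEquiv.symm k).2)
    have hker : dotsKer (fun k : Fin (t * m) =>
        a (finProdFinEquiv.symm k).1 (finProdFinEquiv.symm k).2) = ⊥ := by
      rw [eq_bot_iff]
      intro x hx
      rw [mem_dotsKer] at hx
      rw [Submodule.mem_bot, hsum x]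
      refine Finset.sum_eq_zero fun i _ => Finset.sum_eq_zero fun r _ => ?_
      have := hx (finProdFinEquiv (i, r))
      rw [Equiv.symm_apply_apply] at this
      rw [this, zero_smul]
    rw [hker, finrank_bot] at this
    omega
  have hd : ∀ i r, a i r ⬝ᵥ b i r = 1 := fun i r => by rw [hdual, if_pos ⟨rfl, rfl⟩]
  have hd' : ∀ i j r s, i ≠ j → a i r ⬝ᵥ b j s = 0 := fun i j r s hij => by
    rw [hdual, if_neg fun h => hij h.1]
  rcases h with ⟨rfl, hq⟩ | ⟨rfl, hq⟩
  · -- decompositions into lines
    have ht : 10 ≤ t := by omega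
    set i₀ : Fin t := ⟨0, by omega⟩
    set i₁ : Fin t := ⟨1, by omega⟩
    set i₂ : Fin t := ⟨2, by omega⟩
    set i₃ : Fin t := ⟨3, by omega⟩
    have h01 : i₀ ≠ i₁ := by simp [i₀, i₁, Fin.ext_iff]
    have h02 : i₀ ≠ i₂ := by simp [i₀, i₂, Fin.ext_iff]
    have h03 : i₀ ≠ i₃ := by simp [i₀, i₃, Fin.ext_iff]
    have h12 : i₁ ≠ i₂ := by simp [i₁, i₂, Fin.ext_iff]
    have h13 : i₁ ≠ i₃ := by simp [i₁, i₃, Fin.ext_iff]
    have h23 : i₂ ≠ i₃ := by simp [i₂, i₃, Fin.ext_iff]
    have hcoef : ∀ (g : GL ι F) (σ : Equiv.Perm (Fin t)),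
        (∀ i, (D i).map (Matrix.toLin' (g : Matrix ι ι F)) = D (σ i)) →
        ∃ c : Fin t → F, (∀ i, c i ≠ 0) ∧
          ∀ x i, a (σ i) 0 ⬝ᵥ ((g : Matrix ι ι F) *ᵥ x) = c i * (a i 0 ⬝ᵥ x) := by
      intro g σ hσ
      refine ⟨fun i => a (σ i) 0 ⬝ᵥ ((g : Matrix ι ι F) *ᵥ b i 0), fun i hi => ?_, fun x i => ?_⟩
      · have hmem : (g : Matrix ι ι F) *ᵥ b i 0 ∈ D (σ i) := by
          rw [← hσ i]; exact ⟨_, hb i 0, by rw [toLin'_apply]⟩
        have h0 : (g : Matrix ι ι F) *ᵥ b i 0 = 0 := by
          rw [hsum ((g : Matrix ι ι F) *ᵥ b i 0)]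
          refine Finset.sum_eq_zero fun j _ => ?_
          rw [Fin.sum_univ_one]
          rcases eq_or_ne j (σ i) with rfl | hj
          · simp only at hi
            rw [hi, zero_smul]
          · rw [hzero j (σ i) 0 hj _ hmem, zero_smul]
        have e := congrArg (fun y => a i 0 ⬝ᵥ (((g⁻¹ : GL ι F) : Matrix ι ι F) *ᵥ y)) h0
        simp [mulVec_mulVec, hd] at e
      · rw [coords_of_stabilizes hb hzero hsum hσ x i 0, Fin.sum_univ_one, mul_comm]
    have hre : ∀ (σ : Equiv.Perm (Fin t)) (G : Fin t → F), ∑ i, G (σ i) = ∑ i, G i :=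
      fun σ G => Equiv.sum_comp σ G
    have hcases : Fintype.card F = 2 ∨ Fintype.card F = 3 ∨ Fintype.card F = 4 := by
      have := Fintype.one_lt_card (α := F); omega
    rcases hcases with h2 | h3 | h4
    · -- two elements: the sum of the basis is fixed
      have h20 : (2 : F) = 0 := two_eq_zero_of_card_two h2
      set v := ∑ i, b i 0 with hv
      have hav : ∀ j, a j 0 ⬝ᵥ v = 1 := by
        intro j
        rw [hv, dotProduct_sum, Finset.sum_eq_single j (fun i _ hij => hd' _ _ _ _ (Ne.symm hij))
          (fun h => absurd (Finset.mem_univ j) h), hd]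
      set ax := a i₀ 0 + a i₁ 0 with hax
      have haxv : ax ⬝ᵥ v = 0 := by
        rw [hax, add_dotProduct, hav, hav, one_add_one_eq_two, h20]
      have hv0 : v ≠ 0 := fun h => by
        have := hav i₀; rw [h, dotProduct_zero] at this; exact zero_ne_one this
      refine ⟨subspaceStabilizer (Submodule.span F {v}) ⊓ specialLinear ι F, ?_,
        (isMaximalIn_subspaceStabilizer (by simpa using hv0) fun htop => ?_).1⟩
      · refine lt_of_le_of_ne (fun g hg => ⟨?_, hg.2⟩) fun heq => ?_
        · obtain ⟨σ, hσ⟩ := hg.1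
          obtain ⟨c, hc0, hc⟩ := hcoef g σ hσ
          have hgv : (g : Matrix ι ι F) *ᵥ v = v := by
            rw [hsum ((g : Matrix ι ι F) *ᵥ v), hv]
            refine Finset.sum_congr rfl fun j _ => ?_
            rw [Fin.sum_univ_one, ← hv]
            obtain ⟨i, rfl⟩ := σ.surjective j
            rw [hc v i, hav, mul_one, eq_one_of_card_two h2 (hc0 i), one_smul]
          refine mem_subspaceStabilizer_of_le fun x hx => ?_
          obtain ⟨d, rfl⟩ := Submodule.mem_span_singleton.mp hx
          rw [mulVec_smul, hgv]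
          exact hx
        · have hmem : tv v ax ∈ subspaceStabilizer (Submodule.span F {v}) ⊓ specialLinear ι F :=
            ⟨tv_mem_stabilizer_of_centre haxv (Submodule.mem_span_singleton_self v),
              tv_mem_specialLinear _ _⟩
          rw [← heq] at hmem
          refine notMem_decompositionStabilizer hzero (j := i₂) (l := i₃) (r := 0) (s := 0) h23
            (hb i₀ 0) ?_ ?_ hmem.1
          all_goals
            rw [tv_mulVec haxv, hax, add_dotProduct, hd, hd' _ _ _ _ (Ne.symm h01), add_zero,
              one_smul, dotProduct_add, hav]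
          · rw [hd' _ _ _ _ (Ne.symm h02), zero_add]; exact one_ne_zero
          · rw [hd' _ _ _ _ (Ne.symm h03), zero_add]; exact one_ne_zero
      · have := congrArg (fun W : Submodule F (ι → F) => Module.finrank F W) htop
        simp only [finrank_span_singleton hv0, finrank_top, Module.finrank_pi] at this
        omega
    · -- three elements: a quadratic form
      set Q : (ι → F) → F := fun x => ∑ i, (a i 0 ⬝ᵥ x) ^ 2 with hQdef
      have hodd : Odd (Fintype.card F) := by rw [h3]; decide
      have h2 := two_ne_zero_of_odd hodd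
      have hpol : ∀ x y, QuadraticMap.polar Q x y = ∑ i, 2 * ((a i 0 ⬝ᵥ x) * (a i 0 ⬝ᵥ y)) := by
        intro x y
        simp only [QuadraticMap.polar, hQdef, ← Finset.sum_sub_distrib, dotProduct_add]
        exact Finset.sum_congr rfl fun i _ => by ring
      have hbv : ∀ x j, QuadraticMap.polar Q x (b j 0) = 2 * (a j 0 ⬝ᵥ x) := by
        intro x j
        rw [hpol, Finset.sum_eq_single j (fun i _ hij => by rw [hd' _ _ _ _ hij]; ring)
          (fun h => absurd (Finset.mem_univ j) h), hd]
        ring
      have hne : ∀ x : ι → F, x ≠ 0 → ∃ j, a j 0 ⬝ᵥ x ≠ 0 := by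
        intro x hx
        by_contra h
        push Not at h
        refine hx ?_
        rw [hsum x]
        exact Finset.sum_eq_zero fun i _ => by rw [Fin.sum_univ_one, h i, zero_smul]
      have hQ : IsNondegenerateQuadraticForm Q := by
        refine ⟨fun c x => ?_, ⟨?_, ?_, ?_, ?_⟩, fun x hx => ?_⟩
        · simp only [hQdef, dotProduct_smul, smul_eq_mul, Finset.mul_sum]
          exact Finset.sum_congr rfl fun i _ => by ring
        · intro x y z
          simp only [hpol, dotProduct_add, ← Finset.sum_add_distrib]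
          exact Finset.sum_congr rfl fun i _ => by ring
        · intro c x z
          simp only [hpol, dotProduct_smul, smul_eq_mul, Finset.mul_sum]
          exact Finset.sum_congr rfl fun i _ => by ring
        · intro z x y
          simp only [hpol, dotProduct_add, ← Finset.sum_add_distrib]
          exact Finset.sum_congr rfl fun i _ => by ring
        · intro c z x
          simp only [hpol, dotProduct_smul, smul_eq_mul, Finset.mul_sum]
          exact Finset.sum_congr rfl fun i _ => by ring
        · obtain ⟨j, hj⟩ := hne x hx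
          exact ⟨⟨b j 0, by rw [polar_symm (Q := Q), hbv]; exact mul_ne_zero h2 hj⟩,
            ⟨b j 0, by rw [hbv]; exact mul_ne_zero h2 hj⟩⟩
      refine ⟨quadSimilarityGroup Q ⊓ specialLinear ι F, ?_,
        (isMaximalIn_quadratic hQ hodd hn).1⟩
      refine lt_of_le_of_ne (fun g hg => ⟨⟨1, fun x => ?_⟩, hg.2⟩) fun heq => ?_
      · obtain ⟨σ, hσ⟩ := hg.1
        obtain ⟨c, hc0, hc⟩ := hcoef g σ hσ
        rw [Units.val_one, one_mul, hQdef]
        simp only
        rw [← hre σ]
        refine Finset.sum_congr rfl fun i _ => ?_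
        rw [hc, mul_pow, pow_two (c i), sq_eq_one_of_card_three h3 (hc0 i), one_mul]
      · set u := b i₀ 0 + b i₁ 0 + b i₂ 0 with hu
        have h30 : (3 : F) = 0 := by
          have h := FiniteField.cast_card_eq_zero F
          rw [h3] at h
          exact_mod_cast h
        have hQu : Q u = 0 := by
          rw [hu, quad_add (Q := Q), quad_add (Q := Q),
            (sesqForm_of_quadratic hQ).add_left, hbv, hbv, hbv, hd' _ _ _ _ (Ne.symm h01),
            hd' _ _ _ _ (Ne.symm h02), hd' _ _ _ _ (Ne.symm h12)]
          have hQb : ∀ i, Q (b i 0) = 1 := by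
            intro i
            simp only [hQdef]
            rw [Finset.sum_eq_single i (fun j _ hij => by rw [hd' _ _ _ _ hij]; ring)
              (fun h => absurd (Finset.mem_univ i) h), hd, one_pow]
          rw [hQb, hQb, hQb]
          linear_combination h30
        have hQ3 : Q (b i₃ 0) = 1 := by
          simp only [hQdef]
          rw [Finset.sum_eq_single i₃ (fun j _ hij => by rw [hd' _ _ _ _ hij]; ring)
            (fun h => absurd (Finset.mem_univ i₃) h), hd, one_pow]
        have hwu : QuadraticMap.polar Q (b i₃ 0) u = 0 := by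
          rw [polar_symm (Q := Q), hbv, hu, dotProduct_add, dotProduct_add,
            hd' _ _ _ _ (Ne.symm h03), hd' _ _ _ _ (Ne.symm h13), hd' _ _ _ _ (Ne.symm h23)]
          ring
        have hmem := sieg_mem hQ hQu hwu
        rw [← heq] at hmem
        have hb0u : QuadraticMap.polar Q (b i₀ 0) u = 2 := by
          rw [polar_symm (Q := Q), hbv, hu, dotProduct_add, dotProduct_add, hd,
            hd' _ _ _ _ h01, hd' _ _ _ _ h02]
          ring
        have hb03 : QuadraticMap.polar Q (b i₀ 0) (b i₃ 0) = 0 := by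
          rw [hbv, hd' _ _ _ _ (Ne.symm h03), mul_zero]
        refine notMem_decompositionStabilizer hzero (j := i₁) (l := i₃) (r := 0) (s := 0) h13
          (hb i₀ 0) ?_ ?_ hmem.1
        all_goals
          rw [sieg_mulVec hQ hQu hwu, hb0u, hb03, hQ3, one_mul, zero_add, dotProduct_sub,
            dotProduct_add, dotProduct_smul, dotProduct_smul, hu, dotProduct_add, dotProduct_add,
            smul_eq_mul, smul_eq_mul]
        · rw [hd' _ _ _ _ (Ne.symm h01), hd' _ _ _ _ h13, hd, hd' _ _ _ _ h12]
          simpa using h2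
        · rw [hd' _ _ _ _ (Ne.symm h03), hd, hd' _ _ _ _ (Ne.symm h13),
            hd' _ _ _ _ (Ne.symm h23)]
          simpa using h2
    · -- four elements: a Hermitian form
      obtain ⟨σ₀, hne₀, hinv₀, hσ₀⟩ := exists_square_automorphism h4
      set f : (ι → F) → (ι → F) → F := fun x y => ∑ i, (a i 0 ⬝ᵥ x) * σ₀ (a i 0 ⬝ᵥ y) with hfdef
      have hfb : ∀ x j, f (b j 0) x = σ₀ (a j 0 ⬝ᵥ x) := by
        intro x j
        simp only [hfdef]
        rw [Finset.sum_eq_single j (fun i _ hij => by rw [hd' _ _ _ _ hij, zero_mul])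
          (fun h => absurd (Finset.mem_univ j) h), hd, one_mul]
      have hherm : ∀ x y, f x y = σ₀ (f y x) := by
        intro x y
        simp only [hfdef, map_sum, map_mul, hinv₀]
        exact Finset.sum_congr rfl fun i _ => mul_comm _ _
      have hf : IsUnitaryForm σ₀ f := by
        refine ⟨hne₀, hinv₀, ?_, ?_, hherm, fun x hx => ?_⟩
        · intro x y z
          simp only [hfdef, dotProduct_add, ← Finset.sum_add_distrib]
          exact Finset.sum_congr rfl fun i _ => by ring
        · intro c x z
          simp only [hfdef, dotProduct_smul, smul_eq_mul, Finset.mul_sum]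
          exact Finset.sum_congr rfl fun i _ => by ring
        · obtain ⟨j, hj⟩ : ∃ j, a j 0 ⬝ᵥ x ≠ 0 := by
            by_contra h
            push Not at h
            refine hx ?_
            rw [hsum x]
            exact Finset.sum_eq_zero fun i _ => by rw [Fin.sum_univ_one, h i, zero_smul]
          exact ⟨⟨b j 0, by rw [hfb]; simpa using hj⟩,
            ⟨b j 0, by rw [hherm, hfb, hinv₀]; exact hj⟩⟩
      refine ⟨similarityGroup f ⊓ specialLinear ι F, ?_,
        (isMaximalIn_unitary hf (by omega)).1⟩
      refine lt_of_le_of_ne (fun g hg => ⟨⟨1, fun x y => ?_⟩, hg.2⟩) fun heq => ?_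
      · obtain ⟨σ, hσ⟩ := hg.1
        obtain ⟨c, hc0, hc⟩ := hcoef g σ hσ
        rw [Units.val_one, one_mul]
        simp only [hfdef]
        rw [← hre σ]
        refine Finset.sum_congr rfl fun i _ => ?_
        rw [hc, hc, map_mul, hσ₀ (c i)]
        have h3' : c i * c i ^ 2 = 1 := by
          have := FiniteField.pow_card_sub_one_eq_one (c i) (hc0 i)
          rw [h4] at this
          linear_combination this
        linear_combination (a i 0 ⬝ᵥ x) * σ₀ (a i 0 ⬝ᵥ y) * h3'
      · set v := b i₀ 0 + b i₁ 0 + b i₂ 0 + b i₃ 0 with hv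
        have h20 : (2 : F) = 0 := two_eq_zero_of_card_four h4
        have hfbv : ∀ j, f (b j 0) v = σ₀ (a j 0 ⬝ᵥ v) := fun j => hfb v j
        have hs := sesqForm_of_unitary hf
        have hv0 : a i₀ 0 ⬝ᵥ v = 1 := by
          simp [hv, dotProduct_add, hd, hd', h01, h02, h03]
        have hv1 : a i₁ 0 ⬝ᵥ v = 1 := by
          simp [hv, dotProduct_add, hd, hd', Ne.symm h01, h12, h13]
        have hv2 : a i₂ 0 ⬝ᵥ v = 1 := by
          simp [hv, dotProduct_add, hd, hd', Ne.symm h02, Ne.symm h12, h23]
        have hv3 : a i₃ 0 ⬝ᵥ v = 1 := by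
          simp [hv, dotProduct_add, hd, hd', Ne.symm h03, Ne.symm h13, Ne.symm h23]
        have hvv : f v v = 0 := by
          nth_rewrite 1 [hv]
          simp only [hs.add_left, hfbv, hv0, hv1, hv2, hv3, map_one]
          linear_combination 2 * h20
        have hmem := unitTv_mem hf hvv (c := (1 : F)) (by rw [map_one]; linear_combination h20)
        rw [← heq] at hmem
        have hav : leftVec f v ⬝ᵥ ((1 : F) • v) = 0 := by rw [one_smul, hs.dot_leftVec, hvv]
        refine notMem_decompositionStabilizer hzero (j := i₁) (l := i₂) (r := 0) (s := 0) h12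
          (hb i₀ 0) ?_ ?_ hmem.1
        all_goals
          rw [tv_mulVec hav, hs.dot_leftVec, hfbv, hv0, map_one, one_smul, one_smul,
            dotProduct_add]
        · rw [hd' _ _ _ _ (Ne.symm h01), hv1, zero_add]; exact one_ne_zero
        · rw [hd' _ _ _ _ (Ne.symm h02), hv2, zero_add]; exact one_ne_zero
  · -- planes over the field with two elements
    have ht : 5 ≤ t := by omega
    have h20 : (2 : F) = 0 := two_eq_zero_of_card_two hq
    set i₀ : Fin t := ⟨0, by omega⟩
    set i₁ : Fin t := ⟨1, by omega⟩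
    set i₂ : Fin t := ⟨2, by omega⟩
    have h01 : i₀ ≠ i₁ := by simp [i₀, i₁, Fin.ext_iff]
    have h02 : i₀ ≠ i₂ := by simp [i₀, i₂, Fin.ext_iff]
    have h12 : i₁ ≠ i₂ := by simp [i₁, i₂, Fin.ext_iff]
    have hd01 : ∀ i, a i 0 ⬝ᵥ b i 1 = 0 := fun i => by rw [hdual, if_neg]; simp
    have hd10 : ∀ i, a i 1 ⬝ᵥ b i 0 = 0 := fun i => by rw [hdual, if_neg]; simp
    set A : Fin t → (ι → F) → F := fun i x => a i 0 ⬝ᵥ x with hA
    set B : Fin t → (ι → F) → F := fun i x => a i 1 ⬝ᵥ x with hB
    set Q : (ι → F) → F := fun x => ∑ i, (A i x ^ 2 + A i x * B i x + B i x ^ 2) with hQdef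
    have hpol : ∀ x y, QuadraticMap.polar Q x y =
        ∑ i, (2 * (A i x * A i y) + A i x * B i y + B i x * A i y + 2 * (B i x * B i y)) := by
      intro x y
      simp only [QuadraticMap.polar, hQdef, hA, hB, ← Finset.sum_sub_distrib, dotProduct_add]
      exact Finset.sum_congr rfl fun i _ => by ring
    have hbv0 : ∀ x j, QuadraticMap.polar Q x (b j 0) = B j x := by
      intro x j
      rw [hpol, Finset.sum_eq_single j (fun i _ hij => by
        simp only [hA, hB]; rw [hd' _ _ _ _ hij, hd' _ _ _ _ hij]; ring)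
        (fun h => absurd (Finset.mem_univ j) h)]
      simp only [hA, hB]
      rw [hd, hd10]
      linear_combination (a j 0 ⬝ᵥ x) * h20
    have hbv1 : ∀ x j, QuadraticMap.polar Q x (b j 1) = A j x := by
      intro x j
      rw [hpol, Finset.sum_eq_single j (fun i _ hij => by
        simp only [hA, hB]; rw [hd' _ _ _ _ hij, hd' _ _ _ _ hij]; ring)
        (fun h => absurd (Finset.mem_univ j) h)]
      simp only [hA, hB]
      rw [hd, hd01]
      linear_combination (a j 1 ⬝ᵥ x) * h20
    have hQ : IsNondegenerateQuadraticForm Q := by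
      refine ⟨fun c x => ?_, ⟨?_, ?_, ?_, ?_⟩, fun x hx => ?_⟩
      · simp only [hQdef, hA, hB, dotProduct_smul, smul_eq_mul, Finset.mul_sum]
        exact Finset.sum_congr rfl fun i _ => by ring
      · intro x y z
        simp only [hpol, hA, hB, dotProduct_add, ← Finset.sum_add_distrib]
        exact Finset.sum_congr rfl fun i _ => by ring
      · intro c x z
        simp only [hpol, hA, hB, dotProduct_smul, smul_eq_mul, Finset.mul_sum]
        exact Finset.sum_congr rfl fun i _ => by ring
      · intro z x y
        simp only [hpol, hA, hB, dotProduct_add, ← Finset.sum_add_distrib]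
        exact Finset.sum_congr rfl fun i _ => by ring
      · intro c z x
        simp only [hpol, hA, hB, dotProduct_smul, smul_eq_mul, Finset.mul_sum]
        exact Finset.sum_congr rfl fun i _ => by ring
      · obtain ⟨j, hj⟩ : ∃ j, A j x ≠ 0 ∨ B j x ≠ 0 := by
          by_contra h
          push Not at h
          refine hx ?_
          rw [hsum x]
          refine Finset.sum_eq_zero fun i _ => ?_
          have := h i
          simp only [hA, hB] at this
          rw [Fin.sum_univ_two, this.1, this.2, zero_smul, zero_smul, add_zero]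
        rcases hj with hj | hj
        · exact ⟨⟨b j 1, by rw [polar_symm (Q := Q), hbv1]; exact hj⟩,
            ⟨b j 1, by rw [hbv1]; exact hj⟩⟩
        · exact ⟨⟨b j 0, by rw [polar_symm (Q := Q), hbv0]; exact hj⟩,
            ⟨b j 0, by rw [hbv0]; exact hj⟩⟩
    refine ⟨quadSimilarityGroup Q ⊓ specialLinear ι F, ?_, lt_of_le_of_ne inf_le_right ?_⟩
    · refine lt_of_le_of_ne (fun g hg => ⟨⟨1, fun x => ?_⟩, hg.2⟩) fun heq => ?_
      · obtain ⟨σ, hσ⟩ := hg.1
        rw [Units.val_one, one_mul]
        simp only [hQdef]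
        rw [← Equiv.sum_comp σ]
        refine Finset.sum_congr rfl fun i _ => ?_
        -- the two sides vanish together, and both are `0` or `1`
        classical
        have hval : ∀ p r : F, p ^ 2 + p * r + r ^ 2 = if p = 0 ∧ r = 0 then 0 else 1 := by
          intro p r
          rcases eq_or_ne p 0 with rfl | hp
          · rcases eq_or_ne r 0 with rfl | hr
            · simp
            · rw [if_neg (fun h => hr h.2), eq_one_of_card_two hq hr]; ring
          · rcases eq_or_ne r 0 with rfl | hr
            · rw [if_neg (fun h => hp h.1), eq_one_of_card_two hq hp]; ring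
            · rw [if_neg (fun h => hp h.1), eq_one_of_card_two hq hp, eq_one_of_card_two hq hr]
              linear_combination h20
        rw [hval, hval]
        by_cases hz : A i x = 0 ∧ B i x = 0
        · rw [if_pos hz, if_pos]
          simp only [hA, hB] at hz ⊢
          constructor <;>
            rw [coords_of_stabilizes hb hzero hsum hσ x i _, Fin.sum_univ_two, hz.1, hz.2,
              zero_mul, zero_mul, add_zero]
        · rw [if_neg hz, if_neg]
          intro hz'
          refine hz ?_
          obtain ⟨τ, hτ⟩ := (decompositionStabilizer D).inv_mem hg.1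
          have hback : (D (σ i)).map (Matrix.toLin' ((g⁻¹ : GL ι F) : Matrix ι ι F)) = D i := by
            rw [← hσ i, ← Submodule.map_comp, ← Matrix.toLin'_mul, Units.inv_mul,
              Matrix.toLin'_one, Submodule.map_id]
          have hτi : τ (σ i) = i := by
            by_contra hne
            have hz0 := hzero (τ (σ i)) i 0 hne (b i 0) (hb i 0)
            have hmem : b i 0 ∈ D (τ (σ i)) := by rw [← hτ (σ i), hback]; exact hb i 0
            have := hzero i (τ (σ i)) 0 (Ne.symm hne) _ hmem
            rw [hd] at this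
            exact one_ne_zero this
          simp only [hA, hB] at hz' ⊢
          have hx : x = ((g⁻¹ : GL ι F) : Matrix ι ι F) *ᵥ ((g : Matrix ι ι F) *ᵥ x) := by
            rw [mulVec_mulVec, Units.inv_mul, one_mulVec]
          constructor <;>
            rw [hx, ← hτi, coords_of_stabilizes hb hzero hsum hτ _ (σ i) _, Fin.sum_univ_two,
              hz'.1, hz'.2, zero_mul, zero_mul, add_zero]
      · set v := b i₀ 0 + b i₁ 0 + b i₂ 0 with hv
        have hs := sesqForm_of_quadratic hQ
        have hQb : ∀ i, Q (b i 0) = 1 := by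
          intro i
          simp only [hQdef]
          rw [Finset.sum_eq_single i (fun j _ hij => by
            simp only [hA, hB]; rw [hd' _ _ _ _ hij, hd' _ _ _ _ hij]; ring)
            (fun h => absurd (Finset.mem_univ i) h)]
          simp only [hA, hB]
          rw [hd, hd10]; ring
        have hQv : Q v = 1 := by
          rw [hv, quad_add (Q := Q), quad_add (Q := Q), hs.add_left, hbv0, hbv0, hbv0, hQb, hQb,
            hQb]
          simp only [hB]
          rw [hd' _ _ _ _ (Ne.symm h01), hd' _ _ _ _ (Ne.symm h02), hd' _ _ _ _ (Ne.symm h12)]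
          linear_combination h20
        have hvv : QuadraticMap.polar Q v v = 0 := by rw [polar_self hQ, h20, zero_mul]
        have hav : leftVec (QuadraticMap.polar Q) v ⬝ᵥ v = 0 := by rw [hs.dot_leftVec, hvv]
        have hmem : tv v (leftVec (QuadraticMap.polar Q) v) ∈
            quadSimilarityGroup Q ⊓ specialLinear ι F := by
          refine ⟨⟨1, fun x => ?_⟩, tv_mem_specialLinear _ _⟩
          rw [tv_mulVec hav, hs.dot_leftVec, quad_add (Q := Q), hQ.smul, hs.smul_right, hQv,
            Units.val_one, one_mul]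
          simp only [RingEquiv.refl_apply]
          linear_combination QuadraticMap.polar Q x v ^ 2 * h20
        rw [← heq] at hmem
        refine notMem_decompositionStabilizer hzero (j := i₁) (l := i₂) (r := 0) (s := 0) h12
          (hb i₀ 1) ?_ ?_ hmem.1
        all_goals
          rw [tv_mulVec hav, hs.dot_leftVec, hv, hs.add_right, hs.add_right, hbv0, hbv0, hbv0]
          simp only [hB]
          rw [hd, hd' _ _ _ _ (Ne.symm h01), hd' _ _ _ _ (Ne.symm h02), add_zero, add_zero,
            one_smul, dotProduct_add, dotProduct_add, dotProduct_add]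
        · rw [hd' _ _ _ _ (Ne.symm h01), hd' _ _ _ _ (Ne.symm h01), hd, hd' _ _ _ _ h12]
          simp
        · rw [hd' _ _ _ _ (Ne.symm h02), hd' _ _ _ _ (Ne.symm h02), hd,
            hd' _ _ _ _ (Ne.symm h12)]
          simp
    · intro heq
      obtain ⟨v, ax, hna⟩ := (sesqForm_of_quadratic hQ).exists_tv_not_similar (by omega)
      have hmem : tv v ax ∈ quadSimilarityGroup Q ⊓ specialLinear ι F := by
        rw [heq]; exact tv_mem_specialLinear v ax
      obtain ⟨c, hc⟩ := hmem.1
      refine hna ⟨c, fun x y => ?_⟩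
      simp only [QuadraticMap.polar, ← mulVec_add, hc]
      ring

end CfsgLib.MaxSub
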