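import Mathlib

/-!
The stabiliser of a uniform partition in the symmetric and alternating groups: overgroups are primitive.
-/

set_option autoImplicit false

namespace CfsgLib.MaxSub

open Equiv Equiv.Perm MulAction
open scoped Pointwise

variable {Ω : Type*} {b : ℕ} (f : Ω → Fin b)

/-- the stabiliser of the partition into the fibres of `f` -/
def partStab : Subgroup (Perm Ω) where
  carrier := {g | ∀ x y : Ω, f x = f y ↔ f (g x) = f (g y)}
  mul_mem' := fun {g h} hg hh x y => (hh x y).trans (hg _ _)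
  one_mem' := fun _ _ => Iff.rfl
  inv_mem' := fun {g} hg x y => by
    have := hg (g⁻¹ x) (g⁻¹ y)
    simpa using this.symm

theorem closure_preserving_eq :
    Subgroup.closure {g : Perm Ω | ∀ x y : Ω, f x = f y ↔ f (g x) = f (g y)} = partStab f :=
  Subgroup.closure_eq (partStab f)

variable {f}

theorem mem_partStab_of_semiconj {g : Perm Ω} (π : Perm (Fin b)) (h : ∀ z, f (g z) = π (f z)) :
    g ∈ partStab f := fun x y => by rw [h, h, π.injective.eq_iff]

variable [DecidableEq Ω]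

theorem swap_mem_partStab {p q : Ω} (h : f p = f q) : swap p q ∈ partStab f := by
  refine mem_partStab_of_semiconj 1 fun z => ?_
  rcases eq_or_ne z p with rfl | h1
  · simp [h]
  rcases eq_or_ne z q with rfl | h2
  · simp [h]
  simp [swap_apply_of_ne_of_ne h1 h2]

variable [Fintype Ω] {a : ℕ} (hb : 2 ≤ b) (ha : 2 ≤ a)
  (hf : ∀ i : Fin b, Nat.card {x : Ω // f x = i} = a)

include hf in
theorem card_eq_mul : Fintype.card Ω = b * a := by
  rw [← Fintype.card_congr (Equiv.sigmaFiberEquiv f), Fintype.card_sigma]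
  simp [fun i => (Nat.card_eq_fintype_card (α := {x : Ω // f x = i})).symm.trans (hf i)]

include hf in
theorem exists_in_fibre (s : Finset Ω) (i : Fin b) (h : s.card < a) : ∃ p, f p = i ∧ p ∉ s := by
  by_contra hc
  push Not at hc
  have : (Finset.univ.filter fun x => f x = i) ⊆ s := fun x hx => hc x (Finset.mem_filter.1 hx).2
  have h2 := Finset.card_le_card this
  rw [← Fintype.card_subtype, ← Nat.card_eq_fintype_card, hf] at h2
  omega

include hf in
theorem fibre_pair {p q z : Ω} (h2 : a = 2) (hpq : p ≠ q) (h : f p = f q) (hz : f z = f p) :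
    z = p ∨ z = q := by
  by_contra hc
  push Not at hc
  have : ({p, q, z} : Finset Ω) ⊆ Finset.univ.filter fun x => f x = f p := by
    intro x hx
    simp only [Finset.mem_insert, Finset.mem_singleton] at hx
    rcases hx with rfl | rfl | rfl <;> simp [h, hz]
  have h3 := Finset.card_le_card this
  rw [← Fintype.card_subtype, ← Nat.card_eq_fintype_card, hf] at h3
  simp [hpq, hc.1.symm, hc.2.symm] at h3
  omega

include hb in
theorem exists_ne_index (i : Fin b) : ∃ j : Fin b, j ≠ i := by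
  haveI : Nontrivial (Fin b) := Fin.nontrivial_iff_two_le.2 hb
  exact exists_ne i

include ha hf in
/-- even block exchange -/
theorem exists_cross (y y' : Ω) (h : f y ≠ f y') :
    ∃ σ ∈ partStab f ⊓ alternatingGroup Ω, σ y = y' ∧ ∀ z, f z ≠ f y → f z ≠ f y' → σ z = z := by
  rcases eq_or_lt_of_le ha with h2 | h3
  · obtain ⟨y₁, hy₁, hy₁'⟩ := exists_in_fibre hf {y} (f y) (by simp; omega)
    obtain ⟨y₂, hy₂, hy₂'⟩ := exists_in_fibre hf {y'} (f y') (by simp; omega)
    simp only [Finset.mem_singleton] at hy₁' hy₂'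
    have hyy : y ≠ y' := fun e => h (e ▸ rfl)
    have h11 : y₁ ≠ y₂ := fun e => h (by rw [← hy₁, e, hy₂])
    have h12 : y₁ ≠ y' := fun e => h (by rw [← hy₁, e])
    have h21 : y₂ ≠ y := fun e => h (by rw [← hy₂, e])
    refine ⟨swap y y' * swap y₁ y₂, Subgroup.mem_inf.2 ⟨?_, ?_⟩, ?_, ?_⟩
    · refine mem_partStab_of_semiconj (swap (f y) (f y')) fun z => ?_
      rw [Perm.mul_apply]
      by_cases hz : f z = f y
      · rw [hz, swap_apply_left]
        rcases fibre_pair hf h2.symm (Ne.symm hy₁') hy₁.symm hz with rfl | rfl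
        · rw [swap_apply_of_ne_of_ne (Ne.symm hy₁') h21.symm, swap_apply_left]
        · rw [swap_apply_left, swap_apply_of_ne_of_ne h21 hy₂', hy₂]
      by_cases hz' : f z = f y'
      · rw [hz', swap_apply_right]
        rcases fibre_pair hf h2.symm (Ne.symm hy₂') hy₂.symm hz' with rfl | rfl
        · rw [swap_apply_of_ne_of_ne h12.symm (Ne.symm hy₂'), swap_apply_right]
        · rw [swap_apply_right, swap_apply_of_ne_of_ne hy₁' h12, hy₁]
      · have e1 : z ≠ y₁ := fun e => hz (e ▸ hy₁)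
        have e2 : z ≠ y₂ := fun e => hz' (e ▸ hy₂)
        have e3 : z ≠ y := fun e => hz (e ▸ rfl)
        have e4 : z ≠ y' := fun e => hz' (e ▸ rfl)
        rw [swap_apply_of_ne_of_ne e1 e2, swap_apply_of_ne_of_ne e3 e4, swap_apply_of_ne_of_ne hz hz']
    · simp [Perm.mem_alternatingGroup, sign_swap hyy, sign_swap h11]
    · rw [Perm.mul_apply, swap_apply_of_ne_of_ne (Ne.symm hy₁') h21.symm, swap_apply_left]
    · intro z hz hz'
      have e1 : z ≠ y₁ := fun e => hz (e ▸ hy₁)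
      have e2 : z ≠ y₂ := fun e => hz' (e ▸ hy₂)
      have e3 : z ≠ y := fun e => hz (e ▸ rfl)
      have e4 : z ≠ y' := fun e => hz' (e ▸ rfl)
      rw [Perm.mul_apply, swap_apply_of_ne_of_ne e1 e2, swap_apply_of_ne_of_ne e3 e4]
  · let A := {x : Ω // f x = f y}
    let B := {x : Ω // f x = f y'}
    obtain ⟨e₀⟩ : Nonempty (A ≃ B) := ⟨Fintype.equivOfCardEq (by
      rw [← Nat.card_eq_fintype_card, ← Nat.card_eq_fintype_card, hf, hf])⟩
    let e : A ≃ B := e₀.trans (swap (e₀ ⟨y, rfl⟩) ⟨y', rfl⟩)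
    have he : e ⟨y, rfl⟩ = ⟨y', rfl⟩ := by simp [e]
    let F : Ω → Ω := fun z =>
      if h₁ : f z = f y then (e ⟨z, h₁⟩ : Ω) else if h₂ : f z = f y' then (e.symm ⟨z, h₂⟩ : Ω) else z
    have hFf : ∀ z, f (F z) = swap (f y) (f y') (f z) := by
      intro z
      by_cases h₁ : f z = f y
      · simp only [F, dif_pos h₁]; rw [h₁, swap_apply_left]; exact (e ⟨z, h₁⟩).2
      by_cases h₂ : f z = f y'
      · simp only [F, dif_neg h₁, dif_pos h₂]; rw [h₂, swap_apply_right]; exact (e.symm ⟨z, h₂⟩).2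
      · simp only [F, dif_neg h₁, dif_neg h₂]; rw [swap_apply_of_ne_of_ne h₁ h₂]
    have hFF : ∀ z, F (F z) = z := by
      intro z
      by_cases h₁ : f z = f y
      · have h₂ : f (e ⟨z, h₁⟩ : Ω) = f y' := (e ⟨z, h₁⟩).2
        have h₃ : ¬ f (e ⟨z, h₁⟩ : Ω) = f y := fun e' => h (e'.symm.trans h₂)
        simp [F, h₁, h₂, Ne.symm h]
      by_cases h₂ : f z = f y'
      · have h₃ : f (e.symm ⟨z, h₂⟩ : Ω) = f y := (e.symm ⟨z, h₂⟩).2
        simp [F, h₁, h₂, h₃, Ne.symm h]
      · simp [F, h₁, h₂]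
    let σ : Perm Ω := ⟨F, F, hFF, hFF⟩
    have hσ : σ ∈ partStab f := mem_partStab_of_semiconj (swap (f y) (f y')) hFf
    have hσy : σ y = y' := by
      show F y = y'
      simp [F, he]
    have hσfix : ∀ z, f z ≠ f y → f z ≠ f y' → σ z = z := fun z h₁ h₂ => by
      show F z = z
      simp [F, h₁, h₂]
    rcases Int.units_eq_one_or (Perm.sign σ) with hs | hs
    · exact ⟨σ, ⟨hσ, hs⟩, hσy, hσfix⟩
    · obtain ⟨p, hp, hp'⟩ := exists_in_fibre hf {y} (f y) (by simp; omega)
      obtain ⟨q, hq, hq'⟩ := exists_in_fibre hf {y, p} (f y)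
        (lt_of_le_of_lt Finset.card_le_two h3)
      simp only [Finset.mem_insert, Finset.mem_singleton, not_or] at hp' hq'
      refine ⟨σ * swap p q, ⟨(partStab f).mul_mem hσ (swap_mem_partStab (hp.trans hq.symm)), ?_⟩, ?_, ?_⟩
      · simp [Perm.mem_alternatingGroup, hs, sign_swap (Ne.symm hq'.2)]
      · rw [Perm.mul_apply, swap_apply_of_ne_of_ne (Ne.symm hp') (Ne.symm hq'.1), hσy]
      · intro z h₁ h₂
        have e1 : z ≠ p := fun e => h₁ (e ▸ hp)
        have e2 : z ≠ q := fun e => h₁ (e ▸ hq)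
        rw [Perm.mul_apply, swap_apply_of_ne_of_ne e1 e2, hσfix z h₁ h₂]

include hb ha hf in
/-- an even partition-preserving permutation moving `y` to `y'` in the same block, fixing a third point -/
theorem exists_same (h4 : ¬ (a = 2 ∧ b = 2)) (x y y' : Ω) (hy : f y = f y') (hne : y ≠ y') :
    ∃ σ ∈ partStab f ⊓ alternatingGroup Ω, σ y = y' ∧ (x ≠ y → x ≠ y' → σ x = x) := by
  obtain ⟨j, hj, hjx⟩ : ∃ j : Fin b, j ≠ f y ∧ (a = 2 → j ≠ f x) := by
    by_cases h2 : a = 2
    · have : ({f y, f x} : Finset (Fin b)).card < Fintype.card (Fin b) :=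
        lt_of_le_of_lt Finset.card_le_two (by rw [Fintype.card_fin]; omega)
      obtain ⟨j, hj⟩ : ∃ j, j ∉ ({f y, f x} : Finset (Fin b)) := by
        by_contra hc
        push Not at hc
        rw [Finset.eq_univ_iff_forall.2 hc] at this
        simp at this
      simp only [Finset.mem_insert, Finset.mem_singleton, not_or] at hj
      exact ⟨j, hj.1, fun _ => hj.2⟩
    · obtain ⟨j, hj⟩ := exists_ne_index hb (f y)
      exact ⟨j, hj, fun h => absurd h h2⟩
  obtain ⟨p, q, hp, hq, hpq, hx⟩ : ∃ p q, f p = j ∧ f q = j ∧ p ≠ q ∧ p ≠ x ∧ q ≠ x := by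
    by_cases h2 : a = 2
    · obtain ⟨p, hp, -⟩ := exists_in_fibre hf ∅ j (by simp; omega)
      obtain ⟨q, hq, hq'⟩ := exists_in_fibre hf {p} j (by simp; omega)
      simp only [Finset.mem_singleton] at hq'
      exact ⟨p, q, hp, hq, Ne.symm hq', fun e => hjx h2 (e ▸ hp.symm), fun e => hjx h2 (e ▸ hq.symm)⟩
    · obtain ⟨p, hp, hp'⟩ := exists_in_fibre hf {x} j (by simp; omega)
      obtain ⟨q, hq, hq'⟩ := exists_in_fibre hf {x, p} j (lt_of_le_of_lt Finset.card_le_two (by omega))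
      simp only [Finset.mem_insert, Finset.mem_singleton, not_or] at hp' hq'
      exact ⟨p, q, hp, hq, Ne.symm hq'.2, hp', hq'.1⟩
  have e1 : y ≠ p := fun e => hj (e ▸ hp.symm)
  have e2 : y ≠ q := fun e => hj (e ▸ hq.symm)
  refine ⟨swap y y' * swap p q, Subgroup.mem_inf.2 ⟨(partStab f).mul_mem (swap_mem_partStab hy)
    (swap_mem_partStab (hp.trans hq.symm)), ?_⟩, ?_, fun h₁ h₂ => ?_⟩
  · simp [Perm.mem_alternatingGroup, sign_swap hne, sign_swap hpq]
  · rw [Perm.mul_apply, swap_apply_of_ne_of_ne e1 e2, swap_apply_left]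
  · rw [Perm.mul_apply, swap_apply_of_ne_of_ne hx.1.symm hx.2.symm, swap_apply_of_ne_of_ne h₁ h₂]

include hb ha hf in
theorem isPreprimitive_of_lt (h4 : ¬ (a = 2 ∧ b = 2)) {X : Subgroup (Perm Ω)}
    (hX : partStab f ⊓ alternatingGroup Ω ≤ X) (hne : ¬ X ≤ partStab f) :
    IsPreprimitive X Ω := by
  haveI : IsPretransitive X Ω := ⟨fun x y => by
    by_cases h : f x = f y
    · by_cases hxy : x = y
      · exact ⟨1, by rw [one_smul, hxy]⟩
      · obtain ⟨σ, hσ, h1, -⟩ := exists_same hb ha hf h4 x x y h hxy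
        exact ⟨⟨σ, hX hσ⟩, h1⟩
    · obtain ⟨σ, hσ, h1, -⟩ := exists_cross ha hf x y h
      exact ⟨⟨σ, hX hσ⟩, h1⟩⟩
  have hn := card_eq_mul hf
  haveI : Nonempty Ω := Fintype.card_pos_iff.1 (by rw [hn]; positivity)
  obtain ⟨x⟩ := ‹Nonempty Ω›
  refine IsPreprimitive.of_isTrivialBlock_base x fun {B} hxB hB => ?_
  have hfix : ∀ h : Perm Ω, h ∈ X → h x = x → ∀ y ∈ B, h y ∈ B := by
    intro h hh hhx y hy
    have h1 : (⟨h, hh⟩ : X) • B = B := hB.smul_eq_of_mem hxB (by
      show h x ∈ B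
      rw [hhx]; exact hxB)
    rw [← h1]
    exact Set.smul_mem_smul_set hy
  by_cases hout : ∃ y ∈ B, f y ≠ f x
  · obtain ⟨y, hy, hyx⟩ := hout
    right
    apply hB.eq_univ_of_card_lt
    have hall : ∀ z, f z ≠ f x → z ∈ B := by
      intro z hz
      by_cases hzy : f y = f z
      · by_cases hne' : y = z
        · exact hne' ▸ hy
        obtain ⟨σ, hσ, h1, h2⟩ := exists_same hb ha hf h4 x y z hzy hne'
        exact h1 ▸ hfix σ (hX hσ) (h2 (fun e => hyx (e ▸ rfl)) (fun e => hz (e ▸ rfl))) y hy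
      · obtain ⟨σ, hσ, h1, h2⟩ := exists_cross ha hf y z hzy
        exact h1 ▸ hfix σ (hX hσ) (h2 x (Ne.symm hyx) (Ne.symm hz)) y hy
    have hsub : insert x ((Finset.univ.filter fun z => f z ≠ f x) : Finset Ω) ⊆ B.toFinite.toFinset := by
      intro z hz
      rw [Set.Finite.mem_toFinset]
      rcases Finset.mem_insert.1 hz with rfl | hz
      · exact hxB
      · exact hall z (Finset.mem_filter.1 hz).2
    have h1 := Finset.card_le_card hsub
    rw [← Set.ncard_eq_toFinset_card, Finset.card_insert_of_notMem (by simp)] at h1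
    have h2 : (Finset.univ.filter fun z => f z = f x).card = a := by
      rw [← Fintype.card_subtype, ← Nat.card_eq_fintype_card, hf]
    have h3 := Finset.card_filter_add_card_filter_not (s := (Finset.univ : Finset Ω)) (fun z => f z = f x)
    rw [h2, Finset.card_univ] at h3
    rw [Nat.card_eq_fintype_card]
    have : 2 * a ≤ b * a := Nat.mul_le_mul_right _ hb
    simp only [ne_eq] at h1
    omega
  push Not at hout
  left
  intro y hy z hz
  by_contra hyz
  obtain ⟨w, hw, hwx⟩ : ∃ w ∈ B, w ≠ x := by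
    by_cases h : y = x
    · exact ⟨z, hz, fun e => hyz (h.trans e.symm)⟩
    · exact ⟨y, hy, h⟩
  have hBeq : ∀ u, u ∈ B ↔ f u = f x := by
    intro u
    refine ⟨hout u, fun hu => ?_⟩
    by_cases hux : u = x
    · exact hux ▸ hxB
    by_cases huw : w = u
    · exact huw ▸ hw
    obtain ⟨σ, hσ, h1, h2⟩ := exists_same hb ha hf h4 x w u ((hout w hw).trans hu.symm) huw
    exact h1 ▸ hfix σ (hX hσ) (h2 (Ne.symm hwx) (Ne.symm hux)) w hw
  apply hne
  intro g hg
  -- every translate of the block is a fibre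
  have key : ∀ τ : Perm Ω, τ ∈ X → ∀ p q, f p = f x → f q = f x → f (τ p) = f x → f (τ q) = f x := by
    intro τ hτ p q hp hq hτp
    have h1 : (⟨τ, hτ⟩ : X) • B = B := hB.smul_eq_of_mem ((hBeq p).2 hp) ((hBeq (τ p)).2 hτp)
    refine (hBeq _).1 ?_
    rw [← h1]
    exact Set.smul_mem_smul_set ((hBeq q).2 hq)
  have to_base : ∀ p, ∃ σ ∈ partStab f ⊓ alternatingGroup Ω, f (σ p) = f x := by
    intro p
    by_cases h : f p = f x
    · exact ⟨1, Subgroup.one_mem _, h⟩
    · obtain ⟨σ, hσ, h1, -⟩ := exists_cross ha hf p x h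
      exact ⟨σ, hσ, congrArg f h1⟩
  have main : ∀ τ : Perm Ω, τ ∈ X → ∀ p q, f p = f q → f (τ p) = f (τ q) := by
    intro τ hτ p q hpq
    obtain ⟨σ₁, hσ₁, h1⟩ := to_base p
    obtain ⟨σ₂, hσ₂, h2⟩ := to_base (τ p)
    have h3 : f (σ₁ q) = f x := ((hσ₁.1 p q).1 hpq).symm.trans h1
    have h4' := key (σ₂ * τ * σ₁⁻¹) (X.mul_mem (X.mul_mem (hX hσ₂) hτ) (X.inv_mem (hX hσ₁)))
      (σ₁ p) (σ₁ q) h1 h3 (by simpa using h2)
    have h5 : f (σ₂ (τ q)) = f x := by simpa using h4'
    exact (hσ₂.1 _ _).2 (h2.trans h5.symm)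
  intro p q
  refine ⟨main g hg p q, fun h => ?_⟩
  have := main g⁻¹ (X.inv_mem hg) _ _ h
  simpa using this

end CfsgLib.MaxSub

namespace CfsgLib.MaxSub

open Equiv Equiv.Perm MulAction

variable {Ω : Type*} [DecidableEq Ω] [Fintype Ω] {b a : ℕ} {f : Ω → Fin b}

/-- orbit-stabiliser bound for a transitive group of permutations -/
theorem card_dvd_of_transitive {X : Subgroup (Perm Ω)} [IsPretransitive X Ω] (x : Ω) :
    Nat.card X = Fintype.card Ω * Nat.card (stabilizer X x) := by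
  rw [← (stabilizer X x).card_mul_index, index_stabilizer_of_transitive, Nat.card_eq_fintype_card (α := Ω)]
  ring

theorem isPretransitive_of_partStab_le (hb : 2 ≤ b) (ha : 2 ≤ a)
    (hf : ∀ i : Fin b, Nat.card {x : Ω // f x = i} = a) {X : Subgroup (Perm Ω)}
    (hX : partStab f ⊓ alternatingGroup Ω ≤ X) : IsPretransitive X Ω := ⟨fun x y => by
  by_cases h : f x = f y
  · obtain ⟨j, hj⟩ := exists_ne_index hb (f x)
    obtain ⟨z, hz, -⟩ := exists_in_fibre hf ∅ j (by simp; omega)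
    obtain ⟨σ, hσ, h1, -⟩ := exists_cross ha hf x z (by rw [hz]; exact hj.symm)
    obtain ⟨τ, hτ, h2, -⟩ := exists_cross ha hf z y (by rw [hz, ← h]; exact hj)
    exact ⟨⟨τ * σ, X.mul_mem (hX hτ) (hX hσ)⟩, show τ (σ x) = y by rw [h1, h2]⟩
  · obtain ⟨σ, hσ, h1, -⟩ := exists_cross ha hf x y h
    exact ⟨⟨σ, hX hσ⟩, h1⟩⟩

/-- a permutation moving two blocks across each other breaks the partition -/
theorem exists_even_not_mem (hb : 2 ≤ b) (ha : 2 ≤ a)
    (hf : ∀ i : Fin b, Nat.card {x : Ω // f x = i} = a) :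
    ∃ g ∈ alternatingGroup Ω, g ∉ partStab f := by
  let i : Fin b := ⟨0, by omega⟩
  obtain ⟨j, hj⟩ := exists_ne_index hb i
  obtain ⟨x, hx, -⟩ := exists_in_fibre hf ∅ i (by simp; omega)
  obtain ⟨x', hx', hxx⟩ := exists_in_fibre hf {x} i (by simp; omega)
  obtain ⟨y, hy, -⟩ := exists_in_fibre hf ∅ j (by simp; omega)
  obtain ⟨y', hy', hyy⟩ := exists_in_fibre hf {y} j (by simp; omega)
  simp only [Finset.mem_singleton] at hxx hyy
  have e1 : x ≠ y := fun e => hj (by rw [← hx, ← hy, e])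
  have e2 : y' ≠ x := fun e => hj (by rw [← hx, ← hy', e])
  refine ⟨swap x y * swap y y', by simp [Perm.mem_alternatingGroup, sign_swap e1, sign_swap (Ne.symm hyy)],
    fun h => ?_⟩
  have h1 := (h x x').1 (hx.trans hx'.symm)
  have e3 : x' ≠ y := fun e => hj (by rw [← hx', ← hy, e])
  have e4 : x' ≠ y' := fun e => hj (by rw [← hx', ← hy', e])
  have k1 : (swap x y * swap y y') x = y := by
    rw [Perm.mul_apply, swap_apply_of_ne_of_ne e1 e2.symm, swap_apply_left]
  have k2 : (swap x y * swap y y') x' = x' := by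
    rw [Perm.mul_apply, swap_apply_of_ne_of_ne e3 e4, swap_apply_of_ne_of_ne hxx e3]
  rw [k1, k2, hy, hx'] at h1
  exact hj h1

end CfsgLib.MaxSub
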