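import Cfsg.Agent.MaxSub.SlotForms
import Cfsg.Agent.MaxSub.FormReduce
import Cfsg.Agent.AschbacherForms.Degree

/-!
# The quadratic form of a tensor power of an alternating form in characteristic two

For `t ≥ 2` slots the tensor power of an alternating form over a field of characteristic two is
polar to a quadratic form vanishing on the pure tensors, hence invariant under the stabiliser.
-/

set_option autoImplicit false
set_option linter.unusedSectionVars false

namespace CfsgLib.MaxSub

open Matrix Cfsg.Geo CfsgLib.TensorNonmax CfsgLib.AschbacherForms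
open CfsgLib.Aschbacher (IsSesq isSesq_of_bilinear)

variable {ι : Type} [Fintype ι] [DecidableEq ι] {F : Type*} [Field F] {d t : ℕ}

/-- A quadratic form with prescribed alternating polar form, zero on the given basis. -/
theorem exists_quad_zero_on_basis (h2 : (2 : F) = 0) {f : (ι → F) → (ι → F) → F}
    (hf : IsSymplecticForm f) {κ : Type} [Fintype κ] [DecidableEq κ] (c : (κ → F) →ₗ[F] (ι → F))
    (hc : Function.Bijective c) :
    ∃ Q : (ι → F) → F, (∀ (l : F) v, Q (l • v) = l ^ 2 * Q v) ∧
      (∀ u v, QuadraticMap.polar Q u v = f u v) ∧ ∀ a, Q (c (Pi.single a 1)) = 0 := by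
  classical
  have hs := isSesq_of_bilinear hf.bilinear
  let G : Matrix κ κ F := fun a b => f (c (Pi.single a 1)) (c (Pi.single b 1))
  have hsym : ∀ a b, G a b = G b a := fun a b => by
    show f _ _ = f _ _
    rw [hf.skew]
    linear_combination (-f (c (Pi.single b 1)) (c (Pi.single a 1))) * h2
  let idx := Fintype.equivFin κ
  let U : Matrix κ κ F := fun a b => if idx a < idx b then G a b else 0
  have hU : U + Uᵀ = G := by
    ext a b
    show (if idx a < idx b then G a b else 0) + (if idx b < idx a then G b a else 0) = G a b
    rcases lt_trichotomy (idx a) (idx b) with h | h | h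
    · rw [if_pos h, if_neg h.not_gt, add_zero]
    · rw [if_neg h.not_lt, if_neg h.symm.not_lt, add_zero, idx.injective h]
      exact (hf.alternating _).symm
    · rw [if_neg h.not_gt, if_pos h, zero_add, hsym]
  let e := LinearEquiv.ofBijective c hc
  have hgram : ∀ x y : κ → F, f (c x) (c y) = x ⬝ᵥ (G *ᵥ y) := by
    intro x y
    conv_lhs => rw [← Finset.univ_sum_single x, ← Finset.univ_sum_single y, map_sum, map_sum,
      hs.sum_left]
    refine Finset.sum_congr rfl fun a _ => ?_
    rw [hs.sum_right, show G *ᵥ y = fun a => ∑ b, G a b * y b from rfl]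
    simp only [Finset.mul_sum]
    refine Finset.sum_congr rfl fun b _ => ?_
    rw [show Pi.single a (x a) = x a • Pi.single a (1 : F) by
        rw [← Pi.single_smul', smul_eq_mul, mul_one],
      show Pi.single b (y b) = y b • Pi.single b (1 : F) by
        rw [← Pi.single_smul', smul_eq_mul, mul_one],
      map_smul, map_smul, hs.smul_left, hs.smul_right, RingEquiv.refl_apply]
    simp only [G]
    ring
  let q : (κ → F) → F := fun x => x ⬝ᵥ (U *ᵥ x)
  refine ⟨fun v => q (e.symm v), fun l v => ?_, fun u v => ?_, fun a => ?_⟩
  · simp only [q, map_smul, Matrix.mulVec_smul, smul_dotProduct, dotProduct_smul, smul_eq_mul]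
    ring
  · have h1 : ∀ x y : κ → F, q (x + y) - q x - q y = x ⬝ᵥ (G *ᵥ y) := by
      intro x y
      have h : y ⬝ᵥ (U *ᵥ x) = x ⬝ᵥ (Uᵀ *ᵥ y) := by
        rw [Matrix.dotProduct_mulVec, ← Matrix.mulVec_transpose, dotProduct_comm]
      rw [← hU, Matrix.add_mulVec, dotProduct_add]
      simp only [q, Matrix.mulVec_add, add_dotProduct, dotProduct_add, h]
      ring
    simp only [QuadraticMap.polar, map_add]
    rw [h1, ← hgram]
    exact congrArg₂ f (e.apply_symm_apply u) (e.apply_symm_apply v)
  · show q (e.symm (e (Pi.single a 1))) = 0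
    rw [e.symm_apply_apply]
    simp only [q]
    rw [Matrix.mulVec_single_one, single_dotProduct, one_mul]
    exact if_neg (lt_irrefl _)

/-- The stabiliser of a tensor power of an alternating form in characteristic two fixes a quadratic
form polar to it. -/
theorem exists_power_quad (h2 : (2 : F) = 0) (ht : 2 ≤ t) {f : (ι → F) → (ι → F) → F}
    (hf : IsSymplecticForm f) {H : Subgroup (GL ι F)} (hfix : FixesForm (matrixSet H) f)
    {e : ι ≃ (Fin t → Fin d)} {P : GL ι F} {B : (Fin d → F) → (Fin d → F) → F}
    (hB : IsSlotPower (RingEquiv.refl F) f H e P B) (hB0 : ∀ x, B x x = 0) :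
    ∃ Q : (ι → F) → F, IsNondegenerateQuadraticForm Q ∧ (∀ u v, QuadraticMap.polar Q u v = f u v) ∧
      FixesQuadForm (matrixSet H) Q := by
  classical
  obtain ⟨Q, hsmul, hpol, hQ0⟩ := exists_quad_zero_on_basis h2 hf (cvec e P)
    ⟨cvec_injective e P, cvec_surjective e P⟩
  have hadd : ∀ u v, Q (u + v) = Q u + Q v + f u v := fun u v => by
    rw [← hpol, QuadraticMap.polar]; ring
  have hzero : Q 0 = 0 := by simpa using hsmul 0 0
  obtain ⟨c, -, hform⟩ := hB.form
  -- pure tensors are singular
  have key : ∀ (s : Finset (Fin t)) (xs : Fin t → Fin d → F),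
      (∀ i ∉ s, ∃ b, xs i = Pi.single b 1) → Q (ptmul e P xs) = 0 := by
    intro s
    induction s using Finset.induction with
    | empty =>
      intro xs hxs
      choose b hb using fun i => hxs i (Finset.notMem_empty i)
      rw [show xs = fun i => Pi.single (b i) (1 : F) from funext hb, ptmul_single]
      exact hQ0 b
    | @insert j s hj ih =>
      intro xs hxs
      let W : Submodule F (Fin d → F) :=
        { carrier := {x | Q (ptmul e P (Function.update xs j x)) = 0}
          add_mem' := fun {u v} hu hv => by
            show Q _ = 0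
            rw [ptmul_update_add, hadd, hu, hv, hform]
            obtain ⟨i, hi⟩ : ∃ i, i ≠ j := by
              haveI : Nontrivial (Fin t) := Fin.nontrivial_iff_two_le.2 ht
              exact exists_ne j
            rw [Finset.prod_eq_zero (Finset.mem_univ i) (by
              rw [Function.update_of_ne hi, Function.update_of_ne hi, hB0]), mul_zero, add_zero,
              add_zero]
          zero_mem' := by
            show Q _ = 0
            rw [ptmul_update_zero, hzero]
          smul_mem' := fun l u hu => by
            show Q _ = 0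
            have h1 : ptmul e P (Function.update xs j (l • u)) =
                l • ptmul e P (Function.update xs j u) := by
              rw [ptmul, ptmul, ← map_smul]
              congr 1
              funext a
              simp only [prod_update_apply, Pi.smul_apply, smul_eq_mul, mul_assoc]
            rw [h1, hsmul, hu, mul_zero] }
      suffices h : xs j ∈ W by simpa [W, Function.update_eq_self] using h
      rw [pi_eq_sum_univ' (xs j)]
      refine W.sum_mem fun b _ => W.smul_mem _ ?_
      refine ih _ fun i hi => ?_
      rcases eq_or_ne i j with rfl | hij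
      · exact ⟨b, Function.update_self _ _ _⟩
      · obtain ⟨b', hb'⟩ := hxs i (by simp [hij, hi])
        exact ⟨b', by rw [Function.update_of_ne hij, hb']⟩
  have hpure : ∀ xs, Q (ptmul e P xs) = 0 := fun xs =>
    key Finset.univ xs fun i hi => absurd (Finset.mem_univ i) hi
  refine ⟨Q, isQuadraticForm_of_polar hf.bilinear hf.nondegenerate hsmul hpol, hpol, ?_⟩
  refine CfsgLib.Aschbacher.forall_matrixSet.2 fun g hg v => ?_
  refine quad_eq_of_span hsmul _ (fun u w => by
    rw [hpol, hpol]; exact hfix _ (CfsgLib.Aschbacher.mem_matrixSet hg) u w)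
    (span_ptmul e P) ?_ v
  rintro _ ⟨xs, rfl⟩
  obtain ⟨π, as, has⟩ := hB.act g hg
  rw [show CfsgLib.Aschbacher.mat g *ᵥ ptmul e P xs = _ from has xs, hpure, hpure]

end CfsgLib.MaxSub
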