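import Cfsg.Agent.MaxSub.SubfieldBlock

/-!
# Rational subspaces and two auxiliary lemmas

Kernels of rational matrices are images of coordinate subspaces under rational matrices of
determinant one; an element that is rational up to a scalar and fixes more than half of the space
is rational; two non-conjugate involutions centralise a common involution of their product.
-/

set_option autoImplicit false

namespace CfsgLib.MaxSub

open Matrix Cfsg.Geo

variable {ι : Type} [Fintype ι] [DecidableEq ι] {F : Type*} [Field F]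

/-- The vectors supported on `S`. -/
def coordSub (S : Finset ι) : Submodule F (ι → F) where
  carrier := {x | ∀ i, i ∉ S → x i = 0}
  add_mem' hx hy i hi := by rw [Pi.add_apply, hx i hi, hy i hi, add_zero]
  zero_mem' _ _ := rfl
  smul_mem' c x hx i hi := by rw [Pi.smul_apply, hx i hi, smul_zero]

theorem finrank_coordSub (S : Finset ι) :
    Module.finrank F (coordSub S : Submodule F (ι → F)) = S.card := by
  let e : (coordSub S : Submodule F (ι → F)) ≃ₗ[F] (↥S → F) :=
    { toFun := fun x i => x.1 i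
      map_add' := fun _ _ => rfl
      map_smul' := fun _ _ => rfl
      invFun := fun f => ⟨fun i => if h : i ∈ S then f ⟨i, h⟩ else 0, fun i hi => dif_neg hi⟩
      left_inv := fun x => Subtype.ext (funext fun i => by
        by_cases h : i ∈ S
        · simp [h]
        · simp [h, x.2 i h])
      right_inv := fun f => funext fun i => by simp [i.2] }
  rw [e.finrank_eq, Module.finrank_fintype_fun_eq_card, Fintype.card_coe]

/-- The fixed space of a matrix. -/
noncomputable def fixSp (A : Matrix ι ι F) : Submodule F (ι → F) := LinearMap.ker (toLin' (A - 1))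

theorem mem_fixSp {A : Matrix ι ι F} {x : ι → F} : x ∈ fixSp A ↔ A *ᵥ x = x := by
  rw [fixSp, LinearMap.mem_ker, toLin'_apply, sub_mulVec, one_mulVec, sub_eq_zero]

theorem RatMat.sub_one {F₀ : Subfield F} {A : Matrix ι ι F} (h : RatMat F₀ A) :
    RatMat F₀ (A - 1) := fun i j => by
  rw [Matrix.sub_apply]; exact F₀.sub_mem (h i j) (ratMat_one F₀ i j)

/-- The rational elements of `SL`. -/
def IsRatSL (F₀ : Subfield F) (g : GL ι F) : Prop :=
  RatMat F₀ (g : Matrix ι ι F) ∧ RatMat F₀ ((g⁻¹ : GL ι F) : Matrix ι ι F) ∧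
    g ∈ specialLinear ι F

theorem IsRatSL.mul {F₀ : Subfield F} {g h : GL ι F} (hg : IsRatSL F₀ g) (hh : IsRatSL F₀ h) :
    IsRatSL F₀ (g * h) := by
  refine ⟨?_, ?_, Subgroup.mul_mem _ hg.2.2 hh.2.2⟩
  · rw [Units.val_mul]; exact hg.1.mul hh.1
  · rw [_root_.mul_inv_rev, Units.val_mul]; exact hh.2.1.mul hg.2.1

theorem IsRatSL.inv {F₀ : Subfield F} {g : GL ι F} (hg : IsRatSL F₀ g) : IsRatSL F₀ g⁻¹ :=
  ⟨hg.2.1, by rw [inv_inv]; exact hg.1, Subgroup.inv_mem _ hg.2.2⟩

theorem IsRatSL.mem {F₀ : Subfield F} {g : GL ι F} (hg : IsRatSL F₀ g) :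
    g ∈ subfieldSubgroup F₀ (1 : GL ι F) ⊓ specialLinear ι F :=
  ⟨mem_subfieldSubgroup_one_of_rat hg.1, hg.2.2⟩

theorem ratMat_map {F₀ : Subfield F} (A : Matrix ι ι F₀) : RatMat F₀ (A.map F₀.subtype) :=
  fun i j => (A i j).2

theorem isRatSL_map {F₀ : Subfield F} (Q : GL ι F₀) (h : (Q : Matrix ι ι F₀).det = 1) :
    IsRatSL F₀ (GeneralLinearGroup.map (n := ι) (F₀.subtype : F₀ →+* F) Q) := by
  refine ⟨ratMat_map (Q : Matrix ι ι F₀), ?_, ?_⟩
  · rw [← map_inv]; exact ratMat_map ((Q⁻¹ : GL ι F₀) : Matrix ι ι F₀)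
  · rw [specialLinear, MonoidHom.mem_ker]
    apply Units.ext
    rw [GeneralLinearGroup.val_det_apply, Units.val_one]
    show ((Q : Matrix ι ι F₀).map F₀.subtype).det = 1
    rw [← RingHom.mapMatrix_apply, ← RingHom.map_det, h, map_one]

/-- Rescaling one coordinate in `S` to reach determinant one. -/
theorem exists_det_one_fix {F₀ : Subfield F} (Q : GL ι F₀) {s : ι} :
    ∃ D : GL ι F₀, ((Q * D : GL ι F₀) : Matrix ι ι F₀).det = 1 ∧
      ∀ (x : ι → F) (i : ι), ((GeneralLinearGroup.map (n := ι) (F₀.subtype : F₀ →+* F) D :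
        GL ι F) : Matrix ι ι F) *ᵥ x = Function.update x s
          (((Q : Matrix ι ι F₀).det⁻¹ : F₀) * x s) := by
  have hd : (Q : Matrix ι ι F₀).det ≠ 0 := Q.det_ne_zero
  let D : GL ι F₀ := GeneralLinearGroup.mkOfDetNeZero
    (diagonal (Function.update (1 : ι → F₀) s (Q : Matrix ι ι F₀).det⁻¹)) (by
      rw [det_diagonal, Finset.prod_update_of_mem (Finset.mem_univ s)]
      simp [hd])
  refine ⟨D, ?_, fun x _ => ?_⟩
  · rw [Units.val_mul, det_mul]
    show _ * (diagonal _).det = 1
    rw [det_diagonal, Finset.prod_update_of_mem (Finset.mem_univ s)]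
    simp [hd]
  · show ((diagonal (Function.update (1 : ι → F₀) s _)).map F₀.subtype) *ᵥ x = _
    rw [diagonal_map (map_zero _)]
    funext i
    rw [mulVec_diagonal]
    by_cases hi : i = s
    · subst hi; simp
    · simp [hi]

theorem map_coord_iff {F₀ : Subfield F} {D : GL ι F₀} {S : Finset ι} {s : ι} (hs : s ∈ S) {a : F}
    (hD : ∀ (x : ι → F) (_ : ι), ((GeneralLinearGroup.map (n := ι) (F₀.subtype : F₀ →+* F) D :
        GL ι F) : Matrix ι ι F) *ᵥ x = Function.update x s (a * x s)) (x : ι → F) :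
    ((GeneralLinearGroup.map (n := ι) (F₀.subtype : F₀ →+* F) D : GL ι F) : Matrix ι ι F) *ᵥ x
      ∈ coordSub S ↔ x ∈ coordSub S := by
  rw [hD x s]
  exact forall₂_congr fun i hi => by
    rw [Function.update_of_ne (fun e : i = s => hi (e ▸ hs))]

/-- A rational subspace is the image of a coordinate subspace under a rational element of `SL`. -/
theorem exists_ratSL_coord {F₀ : Subfield F} {A : Matrix ι ι F} (hA : RatMat F₀ A)
    (hne : ∃ x : ι → F, x ≠ 0 ∧ A *ᵥ x = 0) :
    ∃ (S : Finset ι) (h : GL ι F), IsRatSL F₀ h ∧ S.Nonempty ∧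
      ∀ x : ι → F, (A *ᵥ ((h : Matrix ι ι F) *ᵥ x) = 0 ↔ x ∈ coordSub S) := by
  classical
  let A₀ : Matrix ι ι F₀ := fun i j => ⟨A i j, hA i j⟩
  have hA₀ : A₀.map F₀.subtype = A := rfl
  set W₀ : Submodule F₀ (ι → F₀) := LinearMap.ker (toLin' A₀) with hW₀
  obtain ⟨W₁, hW⟩ := Submodule.exists_isCompl W₀
  let b₀ := Module.finBasis F₀ W₀
  let b₁ := Module.finBasis F₀ W₁
  let b := (b₀.prod b₁).map (W₀.prodEquivOfIsCompl W₁ hW)
  let e := b.indexEquiv (Pi.basisFun F₀ ι)
  let b' := b.reindex e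
  set S : Finset ι := Finset.univ.image fun a => e (Sum.inl a) with hS
  have hmemS : ∀ a, e (Sum.inl a) ∈ S := fun a => Finset.mem_image_of_mem _ (Finset.mem_univ a)
  haveI := (Pi.basisFun F₀ ι).invertibleToMatrix b'
  let Q : GL ι F₀ := unitOfInvertible ((Pi.basisFun F₀ ι).toMatrix b')
  have hQcol : ∀ j i, (Q : Matrix ι ι F₀) i j = b' j i := fun j i => by
    show (Pi.basisFun F₀ ι).toMatrix b' i j = _
    simp [Module.Basis.toMatrix_apply]
  have hQmul : ∀ y : ι → F₀, (Q : Matrix ι ι F₀) *ᵥ y = ∑ j, y j • b' j := fun y => by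
    funext i
    simp [mulVec, dotProduct, hQcol, Finset.sum_apply, mul_comm]
  have hcolS : ∀ j ∈ S, A₀ *ᵥ b' j = 0 := by
    intro j hj
    obtain ⟨a, -, rfl⟩ := Finset.mem_image.1 hj
    have : b' (e (Sum.inl a)) = (b₀ a : ι → F₀) := by
      simp [b', b, Submodule.coe_prodEquivOfIsCompl]
    rw [this, ← toLin'_apply]
    exact LinearMap.mem_ker.1 (b₀ a).2
  have hcoord : ∀ x ∈ W₀, ∀ j, j ∉ S → b'.repr x j = 0 := by
    intro x hx j hj
    obtain ⟨c, rfl⟩ := e.surjective j
    rcases c with a | a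
    · exact absurd (hmemS a) hj
    · have h1 : (W₀.prodEquivOfIsCompl W₁ hW).symm x = (⟨x, hx⟩, 0) :=
        Submodule.prodEquivOfIsCompl_symm_apply_left W₀ W₁ hW ⟨x, hx⟩
      simp only [b', b, Module.Basis.repr_reindex_apply, Equiv.symm_apply_apply,
        Module.Basis.map_repr, LinearEquiv.trans_apply, h1, Module.Basis.prod_repr_inr, map_zero,
        Finsupp.zero_apply]
  set QF : GL ι F := GeneralLinearGroup.map (n := ι) (F₀.subtype : F₀ →+* F) Q with hQF
  have hkey : ∀ x : ι → F, A *ᵥ ((QF : Matrix ι ι F) *ᵥ x) = 0 ↔ x ∈ coordSub S := by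
    intro x
    rw [mulVec_mulVec]
    have hAQ : A * (QF : Matrix ι ι F) = (A₀ * (Q : Matrix ι ι F₀)).map F₀.subtype := by
      rw [Matrix.map_mul, hA₀]; rfl
    rw [hAQ]
    constructor
    · intro h0 j hj
      by_contra hxj
      obtain ⟨f, hf, -⟩ := Submodule.exists_dual_map_eq_bot_of_notMem
        (R := F₀) (p := (⊥ : Submodule F₀ F)) (x := x j) (by simpa using hxj) inferInstance
      have hlin : ∀ (a : F₀) (z : F), f ((a : F) * z) = a * f z := fun a z => f.map_smul a z
      have h1 : (A₀ * (Q : Matrix ι ι F₀)) *ᵥ (fun i => f (x i)) = 0 := by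
        funext i
        have h2 := congrArg f (congrFun h0 i)
        simp only [mulVec, dotProduct, map_sum, Pi.zero_apply, map_zero, Matrix.map_apply] at h2 ⊢
        rw [← h2]
        exact Finset.sum_congr rfl fun m _ => (hlin _ _).symm
      rw [← mulVec_mulVec, ← toLin'_apply, ← LinearMap.mem_ker] at h1
      have h3 := hcoord _ h1 j hj
      rw [hQmul, b'.repr_sum_self] at h3
      exact hf h3
    · intro hx
      funext i
      simp only [mulVec, dotProduct, Pi.zero_apply, Matrix.map_apply]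
      refine Finset.sum_eq_zero fun j _ => ?_
      by_cases hj : j ∈ S
      · have : (A₀ * (Q : Matrix ι ι F₀)) i j = 0 := by
          rw [mul_apply]
          simpa [mulVec, dotProduct, hQcol] using congrFun (hcolS j hj) i
        rw [this, map_zero, zero_mul]
      · rw [hx j hj, mul_zero]
  obtain ⟨s, hs⟩ : S.Nonempty := by
    by_contra hS0
    rw [Finset.not_nonempty_iff_eq_empty] at hS0
    obtain ⟨x, hx, hAx⟩ := hne
    have h1 := (hkey (((QF⁻¹ : GL ι F) : Matrix ι ι F) *ᵥ x)).1 (by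
      rw [mulVec_mulVec x, Units.mul_inv, one_mulVec, hAx])
    apply hx
    have h2 : ((QF⁻¹ : GL ι F) : Matrix ι ι F) *ᵥ x = 0 := funext fun i => h1 i (by simp [hS0])
    have h3 := congrArg (fun z => (QF : Matrix ι ι F) *ᵥ z) h2
    simpa [mulVec_mulVec] using h3
  obtain ⟨D, hdet, hD⟩ := exists_det_one_fix Q (s := s) (F := F)
  refine ⟨S, _, isRatSL_map (Q * D) hdet, ⟨s, hs⟩, fun x => ?_⟩
  rw [map_mul, Units.val_mul, ← mulVec_mulVec, ← hQF, hkey, map_coord_iff hs hD]

/-- A rational element of `SL` moving one coordinate subspace onto another of equal dimension. -/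
theorem exists_ratSL_perm (F₀ : Subfield F) {S T : Finset ι} (h : S.card = T.card)
    (hT : T.Nonempty) :
    ∃ g : GL ι F, IsRatSL F₀ g ∧
      ∀ x : ι → F, ((g : Matrix ι ι F) *ᵥ x ∈ coordSub T ↔ x ∈ coordSub S) := by
  obtain ⟨s, hs⟩ := hT
  let π : Equiv.Perm ι := (Finset.equivOfCardEq h.symm).extendSubtype
  have hπ : ∀ i, π i ∈ S ↔ i ∈ T := fun i => by
    refine ⟨fun hi => ?_, fun hi => Equiv.extendSubtype_mem _ i hi⟩
    by_contra hn
    exact Equiv.extendSubtype_not_mem _ i hn hi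
  let P : GL ι F₀ := ⟨of fun i j => if π i = j then 1 else 0,
    of fun i j => if π.symm i = j then 1 else 0,
    by ext i j : 1
       rw [mul_apply, Finset.sum_eq_single (π i) (fun m _ hm => by simp [hm.symm]) (by simp)]
       simp [one_apply],
    by ext i j : 1
       rw [mul_apply, Finset.sum_eq_single (π.symm i) (fun m _ hm => by simp [hm.symm]) (by simp)]
       simp [one_apply]⟩
  obtain ⟨D, hdet, hD⟩ := exists_det_one_fix P (s := s) (F := F)
  have hdet' : ((D * P : GL ι F₀) : Matrix ι ι F₀).det = 1 := by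
    rw [Units.val_mul, det_mul, mul_comm, ← det_mul, ← Units.val_mul, hdet]
  refine ⟨_, isRatSL_map (D * P) hdet', fun x => ?_⟩
  rw [map_mul, Units.val_mul, ← mulVec_mulVec, map_coord_iff hs hD]
  have hP : ∀ i, (((GeneralLinearGroup.map (n := ι) (F₀.subtype : F₀ →+* F) P : GL ι F) :
      Matrix ι ι F) *ᵥ x) i = x (π i) := by
    intro i
    show ((of fun i j => if π i = j then (1 : F₀) else 0).map F₀.subtype *ᵥ x) i = _
    simp only [mulVec, dotProduct, Matrix.map_apply, of_apply]
    rw [Finset.sum_eq_single (π i) (fun m _ hm => by simp [hm.symm]) (by simp)]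
    simp
  constructor
  · intro h1 i hi
    have := h1 (π.symm i) (fun hc => hi (by simpa using (hπ _).2 hc))
    rwa [hP, Equiv.apply_symm_apply] at this
  · intro h1 i hi
    rw [hP]; exact h1 _ fun hc => hi ((hπ i).1 hc)

/-- An element rational up to a scalar with a big fixed space is rational. -/
theorem ratMat_of_big_fix [Fintype F] {F₀ : Subfield F} {g : GL ι F}
    (hg : g ∈ subfieldSubgroup F₀ (1 : GL ι F))
    (hbig : Fintype.card ι < 2 * Module.finrank F (fixSp (g : Matrix ι ι F))) :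
    RatMat F₀ (g : Matrix ι ι F) := by
  obtain ⟨c, hc, hB⟩ := mem_subfieldSubgroup_one_iff.1 hg
  by_cases hcF : c ∈ F₀
  · intro i j
    have h1 := F₀.mul_mem (F₀.inv_mem hcF) (hB i j)
    rwa [Matrix.smul_apply, smul_eq_mul, inv_mul_cancel_left₀ hc] at h1
  exfalso
  obtain ⟨σ, hσ⟩ : ∃ σ : F ≃ₐ[F₀] F, σ c ≠ c := by
    by_contra h
    push Not at h
    have h1 := IsGalois.mem_range_algebraMap_iff_fixed c (F := F₀) |>.2 h
    obtain ⟨y, rfl⟩ := h1
    exact hcF y.2
  set B : Matrix ι ι F := c • (g : Matrix ι ι F) with hBdef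
  set W := fixSp (g : Matrix ι ι F) with hWdef
  set K : F → Submodule F (ι → F) := fun a => LinearMap.ker (toLin' (B - a • 1)) with hKdef
  have hmem : ∀ a x, x ∈ K a ↔ B *ᵥ x = a • x := fun a x => by
    rw [hKdef, LinearMap.mem_ker, toLin'_apply, sub_mulVec, sub_eq_zero,
      smul_mulVec a (1 : Matrix ι ι F), one_mulVec]
  have hWK : W ≤ K c := fun x hx => by
    rw [hmem, hBdef, smul_mulVec, mem_fixSp.1 hx]
  let w := Module.finBasis F W
  have hli : LinearIndependent F fun a => (⟨fun i => σ ((w a : ι → F) i), (hmem _ _).2 (by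
      funext i
      have h1 := congrArg σ (congrFun ((hmem _ _).1 (hWK (w a).2)) i)
      simp only [mulVec, dotProduct, map_sum, map_mul, Pi.smul_apply, smul_eq_mul] at h1 ⊢
      rw [← h1]
      refine Finset.sum_congr rfl fun m _ => ?_
      congr 1
      exact (σ.commutes ⟨B i m, hB i m⟩).symm)⟩ : K (σ c)) := by
    rw [Fintype.linearIndependent_iff]
    intro z hz a
    have h2 : ∑ a, σ.symm (z a) • (w a : ι → F) = 0 := by
      funext i
      apply σ.injective
      have h3 := congrArg (fun y : K (σ c) => (y : ι → F) i) hz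
      simpa [Finset.sum_apply, map_sum, map_mul] using h3
    have h4 := Fintype.linearIndependent_iff.1
      (w.linearIndependent.map' W.subtype W.ker_subtype) (fun a => σ.symm (z a)) h2 a
    simpa using h4
  have h1 := hli.fintype_card_le_finrank
  rw [Fintype.card_fin] at h1
  have hd : W ⊓ K (σ c) = ⊥ := by
    rw [eq_bot_iff]
    intro x hx
    have e := ((hmem _ _).1 (hWK hx.1)).symm.trans ((hmem _ _).1 hx.2)
    rw [← sub_eq_zero, ← sub_smul] at e
    exact (smul_eq_zero.1 e).resolve_left (sub_ne_zero.2 hσ.symm)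
  have h2 := Submodule.finrank_sup_add_finrank_inf_eq W (K (σ c))
  rw [hd, finrank_bot] at h2
  have h3 := Submodule.finrank_le (W ⊔ K (σ c))
  rw [Module.finrank_fintype_fun_eq_card] at h3
  omega

/-- Non-conjugate involutions centralise an involution in the group they generate. -/
theorem exists_central_of_not_conj {G : Type*} [Group G] [Finite G] {t i : G} (ht : t * t = 1)
    (hi : i * i = 1) (hnc : ∀ x : G, x * i * x⁻¹ ≠ t) :
    ∃ m : ℕ, (t * i) ^ m ≠ 1 ∧ t * (t * i) ^ m = (t * i) ^ m * t ∧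
      i * (t * i) ^ m = (t * i) ^ m * i := by
  set y := t * i with hy
  have hi' : i⁻¹ = i := inv_eq_of_mul_eq_one_right hi
  have ht' : t⁻¹ = t := inv_eq_of_mul_eq_one_right ht
  have hiy : ∀ k : ℕ, i * y ^ k = (y ^ k)⁻¹ * i := by
    intro k
    induction k with
    | zero => simp
    | succ k ih =>
      calc i * y ^ (k + 1) = i * y ^ k * y := by rw [pow_succ, mul_assoc]
        _ = (y ^ k)⁻¹ * (i * (t * i)) := by rw [ih, mul_assoc, hy]
        _ = (y ^ k)⁻¹ * (y⁻¹ * i) := by rw [hy, _root_.mul_inv_rev, hi', ht', mul_assoc]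
        _ = _ := by rw [← mul_assoc, pow_succ', ← _root_.mul_inv_rev]
  have htyi : t = y * i := by rw [hy, mul_assoc, hi, mul_one]
  obtain ⟨m, hm | hm⟩ := Nat.even_or_odd' (orderOf y)
  · have hpos : 0 < m := by have := orderOf_pos y; omega
    have hne : y ^ m ≠ 1 := fun h => by
      have := Nat.le_of_dvd hpos (orderOf_dvd_of_pow_eq_one h); omega
    have hinv : (y ^ m)⁻¹ = y ^ m := inv_eq_of_mul_eq_one_right (by
      rw [← pow_add, ← two_mul, ← hm]; exact pow_orderOf_eq_one y)
    have hic : i * y ^ m = y ^ m * i := by rw [hiy, hinv]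
    refine ⟨m, hne, ?_, hic⟩
    rw [htyi, mul_assoc, hic, ← mul_assoc, ← pow_succ', ← mul_assoc, ← pow_succ]
  · exfalso
    refine hnc (y ^ (m + 1)) ?_
    have h2 : y ^ (m + 1) * y ^ (m + 1) = y := by
      rw [← pow_add, show m + 1 + (m + 1) = orderOf y + 1 by omega, pow_succ, pow_orderOf_eq_one,
        one_mul]
    have h1 : i * (y ^ (m + 1))⁻¹ = y ^ (m + 1) * i := by
      calc i * (y ^ (m + 1))⁻¹ = i * (y ^ (m + 1))⁻¹ * (i * i) := by rw [hi, mul_one]
        _ = i * ((y ^ (m + 1))⁻¹ * i) * i := by group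
        _ = i * (i * y ^ (m + 1)) * i := by rw [hiy]
        _ = _ := by rw [← mul_assoc, hi, one_mul]
    rw [mul_assoc, h1, ← mul_assoc, h2, ← htyi]

end CfsgLib.MaxSub
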