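import Cfsg.Agent.MaxSub.Transvection
import Cfsg.Agent.Aschbacher.Subfield

/-!
# Stabilisers of rational subspaces above a subfield group

`M` is a subgroup of `SL` containing the elements of determinant one that are rational up to a
scalar. Either `M` is all of `SL`, or every element of `M` leaving a non-trivial rational subspace
invariant is rational up to a scalar.
-/

set_option autoImplicit false

namespace CfsgLib.MaxSub

open Matrix Cfsg.Geo

variable {ι : Type} [Fintype ι] [DecidableEq ι] {F : Type*} [Field F]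

/-- All entries lie in the subfield. -/
def RatMat (F₀ : Subfield F) (A : Matrix ι ι F) : Prop := ∀ i j, A i j ∈ F₀

theorem mem_subfieldSubgroup_one_iff {F₀ : Subfield F} {g : GL ι F} :
    g ∈ subfieldSubgroup F₀ (1 : GL ι F) ↔ ∃ c : F, c ≠ 0 ∧ RatMat F₀ (c • (g : Matrix ι ι F)) := by
  constructor
  · intro h
    obtain ⟨c, hc, h⟩ := Aschbacher.exists_smul_of_mem_subfieldSubgroup h
    exact ⟨c, hc, fun i j => by simpa [Aschbacher.mat] using h i j⟩
  · rintro ⟨c, hc, h⟩
    exact Aschbacher.mem_subfieldSubgroup_of hc fun i j => by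
      simpa [Aschbacher.mat] using h i j

theorem mem_subfieldSubgroup_one_of_rat {F₀ : Subfield F} {g : GL ι F}
    (h : RatMat F₀ (g : Matrix ι ι F)) : g ∈ subfieldSubgroup F₀ (1 : GL ι F) :=
  mem_subfieldSubgroup_one_iff.2 ⟨1, one_ne_zero, by rwa [one_smul]⟩

theorem ratMat_one (F₀ : Subfield F) : RatMat F₀ (1 : Matrix ι ι F) := fun i j => by
  rw [one_apply]; split_ifs
  · exact F₀.one_mem
  · exact F₀.zero_mem

theorem RatMat.mul {F₀ : Subfield F} {A B : Matrix ι ι F} (hA : RatMat F₀ A) (hB : RatMat F₀ B) :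
    RatMat F₀ (A * B) := fun i j => by
  rw [mul_apply]; exact F₀.sum_mem fun k _ => F₀.mul_mem (hA i k) (hB k j)

/-! ### Elementary transvections -/

/-- The elementary transvection `1 + c E_ij` for `i ≠ j`. -/
noncomputable def el (i j : ι) (c : F) : GL ι F := tv (Pi.single i c) (Pi.single j 1)

theorem el_coe {i j : ι} (h : i ≠ j) (c : F) :
    (el i j c : Matrix ι ι F) = 1 + single i j c := by
  rw [el, tv_single h, Matrix.transvection]

theorem el_dot {i j : ι} (h : i ≠ j) (c : F) :
    (Pi.single j (1 : F) : ι → F) ⬝ᵥ Pi.single i c = 0 := by simp [h]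

theorem el_add {i j : ι} (h : i ≠ j) (a b : F) : el i j a * el i j b = el i j (a + b) := by
  rw [el, el, el, tv_mul_left (el_dot h a) (el_dot h b), Pi.single_add]

theorem el_zero (i j : ι) : el i j (0 : F) = 1 := by
  rw [el, Pi.single_zero, tv_zero_left]

theorem el_inv {i j : ι} (c : F) : (el i j c)⁻¹ = el i j (-c) := by
  rw [el, el, tv_inv, Pi.single_neg]

theorem el_mem_specialLinear (i j : ι) (c : F) : el i j c ∈ specialLinear ι F :=
  tv_mem_specialLinear _ _

theorem el_comm_rule {i j k : ι} (hij : i ≠ j) (hjk : j ≠ k) (hik : i ≠ k) (a b : F) :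
    el i j a * el j k b * (el i j a)⁻¹ * (el j k b)⁻¹ = el i k (a * b) := by
  rw [el_inv, el_inv]
  apply Units.ext
  simp only [Units.val_mul, el_coe hij, el_coe hjk, el_coe hik]
  simp only [mul_add, add_mul, mul_one, one_mul, single_mul_single_same,
    single_mul_single_of_ne _ _ _ _ hij.symm, single_mul_single_of_ne _ _ _ _ hjk.symm,
    single_mul_single_of_ne _ _ _ _ hik.symm, Matrix.zero_mul]
  have hneg : ∀ (p q : ι) (c : F), single p q (-c) = -single p q c := fun p q c =>
    eq_neg_of_add_eq_zero_left (by rw [← single_add, neg_add_cancel, single_zero])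
  simp only [mul_neg, neg_mul, neg_neg, hneg]
  abel

theorem ratMat_el {F₀ : Subfield F} {i j : ι} (h : i ≠ j) {c : F} (hc : c ∈ F₀) :
    RatMat F₀ (el i j c : Matrix ι ι F) := fun a b => by
  rw [el_coe h, Matrix.add_apply, single_apply]
  split_ifs
  · exact F₀.add_mem (ratMat_one F₀ a b) hc
  · exact F₀.add_mem (ratMat_one F₀ a b) F₀.zero_mem

/-- A subgroup containing all elementary transvections contains the special linear group. -/
theorem specialLinear_le_of_forall_el {M : Subgroup (GL ι F)} (hι : 2 ≤ Fintype.card ι)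
    (h : ∀ i j : ι, i ≠ j → ∀ c : F, el i j c ∈ M) : specialLinear ι F ≤ M := by
  haveI : Nontrivial ι := Fintype.one_lt_card_iff_nontrivial.1 hι
  obtain ⟨j₀⟩ : Nonempty ι := inferInstance
  refine specialLinear_le_of_fullAxis (a := Pi.single j₀ 1) ?_ (by simp) ?_
  · intro W hW
    by_contra hcon
    push Not at hcon
    obtain ⟨w, hwW, hw0⟩ := Submodule.exists_mem_ne_zero_of_ne_bot hcon.1
    obtain ⟨j, hj⟩ : ∃ j, w j ≠ 0 := by
      by_contra hh
      push Not at hh
      exact hw0 (funext hh)
    have hstep : ∀ a b : ι, a ≠ b → ∀ x ∈ W, x b ≠ 0 → (Pi.single a (1 : F) : ι → F) ∈ W := by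
      intro a b hab x hx hxb
      have h1 := W.sub_mem (hW _ (h a b hab (x b)⁻¹) x hx) hx
      rw [el, tv_mulVec (el_dot hab _), single_dotProduct, one_mul, ← Pi.single_smul,
        smul_eq_mul, mul_inv_cancel₀ hxb] at h1
      simpa using h1
    have hne : ∀ a, a ≠ j → (Pi.single a (1 : F) : ι → F) ∈ W := fun a ha => hstep a j ha w hwW hj
    obtain ⟨a₁, ha₁⟩ := exists_ne j
    have hall : ∀ a, (Pi.single a (1 : F) : ι → F) ∈ W := by
      intro a
      by_cases ha : a = j
      · subst ha
        exact hstep a a₁ ha₁.symm _ (hne a₁ ha₁) (by simp)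
      · exact hne a ha
    refine hcon.2 (Submodule.eq_top_iff'.mpr fun x => ?_)
    rw [← Finset.univ_sum_single x]
    refine W.sum_mem fun a _ => ?_
    rw [show Pi.single a (x a) = x a • (Pi.single a (1 : F) : ι → F) by
      rw [← Pi.single_smul, smul_eq_mul, mul_one]]
    exact W.smul_mem _ (hall a)
  · intro v hv
    have hvj : v j₀ = 0 := by simpa using hv
    have key : ∀ s : Finset ι, (Pi.single j₀ (1 : F) : ι → F) ⬝ᵥ (∑ a ∈ s, Pi.single a (v a)) = 0 ∧
        tv (∑ a ∈ s, Pi.single a (v a)) (Pi.single j₀ 1) ∈ M := by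
      intro s
      induction s using Finset.induction_on with
      | empty => exact ⟨by simp, by rw [Finset.sum_empty, tv_zero_left]; exact M.one_mem⟩
      | insert a s ha ih =>
        have h0 : (Pi.single j₀ (1 : F) : ι → F) ⬝ᵥ Pi.single a (v a) = 0 := by
          by_cases haj : a = j₀
          · simp [haj, hvj]
          · exact el_dot haj _
        have h1 : tv (Pi.single a (v a)) (Pi.single j₀ 1) ∈ M := by
          by_cases haj : a = j₀
          · rw [haj, hvj, Pi.single_zero, tv_zero_left]; exact M.one_mem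
          · exact h a j₀ haj (v a)
        rw [Finset.sum_insert ha]
        exact ⟨by rw [dotProduct_add, h0, ih.1, add_zero], tv_mem_add_left h0 ih.1 h1 ih.2⟩
    have := (key Finset.univ).2
    rwa [Finset.univ_sum_single] at this

/-- Subfield intermediate to a prime degree extension. -/
theorem subring_eq_top_of_prime [Fintype F] {F₀ : Subfield F} {r : ℕ} (hr : r.Prime)
    (hcard : Fintype.card F = Nat.card F₀ ^ r) (R : Subring F) (hle : ∀ x ∈ F₀, x ∈ R) {c : F}
    (hc : c ∈ R) (hc' : c ∉ F₀) : ∀ x : F, x ∈ R := by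
  haveI : Fintype F₀ := Fintype.ofFinite _
  have hfin : Module.finrank F₀ F = r := by
    have h := Module.card_eq_pow_finrank (K := F₀) (V := F)
    rw [hcard, Nat.card_eq_fintype_card] at h
    exact (Nat.pow_right_injective (Fintype.one_lt_card) h).symm
  let A : Subalgebra F₀ F :=
    { R.toSubsemiring with algebraMap_mem' := fun x => hle _ x.2 }
  haveI := Subalgebra.isSimpleOrder_of_finrank_prime F₀ F (by rw [hfin]; exact hr)
  rcases eq_bot_or_eq_top A with hA | hA
  · exfalso
    have h1 : c ∈ A := hc
    rw [hA, Algebra.mem_bot] at h1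
    obtain ⟨y, rfl⟩ := h1
    exact hc' y.2
  · intro x
    have h1 : x ∈ A := by rw [hA]; exact Algebra.mem_top
    exact h1

/-- A rational overgroup containing one irrational elementary transvection contains `SL`. -/
theorem specialLinear_le_of_el [Fintype F] {F₀ : Subfield F} {r : ℕ} (hr : r.Prime)
    (hcard : Fintype.card F = Nat.card F₀ ^ r) (hι : 3 ≤ Fintype.card ι) {M : Subgroup (GL ι F)}
    (hM : ∀ i j : ι, i ≠ j → ∀ c ∈ F₀, el i j c ∈ M) {a b : ι} (hab : a ≠ b) {c : F}
    (hc : el a b c ∈ M) (hc' : c ∉ F₀) : specialLinear ι F ≤ M := by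
  have hcomm : ∀ (i j k : ι), i ≠ j → j ≠ k → i ≠ k → ∀ x y : F, el i j x ∈ M → el j k y ∈ M →
      el i k (x * y) ∈ M := fun i j k hij hjk hik x y hx hy => by
    rw [← el_comm_rule hij hjk hik]
    exact M.mul_mem (M.mul_mem (M.mul_mem hx hy) (M.inv_mem hx)) (M.inv_mem hy)
  have hthird : ∀ i j : ι, ∃ k, k ≠ i ∧ k ≠ j := by
    intro i j
    have h1 : ({i, j} : Finset ι).card < (Finset.univ : Finset ι).card :=
      lt_of_le_of_lt Finset.card_le_two (by simp only [Finset.card_univ]; omega)
    obtain ⟨k, -, hk⟩ := Finset.exists_mem_notMem_of_card_lt_card h1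
    exact ⟨k, by simp_all, by simp_all⟩
  -- moving a coefficient to every position
  have hto : ∀ x : F, ∀ i j : ι, i ≠ j → el i j x ∈ M →
      ∀ k l : ι, k ≠ l → el k l x ∈ M := by
    intro x
    have hright : ∀ i j l : ι, i ≠ j → i ≠ l → el i j x ∈ M → el i l x ∈ M := by
      intro i j l hij hil h
      by_cases hjl : j = l
      · exact hjl ▸ h
      · simpa using hcomm i j l hij hjl hil x 1 h (hM j l hjl 1 F₀.one_mem)
    have hleft : ∀ i j k : ι, i ≠ j → k ≠ j → el i j x ∈ M → el k j x ∈ M := by
      intro i j k hij hkj h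
      by_cases hki : k = i
      · exact hki ▸ h
      · simpa using hcomm k i j hki hij hkj 1 x (hM k i hki 1 F₀.one_mem) h
    intro i j hij h k l hkl
    obtain ⟨m, hmi, hmk⟩ := hthird i k
    by_cases hil : i = l
    · subst hil
      obtain ⟨s, hsi, hsk⟩ := hthird i k
      exact hright k s i hsk.symm hkl
        (hleft i s k hsi.symm hsk.symm (hright i j s hij hsi.symm h))
    · exact hleft i l k hil hkl (hright i j l hij hil h)
  let R : Subring F :=
    { carrier := {x | ∀ i j : ι, i ≠ j → el i j x ∈ M}
      mul_mem' := fun {x y} hx hy i j hij => by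
        obtain ⟨k, hki, hkj⟩ := hthird i j
        exact hcomm i k j hki.symm hkj hij x y (hx i k hki.symm) (hy k j hkj)
      one_mem' := fun i j hij => hM i j hij 1 F₀.one_mem
      add_mem' := fun {x y} hx hy i j hij => by
        rw [← el_add hij]; exact M.mul_mem (hx i j hij) (hy i j hij)
      zero_mem' := fun i j hij => hM i j hij 0 F₀.zero_mem
      neg_mem' := fun {x} hx i j hij => by
        rw [← el_inv]; exact M.inv_mem (hx i j hij) }
  have hall := subring_eq_top_of_prime hr hcard R (fun x hx i j hij => hM i j hij x hx)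
    (c := c) (fun i j hij => hto c a b hab hc i j hij) hc'
  exact specialLinear_le_of_forall_el (by omega) fun i j hij x => hall x i j hij

/-! ### The radical of a coordinate subspace -/

/-- The indicator matrix of a set of indices. -/
noncomputable def indMat (S : Finset ι) : Matrix ι ι F := diagonal fun i => if i ∈ S then 1 else 0

theorem indMat_mul (S : Finset ι) (A : Matrix ι ι F) (i j : ι) :
    ((indMat S : Matrix ι ι F) * A) i j = if i ∈ S then A i j else 0 := by
  rw [indMat, diagonal_mul]; split_ifs <;> simp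

theorem mul_indMat (S : Finset ι) (A : Matrix ι ι F) (i j : ι) :
    (A * (indMat S : Matrix ι ι F)) i j = if j ∈ S then A i j else 0 := by
  rw [indMat, mul_diagonal]; split_ifs <;> simp

/-- Supported on rows in `S` and columns outside `S`. -/
def InRad (S : Finset ι) (X : Matrix ι ι F) : Prop := ∀ i j, X i j ≠ 0 → i ∈ S ∧ j ∉ S

theorem InRad.mul_eq_zero {S : Finset ι} {X Y : Matrix ι ι F} (hX : InRad S X) (hY : InRad S Y) :
    X * Y = 0 := by
  ext i j
  rw [mul_apply, Matrix.zero_apply]
  refine Finset.sum_eq_zero fun k _ => ?_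
  by_contra h
  exact (hX i k (left_ne_zero_of_mul h)).2 (hY k j (right_ne_zero_of_mul h)).1

theorem det_one_add_inRad {S : Finset ι} {X : Matrix ι ι F} (hX : InRad S X) :
    (1 + X).det = 1 := by
  have e1 : (indMat S : Matrix ι ι F) * X = X := by
    ext i j
    rw [indMat_mul]
    split_ifs with h
    · rfl
    · by_contra hh; exact h (hX i j (Ne.symm hh)).1
  have e2 : X * (indMat S : Matrix ι ι F) = 0 := by
    ext i j
    rw [mul_indMat, Matrix.zero_apply]
    split_ifs with h
    · by_contra hh; exact (hX i j hh).2 h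
    · rfl
  rw [← e1, det_one_add_mul_comm, e2, add_zero, det_one]

/-- An irrational element of the radical gives everything. -/
theorem specialLinear_le_of_irrational_rad [Fintype F] {F₀ : Subfield F} {r : ℕ} (hr : r.Prime)
    (hcard : Fintype.card F = Nat.card F₀ ^ r) (hι : 3 ≤ Fintype.card ι) {M : Subgroup (GL ι F)}
    (hM : ∀ i j : ι, i ≠ j → ∀ c ∈ F₀, el i j c ∈ M) {S : Finset ι} {u : GL ι F} (hu : u ∈ M)
    {X : Matrix ι ι F} (hX : InRad S X) (huX : (u : Matrix ι ι F) = 1 + X) (hirr : ¬ RatMat F₀ X) :
    specialLinear ι F ≤ M := by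
  obtain ⟨a, b, hab⟩ : ∃ a b, X a b ∉ F₀ := by
    by_contra h
    push Not at h
    exact hirr h
  obtain ⟨haS, hbS⟩ := hX a b fun h => hab (h ▸ F₀.zero_mem)
  -- conjugating and dividing
  have hdiv : ∀ (e u : GL ι F) (X Y : Matrix ι ι F), e ∈ M → u ∈ M → InRad S X →
      (u : Matrix ι ι F) = 1 + X →
      ((e * u * e⁻¹ : GL ι F) : Matrix ι ι F) = (1 + Y) * (1 + X) →
      ∃ v ∈ M, (v : Matrix ι ι F) = 1 + Y := by
    intro e u X Y he hu hX huX hY
    refine ⟨e * u * e⁻¹ * u⁻¹, M.mul_mem (M.mul_mem (M.mul_mem he hu) (M.inv_mem he))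
      (M.inv_mem hu), ?_⟩
    rw [Units.val_mul, hY, ← huX, mul_assoc, Units.mul_inv, mul_one]
  -- a single column
  obtain ⟨v, hv, l, hl, Y, hYv, hYa, hYl, hY⟩ : ∃ v ∈ M, ∃ l, l ∉ S ∧ ∃ Y : Matrix ι ι F,
      (v : Matrix ι ι F) = 1 + Y ∧ Y a l = X a b ∧ (∀ i j, j ≠ l → Y i j = 0) ∧ InRad S Y := by
    by_cases hS : ∃ l, l ∉ S ∧ l ≠ b
    · obtain ⟨l, hl, hlb⟩ := hS
      have hE : ∀ i j, (X * single b l (1 : F)) i j = if j = l then X i b else 0 := by
        intro i j
        by_cases hj : j = l
        · subst hj; simp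
        · simp [hj, Ne.symm hj]
      have hRad : InRad S (X * single b l (1 : F)) := by
        intro i j h
        rw [hE] at h
        split_ifs at h with hj
        · exact ⟨(hX i b h).1, hj ▸ hl⟩
        · exact absurd rfl h
      obtain ⟨v, hv, hvY⟩ := hdiv (el b l 1)⁻¹ u X (X * single b l 1)
        (M.inv_mem (hM b l hlb.symm 1 F₀.one_mem)) hu hX huX (by
          have hsx : single b l (1 : F) * X = 0 := by
            ext i j
            rw [mul_apply, Matrix.zero_apply]
            refine Finset.sum_eq_zero fun k _ => ?_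
            rw [single_apply]
            split_ifs with h
            · rw [one_mul]; by_contra hh; exact hl (h.2 ▸ (hX k j hh).1)
            · exact zero_mul _
          rw [inv_inv, el_inv, Units.val_mul, Units.val_mul, el_coe hlb.symm, el_coe hlb.symm,
            huX]
          have hsn : ∀ c : F, single b l c * X = 0 := fun c => by
            rw [show single b l c = c • single b l (1 : F) by rw [smul_single]; simp,
              Matrix.smul_mul, hsx, smul_zero]
          have hz : single b l (-1 : F) + single b l 1 = 0 := by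
            rw [← single_add, neg_add_cancel, single_zero]
          have hXX : X * single b l (1 : F) * X = 0 := by rw [mul_assoc, hsx, mul_zero]
          simp only [add_mul, mul_add, one_mul, mul_one, hsn, hXX, Matrix.zero_mul, add_zero,
            single_mul_single_of_ne _ _ _ _ hlb]
          rw [eq_neg_of_add_eq_zero_left hz]
          abel)
      exact ⟨v, hv, l, hl, _, hvY, by rw [hE, if_pos rfl],
        fun i j hj => by rw [hE, if_neg hj], hRad⟩
    · push Not at hS
      exact ⟨u, hu, b, hbS, X, huX, rfl, fun i j hj => by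
        by_contra h; exact hj (hS j (hX i j h).2), hX⟩
  have hal : a ≠ l := fun h => hl (h ▸ haS)
  -- a single entry
  by_cases hS : ∃ k, k ∈ S ∧ k ≠ a
  · obtain ⟨k, hk, hka⟩ := hS
    have hkl : k ≠ l := fun h => hl (h ▸ hk)
    obtain ⟨w, hw, hwZ⟩ := hdiv (el k a 1) v Y (single k l (X a b)) (hM k a hka 1 F₀.one_mem)
      hv hY hYv (by
        have hys : ∀ c : F, Y * single k a c = 0 := by
          intro c
          ext i j
          rw [mul_apply, Matrix.zero_apply]
          refine Finset.sum_eq_zero fun m _ => ?_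
          rw [single_apply]
          split_ifs with h
          · rw [hYl i m (fun e => hkl (h.1.trans e)), zero_mul]
          · exact mul_zero _
        have hsy : single k a (1 : F) * Y = single k l (X a b) := by
          ext i j
          by_cases hi : i = k
          · subst hi
            by_cases hj : j = l
            · subst hj; simp [hYa]
            · simp [hYl a j hj, Ne.symm hj]
          · simp [hi, Ne.symm hi]
        have hzy : single k l (X a b) * Y = 0 := by
          ext i j
          rw [mul_apply, Matrix.zero_apply]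
          refine Finset.sum_eq_zero fun m _ => ?_
          rw [single_apply]
          split_ifs with h
          · by_contra hh; exact hl (h.2 ▸ (hY m j (right_ne_zero_of_mul hh)).1)
          · exact zero_mul _
        rw [el_inv, Units.val_mul, Units.val_mul, el_coe hka, el_coe hka, hYv]
        simp only [add_mul, mul_add, one_mul, mul_one, hys, hsy, hzy]
        simp only [single_mul_single_of_ne _ _ _ _ (fun e : a = k => hka e.symm),
          single_mul_single_of_ne _ _ _ _ (fun e : l = k => hkl e.symm)]
        rw [show single k a (-1 : F) = -single k a 1 from eq_neg_of_add_eq_zero_left (by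
          rw [← single_add, neg_add_cancel, single_zero])]
        abel)
    refine specialLinear_le_of_el hr hcard hι hM hkl (c := X a b) ?_ hab
    rwa [show el k l (X a b) = w from Units.ext (by rw [el_coe hkl, hwZ])]
  · push Not at hS
    refine specialLinear_le_of_el hr hcard hι hM hal (c := X a b) ?_ hab
    convert hv
    apply Units.ext
    rw [el_coe hal, hYv]
    congr 1
    ext i j
    by_cases h : i = a ∧ j = l
    · rw [h.1, h.2, single_apply, if_pos ⟨rfl, rfl⟩, hYa]
    · rw [single_apply, if_neg (fun e => h ⟨e.1.symm, e.2.symm⟩)]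
      by_contra hh
      exact h ⟨hS i (hY i j (Ne.symm hh)).1, by by_contra hj; exact hh (hYl i j hj).symm⟩

/-- The stabiliser of a coordinate subspace. -/
theorem mem_subfield_of_stab_coord {F₀ : Subfield F} {M : Subgroup (GL ι F)}
    (hM : subfieldSubgroup F₀ (1 : GL ι F) ⊓ specialLinear ι F ≤ M) (hMsl : M ≤ specialLinear ι F)
    {S : Finset ι}
    (hrad : ∀ u ∈ M, ∀ X : Matrix ι ι F, InRad S X → (u : Matrix ι ι F) = 1 + X → RatMat F₀ X)
    (hS : S.Nonempty) (hS' : S ≠ Finset.univ) {g : GL ι F} (hg : g ∈ M)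
    (hst : ∀ i j, i ∉ S → j ∈ S → (g : Matrix ι ι F) i j = 0) :
    g ∈ subfieldSubgroup F₀ (1 : GL ι F) := by
  set G₁ : Matrix ι ι F := (g : Matrix ι ι F) with hG₁
  set K : Matrix ι ι F := ((g⁻¹ : GL ι F) : Matrix ι ι F) with hK
  have hGK : G₁ * K = 1 := Units.mul_inv g
  have hKG : K * G₁ = 1 := Units.inv_mul g
  obtain ⟨i₀, hi₀⟩ := hS
  obtain ⟨j₀, hj₀⟩ : ∃ j, j ∉ S := by
    by_contra h
    push Not at h
    exact hS' (Finset.eq_univ_iff_forall.2 h)
  -- the inverse stabilises too
  have hKst : ∀ i j, i ∉ S → j ∈ S → K i j = 0 := by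
    let L : (ι → F) →ₗ[F] (ι → F) := toLin' G₁
    let V : Submodule F (ι → F) :=
      { carrier := {x | ∀ i, i ∉ S → x i = 0}
        add_mem' := fun hx hy i hi => by rw [Pi.add_apply, hx i hi, hy i hi, add_zero]
        zero_mem' := fun _ _ => rfl
        smul_mem' := fun c x hx i hi => by rw [Pi.smul_apply, hx i hi, smul_zero] }
    have hle : ∀ x ∈ V, L x ∈ V := fun x hx i hi => by
      simp only [L, toLin'_apply, mulVec, dotProduct]
      refine Finset.sum_eq_zero fun k _ => ?_
      by_cases hk : k ∈ S
      · rw [hst i k hi hk, zero_mul]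
      · rw [hx k hk, mul_zero]
    have hinj : Function.Injective L := fun x y h => by
      have := congrArg (fun z => K *ᵥ z) h
      simpa [L, mulVec_mulVec, hKG] using this
    have hsurj : Function.Surjective (L.restrict hle) :=
      LinearMap.surjective_of_injective fun x y h => Subtype.ext (hinj (congrArg Subtype.val h))
    intro i j hi hj
    obtain ⟨⟨x, hx⟩, hxe⟩ := hsurj ⟨Pi.single j 1, fun k hk => Pi.single_eq_of_ne
      (fun e : k = j => hk (e ▸ hj)) _⟩
    have h1 : G₁ *ᵥ x = Pi.single j 1 := congrArg Subtype.val hxe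
    have h2 := congrArg (fun z => K *ᵥ z) h1
    simp only [mulVec_mulVec, hKG, one_mulVec, mulVec_single_one] at h2
    have := congrFun h2 i
    rw [hx i hi] at this
    exact this.symm
  -- conjugates of rational root elements
  have hE : ∀ i j k l, i ∈ S → j ∉ S → G₁ k i * K j l ∈ F₀ := by
    intro i j k l hi hj
    have hij : i ≠ j := fun e => hj (e ▸ hi)
    have he : el i j (1 : F) ∈ M := hM ⟨mem_subfieldSubgroup_one_of_rat
      (ratMat_el hij F₀.one_mem), el_mem_specialLinear _ _ _⟩
    have hmem : g * el i j 1 * g⁻¹ ∈ M := M.mul_mem (M.mul_mem hg he) (M.inv_mem hg)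
    have hval : ((g * el i j 1 * g⁻¹ : GL ι F) : Matrix ι ι F) = 1 + G₁ * single i j 1 * K := by
      rw [Units.val_mul, Units.val_mul, el_coe hij, mul_add, mul_one, add_mul, ← hG₁, ← hK, hGK]
    have hent : ∀ a b, (G₁ * single i j (1 : F) * K) a b = G₁ a i * K j b := by
      intro a b
      rw [mul_assoc, mul_apply, Finset.sum_eq_single i]
      · simp
      · intro m _ hm
        simp [hm, Ne.symm hm]
      · simp
    rw [← hent]
    refine hrad _ hmem _ (fun a b h => ?_) hval k l
    rw [hent] at h
    exact ⟨by by_contra ha; exact left_ne_zero_of_mul h (hst a i ha hi),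
      fun hb => right_ne_zero_of_mul h (hKst j b hj hb)⟩
  -- the scalar
  obtain ⟨l₀, hd⟩ : ∃ l, K j₀ l ≠ 0 := by
    by_contra h
    push Not at h
    have := congrFun (congrFun hKG j₀) j₀
    rw [mul_apply, one_apply_eq, Finset.sum_eq_zero fun m _ => by rw [h m, zero_mul]] at this
    exact zero_ne_one this
  obtain ⟨k₀, he⟩ : ∃ k, G₁ k i₀ ≠ 0 := by
    by_contra h
    push Not at h
    have := congrFun (congrFun hKG i₀) i₀
    rw [mul_apply, one_apply_eq, Finset.sum_eq_zero fun m _ => by rw [h m, mul_zero]] at this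
    exact zero_ne_one this
  set d := K j₀ l₀ with hdd
  -- the outer blocks
  have hin : ∀ k i, i ∈ S → d * G₁ k i ∈ F₀ := fun k i hi => mul_comm d _ ▸ hE i j₀ k l₀ hi hj₀
  have hout : ∀ j l, j ∉ S → d⁻¹ * K j l ∈ F₀ := by
    intro j l hj
    have h1 := F₀.div_mem (hE i₀ j k₀ l hi₀ hj) (hin k₀ i₀ hi₀)
    convert h1 using 1
    field_simp
  -- the block diagonal part
  set D : Matrix ι ι F := of fun i j => if (i ∈ S ↔ j ∈ S) then G₁ i j else 0 with hD
  set D' : Matrix ι ι F := of fun i j => if (i ∈ S ↔ j ∈ S) then K i j else 0 with hD'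
  have hblock : ∀ A B : Matrix ι ι F, (∀ i j, i ∉ S → j ∈ S → A i j = 0) →
      (∀ i j, i ∉ S → j ∈ S → B i j = 0) → A * B = 1 →
      (of fun i j => if (i ∈ S ↔ j ∈ S) then A i j else 0) *
        (of fun i j => if (i ∈ S ↔ j ∈ S) then B i j else 0) = (1 : Matrix ι ι F) := by
    intro A B hA hB hAB
    ext i j
    rw [mul_apply]
    by_cases hij : (i ∈ S ↔ j ∈ S)
    · rw [← hAB, mul_apply]
      refine Finset.sum_congr rfl fun m _ => ?_
      by_cases hm : (i ∈ S ↔ m ∈ S)
      · simp [hm, hm.symm.trans hij]
      · simp only [of_apply, if_neg hm, zero_mul]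
        by_cases hi : i ∈ S
        · have : m ∉ S := fun h => hm ⟨fun _ => h, fun _ => hi⟩
          rw [hB m j this (hij.1 hi), mul_zero]
        · have : m ∈ S := by by_contra h; exact hm ⟨fun a => absurd a hi, fun a => absurd a h⟩
          rw [hA i m hi this, zero_mul]
    · have hne : i ≠ j := fun e => hij (e ▸ Iff.rfl)
      rw [one_apply_ne hne]
      refine Finset.sum_eq_zero fun m _ => ?_
      by_cases hm : (i ∈ S ↔ m ∈ S)
      · simp [show ¬(m ∈ S ↔ j ∈ S) from fun h => hij (hm.trans h)]
      · simp [hm]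
  have hDD' : D * D' = 1 := hblock G₁ K hst hKst hGK
  have hD'D : D' * D = 1 := hblock K G₁ hKst hst hKG
  let g₁ : GL ι F := ⟨D, D', hDD', hD'D⟩
  set X : Matrix ι ι F := D' * (G₁ - D) with hXdef
  have hoff : ∀ i j, (G₁ - D) i j ≠ 0 → i ∈ S ∧ j ∉ S := by
    intro i j h
    rw [Matrix.sub_apply, hD, of_apply] at h
    split_ifs at h with hij
    · exact absurd (sub_self _) h
    · rw [sub_zero] at h
      have hi : i ∈ S := by
        by_contra hi
        have hj : j ∈ S := by by_contra hj; exact hij ⟨fun a => absurd a hi, fun a => absurd a hj⟩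
        exact h (hst i j hi hj)
      exact ⟨hi, fun hj => hij ⟨fun _ => hj, fun _ => hi⟩⟩
  have hXrad : InRad S X := by
    intro i j h
    rw [hXdef, mul_apply] at h
    obtain ⟨m, -, hm⟩ := Finset.exists_ne_zero_of_sum_ne_zero h
    obtain ⟨hmS, hjS⟩ := hoff m j (right_ne_zero_of_mul hm)
    refine ⟨?_, hjS⟩
    have h1 := left_ne_zero_of_mul hm
    rw [hD', of_apply] at h1
    split_ifs at h1 with him
    · exact him.2 hmS
    · exact absurd rfl h1
  have hgval : G₁ = D * (1 + X) := by
    rw [hXdef, mul_add, mul_one, ← mul_assoc, hDD', one_mul]; abel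
  have hdetg : G₁.det = 1 := by
    have := hMsl hg
    rw [specialLinear, MonoidHom.mem_ker] at this
    rw [hG₁, ← Matrix.GeneralLinearGroup.val_det_apply, this, Units.val_one]
  have hg₁sl : g₁ ∈ specialLinear ι F := by
    rw [specialLinear, MonoidHom.mem_ker]
    apply Units.ext
    rw [Matrix.GeneralLinearGroup.val_det_apply, Units.val_one]
    show D.det = 1
    rw [hgval, det_mul, det_one_add_inRad hXrad, mul_one] at hdetg
    exact hdetg
  -- it is rational up to `d`: invert the lower block
  have hg₁K : g₁ ∈ subfieldSubgroup F₀ (1 : GL ι F) := by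
    have hinv : ∀ i j, i ∉ S → j ∉ S → d * G₁ i j ∈ F₀ := by
      -- the lower block of `d • g` is the inverse of a rational block
      let N : Matrix ι ι F₀ := of fun i j => if h : i ∉ S ∧ j ∉ S then
        ⟨d⁻¹ * K i j, hout i j h.1⟩ else (if i = j then 1 else 0)
      let B : Matrix ι ι F := of fun i j => if i ∉ S ∧ j ∉ S then d * G₁ i j else
        (if i = j then 1 else 0)
      have hNB : N.map F₀.subtype * B = 1 := by
        ext i j
        rw [mul_apply]
        by_cases hi : i ∈ S
        · rw [Finset.sum_eq_single i]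
          · simp [N, B, hi, one_apply]
          · intro m _ hm
            simp [N, hi, Ne.symm hm]
          · simp
        · by_cases hj : j ∈ S
          · rw [Finset.sum_eq_single j]
            · simp [N, B, hj, one_apply, show i ≠ j from fun e => hi (e ▸ hj)]
            · intro m _ hm
              simp [B, hj, hm]
            · simp
          · have h1 := congrFun (congrFun hKG i) j
            rw [mul_apply] at h1
            rw [← h1]
            refine Finset.sum_congr rfl fun m _ => ?_
            by_cases hm : m ∈ S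
            · have : i ≠ m := fun e => hi (e ▸ hm)
              simp [N, hm, this, hKst i m hi hm]
            · simp [N, B, hi, hj, hm]
              field_simp
      have hdet : N.det ≠ 0 := by
        intro h0
        have h1 := congrArg Matrix.det hNB
        rw [det_mul, det_one, ← RingHom.mapMatrix_apply, ← RingHom.map_det, h0, map_zero,
          zero_mul] at h1
        exact zero_ne_one h1
      have hB : B = (N⁻¹).map F₀.subtype := by
        calc B = ((N⁻¹).map F₀.subtype * N.map F₀.subtype) * B := by
              rw [← Matrix.map_mul, nonsing_inv_mul _ (isUnit_iff_ne_zero.2 hdet)]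
              simp
          _ = _ := by rw [mul_assoc, hNB, mul_one]
      intro i j hi hj
      have : B i j = d * G₁ i j := by simp [B, hi, hj]
      rw [← this, hB]
      exact (N⁻¹ i j).2
    refine mem_subfieldSubgroup_one_iff.2 ⟨d, hd, fun i j => ?_⟩
    show d * D i j ∈ F₀
    rw [hD, of_apply]
    split_ifs with h
    · by_cases hj : j ∈ S
      · exact hin i j hj
      · exact hinv i j (fun hi => hj (h.1 hi)) hj
    · rw [mul_zero]; exact F₀.zero_mem
  have hg₁M : g₁ ∈ M := hM ⟨hg₁K, hg₁sl⟩
  have hu : g₁⁻¹ * g ∈ M := M.mul_mem (M.inv_mem hg₁M) hg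
  have huX : ((g₁⁻¹ * g : GL ι F) : Matrix ι ι F) = 1 + X := by
    rw [Units.val_mul, ← hG₁, hgval, ← mul_assoc, show ((g₁⁻¹ : GL ι F) : Matrix ι ι F) = D' from rfl,
      hD'D, one_mul]
  have hXrat := hrad _ hu X hXrad huX
  have hu' : g₁⁻¹ * g ∈ subfieldSubgroup F₀ (1 : GL ι F) := by
    refine mem_subfieldSubgroup_one_of_rat ?_
    rw [huX]
    exact fun i j => F₀.add_mem (ratMat_one F₀ i j) (hXrat i j)
  simpa using Subgroup.mul_mem _ hg₁K hu'

end CfsgLib.MaxSub
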