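import Cfsg.Agent.MaxSub.RationalSubspace

/-!
# Subfield subgroups are maximal in `SL`

Let `M` lie between the subfield group and `SL` and not be `SL`. By the block lemma the stabiliser in
`M` of every non-trivial rational subspace is inside the subfield group. So the centraliser in `M`
of each rational involution with a big fixed space is inside it. With two classes of such
involutions this forces `M` to be the subfield group.
-/

set_option autoImplicit false

namespace CfsgLib.MaxSub

open Matrix Cfsg.Geo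

variable {ι : Type} [Fintype ι] [DecidableEq ι] {F : Type*} [Field F]

/-- The involution `e_b ↦ e_{φ b} - e_b` for `b ∈ B`, fixing the other basis vectors. -/
def pairInv (B : Finset ι) (φ : ι → ι) : Matrix ι ι F :=
  diagonal (fun i => if i ∈ B then -1 else 1) *
    (1 + of fun i j => if j ∈ B ∧ φ j = i then 1 else 0)

variable {B : Finset ι} {φ : ι → ι}

theorem ratMat_pairInv (F₀ : Subfield F) : RatMat F₀ (pairInv B φ : Matrix ι ι F) := by
  intro i j
  rw [pairInv, diagonal_mul, Matrix.add_apply, of_apply]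
  refine F₀.mul_mem ?_ (F₀.add_mem (ratMat_one F₀ i j) ?_)
  · split_ifs
    · exact F₀.neg_mem F₀.one_mem
    · exact F₀.one_mem
  · split_ifs
    · exact F₀.one_mem
    · exact F₀.zero_mem

theorem pairInv_mulVec (hφ : ∀ b ∈ B, φ b ∉ B) (x : ι → F) (i : ι) :
    ((pairInv B φ : Matrix ι ι F) *ᵥ x) i =
      if i ∈ B then -x i else x i + ∑ b ∈ B, if φ b = i then x b else 0 := by
  rw [pairInv, ← mulVec_mulVec, mulVec_diagonal, add_mulVec, one_mulVec, Pi.add_apply]
  have hsum : ((of fun i j => if j ∈ B ∧ φ j = i then (1 : F) else 0) *ᵥ x) i =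
      ∑ b ∈ B, if φ b = i then x b else 0 := by
    simp only [mulVec, dotProduct, of_apply, ite_mul, one_mul, zero_mul, ite_and]
    rw [Finset.sum_ite_mem, Finset.univ_inter]
  rw [hsum]
  split_ifs with h
  · have : (∑ b ∈ B, if φ b = i then x b else 0) = 0 :=
      Finset.sum_eq_zero fun b hb => if_neg fun e : φ b = i => hφ b hb (e ▸ h)
    rw [this, add_zero, neg_one_mul]
  · rw [one_mul]

theorem pairInv_mul_self (hφ : ∀ b ∈ B, φ b ∉ B) :
    (pairInv B φ : Matrix ι ι F) * pairInv B φ = 1 := by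
  apply Matrix.mulVec_injective
  funext x
  funext i
  simp only [← mulVec_mulVec, one_mulVec, pairInv_mulVec hφ]
  split_ifs with h
  · rw [neg_neg]
  · rw [add_assoc, ← Finset.sum_add_distrib]
    rw [Finset.sum_eq_zero fun b _ => by split_ifs <;> simp, add_zero]

theorem det_pairInv (hφ : ∀ b ∈ B, φ b ∉ B) (hB : Even B.card) :
    (pairInv B φ : Matrix ι ι F).det = 1 := by
  rw [pairInv, det_mul, det_diagonal, Finset.prod_ite]
  rw [det_one_add_inRad (S := Finset.univ \ B) fun i j h => ?_]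
  · simp [hB.neg_one_pow]
  · rw [of_apply] at h
    split_ifs at h with hh
    · exact ⟨by simp [← hh.2, hφ j hh.1], by simp [hh.1]⟩
    · exact absurd rfl h

theorem fixSp_pairInv (hφ : ∀ b ∈ B, φ b ∉ B) (hφi : Set.InjOn φ B) :
    fixSp (pairInv B φ : Matrix ι ι F) = coordSub Bᶜ := by
  ext x
  rw [mem_fixSp]
  constructor
  · intro h b hb
    rw [Finset.mem_compl, not_not] at hb
    have := congrFun h (φ b)
    rw [pairInv_mulVec hφ, if_neg (hφ b hb), Finset.sum_eq_single b (fun c hc hcb =>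
      if_neg fun e => hcb (hφi hc hb e)) (fun h => absurd hb h), if_pos rfl] at this
    exact add_eq_left.mp this
  · intro h
    funext i
    rw [pairInv_mulVec hφ]
    split_ifs with hi
    · rw [h i (by simpa using hi), neg_zero]
    · rw [Finset.sum_eq_zero fun b hb => by rw [h b (by simpa using hb), ite_self], add_zero]

/-- An involution of `SL`, rational, with fixed space of codimension `k`. -/
theorem exists_rational_involution (F₀ : Subfield F) (k : ℕ) (hk : Even k)
    (hn : 2 * k ≤ Fintype.card ι) :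
    ∃ i : GL ι F, i * i = 1 ∧ IsRatSL F₀ i ∧
      Module.finrank F (fixSp (i : Matrix ι ι F)) = Fintype.card ι - k := by
  let e := (Fintype.equivFin ι).symm
  let B : Finset ι := Finset.univ.image fun a : Fin k => e ⟨a, by omega⟩
  let φ : ι → ι := fun x =>
    if h : (e.symm x : ℕ) + k < Fintype.card ι then e ⟨(e.symm x : ℕ) + k, h⟩ else x
  have hφ : ∀ b ∈ B, φ b ∉ B := by
    intro b hb
    obtain ⟨a, -, rfl⟩ := Finset.mem_image.1 hb
    simp only [φ, Equiv.symm_apply_apply, B, Finset.mem_image, Finset.mem_univ, true_and]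
    rw [dif_pos (by omega)]
    rintro ⟨c, hc⟩
    have := congrArg Fin.val (e.injective hc)
    simp at this
    omega
  have hφi : Set.InjOn φ B := by
    intro b hb c hc h
    obtain ⟨a, -, rfl⟩ := Finset.mem_image.1 hb
    obtain ⟨a', -, rfl⟩ := Finset.mem_image.1 hc
    simp only [φ, Equiv.symm_apply_apply] at h
    rw [dif_pos (by omega), dif_pos (by omega)] at h
    have := congrArg Fin.val (e.injective h)
    simp at this
    rw [Fin.ext_iff.2 this]
  have hcard : B.card = k := by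
    rw [Finset.card_image_of_injective]
    · simp
    · intro a a' h
      exact Fin.ext (Fin.mk.inj (e.injective h))
  let i : GL ι F := ⟨pairInv B φ, pairInv B φ, pairInv_mul_self hφ, pairInv_mul_self hφ⟩
  refine ⟨i, Units.ext (pairInv_mul_self hφ), ⟨ratMat_pairInv F₀, ratMat_pairInv F₀, ?_⟩, ?_⟩
  · rw [specialLinear, MonoidHom.mem_ker]
    apply Units.ext
    rw [GeneralLinearGroup.val_det_apply, Units.val_one]
    exact det_pairInv hφ (hcard ▸ hk)
  · show Module.finrank F (fixSp (pairInv B φ : Matrix ι ι F)) = _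
    rw [fixSp_pairInv hφ hφi, finrank_coordSub, Finset.card_compl, hcard]

theorem finrank_fixSp_conj (g x : GL ι F) :
    Module.finrank F (fixSp ((g * x * g⁻¹ : GL ι F) : Matrix ι ι F)) =
      Module.finrank F (fixSp (x : Matrix ι ι F)) := by
  let L : (ι → F) ≃ₗ[F] (ι → F) := LinearEquiv.ofLinear (toLin' (g : Matrix ι ι F))
    (toLin' ((g⁻¹ : GL ι F) : Matrix ι ι F))
    (by rw [← toLin'_mul, Units.mul_inv, toLin'_one])
    (by rw [← toLin'_mul, Units.inv_mul, toLin'_one])
  have : fixSp ((g * x * g⁻¹ : GL ι F) : Matrix ι ι F) =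
      (fixSp (x : Matrix ι ι F)).map (L : (ι → F) →ₗ[F] (ι → F)) := by
    ext y
    rw [Submodule.mem_map_equiv, mem_fixSp, mem_fixSp]
    show _ ↔ (x : Matrix ι ι F) *ᵥ (((g⁻¹ : GL ι F) : Matrix ι ι F) *ᵥ y) =
      ((g⁻¹ : GL ι F) : Matrix ι ι F) *ᵥ y
    constructor
    · intro h
      have := congrArg (fun z => ((g⁻¹ : GL ι F) : Matrix ι ι F) *ᵥ z) h
      simpa [Units.val_mul, mulVec_mulVec, ← mul_assoc] using this
    · intro h
      have := congrArg (fun z => (g : Matrix ι ι F) *ᵥ z) h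
      simpa [Units.val_mul, mulVec_mulVec, ← mul_assoc] using this
  rw [this, LinearEquiv.finrank_map_eq]

theorem fixSp_pow {y : GL ι F} {x : ι → F} (h : (y : Matrix ι ι F) *ᵥ x = x) (m : ℕ) :
    ((y ^ m : GL ι F) : Matrix ι ι F) *ᵥ x = x := by
  induction m with
  | zero => simp
  | succ m ih => rw [pow_succ, Units.val_mul, ← mulVec_mulVec, h, ih]

theorem fixSp_eq_top_iff {g : GL ι F} : fixSp (g : Matrix ι ι F) = ⊤ ↔ g = 1 := by
  constructor
  · intro h
    apply Units.ext
    apply Matrix.mulVec_injective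
    funext x
    have hx : x ∈ fixSp (g : Matrix ι ι F) := h ▸ Submodule.mem_top
    rw [mem_fixSp.1 hx, Units.val_one, one_mulVec]
  · rintro rfl
    exact Submodule.eq_top_iff'.2 fun x => mem_fixSp.2 (by simp)

variable [Fintype F]

/-- Between the subfield group and `SL` there is nothing else. -/
theorem le_subfield_or_specialLinear_le {F₀ : Subfield F} {r : ℕ} (hr : r.Prime)
    (hcard : Fintype.card F = Nat.card F₀ ^ r) (hn : 13 ≤ Fintype.card ι)
    {M : Subgroup (GL ι F)}
    (hM : subfieldSubgroup F₀ (1 : GL ι F) ⊓ specialLinear ι F ≤ M)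
    (hMsl : M ≤ specialLinear ι F) :
    M ≤ subfieldSubgroup F₀ (1 : GL ι F) ∨ specialLinear ι F ≤ M := by
  by_cases hSL : specialLinear ι F ≤ M
  · exact Or.inr hSL
  refine Or.inl fun g hg => ?_
  have hel : ∀ i j : ι, i ≠ j → ∀ c ∈ F₀, el i j c ∈ M := fun i j hij c hc =>
    hM ⟨mem_subfieldSubgroup_one_of_rat (ratMat_el hij hc), el_mem_specialLinear _ _ _⟩
  have hrad : ∀ S : Finset ι, ∀ u ∈ M, ∀ X : Matrix ι ι F, InRad S X →
      (u : Matrix ι ι F) = 1 + X → RatMat F₀ X := fun S u hu X hX huX =>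
    Classical.byContradiction fun h =>
      hSL (specialLinear_le_of_irrational_rad hr hcard (by omega) hel hu hX huX h)
  -- stabilisers of rational subspaces
  have hstab : ∀ (A : Matrix ι ι F) (x : GL ι F), RatMat F₀ A → x ∈ M →
      LinearMap.ker (toLin' A) ≠ ⊥ → LinearMap.ker (toLin' A) ≠ ⊤ →
      (∀ v, A *ᵥ v = 0 → A *ᵥ ((x : Matrix ι ι F) *ᵥ v) = 0) →
      x ∈ subfieldSubgroup F₀ (1 : GL ι F) := by
    intro A x hA hx hbot htop hst
    obtain ⟨v, hv, hv0⟩ := Submodule.exists_mem_ne_zero_of_ne_bot hbot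
    obtain ⟨S, h, hh, hSne, hS⟩ := exists_ratSL_coord hA
      ⟨v, hv0, by simpa using LinearMap.mem_ker.1 hv⟩
    have hSu : S ≠ Finset.univ := by
      rintro rfl
      refine htop (Submodule.eq_top_iff'.2 fun w => ?_)
      have := (hS (((h⁻¹ : GL ι F) : Matrix ι ι F) *ᵥ w)).2 fun i hi =>
        absurd (Finset.mem_univ i) hi
      rw [mulVec_mulVec w, Units.mul_inv, one_mulVec] at this
      simpa using this
    have h1 := mem_subfield_of_stab_coord hM hMsl (hrad S) hSne hSu
      (g := h⁻¹ * x * h) (M.mul_mem (M.mul_mem (M.inv_mem (hM hh.mem)) hx) (hM hh.mem))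
      fun i j hi hj => by
        have h2 : (Pi.single j 1 : ι → F) ∈ coordSub S := fun k hk =>
          Pi.single_eq_of_ne (fun e : k = j => hk (e ▸ hj)) _
        have h3 := hst _ ((hS _).2 h2)
        have h4 : ((h⁻¹ * x * h : GL ι F) : Matrix ι ι F) *ᵥ Pi.single j 1 ∈ coordSub S := by
          have e : (h : Matrix ι ι F) *ᵥ (((h⁻¹ * x * h : GL ι F) : Matrix ι ι F) *ᵥ Pi.single j 1) =
              (x : Matrix ι ι F) *ᵥ ((h : Matrix ι ι F) *ᵥ Pi.single j 1) := by
            rw [mulVec_mulVec (Pi.single j (1 : F)), mulVec_mulVec (Pi.single j (1 : F)),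
              ← Units.val_mul, ← Units.val_mul, show h * (h⁻¹ * x * h) = x * h by group]
          rw [← hS, e]
          exact h3
        have h5 := h4 i hi
        rwa [mulVec_single_one] at h5
    have h6 := Subgroup.mul_mem _ (Subgroup.mul_mem _ hh.mem.1 h1)
      (Subgroup.inv_mem _ hh.mem.1)
    rwa [show h * (h⁻¹ * x * h) * h⁻¹ = x by group] at h6
  -- the two involutions
  obtain ⟨i₁, hi₁, hr₁, hd₁⟩ := exists_rational_involution (F := F) (ι := ι) F₀ 2 even_two (by omega)
  obtain ⟨i₂, hi₂, hr₂, hd₂⟩ := exists_rational_involution (F := F) (ι := ι) F₀ 4 (by decide)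
    (by omega)
  set t := g * i₁ * g⁻¹ with ht
  have ht2 : t * t = 1 := by
    rw [ht, show g * i₁ * g⁻¹ * (g * i₁ * g⁻¹) = g * (i₁ * i₁) * g⁻¹ by group, hi₁]
    group
  have hdt : Module.finrank F (fixSp (t : Matrix ι ι F)) = Fintype.card ι - 2 := by
    rw [ht, finrank_fixSp_conj, hd₁]
  obtain ⟨m, hm1, hmt, hmi⟩ := exists_central_of_not_conj ht2 hi₂ fun x hx => by
    rw [← hx, finrank_fixSp_conj, hd₂] at hdt
    omega
  set j := (t * i₂) ^ m with hj
  have htM : t ∈ M := M.mul_mem (M.mul_mem hg (hM hr₁.mem)) (M.inv_mem hg)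
  have hjM : j ∈ M := M.pow_mem (M.mul_mem htM (hM hr₂.mem)) m
  have hn' : Module.finrank F (ι → F) = Fintype.card ι := Module.finrank_fintype_fun_eq_card F
  have hbig : Fintype.card ι < 2 * Module.finrank F (fixSp (j : Matrix ι ι F)) := by
    have h1 := Submodule.finrank_sup_add_finrank_inf_eq (fixSp (t : Matrix ι ι F))
      (fixSp (i₂ : Matrix ι ι F))
    have h2 := Submodule.finrank_le (fixSp (t : Matrix ι ι F) ⊔ fixSp (i₂ : Matrix ι ι F))
    have h3 : fixSp (t : Matrix ι ι F) ⊓ fixSp (i₂ : Matrix ι ι F) ≤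
        fixSp (j : Matrix ι ι F) := by
      rintro x ⟨hx1, hx2⟩
      rw [SetLike.mem_coe, mem_fixSp] at hx1 hx2
      rw [mem_fixSp]
      exact fixSp_pow (by rw [Units.val_mul, ← mulVec_mulVec, hx2, hx1]) m
    have h4 := Submodule.finrank_mono h3
    omega
  -- centralisers of elements with proper rational fixed space
  have hcen : ∀ x y : GL ι F, x ∈ M → RatMat F₀ (y : Matrix ι ι F) → y ≠ 1 →
      0 < Module.finrank F (fixSp (y : Matrix ι ι F)) → y * x = x * y →
      x ∈ subfieldSubgroup F₀ (1 : GL ι F) := by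
    intro x y hx hy hy1 hpos hcomm
    refine hstab _ x hy.sub_one hx ?_ (fun h => hy1 (fixSp_eq_top_iff.1 h)) fun v hv => ?_
    · intro h
      rw [show fixSp (y : Matrix ι ι F) = ⊥ from h, finrank_bot] at hpos
      exact lt_irrefl 0 hpos
    · rw [sub_mulVec, one_mulVec, sub_eq_zero] at hv ⊢
      rw [mulVec_mulVec, ← Units.val_mul, hcomm, Units.val_mul, ← mulVec_mulVec, hv]
  have hi₂1 : i₂ ≠ 1 := fun h => by
    rw [fixSp_eq_top_iff.2 h, finrank_top, hn'] at hd₂
    omega
  have hjK := hcen j i₂ hjM hr₂.1 hi₂1 (by omega) hmi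
  have hjr := ratMat_of_big_fix hjK hbig
  have htK := hcen t j htM hjr hm1 (by omega) hmt.symm
  have htr := ratMat_of_big_fix htK (by omega)
  -- `g` carries the fixed space of `i₁` to a rational one
  have hne₁ : ∀ y : GL ι F, 0 < Module.finrank F (fixSp (y : Matrix ι ι F)) →
      ∃ x : ι → F, x ≠ 0 ∧ ((y : Matrix ι ι F) - 1) *ᵥ x = 0 := by
    intro y hy
    have hne : fixSp (y : Matrix ι ι F) ≠ ⊥ := fun h => by
      rw [h, finrank_bot] at hy; exact lt_irrefl 0 hy
    obtain ⟨x, hx, hx0⟩ := Submodule.exists_mem_ne_zero_of_ne_bot hne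
    exact ⟨x, hx0, by rw [sub_mulVec, one_mulVec, sub_eq_zero]; exact mem_fixSp.1 hx⟩
  obtain ⟨S, h, hh, hSne, hS⟩ := exists_ratSL_coord hr₁.1.sub_one (hne₁ i₁ (by omega))
  obtain ⟨T, h', hh', hTne, hT⟩ := exists_ratSL_coord htr.sub_one (hne₁ t (by omega))
  have hdim : ∀ (y k : GL ι F) (U : Finset ι),
      (∀ x : ι → F, ((y : Matrix ι ι F) - 1) *ᵥ ((k : Matrix ι ι F) *ᵥ x) = 0 ↔ x ∈ coordSub U) →
      Module.finrank F (fixSp (y : Matrix ι ι F)) = U.card := by
    intro y k U hU
    have h5 : fixSp ((k⁻¹ * y * k⁻¹⁻¹ : GL ι F) : Matrix ι ι F) = coordSub U := by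
      ext x
      rw [← hU, sub_mulVec, one_mulVec, sub_eq_zero, mem_fixSp, inv_inv, Units.val_mul,
        Units.val_mul, mul_assoc, ← mulVec_mulVec, ← mulVec_mulVec]
      constructor
      · intro h0
        have := congrArg (fun z => (k : Matrix ι ι F) *ᵥ z) h0
        simpa [mulVec_mulVec, ← mul_assoc] using this
      · intro h0
        rw [h0, mulVec_mulVec, Units.inv_mul, one_mulVec]
    rw [← finrank_fixSp_conj k⁻¹ y, h5, finrank_coordSub]
  obtain ⟨p, hp, hpST⟩ := exists_ratSL_perm (F := F) F₀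
    (show S.card = T.card by rw [← hdim i₁ h S hS, ← hdim t h' T hT, hdt, hd₁]) hTne
  set a := h' * p * h⁻¹ with ha
  have hra : IsRatSL F₀ a := (hh'.mul hp).mul hh.inv
  have hmove : ∀ x, (i₁ : Matrix ι ι F) *ᵥ x = x ↔
      (t : Matrix ι ι F) *ᵥ ((a : Matrix ι ι F) *ᵥ x) = (a : Matrix ι ι F) *ᵥ x := by
    intro x
    have e1 := hS (((h⁻¹ : GL ι F) : Matrix ι ι F) *ᵥ x)
    rw [mulVec_mulVec x, Units.mul_inv, one_mulVec, sub_mulVec, one_mulVec, sub_eq_zero] at e1
    have e2 : (a : Matrix ι ι F) *ᵥ x = (h' : Matrix ι ι F) *ᵥ ((p : Matrix ι ι F) *ᵥ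
        (((h⁻¹ : GL ι F) : Matrix ι ι F) *ᵥ x)) := by
      simp only [ha, Units.val_mul, mulVec_mulVec, mul_assoc]
    rw [e1, ← hpST, ← hT, sub_mulVec, one_mulVec, sub_eq_zero, e2]
  have hi₁1 : i₁ ≠ 1 := fun h => by
    rw [fixSp_eq_top_iff.2 h, finrank_top, hn'] at hd₁
    omega
  have hfin : a⁻¹ * g ∈ subfieldSubgroup F₀ (1 : GL ι F) := by
    refine hstab _ (a⁻¹ * g) hr₁.1.sub_one (M.mul_mem (M.inv_mem (hM hra.mem)) hg) ?_
      (fun h => hi₁1 (fixSp_eq_top_iff.1 h)) fun v hv => ?_
    · intro h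
      rw [show fixSp (i₁ : Matrix ι ι F) = ⊥ from h, finrank_bot] at hd₁
      omega
    · rw [sub_mulVec, one_mulVec, sub_eq_zero] at hv ⊢
      rw [hmove, mulVec_mulVec v, mulVec_mulVec, ← Units.val_mul, ← Units.val_mul]
      rw [show a * (a⁻¹ * g) = g by group, show t * g = g * i₁ by rw [ht]; group,
        Units.val_mul, ← mulVec_mulVec, hv]
  have := Subgroup.mul_mem _ hra.mem.1 hfin
  rwa [mul_inv_cancel_left] at this

/-- The subfield subgroup is maximal in `SL` in dimension at least thirteen. -/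
theorem isMaximalIn_subfield {F₀ : Subfield F} {r : ℕ} (hr : r.Prime)
    (hcard : Fintype.card F = Nat.card F₀ ^ r) (hn : 13 ≤ Fintype.card ι) (P : GL ι F) :
    IsMaximalIn (specialLinear ι F) (subfieldSubgroup F₀ P ⊓ specialLinear ι F) := by
  haveI : (specialLinear ι F).Normal := MonoidHom.normal_ker _
  set c := (MulAut.conj P).toMonoidHom with hc
  have hK : ∀ x, x ∈ subfieldSubgroup F₀ P ↔ P⁻¹ * x * P ∈ subfieldSubgroup F₀ (1 : GL ι F) := by
    intro x
    simp only [subfieldSubgroup, map_one, Subgroup.mem_map]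
    constructor
    · rintro ⟨y, hy, rfl⟩
      exact ⟨y, hy, by simp [mul_assoc]⟩
    · rintro ⟨y, hy, e⟩
      exact ⟨y, hy, by
        have e' : y = P⁻¹ * x * P := by simpa using e
        subst e'
        simp [mul_assoc]⟩
  have hsl : ∀ x, x ∈ specialLinear ι F ↔ P⁻¹ * x * P ∈ specialLinear ι F := by
    intro x
    constructor
    · intro h
      have := Subgroup.Normal.conj_mem inferInstance x h P⁻¹
      rwa [inv_inv] at this
    · intro h
      have := Subgroup.Normal.conj_mem inferInstance _ h P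
      rwa [show P * (P⁻¹ * x * P) * P⁻¹ = x by group] at this
  refine isMaximalIn_of inf_le_right ?_ fun M hHM hMK g hg hg' => ?_
  · obtain ⟨z, hz⟩ : ∃ z : F, z ∉ F₀ := by
      by_contra h
      push Not at h
      haveI : Fintype F₀ := Fintype.ofFinite _
      have h1 : Nat.card F₀ = Fintype.card F := by
        rw [Nat.card_eq_fintype_card]
        exact Fintype.card_congr ⟨Subtype.val, fun x => ⟨x, h x⟩, fun _ => rfl, fun _ => rfl⟩
      rw [h1] at hcard
      exact absurd (Nat.pow_eq_self_iff Fintype.one_lt_card |>.1 hcard.symm) hr.ne_one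
    let e := (Fintype.equivFin ι).symm
    set a := e ⟨0, by omega⟩ with ha
    set b := e ⟨1, by omega⟩ with hb
    set s := e ⟨2, by omega⟩ with hs
    have hab : a ≠ b := fun h => by simpa using congrArg Fin.val (e.injective h)
    have has : s ≠ a := fun h => by simpa using congrArg Fin.val (e.injective h)
    refine ⟨P * el a b z * P⁻¹, (hsl _).2 ?_, fun hmem => ?_⟩
    · rw [show P⁻¹ * (P * el a b z * P⁻¹) * P = el a b z by group]
      exact el_mem_specialLinear _ _ _
    · have h1 := (hK _).1 hmem.1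
      rw [show P⁻¹ * (P * el a b z * P⁻¹) * P = el a b z by group] at h1
      obtain ⟨d, hd, hd'⟩ := mem_subfieldSubgroup_one_iff.1 h1
      have h2 := hd' s s
      have h3 := hd' a b
      rw [Matrix.smul_apply, el_coe hab, Matrix.add_apply, one_apply, single_apply] at h2 h3
      rw [if_pos rfl, if_neg (fun e => has e.1.symm), add_zero, smul_eq_mul, mul_one] at h2
      rw [if_neg hab, if_pos ⟨rfl, rfl⟩, zero_add, smul_eq_mul] at h3
      apply hz
      have := F₀.mul_mem (F₀.inv_mem h2) h3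
      rwa [inv_mul_cancel_left₀ hd] at this
  · let M' : Subgroup (GL ι F) := M.comap c
    have hmem : ∀ x, x ∈ M' ↔ P * x * P⁻¹ ∈ M := fun x => Iff.rfl
    have h1 : subfieldSubgroup F₀ (1 : GL ι F) ⊓ specialLinear ι F ≤ M' := by
      rintro x ⟨hx1, hx2⟩
      refine (hmem x).2 (hHM ⟨(hK _).2 ?_, (hsl _).2 ?_⟩)
      · rwa [show P⁻¹ * (P * x * P⁻¹) * P = x by group]
      · rwa [show P⁻¹ * (P * x * P⁻¹) * P = x by group]
    have h2 : M' ≤ specialLinear ι F := fun x hx => by
      have := (hsl _).1 (hMK ((hmem x).1 hx))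
      rwa [show P⁻¹ * (P * x * P⁻¹) * P = x by group] at this
    rcases le_subfield_or_specialLinear_le hr hcard hn h1 h2 with h | h
    · refine absurd ?_ hg'
      refine ⟨(hK g).2 (h ((hmem _).2 ?_)), hMK hg⟩
      rwa [show P * (P⁻¹ * g * P) * P⁻¹ = g by group]
    · intro x hx
      have := (hmem _).1 (h ((hsl x).1 hx))
      rwa [show P * (P⁻¹ * x * P) * P⁻¹ = x by group] at this

end CfsgLib.MaxSub
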