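import Mathlib

/-!
Isomorphisms between symmetric groups of degree at least 5 and different from 6 come from bijections.
-/

set_option autoImplicit false

namespace CfsgLib.MaxSub

open Equiv Equiv.Perm

variable {α β : Type*} [DecidableEq α] [DecidableEq β]

theorem swap_mul_swap_pow_six [Fintype α] (a b c d : α) : (swap a b * swap c d) ^ 6 = 1 := by
  rcases eq_or_ne a b with rfl | hab
  · rw [swap_self, ← Perm.one_def, one_mul, show 6 = 2 * 3 by rfl, pow_mul, pow_two, swap_mul_self, one_pow]
  rcases eq_or_ne c d with rfl | hcd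
  · rw [swap_self, ← Perm.one_def, mul_one, show 6 = 2 * 3 by rfl, pow_mul, pow_two, swap_mul_self, one_pow]
  have three : ∀ x y z : α, x ≠ y → x ≠ z → (swap x y * swap x z) ^ 6 = 1 := by
    intro x y z hxy hxz
    rcases eq_or_ne y z with rfl | hyz
    · simp
    · have h3 := (isThreeCycle_swap_mul_swap_same hxy hxz hyz).orderOf
      rw [show 6 = 3 * 2 by rfl, pow_mul, ← h3, pow_orderOf_eq_one, one_pow]
  by_cases h1 : a = c
  · subst h1; exact three a b d hab hcd
  by_cases h2 : a = d
  · subst h2; rw [swap_comm c a]; exact three a b c hab h1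
  by_cases h3 : b = c
  · subst h3; rw [swap_comm a b]; exact three b a d hab.symm hcd
  by_cases h4 : b = d
  · subst h4; rw [swap_comm a b, swap_comm c b]; exact three b a c hab.symm h3
  have hc : Commute (swap a b) (swap c d) := by
    apply Perm.Disjoint.commute
    intro x
    by_cases hx : x = a ∨ x = b
    · right
      rcases hx with rfl | rfl
      · exact swap_apply_of_ne_of_ne h1 h2
      · exact swap_apply_of_ne_of_ne h3 h4
    · left
      push Not at hx
      exact swap_apply_of_ne_of_ne hx.1 hx.2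
  rw [hc.mul_pow]; simp [pow_succ]

/-- an involution other than a transposition has, outside degree 6 and below 5, a conjugate whose product with it
has order 4 or 5 -/
theorem exists_conj_pow_six_ne_one [Fintype α] (h5 : 5 ≤ Fintype.card α) (h6 : Fintype.card α ≠ 6)
    (s : Perm α) (hs : s * s = 1) (hs1 : s ≠ 1) (hswap : ¬ s.IsSwap) :
    ∃ g : Perm α, (s * (g * s * g⁻¹)) ^ 6 ≠ 1 := by
  have inv : ∀ x, s (s x) = x := fun x => by rw [← Perm.mul_apply, hs, Perm.one_apply]
  obtain ⟨a, ha⟩ : ∃ a, s a ≠ a := by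
    by_contra h; push Not at h; exact hs1 (Equiv.ext h)
  obtain ⟨c, hca, hcb, hc⟩ : ∃ c, c ≠ a ∧ c ≠ s a ∧ s c ≠ c := by
    by_contra h; push Not at h
    refine hswap ⟨a, s a, ha.symm, Equiv.ext fun x => ?_⟩
    rcases eq_or_ne x a with rfl | h1
    · simp
    rcases eq_or_ne x (s a) with rfl | h2
    · simp [inv]
    rw [swap_apply_of_ne_of_ne h1 h2, h x h1 h2]
  have hda : s c ≠ a := fun h => hcb (by rw [← h, inv])
  have hdb : s c ≠ s a := fun h => hca (s.injective h)
  by_cases hfix : ∃ e, s e = e
  · obtain ⟨e, he⟩ := hfix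
    have hea : e ≠ a := fun h => ha (h ▸ he)
    have heb : e ≠ s a := fun h => ha (by have := he; rw [h, inv] at this; exact this.symm)
    have hec : e ≠ c := fun h => hc (h ▸ he)
    have hed : e ≠ s c := fun h => hc (by have := he; rw [h, inv] at this; exact this.symm)
    set g := swap (s a) c * swap (s c) e with hg
    refine ⟨g, fun h => ?_⟩
    have hgi : g⁻¹ = swap (s c) e * swap (s a) c := by simp [hg]
    set q := s * (g * s * g⁻¹) with hq
    have qx : ∀ x, q x = s (swap (s a) c (swap (s c) e (s (swap (s c) e (swap (s a) c x))))) := by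
      intro x; simp only [hq, hgi]; simp only [hg, Perm.mul_apply]
    have q1 : q a = s c := by
      rw [qx]; simp [swap_apply_of_ne_of_ne, ha.symm, hca.symm, hda.symm, hea.symm, hdb.symm, heb.symm]
    have q2 : q (s c) = c := by
      rw [qx]
      simp [swap_apply_of_ne_of_ne, hc, hdb, he, hed.symm, heb, hec, hea, inv]
    have q3 : q c = s a := by
      rw [qx]
      simp [swap_apply_of_ne_of_ne, hdb.symm, heb.symm, inv, ha.symm, hca.symm, hda.symm, hea.symm]
    have q4 : q (s a) = e := by
      rw [qx]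
      simp [swap_apply_of_ne_of_ne, hcb, hc.symm, hec.symm, he, hed.symm, hed, heb, hec, hdb, hc]
    have q5 : q e = a := by
      rw [qx]
      simp [swap_apply_of_ne_of_ne, heb, hec, hcb, hc.symm, hec.symm, hed, hed.symm, inv]
    have := congrArg (fun p : Perm α => p a) h
    simp only [pow_succ, pow_zero, one_mul, Perm.mul_apply, q1, q2, q3, q4, q5, Perm.one_apply] at this
    exact hda this
  · push Not at hfix
    have hb := ha
    obtain ⟨e, hea, heb, hec, hed⟩ : ∃ e, e ≠ a ∧ e ≠ s a ∧ e ≠ c ∧ e ≠ s c := by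
      by_contra h
      push Not at h
      have : (Finset.univ : Finset α) ⊆ {a, s a, c, s c} := by
        intro x _
        simp only [Finset.mem_insert, Finset.mem_singleton]
        by_contra hx; push Not at hx
        exact hx.2.2.2 (h x hx.1 hx.2.1 hx.2.2.1)
      have := (Finset.card_le_card this).trans Finset.card_le_four
      rw [Finset.card_univ] at this; omega
    have hfa : s e ≠ a := fun h => heb (by rw [← h, inv])
    have hfb : s e ≠ s a := fun h => hea (s.injective h)
    have hfc : s e ≠ c := fun h => hed (by rw [← h, inv])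
    have hfd : s e ≠ s c := fun h => hec (s.injective h)
    obtain ⟨u, hua, hub, huc, hud, hue, huf⟩ :
        ∃ u, u ≠ a ∧ u ≠ s a ∧ u ≠ c ∧ u ≠ s c ∧ u ≠ e ∧ u ≠ s e := by
      by_contra h
      push Not at h
      have : (Finset.univ : Finset α) ⊆ {a, s a, c, s c, e, s e} := by
        intro x _
        simp only [Finset.mem_insert, Finset.mem_singleton]
        by_contra hx; push Not at hx
        exact hx.2.2.2.2.2 (h x hx.1 hx.2.1 hx.2.2.1 hx.2.2.2.1 hx.2.2.2.2.1)
      have h1 := (Finset.card_le_card this).trans ((Finset.card_insert_le _ _).trans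
        (Nat.succ_le_succ Finset.card_le_five))
      have h2 : ({a, s a, c, s c, e, s e} : Finset α).card = 6 := by
        simp [ha.symm, hca.symm, hcb.symm, hda.symm, hdb.symm, hc.symm, hea.symm, heb.symm, hec.symm,
          hed.symm, hfa.symm, hfb.symm, hfc.symm, hfd.symm, (hfix e).symm, inv]
      have h3 := Finset.card_le_univ ({a, s a, c, s c, e, s e} : Finset α)
      rw [Finset.card_univ] at h1; omega
    have hva : s u ≠ a := fun h => hub (by rw [← h, inv])
    have hvb : s u ≠ s a := fun h => hua (s.injective h)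
    have hvc : s u ≠ c := fun h => hud (by rw [← h, inv])
    have hvd : s u ≠ s c := fun h => huc (s.injective h)
    have hve : s u ≠ e := fun h => huf (by rw [← h, inv])
    have hvf : s u ≠ s e := fun h => hue (s.injective h)
    have hfe : s e ≠ e := hfix e
    have hvu : s u ≠ u := hfix u
    set g := swap (s a) (s u) * (swap c u * swap (s c) (s e)) with hg
    refine ⟨g, fun h => ?_⟩
    have hgi : g⁻¹ = swap (s c) (s e) * swap c u * swap (s a) (s u) := by simp [hg]
    set q := s * (g * s * g⁻¹) with hq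
    have qx : ∀ x, q x = s (swap (s a) (s u) (swap c u (swap (s c) (s e)
        (s (swap (s c) (s e) (swap c u (swap (s a) (s u) x))))))) := by
      intro x; simp only [hq, hgi]; simp only [hg, Perm.mul_apply]
    have q1 : q a = u := by
      rw [qx]; simp [swap_apply_of_ne_of_ne, ha.symm, hva.symm, hca.symm, hua.symm, hda.symm, hfa.symm,
        hdb.symm, hfb.symm, hcb.symm, hub.symm, inv]
    have q2 : q u = e := by
      rw [qx]; simp [swap_apply_of_ne_of_ne, hub, hvu.symm, hc.symm, hfc.symm, hdb.symm, hcb.symm,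
        hvd.symm, hud.symm, huf.symm, hvf.symm, hfb, hfc, inv]
    have q3 : q e = c := by
      rw [qx]; simp [swap_apply_of_ne_of_ne, heb, hve.symm, hec, hue.symm, hed, hfe.symm,
        hdb, hc, hvd.symm, hud.symm, inv]
    have q4 : q c = a := by
      rw [qx]; simp [swap_apply_of_ne_of_ne, hcb, hvc.symm, hud, huf, hvd, hvf, hvc, hvu, inv]
    have := congrArg (fun p : Perm α => p a) h
    simp only [pow_succ, pow_zero, one_mul, Perm.mul_apply, q1, q2, q3, q4, Perm.one_apply] at this
    exact hea this

/-- an isomorphism of symmetric groups of degree at least 5 other than 6 is induced by a bijection -/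
theorem perm_iso_inner [Fintype α] [Fintype β] (h5 : 5 ≤ Fintype.card α) (h6 : Fintype.card α ≠ 6)
    (hcard : Fintype.card β = Fintype.card α) (Φ : Perm α ≃* Perm β) :
    ∃ e : α ≃ β, ∀ g, Φ g = e.permCongr g := by
  have hsw : ∀ x y : α, x ≠ y → ∃ u v, u ≠ v ∧ Φ (swap x y) = swap u v := by
    intro x y hxy
    by_contra h
    have hns : ¬ (Φ (swap x y)).IsSwap := fun ⟨u, v, h1, h2⟩ => h ⟨u, v, h1, h2⟩
    have h1 : Φ (swap x y) ≠ 1 := by
      rw [map_ne_one_iff _ Φ.injective]
      intro h2
      have := congrArg (fun p : Perm α => p x) h2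
      simp only [swap_apply_left, Perm.one_apply] at this
      exact hxy this.symm
    obtain ⟨g, hg⟩ := exists_conj_pow_six_ne_one (by omega) (by omega) (Φ (swap x y))
      (by rw [← map_mul, swap_mul_self, map_one]) h1 hns
    apply hg
    obtain ⟨k, rfl⟩ := Φ.surjective g
    rw [← map_inv, ← map_mul, ← map_mul, ← map_mul, ← map_pow, ← swap_apply_apply,
      swap_mul_swap_pow_six, map_one]
  obtain ⟨a⟩ : Nonempty α := Fintype.card_pos_iff.1 (by omega)
  have hnc : ∀ y z, y ≠ a → z ≠ a → y ≠ z → Φ (swap a y) * Φ (swap a z) ≠ Φ (swap a z) * Φ (swap a y) := by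
    intro y z hy hz hyz h
    rw [← map_mul, ← map_mul] at h
    have := congrArg (fun p : Perm α => p z) (Φ.injective h)
    simp [swap_apply_of_ne_of_ne, hz, hy, hyz, hyz.symm, hy.symm] at this
  have meet : ∀ u v p q : β, swap u v * swap p q ≠ swap p q * swap u v → u = p ∨ u = q ∨ v = p ∨ v = q := by
    intro u v p q h
    by_contra hn
    push Not at hn
    apply h
    refine (Perm.Disjoint.commute ?_).eq
    intro x
    by_cases hx : x = u ∨ x = v
    · right
      rcases hx with rfl | rfl
      · exact swap_apply_of_ne_of_ne hn.1 hn.2.1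
      · exact swap_apply_of_ne_of_ne hn.2.2.1 hn.2.2.2
    · left
      push Not at hx
      exact swap_apply_of_ne_of_ne hx.1 hx.2
  have third : ∀ s : Finset α, s.card < Fintype.card α → ∃ z, z ∉ s := by
    intro s hs
    by_contra h
    push Not at h
    rw [Finset.eq_univ_iff_forall.2 h] at hs
    simp at hs
  obtain ⟨y₁, hy₁⟩ := third {a} (by rw [Finset.card_singleton]; omega)
  obtain ⟨y₂, hy₂⟩ := third {a, y₁} (lt_of_le_of_lt Finset.card_le_two (by omega))
  simp only [Finset.mem_insert, Finset.mem_singleton, not_or] at hy₁ hy₂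
  obtain ⟨c, u₁, u₂, hcu₁, hcu₂, e₁, e₂⟩ : ∃ c u₁ u₂, c ≠ u₁ ∧ c ≠ u₂ ∧
      Φ (swap a y₁) = swap c u₁ ∧ Φ (swap a y₂) = swap c u₂ := by
    obtain ⟨u, v, huv, e⟩ := hsw a y₁ (Ne.symm hy₁)
    obtain ⟨p, q, hpq, e'⟩ := hsw a y₂ (Ne.symm hy₂.1)
    have h := hnc y₁ y₂ hy₁ hy₂.1 (Ne.symm hy₂.2)
    rw [e, e'] at h
    rcases meet u v p q h with r | r | r | r
    · subst r; exact ⟨u, v, q, huv, hpq, e, e'⟩
    · subst r; exact ⟨u, v, p, huv, hpq.symm, e, by rw [e', swap_comm]⟩
    · subst r; exact ⟨v, u, q, huv.symm, hpq, by rw [e, swap_comm], e'⟩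
    · subst r; exact ⟨v, u, p, huv.symm, hpq.symm, by rw [e, swap_comm], by rw [e', swap_comm]⟩
  have hinj : ∀ y z, y ≠ a → Φ (swap a y) = Φ (swap a z) → y = z := by
    intro y z hy h
    have := congrArg (fun p : Perm α => p a) (Φ.injective h)
    simpa using this
  -- the dichotomy for a further edge
  have dich : ∀ y, y ≠ a → y ≠ y₁ → y ≠ y₂ → (∃ u, Φ (swap a y) = swap c u) ∨ Φ (swap a y) = swap u₁ u₂ := by
    intro y hy h1 h2
    obtain ⟨p, q, hpq, e⟩ := hsw a y hy.symm
    have m1 := hnc y y₁ hy hy₁ h1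
    have m2 := hnc y y₂ hy hy₂.1 h2
    rw [e, e₁] at m1
    rw [e, e₂] at m2
    by_cases hpc : p = c
    · exact Or.inl ⟨q, by rw [e, hpc]⟩
    by_cases hqc : q = c
    · exact Or.inl ⟨p, by rw [e, hqc, swap_comm]⟩
    right
    have k1 := meet _ _ _ _ m1
    have k2 := meet _ _ _ _ m2
    simp only [hpc, hqc, false_or] at k1 k2
    have hne : u₁ ≠ u₂ := fun h => hy₂.2 (hinj y₂ y₁ hy₂.1 (by rw [e₁, e₂, h]))
    rcases k1 with rfl | rfl <;> rcases k2 with r | r
    · exact absurd r hne
    · rw [e, r]
    · rw [e, r, swap_comm]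
    · exact absurd r hne
  have star : ∀ y, y ≠ a → ∃ u, Φ (swap a y) = swap c u := by
    intro y hy
    by_cases h1 : y = y₁
    · exact ⟨u₁, h1 ▸ e₁⟩
    by_cases h2 : y = y₂
    · exact ⟨u₂, h2 ▸ e₂⟩
    rcases dich y hy h1 h2 with h | h
    · exact h
    · exfalso
      obtain ⟨w, hw⟩ := third {a, y₁, y₂, y} (lt_of_le_of_lt Finset.card_le_four (by omega))
      simp only [Finset.mem_insert, Finset.mem_singleton, not_or] at hw
      obtain ⟨hwa, hw1, hw2, hwy⟩ := hw
      rcases dich w hwa hw1 hw2 with ⟨u, hu⟩ | hu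
      · have m := hnc w y hwa hy hwy
        rw [hu, h] at m
        rcases meet _ _ _ _ m with r | r | r | r
        · exact hcu₁ r
        · exact hcu₂ r
        · exact hw1 (hinj w y₁ hwa (by rw [hu, e₁, r]))
        · exact hw2 (hinj w y₂ hwa (by rw [hu, e₂, r]))
      · exact hwy (hinj w y hwa (by rw [hu, h]))
  choose f hf using star
  let F : α → β := fun y => if h : y = a then c else f y h
  have hF : ∀ y, Φ (swap a y) = swap c (F y) := by
    intro y
    by_cases h : y = a
    · simp [F, h]; exact map_one Φ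
    · simp [F, h, hf y h]
  have hFa : F a = c := by simp [F]
  have hFi : Function.Injective F := by
    intro y z h
    have := congrArg (fun p : Perm α => p a) (Φ.injective (by rw [hF, hF, h] : Φ (swap a y) = Φ (swap a z)))
    simpa using this
  have hbij : Function.Bijective F := (Fintype.bijective_iff_injective_and_card F).2 ⟨hFi, hcard.symm⟩
  let e := Equiv.ofBijective F hbij
  refine ⟨e, fun g => ?_⟩
  have h : Φ.toMonoidHom = e.permCongrHom.toMonoidHom := by
    refine MonoidHom.eq_of_eqOn_dense closure_isSwap ?_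
    rintro _ ⟨y, z, hyz, rfl⟩
    have he : e.permCongr (swap y z) = swap (F y) (F z) := by
      ext x
      obtain ⟨w, rfl⟩ := e.surjective x
      rw [Equiv.permCongr_apply, Equiv.symm_apply_apply]
      exact hFi.map_swap y z w
    show Φ (swap y z) = e.permCongr (swap y z)
    rw [he]
    by_cases hya : y = a
    · rw [hya, hFa, hF]
    by_cases hza : z = a
    · rw [hza, hFa, swap_comm y a, hF, swap_comm]
    · have h1 : swap y z = swap a y * swap a z * (swap a y)⁻¹ := by
        rw [← swap_apply_apply, swap_apply_left, swap_apply_of_ne_of_ne hza hyz.symm]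
      rw [h1, map_mul, map_mul, map_inv, hF, hF, ← swap_apply_apply, swap_apply_left,
        swap_apply_of_ne_of_ne (fun h => hza (hFi (h.trans hFa.symm))) (fun h => hyz (hFi h).symm)]
  exact DFunLike.congr_fun h g

end CfsgLib.MaxSub
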