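import Cfsg.Agent.MaxSub.SocleSection
import Cfsg.Agent.AschbacherTwelve.Symplectic
import Cfsg.Agent.AschbacherOrth.Descent

/-!
# Socles abelian modulo scalars in the symplectic groups

Such a group normalises a 2-group of minus type over a prime field, or lies in a subfield group.
-/

set_option autoImplicit false
set_option linter.unusedSectionVars false

namespace CfsgLib.MaxSub

attribute [-simp] RingEquiv.coe_refl

open Matrix Cfsg.Geo CfsgLib.Aschbacher CfsgLib.AschbacherForms CfsgLib.AschbacherSymplectic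
open scoped commutatorElement

section ambient

variable {ι : Type} [Fintype ι] [DecidableEq ι] [Nonempty ι] {F : Type*} [Field F] [Fintype F]

/-- A commutative group of involutive isometries of an alternating form, pairwise independent, has
fewer elements than the dimension. -/
theorem card_lt_of_commuting_involutions {f : (ι → F) → (ι → F) → F}
    (hf : IsSymplecticForm f) (h2 : (2 : F) ≠ 0) (hp : (Fintype.card F).Prime)
    {Q : Type*} [Fintype Q] (u : Q → Matrix ι ι F) (hli : LinearIndependent F u)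
    (hmul : ∀ i j, ∃ (k : Q) (c : F), u i * u j = c • u k)
    (hcomm : ∀ i j, u i * u j = u j * u i) (hsq : ∀ i, u i * u i = 1)
    (hadj : ∀ i, adj (RingEquiv.refl F) f (u i) = u i) :
    2 * Fintype.card Q ≤ Fintype.card ι := by
  classical
  have hfr := isReflexive_symplectic hf
  obtain ⟨p, hchar⟩ := CharP.exists F
  haveI := hchar
  haveI : Fact p.Prime := ⟨CharP.char_is_prime F p⟩
  obtain ⟨a, hp', ha⟩ := FiniteField.card F p
  have hcard : Fintype.card F = p := by
    rw [ha] at hp ⊢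
    rw [hp.eq_one_of_pow, pow_one]
  haveI : CharP (Matrix ι ι F) p :=
    charP_of_injective_algebraMap (algebraMap F (Matrix ι ι F)).injective p
  have hp2 : p ≠ 2 := by
    rintro rfl
    exact h2 (CharTwo.two_eq_zero)
  obtain ⟨w, hw⟩ := (Fact.out : p.Prime).odd_of_ne_two hp2
  let C := Submodule.span F (Set.range u)
  have hu : ∀ i, u i ∈ C := fun i => Submodule.subset_span ⟨i, rfl⟩
  have hCu : ∀ x ∈ C, ∀ i, x * u i ∈ C ∧ x * u i = u i * x := by
    intro x hx i
    induction hx using Submodule.span_induction with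
    | mem x hx =>
      obtain ⟨j, rfl⟩ := hx
      obtain ⟨k, c, h⟩ := hmul j i
      exact ⟨h ▸ C.smul_mem c (hu k), hcomm j i⟩
    | zero => simp
    | add x y _ _ h h' => exact ⟨by rw [add_mul]; exact C.add_mem h.1 h'.1, by rw [add_mul, mul_add, h.2, h'.2]⟩
    | smul c x _ h => exact ⟨by rw [Matrix.smul_mul]; exact C.smul_mem c h.1, by rw [Matrix.smul_mul, Matrix.mul_smul, h.2]⟩
  have hC : ∀ x ∈ C, ∀ y ∈ C, x * y ∈ C ∧ x * y = y * x := by
    intro x hx y hy
    induction hy using Submodule.span_induction with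
    | mem y hy => obtain ⟨i, rfl⟩ := hy; exact hCu x hx i
    | zero => simp
    | add y z _ _ h h' => exact ⟨by rw [mul_add]; exact C.add_mem h.1 h'.1, by rw [add_mul, mul_add, h.2, h'.2]⟩
    | smul c y _ h => exact ⟨by rw [Matrix.mul_smul]; exact C.smul_mem c h.1, by rw [Matrix.smul_mul, Matrix.mul_smul, h.2]⟩
  have hCadj : ∀ x ∈ C, adj (RingEquiv.refl F) f x = x := by
    intro x hx
    induction hx using Submodule.span_induction with
    | mem x hx => obtain ⟨i, rfl⟩ := hx; exact hadj i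
    | zero => exact hfr.adj_zero
    | add x y _ _ h h' => rw [hfr.adj_add, h, h']
    | smul c x _ h => rw [hfr.adj_smul, h, RingEquiv.refl_apply]
  have hCp : ∀ x ∈ C, x ^ p = x := by
    intro x hx
    induction hx using Submodule.span_induction with
    | mem x hx =>
      obtain ⟨i, rfl⟩ := hx
      rw [hw, pow_succ, pow_mul, sq, hsq, one_pow, one_mul]
    | zero => exact zero_pow (Fact.out : p.Prime).ne_zero
    | add x y hx hy h h' => rw [add_pow_char_of_commute _ (hC x hx y hy).2, h, h']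
    | smul c x _ h => rw [smul_pow, h, ← hcard, FiniteField.pow_card]
  -- a vector with trivial annihilator
  let ev : (ι → F) → (C →ₗ[F] (ι → F)) := fun v =>
    { toFun := fun x => x.1 *ᵥ v
      map_add' := fun x y => add_mulVec x.1 y.1 v
      map_smul' := fun c x => smul_mulVec c x.1 v }
  obtain ⟨v, -, hmin⟩ :=
    (InvImage.wf (fun v => Module.finrank F (LinearMap.ker (ev v))) wellFounded_lt).has_min
      Set.univ ⟨0, trivial⟩
  have hker : LinearMap.ker (ev v) = ⊥ := by
    by_contra hne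
    obtain ⟨⟨d, hd⟩, hdv, hd0⟩ := (Submodule.ne_bot_iff _).1 hne
    have hdv' : d *ᵥ v = 0 := hdv
    have hd0' : d ≠ 0 := fun h => hd0 (Subtype.ext h)
    have hpowC : ∀ l : ℕ, d ^ (l + 1) ∈ C := by
      intro l
      induction l with
      | zero => rwa [zero_add, pow_one]
      | succ l ih => rw [pow_succ']; exact (hC d hd _ ih).1
    obtain ⟨l, hl⟩ : ∃ l, p = l + 2 := ⟨p - 2, by have := (Fact.out : p.Prime).two_le; omega⟩
    set e := d ^ (l + 1) with he
    have hed : e * d = d := by rw [he, ← pow_succ, show l + 1 + 1 = p by omega, hCp d hd]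
    have hee : e * e = e := by
      conv_lhs => arg 2; rw [he, pow_succ']
      rw [← mul_assoc, hed, ← pow_succ']
    have hev : e *ᵥ v = 0 := by rw [he, pow_succ, ← mulVec_mulVec, hdv', mulVec_zero]
    obtain ⟨z, hz⟩ : ∃ z, e *ᵥ z ≠ 0 := by
      by_contra hn
      push Not at hn
      refine hd0' ?_
      rw [← hed]
      refine Matrix.toLin'.injective (LinearMap.ext fun y => ?_)
      rw [toLin'_apply, map_zero, LinearMap.zero_apply, ← mulVec_mulVec, hn]
    refine hmin (v + e *ᵥ z) trivial (Submodule.finrank_lt_finrank_of_lt (lt_of_le_not_ge ?_ ?_))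
    · rintro ⟨x, hx⟩ hxv
      have h1 : x *ᵥ (v + e *ᵥ z) = 0 := hxv
      have hxe : x * e = e * x := (hC x hx e (hpowC l)).2
      have h2' : x *ᵥ (e *ᵥ z) = 0 := by
        have := congrArg (e *ᵥ ·) h1
        simp only [mulVec_add, mulVec_zero, mulVec_mulVec, ← mul_assoc] at this
        rw [← hxe, mul_assoc, hee, ← mulVec_mulVec, hev, mulVec_zero, zero_add] at this
        rw [mulVec_mulVec]; exact this
      show x *ᵥ v = 0
      rwa [mulVec_add, h2', add_zero] at h1
    · intro hle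
      have h1 : (⟨e, hpowC l⟩ : C) ∈ LinearMap.ker (ev v) := hev
      have h2' : e *ᵥ (v + e *ᵥ z) = 0 := hle h1
      rw [mulVec_add, hev, zero_add, mulVec_mulVec, hee] at h2'
      exact hz h2'
  have hts : LinearMap.range (ev v) ≤ hfr.perp (LinearMap.range (ev v)) := by
    rintro _ ⟨x, rfl⟩ _ ⟨y, rfl⟩
    show f (x.1 *ᵥ v) (y.1 *ᵥ v) = 0
    rw [hfr.adj_spec, hCadj _ x.2, mulVec_mulVec]
    have hxy := hCadj _ (hC _ x.2 _ y.2).1
    have h1 := hf.skew (((x.1 * y.1)) *ᵥ v) v
    rw [hfr.adj_spec, hxy] at h1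
    exact (mul_eq_zero.1 (show (2 : F) * f v ((x.1 * y.1) *ᵥ v) = 0 by linear_combination h1)).resolve_left h2
  have h1 := Submodule.finrank_mono hts
  have h2' := hfr.finrank_perp (LinearMap.range (ev v))
  have h3 : Module.finrank F (LinearMap.range (ev v)) = Fintype.card Q := by
    rw [LinearMap.finrank_range_of_inj (LinearMap.ker_eq_bot.1 hker), finrank_span_eq_card hli]
  omega

/-- Elements of a socle section whose quotients are not scalar are linearly independent. -/
theorem linearIndependent_socle {H E : Subgroup (GL ι F)} {r : ℕ} (hS : SocleData H E r)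
    (hn : ((Fintype.card ι : ℕ) : F) ≠ 0) {Q : Type*} [Fintype Q] (u : Q → GL ι F) (hu : ∀ i, u i ∈ E)
    (hne : ∀ i j, i ≠ j → u i * (u j)⁻¹ ∉ scalars ι F) :
    LinearIndependent F fun i => mat (u i) := by
  classical
  rw [Fintype.linearIndependent_iff]
  intro c hc i
  have h1 := congrArg (fun M => (M * mat (u i)⁻¹).trace) hc
  simp only [Matrix.sum_mul, Matrix.smul_mul, trace_sum, trace_smul, smul_eq_mul, zero_mul, trace_zero] at h1
  rw [Finset.sum_eq_single i (fun j _ hji => by
    rw [show mat (u j) * mat (u i)⁻¹ = mat (u j * (u i)⁻¹) from (Units.val_mul _ _).symm,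
      trace_eq_zero_socle hS (mul_mem (hu j) (inv_mem (hu i))) (hne j i hji), mul_zero])
    (fun h => absurd (Finset.mem_univ i) h), mat_mul_inv, trace_one] at h1
  exact (mul_eq_zero.1 h1).resolve_right hn

set_option maxHeartbeats 1000000 in
/-- An abelian group of involutory isometries inside a socle has at most as many elements as the
dimension. -/
theorem card_le_of_involutions {H E : Subgroup (GL ι F)} {r : ℕ} (hS : SocleData H E r)
    {f : (ι → F) → (ι → F) → F} (hf : IsSymplecticForm f) (h2 : (2 : F) ≠ 0)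
    (hp : (Fintype.card F).Prime) (hn : ((Fintype.card ι : ℕ) : F) ≠ 0) {A : Subgroup (GL ι F)}
    (hAE : A ≤ E) (hAc : ∀ a ∈ A, ∀ b ∈ A, a * b = b * a) (hA2 : ∀ a ∈ A, a * a = 1)
    (hAf : ∀ a ∈ A, ∀ u v, f (mat a *ᵥ u) (mat a *ᵥ v) = f u v) :
    Nat.card A ≤ Fintype.card ι := by
  classical
  let Z : Subgroup A := (scalars ι F).subgroupOf A
  have hfr := isReflexive_symplectic hf
  have hZ : Nat.card Z ≤ 2 := by
    obtain ⟨g, hg⟩ : ∃ g : Z → ({1, scHom ι F (-1)} : Finset (GL ι F)), ∀ z, (g z).1 = z.1.1 := by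
      refine ⟨fun z => ⟨z.1.1, ?_⟩, fun z => rfl⟩
      obtain ⟨c, hc⟩ := exists_scHom (Subgroup.mem_subgroupOf.1 z.2)
      have h1 := hA2 _ z.1.2
      rw [hc, ← map_mul] at h1
      have h3 : c * c = 1 := scHom_injective (h1.trans (map_one _).symm)
      rcases mul_self_eq_one_iff.1 (show (c : F) * c = 1 from congrArg Units.val h3) with h | h
      · simp [hc, show c = 1 from Units.ext h]
      · simp [hc, show c = -1 from Units.ext (by rw [h, Units.val_neg, Units.val_one])]
    refine (Nat.card_le_card_of_injective g fun z z' h => Subtype.ext (Subtype.ext ?_)).trans ?_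
    · rw [← hg z, ← hg z', h]
    · rw [Nat.card_eq_fintype_card, Fintype.card_coe]
      exact Finset.card_le_two
  haveI : Fintype (A ⧸ Z) := Fintype.ofFinite _
  have hsq : ∀ a ∈ A, mat a * mat a = 1 := fun a ha => by
    simpa [mat] using congrArg mat (hA2 a ha)
  have hbound := card_lt_of_commuting_involutions hf h2 hp
    (fun q : A ⧸ Z => mat q.out.1)
    (linearIndependent_socle hS hn (fun q : A ⧸ Z => q.out.1) (fun q => hAE q.out.2) fun q q' hne h => by
      refine hne ?_
      rw [← QuotientGroup.out_eq' q, ← QuotientGroup.out_eq' q', QuotientGroup.eq, Subgroup.mem_subgroupOf]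
      have h' : (q.out.1)⁻¹ * q'.out.1 = (q.out.1 * q'.out.1⁻¹)⁻¹ := by
        rw [_root_.mul_inv_rev, inv_inv]
        exact hAc _ (inv_mem q.out.2) _ q'.out.2
      show (q.out.1)⁻¹ * q'.out.1 ∈ scalars ι F
      rw [h']; exact inv_mem h)
    (fun q q' => by
      let k : A ⧸ Z := ((q.out * q'.out : A) : A ⧸ Z)
      have h1 : k.out⁻¹ * (q.out * q'.out) ∈ Z := QuotientGroup.eq.1 (QuotientGroup.out_eq' k)
      obtain ⟨c, hc⟩ := exists_scHom (Subgroup.mem_subgroupOf.1 h1)
      refine ⟨k, (c : F), ?_⟩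
      show mat q.out.1 * mat q'.out.1 = _
      have h2' : q.out.1 * q'.out.1 = k.out.1 * scHom ι F c := by
        rw [← hc, Subgroup.coe_mul, Subgroup.coe_inv, mul_inv_cancel_left]
        rfl
      calc mat q.out.1 * mat q'.out.1 = mat (k.out.1 * scHom ι F c) := by
            rw [← h2']; exact (Units.val_mul _ _).symm
        _ = mat k.out.1 * mat (scHom ι F c) := Units.val_mul _ _
        _ = _ := by rw [mat_scHom, Matrix.mul_smul, mul_one])
    (fun q q' => by simp only [mat, ← Units.val_mul, hAc _ q.out.2 _ q'.out.2])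
    (fun q => hsq _ q.out.2)
    (fun q => by
      rw [hfr.adj_isometry (hAf _ q.out.2)]
      calc mat q.out.1⁻¹ = mat q.out.1⁻¹ * (mat q.out.1 * mat q.out.1) := by
            rw [hsq _ q.out.2, mul_one]
        _ = _ := by rw [← mul_assoc, mat_inv_mul, one_mul])
  rw [Z.card_eq_card_quotient_mul_card_subgroup]
  rw [← Nat.card_eq_fintype_card] at hbound
  exact (Nat.mul_le_mul_left _ hZ).trans (by omega)

end ambient

variable {m : ℕ} {F : Type*} [Field F] [Fintype F]

set_option maxHeartbeats 1000000 in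
/-- A socle abelian modulo scalars gives a subfield group or a member of the sixth class. -/
theorem symplectic_socle (hm : 1 ≤ m) {H : Subgroup (GL (Fin m ⊕ Fin m) F)}
    (hH : H ≤ Cfsg.spGL m F) (hab : HasAbelianSocle H) :
    (∃ (F₁ : Subfield F) (s : ℕ) (P : GL (Fin m ⊕ Fin m) F) (c : F), s.Prime ∧
      Fintype.card F = Nat.card F₁ ^ s ∧ c ≠ 0 ∧
      IsFormRationalStructure (Cfsg.sympForm m F) F₁ c P ∧ H ≤ subfieldSubgroup F₁ P) ∨
    ∃ (R : Subgroup (GL (Fin m ⊕ Fin m) F)) (p k : ℕ), IsSymplecticTypeGroup 2 R ∧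
      ActsAbsolutelyIrreducibly (matrixSet R) ∧ R ≤ similarityGroup (Cfsg.sympForm m F) ∧
      p.Prime ∧ Odd p ∧ Fintype.card F = p ∧ Nat.card R = 2 ^ (1 + 2 * k) ∧
      Nat.card (Subgroup.center R) = 2 ∧ IsOfMinusType k R ∧ Fintype.card (Fin m ⊕ Fin m) = 2 ^ k ∧
      H ≤ subgroupNormalizer R := by
  classical
  haveI : Nonempty (Fin m ⊕ Fin m) := ⟨Sum.inl ⟨0, hm⟩⟩
  have hf := isRefl (m := m) (F := F)
  have hn : Fintype.card (Fin m ⊕ Fin m) = 2 * m := by simp [two_mul]
  have hiso := fixesForm_iff.1 (fixes_of_le hH)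
  obtain ⟨E, r, j, hS, hcard, hEH⟩ := exists_socleData_le hab
  obtain rfl : r = 2 := ((Nat.prime_dvd_prime_iff_eq Nat.prime_two hS.prime).1
    (Nat.prime_two.dvd_of_dvd_pow (hcard ▸ hn.symm ▸ dvd_mul_right 2 m))).symm
  obtain ⟨j, rfl⟩ : ∃ i, j = i + 1 := ⟨j - 1, by
    rcases Nat.eq_zero_or_pos j with rfl | h
    · rw [pow_zero] at hcard; omega
    · omega⟩
  -- isometric scalars
  obtain ⟨i₀⟩ : Nonempty (Fin m ⊕ Fin m) := inferInstance
  have hscal : ∀ c : Fˣ, scHom (Fin m ⊕ Fin m) F c ∈ Cfsg.spGL m F ↔ c ^ 2 = 1 := by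
    intro c
    rw [mem_spGL_iff]
    have key : ∀ u v, Cfsg.sympForm m F (mat (scHom (Fin m ⊕ Fin m) F c) *ᵥ u)
        (mat (scHom (Fin m ⊕ Fin m) F c) *ᵥ v) = (c : F) ^ 2 * Cfsg.sympForm m F u v := fun u v => by
      rw [mat_scHom, smul_mulVec, smul_mulVec, one_mulVec, one_mulVec, hf.sesq.smul_left,
        hf.sesq.smul_right, RingEquiv.refl_apply]
      ring
    constructor
    · intro h
      obtain ⟨x, hx⟩ := (hf.nondegenerate (Pi.single i₀ 1) (by simp)).2
      refine Units.ext ((mul_eq_right₀ hx).1 ?_)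
      rw [Units.val_pow_eq_pow_val, ← key]
      exact h _ _
    · intro h u v
      refine (key u v).trans ?_
      rw [← Units.val_pow_eq_pow_val, h, Units.val_one, one_mul]
  let R := E ⊓ Cfsg.spGL m F
  have hR : SocleSection E R 2 := ⟨inf_le_left, fun x hx => by
      obtain ⟨c, hc⟩ := hEH x hx
      exact ⟨c, mul_mem (hS.scalars_le (scHom_mem c)) hx, hH hc⟩,
    fun c => ⟨fun h => (hscal c).1 h.2, fun h => ⟨hS.scalars_le (scHom_mem c), (hscal c).2 h⟩⟩⟩
  have hRn : Normalizes H R := fun g hg x hx =>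
    Subgroup.mem_inf.2 ⟨hS.normal g hg x hx.1, mul_mem (mul_mem (hH hg) hx.2) (inv_mem (hH hg))⟩
  have habs := hR.absIrred hS
  -- the characteristic is odd
  have h2 : (2 : F) ≠ 0 := by
    intro h2
    haveI : CharP F 2 := CharTwo.of_one_ne_zero_of_two_eq_zero one_ne_zero h2
    obtain ⟨κ, hκ⟩ := hS.exists_kappa
    obtain ⟨x, hx, y, hy, hxy⟩ := exists_kappa_ne_one hS (by omega) hκ
    refine hxy (Units.ext (?_ : ((κ x y : Fˣ) : F) = 1))
    have h1 : ((κ x y : Fˣ) : F) ^ 2 = 1 := by
      rw [← Units.val_pow_eq_pow_val, kappa_pow_eq_one hS hκ hx hy, Units.val_one]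
    rcases sq_eq_one_iff.1 h1 with h | h
    · exact h
    · rw [h, CharTwo.neg_eq]
  have hζ : IsPrimitiveRoot (-1 : Fˣ) 2 := by
    haveI : Fact (Nat.Prime 2) := ⟨Nat.prime_two⟩
    rw [← orderOf_eq_prime (show (-1 : Fˣ) ^ 2 = 1 by simp) fun h => h2 (by
      have : (-1 : F) = 1 := by simpa using congrArg Units.val h
      linear_combination -this)]
    exact IsPrimitiveRoot.orderOf _
  have hfix : FixesForm (matrixSet R) (Cfsg.sympForm m F) := fixes_of_le inf_le_right
  by_cases hp : (Fintype.card F).Prime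
  swap
  · left
    have h0 := AschbacherOrth.bot_subfield_ne_top hp
    have hreal : RealisableOver (⊥ : Subfield F) (matrixSet R) := hR.realisable hS fun c hc => by
      have h1 : (c : F) ^ 2 = 1 := by rw [← Units.val_pow_eq_pow_val, hc, Units.val_one]
      rcases sq_eq_one_iff.1 h1 with h | h <;> rw [h]
      · exact Subfield.one_mem _
      · exact Subfield.neg_mem _ (Subfield.one_mem _)
    exact AschbacherForms.exists_form_subfield hf h0 hRn habs hfix hreal
  right
  have hsq : ∀ x ∈ R, x ^ 2 ∈ scalars (Fin m ⊕ Fin m) F := fun x hx => hS.pow_mem x hx.1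
  have hfour : ∀ x ∈ R, x ^ 4 = 1 := by
    intro x hx
    obtain ⟨c, hc⟩ := exists_scHom (hsq x hx)
    have hc2 : c ^ 2 = 1 := (hscal c).1 (hc ▸ pow_mem hx.2 2)
    rw [show 4 = 2 * 2 from rfl, pow_mul, hc, ← map_pow, hc2, map_one]
  have hexp : Monoid.exponent R = 4 := by
    have hd : Monoid.exponent R ∣ 4 := Monoid.exponent_dvd_of_forall_pow_eq_one fun x =>
      Subtype.ext (hfour x.1 x.2)
    obtain ⟨i, hi, he⟩ := (Nat.dvd_prime_pow Nat.prime_two (m := 2)).1 hd
    by_contra hne
    obtain ⟨x, hx, y, hy, hxy⟩ := hR.exists_not_comm hS (by omega)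
    have hd2 : Monoid.exponent R ∣ 2 := by
      rw [he]
      have : i ≤ 1 := by
        by_contra hlt
        exact hne (by rw [he, show i = 2 by omega]; norm_num)
      exact pow_dvd_pow 2 this |>.trans (by norm_num)
    have hinv : ∀ z : R, z⁻¹ = z := fun z => by
      refine inv_eq_of_mul_eq_one_right ?_
      rw [← sq]
      exact Monoid.exponent_dvd_iff_forall_pow_eq_one.1 hd2 z
    refine hxy (congrArg Subtype.val (?_ : (⟨x, hx⟩ : R) * ⟨y, hy⟩ = ⟨y, hy⟩ * ⟨x, hx⟩))
    rw [← hinv (⟨x, hx⟩ * ⟨y, hy⟩), _root_.mul_inv_rev, hinv, hinv]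
  obtain ⟨p, hchar⟩ := CharP.exists F
  refine ⟨R, Fintype.card F, j + 1, ⟨Nat.prime_two, fun x => ⟨2, Subtype.ext (hfour x.1 x.2)⟩,
    hR.cyclic hS hRn, by rw [hexp]; rfl⟩, habs,
    fun x hx => ⟨1, fun u v => by rw [Units.val_one, one_mul]; exact hfix _ (mem_matrixSet hx) u v⟩,
    hp, ?_, rfl, ?_, hR.center_card hS two_pos hζ, ?_, hcard, fun g hg => mem_subgroupNormalizer_of (hRn g hg)⟩
  · refine hp.odd_of_ne_two fun h => h2 ?_
    have := FiniteField.cast_card_eq_zero F
    rw [h] at this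
    exact_mod_cast this
  · rw [hR.card hS two_pos hζ, hcard, ← pow_mul, ← pow_succ']
    congr 1
    ring
  -- minus type
  intro A hA hA2
  haveI := hA
  have hbound := card_le_of_involutions hS isSymplecticForm_sympForm h2 hp
    (by rw [hcard, Nat.cast_pow]; exact pow_ne_zero _ (by exact_mod_cast h2)) (A := A.map R.subtype)
    (by rintro _ ⟨a, -, rfl⟩; exact a.2.1)
    (by
      rintro _ ⟨a, ha, rfl⟩ _ ⟨b, hb, rfl⟩
      exact congrArg (fun z : A => (z.1.1 : GL (Fin m ⊕ Fin m) F)) (mul_comm' ⟨a, ha⟩ ⟨b, hb⟩))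
    (by rintro _ ⟨a, ha, rfl⟩; exact congrArg (fun z : R => z.1) (hA2 a ha))
    (by rintro _ ⟨a, -, rfl⟩ u v; exact hfix _ (mem_matrixSet a.2) u v)
  rw [Subgroup.card_map_of_injective R.subtype_injective, hcard] at hbound
  exact lt_of_le_of_lt hbound (Nat.pow_lt_pow_right (by norm_num) (by omega))

end CfsgLib.MaxSub
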