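import Cfsg.Agent.MaxSub.SymplecticSubspace
import Cfsg.Agent.Forms.SymplecticPoints

/-!
# Stabilisers of non-degenerate decompositions in the symplectic group
-/

set_option autoImplicit false
set_option linter.unusedSectionVars false

namespace CfsgLib.MaxSub

open Matrix Cfsg.Geo

variable {F : Type*} [Field F] {m : ℕ}

local notation "V" => (Fin m ⊕ Fin m → F)
local notation "ω" => Cfsg.sympForm m F
local notation "Mat" => Matrix (Fin m ⊕ Fin m) (Fin m ⊕ Fin m) F

/-- The restriction of the symplectic form to `U` is non-degenerate. -/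
def SpNondeg (U : Submodule F V) : Prop := ∀ w ∈ U, w ≠ 0 → ∃ z ∈ U, ω w z ≠ 0

theorem spNondeg_of_isNondegenerateOn {U : Submodule F V} (h : IsNondegenerateOn ω U) :
    SpNondeg U :=
  fun w hw h0 => (h w hw h0).2

theorem isCompl_sPerp {U : Submodule F V} (h : SpNondeg U) : IsCompl U (sPerp U) := by
  have hinf : U ⊓ sPerp U = ⊥ := by
    rw [eq_bot_iff]
    rintro w ⟨hw, hw'⟩
    by_contra h0
    obtain ⟨z, hz, hz'⟩ := h w hw (by simpa using h0)
    exact hz' (hw' z hz)
  refine ⟨disjoint_iff.mpr hinf, codisjoint_iff.mpr (Submodule.eq_top_of_finrank_eq ?_)⟩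
  have h1 := Submodule.finrank_sup_add_finrank_inf_eq U (sPerp U)
  have h2 := finrank_sPerp U
  have h3 := Submodule.finrank_le (U ⊔ sPerp U)
  rw [hinf, finrank_bot] at h1
  rw [Module.finrank_pi, Fintype.card_sum, Fintype.card_fin] at h3 ⊢
  omega

/-- The orthogonal projection onto a non-degenerate subspace. -/
noncomputable def spProj {U : Submodule F V} (h : SpNondeg U) : V →ₗ[F] V :=
  U.projection (sPerp U) (isCompl_sPerp h)

theorem spProj_mem {U : Submodule F V} (h : SpNondeg U) (x : V) : spProj h x ∈ U := by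
  rw [spProj, ← Submodule.coe_projectionOnto_apply]
  exact Submodule.coe_mem _

theorem spProj_of_mem {U : Submodule F V} (h : SpNondeg U) {x : V} (hx : x ∈ U) :
    spProj h x = x := by
  rw [spProj, ← Submodule.coe_projectionOnto_apply,
    show x = ((⟨x, hx⟩ : U) : V) from rfl, Submodule.projectionOnto_apply_left]

theorem spProj_orth {U : Submodule F V} (h : SpNondeg U) {x : V} {u : V} (hu : u ∈ U) :
    ω (x - spProj h x) u = 0 := by
  have hc := isCompl_sPerp h
  obtain ⟨a, ha, b, hb, hab⟩ := Submodule.mem_sup.mp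
    (hc.sup_eq_top ▸ Submodule.mem_top : x ∈ U ⊔ sPerp U)
  have hb0 : spProj h b = 0 := by
    rw [spProj, Submodule.projection_apply_eq_zero_iff]
    exact hb
  rw [← hab, map_add, spProj_of_mem h ha, hb0, add_zero, add_sub_cancel_left]
  exact hb u hu

/-- Two non-degenerate subspaces of the same dimension are isometric. -/
theorem exists_sp_isometry : ∀ (d : ℕ) (U U' : Submodule F V), SpNondeg U → SpNondeg U' →
    Module.finrank F U = d → Module.finrank F U' = d →
    ∃ L : V →ₗ[F] V, (∀ x ∈ U, L x ∈ U') ∧ ∀ x ∈ U, ∀ y ∈ U, ω (L x) (L y) = ω x y := by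
  have hs := sesq_sympForm (m := m) (F := F)
  intro d
  induction d using Nat.strong_induction_on with
  | _ d ih =>
  intro U U' hU hU' hd hd'
  rcases Nat.eq_zero_or_pos d with rfl | hpos
  · refine ⟨0, fun x _ => by simp, fun x hx y _ => ?_⟩
    rw [Submodule.finrank_eq_zero.mp hd, Submodule.mem_bot] at hx
    simp [hx, hs.zero_left]
  -- split off a hyperbolic pair
  have split : ∀ U : Submodule F V, SpNondeg U → Module.finrank F U = d →
      ∃ e ∈ U, ∃ f ∈ U, ω e f = 1 ∧
        SpNondeg (U ⊓ sPerp (Submodule.span F {e, f})) ∧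
        Module.finrank F ↥(U ⊓ sPerp (Submodule.span F {e, f})) + 2 = d ∧
        ∀ x ∈ U, x - ω x f • e - ω e x • f ∈ U ⊓ sPerp (Submodule.span F {e, f}) := by
    intro U hU hd
    have hbot : U ≠ ⊥ := by rintro rfl; rw [finrank_bot] at hd; omega
    obtain ⟨e, he, he0⟩ := Submodule.exists_mem_ne_zero_of_ne_bot hbot
    obtain ⟨z, hz, hez⟩ := hU e he he0
    set f := (ω e z)⁻¹ • z
    have hf : f ∈ U := U.smul_mem _ hz
    have hef : ω e f = 1 := by rw [hs.smul_right]; exact inv_mul_cancel₀ hez
    have hfe : ω f e = -1 := by rw [Forms.sympForm_swap, hef]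
    clear_value f
    have hmem : ∀ x ∈ U, x - ω x f • e - ω e x • f ∈ U ⊓ sPerp (Submodule.span F {e, f}) := by
      intro x hx
      refine ⟨U.sub_mem (U.sub_mem hx (U.smul_mem _ he)) (U.smul_mem _ hf), fun w hw => ?_⟩
      obtain ⟨a, b, rfl⟩ := Submodule.mem_span_pair.mp hw
      simp only [hs.sub_left, hs.smul_left, hs.add_right, hs.smul_right, Forms.sympForm_self, hef,
        hfe, RingEquiv.refl_apply]
      rw [Forms.sympForm_swap e x]
      ring
    refine ⟨e, he, f, hf, hef, ?_, ?_, hmem⟩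
    · rintro w ⟨hw, hw'⟩ h0
      obtain ⟨y, hy, hwy⟩ := hU w hw h0
      refine ⟨_, hmem y hy, ?_⟩
      rw [hs.sub_right, hs.sub_right, hs.smul_right, hs.smul_right,
        hw' e (Submodule.subset_span (Set.mem_insert e _)),
        hw' f (Submodule.subset_span (Set.mem_insert_of_mem e rfl))]
      simpa using hwy
    · have hsp : Submodule.span F {e, f} ≤ U :=
        Submodule.span_le.mpr (by rintro x (rfl | rfl) <;> assumption)
      have hli : LinearIndependent F ![e, f] := by
        rw [LinearIndependent.pair_iff]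
        intro a b hab
        have e1 := congrArg (fun y => ω y f) hab
        have e2 := congrArg (fun y => ω e y) hab
        simp only [hs.add_left, hs.add_right, hs.smul_left, hs.smul_right, hs.zero_left,
          hs.zero_right, Forms.sympForm_self, hef, mul_zero, mul_one, add_zero, zero_add,
          RingEquiv.refl_apply] at e1 e2
        exact ⟨e1, e2⟩
      have h2 : Module.finrank F ↥(Submodule.span F {e, f}) = 2 := by
        have := finrank_span_eq_card hli
        rwa [Matrix.range_cons, Matrix.range_cons, Matrix.range_empty, Set.union_empty,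
          Set.singleton_union, Fintype.card_fin] at this
      have hsup : Submodule.span F {e, f} ⊔ (U ⊓ sPerp (Submodule.span F {e, f})) = U := by
        refine le_antisymm (sup_le hsp inf_le_left) fun x hx => ?_
        exact Submodule.mem_sup.mpr ⟨ω x f • e + ω e x • f,
          Submodule.mem_span_pair.mpr ⟨_, _, rfl⟩, _, hmem x hx, by abel⟩
      have hinf : Submodule.span F {e, f} ⊓ (U ⊓ sPerp (Submodule.span F {e, f})) = ⊥ := by
        rw [eq_bot_iff]
        rintro w ⟨hw, -, hw'⟩
        obtain ⟨a, b, rfl⟩ := Submodule.mem_span_pair.mp hw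
        have e1 := hw' f (Submodule.subset_span (Set.mem_insert_of_mem e rfl))
        have e2 := hw' e (Submodule.subset_span (Set.mem_insert e _))
        simp only [hs.add_left, hs.smul_left, Forms.sympForm_self, hef, hfe, mul_zero, mul_one,
          mul_neg, add_zero, zero_add, neg_eq_zero] at e1 e2
        simp [e1, e2]
      have := Submodule.finrank_sup_add_finrank_inf_eq (Submodule.span F {e, f})
        (U ⊓ sPerp (Submodule.span F {e, f}))
      rw [hsup, hinf, finrank_bot, h2, hd] at this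
      omega
  obtain ⟨e, he, f, hf, hef, hn, hr, hmem⟩ := split U hU hd
  obtain ⟨e', he', f', hf', hef', hn', hr', -⟩ := split U' hU' hd'
  obtain ⟨L₀, hL₀, hL₀'⟩ := ih (d - 2) (by omega) _ _ hn hn' (by omega) (by omega)
  let cf : V →ₗ[F] F :=
    { toFun := fun x => ω x f
      map_add' := fun x y => hs.add_left x y f
      map_smul' := fun c x => hs.smul_left c x f }
  let ce : V →ₗ[F] F :=
    { toFun := fun x => ω e x
      map_add' := fun x y => hs.add_right e x y
      map_smul' := fun c x => hs.smul_right c e x }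
  let R : V →ₗ[F] V :=
    LinearMap.id - cf.smulRight e - ce.smulRight f
  let L : V →ₗ[F] V := cf.smulRight e' + ce.smulRight f' + L₀.comp R
  have hL : ∀ x, L x = ω x f • e' + ω e x • f' + L₀ (x - ω x f • e - ω e x • f) := fun _ => rfl
  have hfe' : ω f' e' = -1 := by rw [Forms.sympForm_swap, hef']
  refine ⟨L, fun x hx => ?_, fun x hx y hy => ?_⟩
  · rw [hL]
    exact U'.add_mem (U'.add_mem (U'.smul_mem _ he') (U'.smul_mem _ hf')) (hL₀ _ (hmem x hx)).1
  · have hx0 := (hL₀ _ (hmem x hx)).2
    have hy0 := (hL₀ _ (hmem y hy)).2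
    have a1 := hx0 e' (Submodule.subset_span (Set.mem_insert e' _))
    have a2 := hx0 f' (Submodule.subset_span (Set.mem_insert_of_mem e' rfl))
    have a3 : ω e' (L₀ (y - ω y f • e - ω e y • f)) = 0 := by
      rw [Forms.sympForm_swap, hy0 e' (Submodule.subset_span (Set.mem_insert e' _)), neg_zero]
    have a4 : ω f' (L₀ (y - ω y f • e - ω e y • f)) = 0 := by
      rw [Forms.sympForm_swap, hy0 f' (Submodule.subset_span (Set.mem_insert_of_mem e' rfl)),
        neg_zero]
    rw [hL x, hL y]
    simp only [hs.add_left, hs.add_right, hs.smul_left, hs.smul_right, Forms.sympForm_self, hef',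
      hfe', a1, a2, a3, a4, RingEquiv.refl_apply]
    rw [hL₀' _ (hmem x hx) _ (hmem y hy)]
    have hfe : ω f e = -1 := by rw [Forms.sympForm_swap, hef]
    simp only [hs.sub_left, hs.sub_right, hs.smul_left, hs.smul_right, Forms.sympForm_self, hef,
      hfe, RingEquiv.refl_apply]
    rw [Forms.sympForm_swap e x, Forms.sympForm_swap y f]
    ring

/-- In a non-degenerate decomposition only zero is orthogonal to all members. -/
theorem eq_zero_of_forall_orth {t k : ℕ} {D : Fin t → Submodule F (Fin m ⊕ Fin m → F)} (hD : IsNondegenerateMDecomposition ω k D) {x : V}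
    (h : ∀ i, ∀ y ∈ D i, ω x y = 0) : x = 0 := by
  refine Forms.sympForm_sep x fun v => ?_
  have hv : v ∈ iSup D := by rw [hD.decomp.iSup_eq_top]; exact Submodule.mem_top
  induction hv using Submodule.iSup_induction' with
  | mem i v hv => exact h i v hv
  | zero => exact sesq_sympForm.zero_right x
  | add u v _ _ hu hv => rw [sesq_sympForm.add_right, hu, hv, add_zero]

/-- An element swapping two members. -/
theorem exists_sp_swap {t k : ℕ} {D : Fin t → Submodule F (Fin m ⊕ Fin m → F)} (hD : IsNondegenerateMDecomposition ω k D) {i l : Fin t} (hil : i ≠ l) :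
    ∃ T : GL (Fin m ⊕ Fin m) F, T ∈ decompositionStabilizer D ⊓ Cfsg.spGL m F ∧
      (∀ v ∈ D i, (T : Mat) *ᵥ v ∈ D l) ∧ (∀ v ∈ D l, (T : Mat) *ᵥ v ∈ D i) ∧
      ∀ p, p ≠ i → p ≠ l → ∀ v ∈ D p, (T : Mat) *ᵥ v = v := by
  have hs := sesq_sympForm (m := m) (F := F)
  have hn : ∀ p, SpNondeg (D p) := fun p => spNondeg_of_isNondegenerateOn (hD.nondegenerate p)
  obtain ⟨L, hL, hLi⟩ := exists_sp_isometry k (D i) (D l) (hn i) (hn l)
    (hD.decomp.finrank_eq i) (hD.decomp.finrank_eq l)
  obtain ⟨L', hL', hLi'⟩ := exists_sp_isometry k (D l) (D i) (hn l) (hn i)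
    (hD.decomp.finrank_eq l) (hD.decomp.finrank_eq i)
  let T₀ : V →ₗ[F] V :=
    LinearMap.id - spProj (hn i) - spProj (hn l) + L.comp (spProj (hn i)) + L'.comp (spProj (hn l))
  have hT₀ : ∀ x, T₀ x = (x - spProj (hn i) x - spProj (hn l) x) + L (spProj (hn i) x) +
      L' (spProj (hn l) x) := fun _ => rfl
  have hr : ∀ x, (∀ u ∈ D i, ω (x - spProj (hn i) x - spProj (hn l) x) u = 0) ∧
      ∀ u ∈ D l, ω (x - spProj (hn i) x - spProj (hn l) x) u = 0 := by
    intro x
    constructor <;> intro u hu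
    · rw [hs.sub_left, spProj_orth (hn i) hu,
        hD.orthogonal l i (Ne.symm hil) _ (spProj_mem (hn l) x) u hu, sub_zero]
    · rw [show x - spProj (hn i) x - spProj (hn l) x =
          (x - spProj (hn l) x) - spProj (hn i) x by abel,
        hs.sub_left, spProj_orth (hn l) hu,
        hD.orthogonal i l hil _ (spProj_mem (hn i) x) u hu, sub_zero]
  have hiso : ∀ x y, ω (T₀ x) (T₀ y) = ω x y := by
    intro x y
    set a := spProj (hn i) x
    set b := spProj (hn l) x
    set a' := spProj (hn i) y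
    set b' := spProj (hn l) y
    have ha : a ∈ D i := spProj_mem _ _
    have hb : b ∈ D l := spProj_mem _ _
    have ha' : a' ∈ D i := spProj_mem _ _
    have hb' : b' ∈ D l := spProj_mem _ _
    obtain ⟨r1, r2⟩ := hr x
    obtain ⟨s1, s2⟩ := hr y
    have hrR : ∀ u ∈ D i, ω u (y - a' - b') = 0 := fun u hu => by
      rw [Forms.sympForm_swap, s1 u hu, neg_zero]
    have hrR' : ∀ u ∈ D l, ω u (y - a' - b') = 0 := fun u hu => by
      rw [Forms.sympForm_swap, s2 u hu, neg_zero]
    have hx : x = (x - a - b) + a + b := by abel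
    have hy : y = (y - a' - b') + a' + b' := by abel
    conv_rhs => rw [hx, hy]
    rw [hT₀ x, hT₀ y]
    simp only [hs.add_left, hs.add_right]
    rw [r2 _ (hL _ ha'), r1 _ (hL' _ hb'), hrR' _ (hL _ ha), hrR _ (hL' _ hb), hLi _ ha _ ha',
      hLi' _ hb _ hb', hD.orthogonal l i (Ne.symm hil) _ (hL _ ha) _ (hL' _ hb'),
      hD.orthogonal i l hil _ (hL' _ hb) _ (hL _ ha'), r1 _ ha', r2 _ hb', hrR _ ha, hrR' _ hb,
      hD.orthogonal i l hil _ ha _ hb', hD.orthogonal l i (Ne.symm hil) _ hb _ ha']
  have hinj : Function.Injective T₀ := by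
    rw [injective_iff_map_eq_zero]
    intro x hx
    refine Forms.sympForm_sep x fun v => ?_
    rw [← hiso, hx, hs.zero_left]
  obtain ⟨A, hA⟩ := Forms.exists_spGL_of_linearEquiv
    (LinearEquiv.ofBijective T₀ ⟨hinj, LinearMap.injective_iff_surjective.mp hinj⟩) hiso
  have hA' : ∀ x, ((A : GL (Fin m ⊕ Fin m) F) : Mat) *ᵥ x = T₀ x := hA
  have p0 : ∀ p (q : Fin t), q ≠ p → ∀ v ∈ D q, spProj (hn p) v = 0 := by
    intro p q hqp v hv
    by_contra h
    obtain ⟨z, hz, hz'⟩ := hn p _ (spProj_mem (hn p) v) h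
    refine hz' ?_
    have := spProj_orth (hn p) (x := v) hz
    rw [hs.sub_left, hD.orthogonal q p hqp v hv z hz, zero_sub, neg_eq_zero] at this
    exact this
  have h1 : ∀ v ∈ D i, ((A : GL (Fin m ⊕ Fin m) F) : Mat) *ᵥ v ∈ D l := by
    intro v hv
    rw [hA', hT₀, spProj_of_mem (hn i) hv, p0 l i hil v hv, map_zero, sub_self, zero_sub, neg_zero,
      zero_add, add_zero]
    exact hL v hv
  have h2 : ∀ v ∈ D l, ((A : GL (Fin m ⊕ Fin m) F) : Mat) *ᵥ v ∈ D i := by
    intro v hv
    rw [hA', hT₀, spProj_of_mem (hn l) hv, p0 i l (Ne.symm hil) v hv, map_zero, sub_zero, sub_self,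
      zero_add, zero_add]
    exact hL' v hv
  have h3 : ∀ p, p ≠ i → p ≠ l → ∀ v ∈ D p, ((A : GL (Fin m ⊕ Fin m) F) : Mat) *ᵥ v = v := by
    intro p hpi hpl v hv
    rw [hA', hT₀, p0 i p hpi v hv, p0 l p hpl v hv, map_zero, map_zero, sub_zero, sub_zero,
      add_zero, add_zero]
  refine ⟨A, ⟨⟨Equiv.swap i l, fun p => ?_⟩, A.2⟩, h1, h2, h3⟩
  refine Submodule.eq_of_le_of_finrank_le ?_ ?_
  · rintro y ⟨x, hx, rfl⟩
    rw [toLin'_apply]
    rcases eq_or_ne p i with rfl | hpi
    · rw [Equiv.swap_apply_left]; exact h1 x hx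
    rcases eq_or_ne p l with rfl | hpl
    · rw [Equiv.swap_apply_right]; exact h2 x hx
    rw [Equiv.swap_apply_of_ne_of_ne hpi hpl, h3 p hpi hpl x hx]; exact hx
  · rw [hD.decomp.finrank_eq, Matrix.toLin'_apply', finrank_map_gl, hD.decomp.finrank_eq]

/-- A transvection centred in a member preserves the decomposition. -/
theorem spTv_mem_decomp {t k : ℕ} {D : Fin t → Submodule F (Fin m ⊕ Fin m → F)} (hD : IsNondegenerateMDecomposition ω k D) {i : Fin t} {v : V}
    (hv : v ∈ D i) (c : F) : spTv v c ∈ decompositionStabilizer D ⊓ Cfsg.spGL m F := by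
  refine ⟨⟨1, fun p => Submodule.eq_of_le_of_finrank_le ?_ ?_⟩, spTv_mem v c⟩
  · rintro y ⟨x, hx, rfl⟩
    rw [toLin'_apply, spTv_mulVec, Equiv.Perm.one_apply]
    rcases eq_or_ne p i with rfl | hpi
    · exact (D p).add_mem hx ((D p).smul_mem _ hv)
    · rw [hD.orthogonal p i hpi x hx v hv, mul_zero, zero_smul, add_zero]; exact hx
  · rw [Equiv.Perm.one_apply, Matrix.toLin'_apply', finrank_map_gl]

/-- The stabiliser of a non-degenerate decomposition is maximal in `Sp`. -/
theorem isMaximalIn_spDecomposition [Fintype F] {t k : ℕ} {D : Fin t → Submodule F (Fin m ⊕ Fin m → F)} (hD : IsNondegenerateMDecomposition ω k D)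
    (hex : ¬ (k = 2 ∧ Fintype.card F = 2)) :
    IsMaximalIn (Cfsg.spGL m F) (decompositionStabilizer D ⊓ Cfsg.spGL m F) := by
  have hs := sesq_sympForm (m := m) (F := F)
  have hn : ∀ p, SpNondeg (D p) := fun p => spNondeg_of_isNondegenerateOn (hD.nondegenerate p)
  have ht := hD.decomp.two_le
  have hkpos := hD.decomp.pos
  have hdis : ∀ {p q : Fin t} {v : V}, p ≠ q → v ∈ D p → v ∈ D q → v = 0 := by
    intro p q v hpq hp hq
    by_contra h0
    obtain ⟨z, hz, hz'⟩ := hn q v hq h0
    exact hz' (hD.orthogonal p q hpq v hp z hz)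
  have hne : ∀ p, ∃ v ∈ D p, v ≠ 0 := fun p => Submodule.exists_mem_ne_zero_of_ne_bot fun h => by
    have := hD.decomp.finrank_eq p
    rw [h, finrank_bot] at this
    omega
  refine isMaximalIn_of inf_le_right ?_ fun M hHM hMK g hg hg' => ?_
  · obtain ⟨a, ha, ha0⟩ := hne ⟨0, by omega⟩
    obtain ⟨b, hb, hb0⟩ := hne ⟨1, by omega⟩
    have h01 : (⟨0, by omega⟩ : Fin t) ≠ ⟨1, by omega⟩ := by simp [Fin.ext_iff]
    refine ⟨spTv (a + b) 1, spTv_mem _ _, fun h => ?_⟩
    obtain ⟨σ, hσ⟩ := h.1
    obtain ⟨z, hz, hz'⟩ := hn _ a ha ha0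
    have hmem : (spTv (a + b) 1 : Mat) *ᵥ z ∈ D (σ ⟨0, by omega⟩) := by
      rw [← hσ]; exact ⟨z, hz, rfl⟩
    rw [spTv_mulVec, one_mul, hs.add_right, hD.orthogonal _ _ h01 z hz b hb, add_zero] at hmem
    have hcb : ω z a • b ≠ 0 := smul_ne_zero (by
      rw [Forms.sympForm_swap]; exact neg_ne_zero.mpr hz') hb0
    have horth : ∀ p, σ ⟨0, by omega⟩ = p → p = ⟨0, by omega⟩ := by
      intro p hp
      by_contra hp0
      refine hcb ?_
      have hzero : z + ω z a • a = 0 := by
        by_contra h0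
        obtain ⟨w, hw, hw'⟩ := hn _ _ ((D _).add_mem hz ((D _).smul_mem _ ha)) h0
        refine hw' ?_
        have e1 := hD.orthogonal p ⟨0, by omega⟩ hp0 _ (hp ▸ hmem) w hw
        rw [hs.add_left, hs.smul_left, hs.add_left, hD.orthogonal _ _ (Ne.symm h01) b hb w hw,
          add_zero] at e1
        rwa [hs.add_left, hs.smul_left]
      have hmul : ω z a = 0 := by
        have := congrArg (fun y => ω y a) hzero
        simpa [hs.add_left, hs.smul_left, Forms.sympForm_self, hs.zero_left] using this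
      rw [hmul, zero_smul]
    rw [horth _ rfl, smul_add] at hmem
    refine hcb (hdis (Ne.symm h01) ((D _).smul_mem _ hb) ?_)
    have := (D _).sub_mem ((D _).sub_mem hmem hz) ((D _).smul_mem (ω z a) ha)
    convert this using 1
    abel
  have hgs : g ∈ Cfsg.spGL m F := hMK hg
  have hcD : ∀ p, ∀ w ∈ D p, CentreIn M w := fun p w hw c => hHM (spTv_mem_decomp hD hw c)
  obtain ⟨i, v, hv, hv'⟩ : ∃ i, ∃ v ∈ D i, ∀ p, (g : Mat) *ᵥ v ∉ D p := by
    by_contra hcon
    push Not at hcon
    have hone : ∀ i, ∃ p, ∀ u ∈ D i, (g : Mat) *ᵥ u ∈ D p := by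
      intro i
      obtain ⟨u, hu, hu0⟩ := hne i
      obtain ⟨p, hp⟩ := hcon i u hu
      refine ⟨p, fun w hw => ?_⟩
      obtain ⟨q, hq⟩ := hcon i w hw
      rcases eq_or_ne q p with rfl | hqp
      · exact hq
      obtain ⟨r, hr⟩ := hcon i (u + w) ((D i).add_mem hu hw)
      rw [mulVec_add] at hr
      rcases eq_or_ne r p with rfl | hrp
      · simpa using (D r).sub_mem hr hp
      exfalso
      by_contra
      obtain ⟨z, hz, hz'⟩ := hn p _ hp (fun h => hu0 (mulVec_eq_zero h))
      refine hz' ?_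
      have e1 := hD.orthogonal r p hrp _ hr z hz
      rwa [hs.add_left, hD.orthogonal q p hqp _ hq z hz, add_zero] at e1
    choose σ hσ using hone
    have hmap : ∀ i, (D i).map (toLin' (g : Mat)) = D (σ i) := fun i =>
      Submodule.eq_of_le_of_finrank_le (by
        rintro y ⟨x, hx, rfl⟩
        rw [toLin'_apply]; exact hσ i x hx) (by
        rw [Matrix.toLin'_apply', finrank_map_gl, hD.decomp.finrank_eq, hD.decomp.finrank_eq])
    have hinj : Function.Injective σ := by
      intro p q hpq
      by_contra hne'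
      obtain ⟨u, hu, hu0⟩ := hne p
      have : toLin' (g : Mat) u ∈ (D q).map (toLin' (g : Mat)) := by
        rw [hmap q, ← hpq, ← hmap p]; exact Submodule.mem_map_of_mem hu
      obtain ⟨w, hw, hwe⟩ := this
      rw [toLin'_apply, toLin'_apply] at hwe
      have : w = u := mulVec_injective_iff_isUnit.mpr g.isUnit hwe
      exact hu0 (hdis hne' hu (this ▸ hw))
    exact hg' ⟨⟨Equiv.ofBijective σ (Finite.injective_iff_bijective.mp hinj), hmap⟩, hgs⟩
  set x := (g : Mat) *ᵥ v
  have hcx : CentreIn M x := (hcD i v hv).map hgs hg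
  have hsupp : ∀ y : V, y ≠ 0 → ∃ p, spProj (hn p) y ≠ 0 := by
    intro y hy
    by_contra h
    push Not at h
    refine hy (eq_zero_of_forall_orth hD fun p u hu => ?_)
    have := spProj_orth (hn p) (x := y) hu
    rwa [h p, sub_zero] at this
  obtain ⟨j, hj⟩ := hsupp x fun h => hv' i (h ▸ (D i).zero_mem)
  obtain ⟨l, hl⟩ := hsupp (x - spProj (hn j) x) fun h => hv' j (by
    rw [sub_eq_zero.mp h]; exact spProj_mem _ _)
  have hjl : j ≠ l := by
    rintro rfl
    refine hl ?_
    rw [map_sub, spProj_of_mem (hn j) (spProj_mem (hn j) x), sub_self]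
  set xj := spProj (hn j) x with hxj
  have hxjm : xj ∈ D j := spProj_mem _ _
  have hxl : spProj (hn l) (x - xj) = spProj (hn l) x := by
    have h0 : spProj (hn l) xj = 0 := by
      by_contra h
      obtain ⟨z, hz, hz'⟩ := hn l _ (spProj_mem (hn l) xj) h
      refine hz' ?_
      have := spProj_orth (hn l) (x := xj) hz
      rw [hs.sub_left, hD.orthogonal j l hjl xj hxjm z hz, zero_sub, neg_eq_zero] at this
      exact this
    rw [map_sub, h0, sub_zero]
  rw [hxl] at hl
  set xl := spProj (hn l) x with hxldef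
  have hxlm : xl ∈ D l := spProj_mem _ _
  -- targets for the two components
  obtain ⟨y, hy, hy1⟩ : ∃ y ∈ D j, ω xj y = 1 := by
    obtain ⟨z, hz, hz'⟩ := hn j xj hxjm hj
    exact ⟨(ω xj z)⁻¹ • z, (D j).smul_mem _ hz, by rw [hs.smul_right]; exact inv_mul_cancel₀ hz'⟩
  have hy0 : y ≠ 0 := by rintro rfl; rw [hs.zero_right] at hy1; exact zero_ne_one hy1
  have hyx : xj - y ≠ 0 := fun h => by
    rw [sub_eq_zero] at h
    rw [← h, Forms.sympForm_self] at hy1
    exact zero_ne_one hy1
  obtain ⟨z, hz, hz0, hzx, hz1⟩ : ∃ z ∈ D l, z ≠ 0 ∧ xl - z ≠ 0 ∧ ω xl z = 0 := by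
    by_cases hq : ∃ a : F, a ≠ 0 ∧ a ≠ 1
    · obtain ⟨a, ha0, ha1⟩ := hq
      refine ⟨a • xl, (D l).smul_mem _ hxlm, smul_ne_zero ha0 hl, ?_, by
        rw [hs.smul_right, Forms.sympForm_self, mul_zero]⟩
      rw [← one_smul F xl, smul_smul, mul_one, ← sub_smul]
      exact smul_ne_zero (sub_ne_zero.mpr (Ne.symm ha1)) hl
    · push Not at hq
      have h2 : Fintype.card F = 2 := by
        classical
        have : (Finset.univ : Finset F) = {0, 1} := by
          ext a
          simp only [Finset.mem_univ, Finset.mem_insert, Finset.mem_singleton, true_iff]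
          exact or_iff_not_imp_left.mpr (hq a)
        rw [← Finset.card_univ, this, Finset.card_pair zero_ne_one]
      have hk : 3 ≤ k := by
        by_contra hk
        have hk1 : k = 1 := by
          rcases (show k = 1 ∨ k = 2 by omega) with h | h
          · exact h
          · exact absurd ⟨h, h2⟩ hex
        obtain ⟨w, hw, hw'⟩ := hn j xj hxjm hj
        have hfr := hD.decomp.finrank_eq j
        rw [hk1] at hfr
        obtain ⟨⟨u, hu⟩, -, hu'⟩ := finrank_eq_one_iff'.mp hfr
        obtain ⟨a, ha⟩ := hu' ⟨xj, hxjm⟩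
        obtain ⟨b, hb⟩ := hu' ⟨w, hw⟩
        simp only [SetLike.mk_smul_mk, Subtype.mk.injEq] at ha hb
        rw [← ha, ← hb, hs.smul_left, hs.smul_right, Forms.sympForm_self, mul_zero, mul_zero] at hw'
        exact hw' rfl
      obtain ⟨z, ⟨hz, hz'⟩, hzn⟩ : ∃ z ∈ D l ⊓ sPerp (Submodule.span F {xl}),
          z ∉ Submodule.span F {xl} := by
        by_contra h
        push Not at h
        have e1 := Submodule.finrank_mono (h : D l ⊓ sPerp (Submodule.span F {xl}) ≤ _)
        have e2 := Submodule.finrank_sup_add_finrank_inf_eq (D l) (sPerp (Submodule.span F {xl}))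
        have e3 := finrank_sPerp (Submodule.span F {xl})
        have e4 := Submodule.finrank_le (D l ⊔ sPerp (Submodule.span F {xl}))
        rw [hD.decomp.finrank_eq] at e2
        rw [finrank_span_singleton hl] at e1 e3
        rw [Module.finrank_pi, Fintype.card_sum, Fintype.card_fin] at e4
        omega
      refine ⟨z, hz, fun h => hzn (h ▸ Submodule.zero_mem _), fun h => hzn (by
        rw [← sub_eq_zero.mp h]; exact Submodule.mem_span_singleton_self xl), ?_⟩
      rw [Forms.sympForm_swap, hz' xl (Submodule.mem_span_singleton_self xl), neg_zero]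
  -- a centre with exactly two components
  have horth_xj : ∀ u ∈ D j, ω (x - xj) u = 0 := fun u hu => spProj_orth (hn j) hu
  have horth_xl : ∀ u ∈ D l, ω (x - xl) u = 0 := fun u hu => spProj_orth (hn l) hu
  have hc1 : CentreIn M (y + (x - xj)) := CentreIn.change (hn j) (hcD j) hxjm horth_xj hy hj hy0
    (by rwa [add_sub_cancel])
  have hc2 : CentreIn M (z + (y + (x - xj - xl))) :=
    CentreIn.change (hn l) (hcD l) hxlm (fun u hu => by
      rw [hs.add_left, hD.orthogonal j l hjl y hy u hu, hs.sub_left, hs.sub_left, zero_add,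
        hD.orthogonal j l hjl xj hxjm u hu, sub_zero]
      have := horth_xl u hu
      rwa [hs.sub_left] at this) hz hl hz0
    (by
      convert hc1 using 1
      abel)
  set x' := z + (y + (x - xj - xl)) with hx'
  have hxx' : ω x (-x') ≠ 0 := by
    have e : -x' = -x + ((xj - y) + (xl - z)) := by rw [hx']; abel
    rw [e, hs.add_right, hs.neg_right, Forms.sympForm_self, neg_zero, zero_add, hs.add_right]
    have a1 : ω x (xj - y) = -1 := by
      have := horth_xj (xj - y) ((D j).sub_mem hxjm hy)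
      rw [hs.sub_left, sub_eq_zero] at this
      rw [this, hs.sub_right, Forms.sympForm_self, hy1, zero_sub]
    have a2 : ω x (xl - z) = 0 := by
      have := horth_xl (xl - z) ((D l).sub_mem hxlm hz)
      rw [hs.sub_left, sub_eq_zero] at this
      rw [this, hs.sub_right, Forms.sympForm_self, hz1, sub_zero]
    rw [a1, a2, add_zero]
    exact neg_ne_zero.mpr one_ne_zero
  have hpair0 : CentreIn M ((xj - y) + (xl - z)) := by
    have := hcx.add (by simpa using hc2.smul (-1)) hxx'
    convert this using 1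
    rw [hx']
    abel
  -- all centres with two components
  let Pair : Fin t → Fin t → Prop := fun p q => ∀ a ∈ D p, ∀ b ∈ D q, CentreIn M (a + b)
  have hpair_jl : Pair j l := by
    intro a ha b hb
    rcases eq_or_ne a 0 with rfl | ha0
    · rw [zero_add]; exact hcD l b hb
    rcases eq_or_ne b 0 with rfl | hb0
    · rw [add_zero]; exact hcD j a ha
    have h1 := CentreIn.change (hn j) (hcD j) ((D j).sub_mem hxjm hy)
      (fun u hu => hD.orthogonal l j (Ne.symm hjl) _ ((D l).sub_mem hxlm hz) u hu) ha hyx ha0 hpair0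
    rw [add_comm] at h1
    have h2 := CentreIn.change (hn l) (hcD l) ((D l).sub_mem hxlm hz)
      (fun u hu => hD.orthogonal j l hjl _ ha u hu) hb hzx hb0 h1
    rwa [add_comm]
  have htransport : ∀ (T : GL (Fin m ⊕ Fin m) F) (p q p' q' : Fin t),
      T ∈ decompositionStabilizer D ⊓ Cfsg.spGL m F → Pair p q →
      (∀ u ∈ D p', ∃ u' ∈ D p, (T : Mat) *ᵥ u' = u) →
      (∀ u ∈ D q', ∃ u' ∈ D q, (T : Mat) *ᵥ u' = u) → Pair p' q' := by
    intro T p q p' q' hT hP h1 h2 a ha b hb
    obtain ⟨a', ha', rfl⟩ := h1 a ha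
    obtain ⟨b', hb', rfl⟩ := h2 b hb
    rw [← mulVec_add]
    exact (hP a' ha' b' hb').map hT.2 (hHM hT)
  have hsymm : ∀ p q, Pair p q → Pair q p := fun p q h a ha b hb => by
    rw [add_comm]; exact h b hb a ha
  have hsurj : ∀ {T : GL (Fin m ⊕ Fin m) F} {a b : Fin t}, (∀ v ∈ D a, (T : Mat) *ᵥ v ∈ D b) →
      ∀ u ∈ D b, ∃ u' ∈ D a, (T : Mat) *ᵥ u' = u := by
    intro T a b h u hu
    have heq : (D a).map (toLin' (T : Mat)) = D b :=
      Submodule.eq_of_le_of_finrank_le (by
        rintro y ⟨x, hx, rfl⟩; rw [toLin'_apply]; exact h x hx) (by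
        rw [Matrix.toLin'_apply', finrank_map_gl, hD.decomp.finrank_eq, hD.decomp.finrank_eq])
    rw [← heq] at hu
    obtain ⟨u', hu', he⟩ := hu
    exact ⟨u', hu', by rw [← he, toLin'_apply]⟩
  have hstep : ∀ p q r, p ≠ q → r ≠ q → Pair p q → Pair r q := by
    intro p q r hpq hrq hP
    rcases eq_or_ne p r with rfl | hpr
    · exact hP
    obtain ⟨T, hT, h1, -, h3⟩ := exists_sp_swap hD hpr
    exact htransport T p q r q hT hP (hsurj h1)
      (hsurj fun v hv => by rw [h3 q (Ne.symm hpq) (Ne.symm hrq) v hv]; exact hv)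
  have hall : ∀ p q, p ≠ q → Pair p q := by
    intro p q hpq
    rcases eq_or_ne p l with rfl | hpl
    · exact hsymm q p (hstep j p q hjl (Ne.symm hpq) hpair_jl)
    · have h1 : Pair l p := hsymm p l (hstep j l p hjl hpl hpair_jl)
      exact hsymm q p (hstep l p q (Ne.symm hpl) (Ne.symm hpq) h1)
  -- all centres
  have hsum : ∀ (s : Finset (Fin t)) (c : Fin t → V), (∀ p, c p ∈ D p) →
      CentreIn M (∑ p ∈ s, c p) := by
    intro s
    induction s using Finset.induction_on with
    | empty => intro c _; rw [Finset.sum_empty]; exact centreIn_zero M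
    | @insert a s has ih =>
      intro c hc
      rw [Finset.sum_insert has]
      rcases eq_or_ne (c a) 0 with h0 | h0
      · rw [h0, zero_add]; exact ih c hc
      by_cases hsz : ∀ p ∈ s, c p = 0
      · rw [Finset.sum_eq_zero hsz, add_zero]; exact hcD a _ (hc a)
      push Not at hsz
      obtain ⟨b, hb, hb0⟩ := hsz
      obtain ⟨w, hw, hw'⟩ := hn b _ (hc b) hb0
      have hab : a ≠ b := fun h => has (h ▸ hb)
      have hrest : ∀ u ∈ D b, ω (∑ p ∈ s.erase b, c p + c a) u = 0 := by
        intro u hu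
        rw [hs.add_left, hD.orthogonal a b hab _ (hc a) u hu, add_zero,
          ← Forms.sympBilin_apply, map_sum, LinearMap.sum_apply]
        refine Finset.sum_eq_zero fun p hp => ?_
        rw [Forms.sympBilin_apply]
        exact hD.orthogonal p b (Finset.ne_of_mem_erase hp) _ (hc p) u hu
      have hsplit : ∑ p ∈ s, c p = c b + ∑ p ∈ s.erase b, c p := (Finset.add_sum_erase s c hb).symm
      have h1 := (ih c hc).add (hall b a (Ne.symm hab) w hw (c a) (hc a)) (by
        have e1 : ω (∑ p ∈ s.erase b, c p) w = 0 := by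
          have := hrest w hw
          rwa [hs.add_left, hD.orthogonal a b hab _ (hc a) w hw, add_zero] at this
        have e2 : ω (∑ p ∈ s, c p) (c a) = 0 := by
          rw [← Forms.sympBilin_apply, map_sum, LinearMap.sum_apply]
          refine Finset.sum_eq_zero fun p hp => ?_
          rw [Forms.sympBilin_apply]
          exact hD.orthogonal p a (fun h => has (h ▸ hp)) _ (hc p) _ (hc a)
        rw [hs.add_right, e2, add_zero, hsplit, hs.add_left, e1, add_zero]
        exact hw')
      have hcw : c b + w ≠ 0 := fun h => hw' (by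
        rw [eq_neg_of_add_eq_zero_right h, hs.neg_right, Forms.sympForm_self, neg_zero])
      have h2 : CentreIn M (c b + (∑ p ∈ s.erase b, c p + c a)) :=
        CentreIn.change (hn b) (hcD b) (a := c b + w) ((D b).add_mem (hc b) hw) hrest (hc b) hcw hb0
          (by
            convert h1 using 1
            rw [hsplit]
            abel)
      convert h2 using 1
      rw [hsplit]
      abel
  refine spGL_le_of_forall_spTv fun w c => ?_
  have hw : w = ∑ p, spProj (hn p) w := by
    rw [← sub_eq_zero]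
    refine eq_zero_of_forall_orth hD fun q u hu => ?_
    rw [← Finset.add_sum_erase _ _ (Finset.mem_univ q), ← sub_sub, hs.sub_left,
      spProj_orth (hn q) hu, zero_sub, neg_eq_zero, ← Forms.sympBilin_apply, map_sum,
      LinearMap.sum_apply]
    refine Finset.sum_eq_zero fun p hp => ?_
    rw [Forms.sympBilin_apply]
    exact hD.orthogonal p q (Finset.ne_of_mem_erase hp) _ (spProj_mem _ _) u hu
  rw [hw]
  exact hsum Finset.univ _ (fun p => spProj_mem _ _) c

end CfsgLib.MaxSub
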