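import Cfsg.Agent.MaxSub.SymplecticBasic

/-!
# Stabilisers of subspaces in the symplectic group
-/

set_option autoImplicit false
set_option linter.unusedSectionVars false

namespace CfsgLib.MaxSub

open Matrix Cfsg.Geo

variable {F : Type*} [Field F] {m : ℕ}

local notation "V" => (Fin m ⊕ Fin m → F)
local notation "ω" => Cfsg.sympForm m F
local notation "Mat" => Matrix (Fin m ⊕ Fin m) (Fin m ⊕ Fin m) F

theorem spTv_mem_stab {W : Submodule F V} {v : V} (hv : v ∈ W ∨ v ∈ sPerp W) (c : F) :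
    spTv v c ∈ subspaceStabilizer W ⊓ Cfsg.spGL m F := by
  refine ⟨mem_subspaceStabilizer_of_le fun x hx => ?_, spTv_mem v c⟩
  rw [spTv_mulVec]
  rcases hv with h | h
  · exact W.add_mem hx (W.smul_mem _ h)
  · rw [Forms.sympForm_swap v x, h x hx, neg_zero, mul_zero, zero_smul, add_zero]; exact hx

theorem mulVec_eq_zero {g : GL (Fin m ⊕ Fin m) F} {v : V} (h : (g : Mat) *ᵥ v = 0) : v = 0 := by
  simpa [mulVec_mulVec] using
    congrArg (fun y => ((g⁻¹ : GL (Fin m ⊕ Fin m) F) : Mat) *ᵥ y) h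

theorem finrank_map_gl (g : GL (Fin m ⊕ Fin m) F) (W : Submodule F V) :
    Module.finrank F (W.map (g : Mat).mulVecLin) = Module.finrank F W :=
  ((Submodule.equivMapOfInjective _ (mulVec_injective_iff_isUnit.mpr g.isUnit) W).finrank_eq).symm

theorem le_or_le_of_subset_union {X A B : Submodule F V} (h : ∀ x ∈ X, x ∈ A ∨ x ∈ B) :
    X ≤ A ∨ X ≤ B := by
  by_contra hcon
  push Not at hcon
  obtain ⟨u, hu, huA⟩ := Set.not_subset.mp hcon.1
  obtain ⟨v, hv, hvB⟩ := Set.not_subset.mp hcon.2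
  have huB : u ∈ B := (h u hu).resolve_left huA
  have hvA : v ∈ A := (h v hv).resolve_right hvB
  rcases h (u + v) (X.add_mem hu hv) with h' | h'
  · exact huA (by simpa using A.sub_mem h' hvA)
  · exact hvB (by simpa using B.sub_mem h' huB)

/-- The stabiliser of a non-degenerate subspace of less than half dimension is maximal in `Sp`. -/
theorem isMaximalIn_spNondeg {W : Submodule F V} (hW0 : W ≠ ⊥) (hW : IsNondegenerateOn ω W)
    (hdim : Module.finrank F W < m) :
    IsMaximalIn (Cfsg.spGL m F) (subspaceStabilizer W ⊓ Cfsg.spGL m F) := by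
  have hs := sesq_sympForm (m := m) (F := F)
  have hWn : ∀ w ∈ W, w ≠ 0 → ∃ z ∈ W, ω w z ≠ 0 := fun w hw h0 => (hW w hw h0).2
  have hinf : W ⊓ sPerp W = ⊥ := by
    rw [eq_bot_iff]
    rintro w ⟨hw, hw'⟩
    by_contra h0
    obtain ⟨z, hz, hz'⟩ := hWn w hw (by simpa using h0)
    exact hz' (hw' z hz)
  have hperp := finrank_sPerp W
  have hsup : W ⊔ sPerp W = ⊤ := by
    apply Submodule.eq_top_of_finrank_eq
    have h1 := Submodule.finrank_sup_add_finrank_inf_eq W (sPerp W)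
    rw [hinf, finrank_bot] at h1
    have h2 := Submodule.finrank_le (W ⊔ sPerp W)
    rw [Module.finrank_pi, Fintype.card_sum, Fintype.card_fin] at h2 ⊢
    omega
  have hdec : ∀ v : V, ∃ a ∈ W, ∃ b ∈ sPerp W, a + b = v := fun v =>
    Submodule.mem_sup.mp (hsup ▸ Submodule.mem_top)
  have hPn : ∀ w ∈ sPerp W, w ≠ 0 → ∃ z ∈ sPerp W, ω w z ≠ 0 := by
    intro w hw h0
    obtain ⟨x, hx⟩ := (isSymplecticForm_sympForm.nondegenerate w h0).2
    obtain ⟨a, ha, b, hb, rfl⟩ := hdec x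
    exact ⟨b, hb, by rwa [hs.add_right, hw a ha, zero_add] at hx⟩
  obtain ⟨a₁, ha₁, ha₁0⟩ := Submodule.exists_mem_ne_zero_of_ne_bot hW0
  obtain ⟨b₁, hb₁, hb₁0⟩ : ∃ b ∈ sPerp W, b ≠ 0 := by
    refine Submodule.exists_mem_ne_zero_of_ne_bot fun h => ?_
    rw [h, finrank_bot] at hperp
    omega
  refine isMaximalIn_of inf_le_right ⟨spTv (a₁ + b₁) 1, spTv_mem _ _, fun h => ?_⟩
    fun M hHM hMK g hg hg' => ?_
  · obtain ⟨z, hz, hz'⟩ := hWn a₁ ha₁ ha₁0
    have := (mem_subspaceStabilizer_iff.mp h.1 z).mp hz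
    rw [spTv_mulVec, hs.add_right, Forms.sympForm_swap b₁ z, hb₁ z hz, neg_zero, add_zero,
      one_mul, W.add_mem_iff_right hz, Forms.sympForm_swap a₁ z, neg_smul, W.neg_mem_iff,
      W.smul_mem_iff hz', W.add_mem_iff_right ha₁] at this
    exact hb₁0 (by simpa [hinf] using (Submodule.mem_inf.mpr ⟨this, hb₁⟩ : b₁ ∈ W ⊓ sPerp W))
  have hgs : g ∈ Cfsg.spGL m F := hMK hg
  have hcW : ∀ w ∈ W, CentreIn M w := fun w hw c => hHM (spTv_mem_stab (Or.inl hw) c)
  have hcP : ∀ w ∈ sPerp W, CentreIn M w := fun w hw c => hHM (spTv_mem_stab (Or.inr hw) c)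
  -- some centre outside both
  obtain ⟨v, hv, hv'⟩ : ∃ v, (v ∈ W ∨ v ∈ sPerp W) ∧
      ¬ ((g : Mat) *ᵥ v ∈ W ∨ (g : Mat) *ᵥ v ∈ sPerp W) := by
    by_contra hcon
    push Not at hcon
    have hu : ∀ X : Submodule F V, (∀ x ∈ X, x ∈ W ∨ x ∈ sPerp W) →
        X.map (g : Mat).mulVecLin ≤ W ∨ X.map (g : Mat).mulVecLin ≤ sPerp W := fun X hX =>
      le_or_le_of_subset_union (by
        rintro y ⟨x, hx, rfl⟩
        rw [mulVecLin_apply]
        exact hcon x (hX x hx))
    rcases hu W (fun x hx => Or.inl hx) with h1 | h1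
    · exact hg' ⟨mem_subspaceStabilizer_of_le fun x hx => h1 ⟨x, hx, rfl⟩, hgs⟩
    rcases hu (sPerp W) (fun x hx => Or.inr hx) with h2 | h2
    · have := Submodule.finrank_mono h2
      rw [finrank_map_gl] at this
      omega
    · have h3 := Submodule.eq_of_le_of_finrank_le h2 (finrank_map_gl g _).ge
      rw [← h3] at h1
      obtain ⟨x, hx, hxe⟩ := h1 ⟨a₁, ha₁, rfl⟩
      rw [mulVecLin_apply, mulVecLin_apply] at hxe
      have : x = a₁ := mulVec_injective_iff_isUnit.mpr g.isUnit hxe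
      exact ha₁0 (by simpa [hinf] using
        (Submodule.mem_inf.mpr ⟨ha₁, this ▸ hx⟩ : a₁ ∈ W ⊓ sPerp W))
  have hcv : CentreIn M ((g : Mat) *ᵥ v) :=
    (hv.elim (hcW v) (hcP v)).map hgs hg
  obtain ⟨a₀, ha₀, b₀, hb₀, hab⟩ := hdec ((g : Mat) *ᵥ v)
  rw [← hab] at hcv hv'
  have ha₀0 : a₀ ≠ 0 := fun h => hv' (Or.inr (by rwa [h, zero_add]))
  have hb₀0 : b₀ ≠ 0 := fun h => hv' (Or.inl (by rwa [h, add_zero]))
  refine spGL_le_of_forall_spTv fun x c => ?_
  obtain ⟨a, ha, b, hb, rfl⟩ := hdec x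
  rcases eq_or_ne a 0 with rfl | ha0
  · rw [zero_add]; exact hcP b hb c
  rcases eq_or_ne b 0 with rfl | hb0
  · rw [add_zero]; exact hcW a ha c
  have h1 : CentreIn M (a + b₀) :=
    CentreIn.change hWn hcW ha₀ (fun z hz => hb₀ z hz) ha ha₀0 ha0 hcv
  rw [add_comm] at h1
  have h2 : CentreIn M (b + a) := CentreIn.change hPn hcP hb₀
    (fun z hz => by rw [Forms.sympForm_swap z a, hz a ha, neg_zero]) hb hb₀0 hb0 h1
  rw [add_comm] at h2
  exact h2 c

/-- A totally singular subspace is recovered from its orthogonal complement. -/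
theorem mem_of_orth_sPerp {W : Submodule F V} {x : V} (h : ∀ z ∈ sPerp W, ω x z = 0) : x ∈ W := by
  have hs := sesq_sympForm (m := m) (F := F)
  by_contra hx
  obtain ⟨a, haW, hax⟩ := exists_dot_of_notMem W hx
  obtain ⟨u, hu⟩ := hs.leftVec_surjective a
  have := h u (fun w hw => by
    rw [Forms.sympForm_swap w u, ← hs.dot_leftVec, hu, haW w hw, neg_zero])
  rw [← hs.dot_leftVec, hu, hax] at this
  exact one_ne_zero this

/-- The stabiliser of a totally singular subspace is maximal in `Sp`. -/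
theorem isMaximalIn_spSingular {W : Submodule F V} (hW0 : W ≠ ⊥)
    (hW : IsTotallySingularFor ω W) :
    IsMaximalIn (Cfsg.spGL m F) (subspaceStabilizer W ⊓ Cfsg.spGL m F) := by
  have hs := sesq_sympForm (m := m) (F := F)
  have hWP : W ≤ sPerp W := fun w hw z hz => hW w hw z hz
  obtain ⟨w₀, hw₀, hw₀0⟩ := Submodule.exists_mem_ne_zero_of_ne_bot hW0
  obtain ⟨x₀, hx₀⟩ := hs.exists_left_ne_zero hw₀0
  have hx₀P : x₀ ∉ sPerp W := fun h => hx₀ (h w₀ hw₀)
  refine isMaximalIn_of inf_le_right ⟨spTv x₀ 1, spTv_mem _ _, fun h => ?_⟩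
    fun M hHM hMK g hg hg' => ?_
  · have := (mem_subspaceStabilizer_iff.mp h.1 w₀).mp hw₀
    rw [spTv_mulVec, one_mul, W.add_mem_iff_right hw₀, Forms.sympForm_swap x₀ w₀, neg_smul,
      W.neg_mem_iff, W.smul_mem_iff hx₀] at this
    exact hx₀P (hWP this)
  have hgs : g ∈ Cfsg.spGL m F := hMK hg
  have hcP : ∀ w ∈ sPerp W, CentreIn M w := fun w hw c => hHM (spTv_mem_stab (Or.inr hw) c)
  obtain ⟨v, hv, hv'⟩ : ∃ v ∈ sPerp W, (g : Mat) *ᵥ v ∉ sPerp W := by
    by_contra hcon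
    push Not at hcon
    refine hg' ⟨mem_subspaceStabilizer_of_le fun w hw => mem_of_orth_sPerp fun z hz => ?_, hgs⟩
    obtain ⟨z', hz', rfl⟩ : ∃ z' ∈ sPerp W, (g : Mat) *ᵥ z' = z := by
      have hle : (sPerp W).map (g : Mat).mulVecLin ≤ sPerp W := by
        rintro y ⟨x, hx, rfl⟩; exact hcon x hx
      have := Submodule.eq_of_le_of_finrank_le hle (finrank_map_gl g _).ge
      rw [← this] at hz
      obtain ⟨z', hz', hze⟩ := hz
      exact ⟨z', hz', hze⟩
    rw [mem_spGL_iff.mp hgs, Forms.sympForm_swap z' w, hz' w hw, neg_zero]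
  set x := (g : Mat) *ᵥ v
  have hcx : CentreIn M x := (hcP v hv).map hgs hg
  -- cosets of `sPerp W`
  have hcoset : ∀ p, CentreIn M p → p ∉ sPerp W → ∀ y ∈ sPerp W, CentreIn M (p + y) := by
    intro p hp hpW y hy
    obtain ⟨w, hw, hpw⟩ : ∃ w ∈ W, ω p w ≠ 0 := by
      by_contra h
      push Not at h
      exact hpW h
    by_cases hpy : ω p y = 0
    · have h1 := hp.add (hcP w (hWP hw)) hpw
      have h2 := h1.add (hcP (y - w) ((sPerp W).sub_mem hy (hWP hw))) (by
        rw [hs.add_left, hs.sub_right, hs.sub_right, hpy, hW w hw w hw,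
          Forms.sympForm_swap y w, hy w hw]
        simpa using hpw)
      convert h2 using 1
      abel
    · exact hp.add (hcP y hy) hpy
  refine spGL_le_of_forall_spTv fun u d => ?_
  by_cases hu : u ∈ sPerp W
  · exact hcP u hu d
  suffices CentreIn M u from this d
  by_cases hc : ∃ c : F, u - c • x ∈ sPerp W
  · obtain ⟨c, hc⟩ := hc
    have hc0 : c ≠ 0 := by rintro rfl; exact hu (by simpa using hc)
    have := (hcoset x hcx hv' (c⁻¹ • (u - c • x)) ((sPerp W).smul_mem _ hc)).smul c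
    rwa [smul_add, smul_inv_smul₀ hc0, add_sub_cancel] at this
  push Not at hc
  set b := u - x with hb
  obtain ⟨a, ha, hba, hxa⟩ : ∃ a ∈ W, ω b a = 0 ∧ ω x a = 1 := by
    by_contra hcon
    push Not at hcon
    obtain ⟨a₀, ha₀, hba₀⟩ : ∃ a₀ ∈ W, ω b a₀ ≠ 0 := by
      by_contra h
      push Not at h
      exact hc 1 (by rw [one_smul]; exact h)
    have hzero : ∀ a ∈ W, ω b a = 0 → ω x a = 0 := by
      intro a ha hba
      by_contra h
      exact hcon ((ω x a)⁻¹ • a) (W.smul_mem _ ha) (by rw [hs.smul_right, hba, mul_zero])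
        (by rw [hs.smul_right]; exact inv_mul_cancel₀ h)
    set k := ω x a₀ / ω b a₀ with hk
    have hprop : ∀ a ∈ W, ω x a = k * ω b a := by
      intro a ha
      have := hzero (a - (ω b a / ω b a₀) • a₀) (W.sub_mem ha (W.smul_mem _ ha₀)) (by
        rw [hs.sub_right, hs.smul_right]; simp [hba₀])
      rw [hs.sub_right, hs.smul_right, sub_eq_zero] at this
      rw [this, hk]
      simp only [RingEquiv.refl_apply]
      field_simp
    have hk0 : k ≠ 0 := by
      intro hk0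
      exact hv' fun a ha => by rw [hprop a ha, hk0, zero_mul]
    refine hc (1 + k⁻¹) fun a ha => ?_
    have he : u - (1 + k⁻¹) • x = b - k⁻¹ • x := by rw [hb, add_smul, one_smul]; abel
    rw [he, hs.sub_left, hs.smul_left, hprop a ha, ← mul_assoc, inv_mul_cancel₀ hk0, one_mul,
      sub_self]
  have hab : ω a b = 0 := by rw [Forms.sympForm_swap b a, hba, neg_zero]
  set L := spTv (a + b) 1 * spTv a (-1) * spTv b (-1) with hL
  have hLs : L ∈ Cfsg.spGL m F :=
    mul_mem (mul_mem (spTv_mem _ _) (spTv_mem _ _)) (spTv_mem _ _)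
  have hLy : ∀ y, (L : Mat) *ᵥ y = y + ω y a • b + ω y b • a := by
    intro y
    simp only [hL, Units.val_mul, ← mulVec_mulVec, spTv_mulVec, hs.add_left, hs.add_right,
      hs.smul_left, Forms.sympForm_self, hab, hba]
    match_scalars <;> ring
  have hLM : L ∈ M := hHM ⟨mem_subspaceStabilizer_of_le fun y hy => by
    rw [hLy, hW y hy a ha, zero_smul, add_zero]
    exact W.add_mem hy (W.smul_mem _ ha), hLs⟩
  have hLx : (L : Mat) *ᵥ x = u + ω x b • a := by
    rw [hLy, hxa, one_smul, hb]; abel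
  have hP := hcx.map hLs hLM
  rw [hLx] at hP
  have := hcoset _ hP (fun h => hu ((Submodule.add_mem_iff_left _ (Submodule.smul_mem _ _
    (hWP ha))).mp h)) (-(ω x b • a)) ((sPerp W).neg_mem ((sPerp W).smul_mem _ (hWP ha)))
  rwa [add_neg_cancel_right] at this

end CfsgLib.MaxSub
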