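import Cfsg.Agent.S5705

/-!
# The tensor decomposition `2 ⊗ n₂` over two elements is not maximal
-/

set_option autoImplicit false

namespace CfsgLib.MaxSub

open Matrix
open scoped Kronecker
open Cfsg.Agent.S5705 (omega3 omega3Sq omega3_facts normalises_omega3 eq_zero_or_one two_zero)

variable {G : Type*} [Group G]

/-- The elements conjugating `W` to itself or its inverse. -/
def invNormalizer (W : G) : Subgroup G where
  carrier := {g | g * W * g⁻¹ = W ∨ g * W * g⁻¹ = W⁻¹}
  one_mem' := Or.inl (by group)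
  mul_mem' {a b} ha hb := by
    have e : a * b * W * (a * b)⁻¹ = a * (b * W * b⁻¹) * a⁻¹ := by group
    have e' : a * W⁻¹ * a⁻¹ = (a * W * a⁻¹)⁻¹ := by group
    simp only [Set.mem_ofPred_eq] at *
    rw [e]
    rcases hb with hb | hb <;> rw [hb]
    · exact ha
    · rw [e']
      rcases ha with ha | ha <;> rw [ha]
      · exact Or.inr rfl
      · exact Or.inl (inv_inv W)
  inv_mem' {a} ha := by
    simp only [Set.mem_ofPred_eq] at *
    rcases ha with ha | ha
    · left
      conv_lhs => rw [← ha]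
      group
    · right
      have e : W = (a * W * a⁻¹)⁻¹ := by rw [ha, inv_inv]
      conv_lhs => rw [e]
      group

variable {F : Type*} [Field F] [Fintype F]

/-- The tensor product stabiliser `2 ⊗ n₂` over two elements is contained in a larger proper subgroup. -/
theorem not_maximal_tensor {ι : Type} [Fintype ι] [DecidableEq ι] (hq : Fintype.card F = 2)
    {n₂ : ℕ} (hn : 2 ≤ n₂) (e : ι ≃ Fin 2 × Fin n₂) (P : GL ι F) :
    ∃ K : Subgroup (GL ι F),
      Cfsg.Geo.tensorProductSubgroup 2 n₂ e P ⊓ Cfsg.Geo.specialLinear ι F < K ∧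
        K < Cfsg.Geo.specialLinear ι F := by
  classical
  have hone : ∀ u : Fˣ, u = 1 := fun u =>
    Units.ext ((eq_zero_or_one hq _).resolve_left u.ne_zero)
  have hSL : Cfsg.Geo.specialLinear ι F = ⊤ := eq_top_iff.mpr fun g _ => hone _
  have h20 := two_zero hq
  obtain ⟨hw1, hw2, hw3⟩ := omega3_facts (F := F) hq
  let W : GL (Fin 2 × Fin n₂) F :=
    ⟨omega3 ⊗ₖ 1, omega3Sq ⊗ₖ 1,
      by rw [← mul_kronecker_mul, hw1, one_mul, one_kronecker_one],
      by rw [← mul_kronecker_mul, hw2, one_mul, one_kronecker_one]⟩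
  let φ : GL (Fin 2 × Fin n₂) F ≃* GL ι F :=
    (Cfsg.Geo.glReindex e.symm).trans (MulAut.conj P)
  have hT : Cfsg.Geo.tensorProductSubgroup 2 n₂ e P =
      (Cfsg.Geo.kroneckerSubgroup 2 n₂ F).map φ.toMonoidHom := by
    rw [Cfsg.Geo.tensorProductSubgroup, Subgroup.map_map]; rfl
  have hinj : Function.Injective φ.toMonoidHom := φ.injective
  have hcomm : ∀ g : GL (Fin 2 × Fin n₂) F, ∀ V : GL (Fin 2 × Fin n₂) F,
      (g : Matrix (Fin 2 × Fin n₂) (Fin 2 × Fin n₂) F) * (W : Matrix (Fin 2 × Fin n₂) (Fin 2 × Fin n₂) F) = (V : Matrix (Fin 2 × Fin n₂) (Fin 2 × Fin n₂) F) * (g : Matrix (Fin 2 × Fin n₂) (Fin 2 × Fin n₂) F) →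
      g * W * g⁻¹ = V := by
    intro g V h
    have : g * W = V * g := Units.ext (by simpa using h)
    rw [this, mul_inv_cancel_right]
  refine ⟨(invNormalizer W).map φ.toMonoidHom, ?_, ?_⟩
  · rw [hSL, inf_top_eq, hT, Subgroup.map_lt_map_iff_of_injective hinj]
    refine lt_of_le_of_ne (fun g hg => ?_) fun heq => ?_
    · obtain ⟨a, b, hg⟩ := hg
      rcases normalises_omega3 hq a with h | h
      · refine Or.inl (hcomm g W ?_)
        show (g : Matrix (Fin 2 × Fin n₂) (Fin 2 × Fin n₂) F) * (omega3 ⊗ₖ 1) = (omega3 ⊗ₖ 1) * (g : Matrix (Fin 2 × Fin n₂) (Fin 2 × Fin n₂) F)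
        rw [hg, ← mul_kronecker_mul, ← mul_kronecker_mul, h, mul_one, one_mul]
      · refine Or.inr (hcomm g W⁻¹ ?_)
        show (g : Matrix (Fin 2 × Fin n₂) (Fin 2 × Fin n₂) F) * (omega3 ⊗ₖ 1) = (omega3Sq ⊗ₖ 1) * (g : Matrix (Fin 2 × Fin n₂) (Fin 2 × Fin n₂) F)
        rw [hg, ← mul_kronecker_mul, ← mul_kronecker_mul, h, mul_one, one_mul]
    · -- `ω` on one line over four elements, the identity on the others
      set E : Matrix (Fin n₂) (Fin n₂) F := Matrix.single ⟨0, by omega⟩ ⟨0, by omega⟩ 1 with hE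
      have hEE : E * E = E := by simp [hE]
      set M : Matrix (Fin 2 × Fin n₂) (Fin 2 × Fin n₂) F := omega3 ⊗ₖ E + 1 ⊗ₖ (1 - E) with hM
      set M' : Matrix (Fin 2 × Fin n₂) (Fin 2 × Fin n₂) F := omega3Sq ⊗ₖ E + 1 ⊗ₖ (1 - E) with hM'
      have hE1 : E * (1 - E) = 0 := by rw [mul_sub, mul_one, hEE, sub_self]
      have hE2 : (1 - E) * E = 0 := by rw [sub_mul, one_mul, hEE, sub_self]
      have hE3 : (1 - E) * (1 - E) = 1 - E := by rw [mul_sub, mul_one, hE2, sub_zero]
      have hMM : M * M' = 1 := by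
        rw [hM, hM', add_mul, mul_add, mul_add, ← mul_kronecker_mul, ← mul_kronecker_mul,
          ← mul_kronecker_mul, ← mul_kronecker_mul, hw1, hEE, hE1, hE2, hE3, kronecker_zero,
          kronecker_zero, add_zero, zero_add, one_mul, ← kronecker_add, add_sub_cancel,
          one_kronecker_one]
      let g : GL (Fin 2 × Fin n₂) F := ⟨M, M', hMM, mul_eq_one_comm.mp hMM⟩
      have hg : g ∈ invNormalizer W := by
        refine Or.inl (hcomm g W ?_)
        show M * (omega3 ⊗ₖ 1) = (omega3 ⊗ₖ 1) * M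
        rw [hM, add_mul, mul_add, ← mul_kronecker_mul, ← mul_kronecker_mul, ← mul_kronecker_mul,
          ← mul_kronecker_mul, one_mul, one_mul, mul_one, mul_one, mul_one, one_mul]
      rw [← heq] at hg
      obtain ⟨a, b, hab⟩ := hg
      have key : ∀ i j k l, M (i, k) (j, l) =
          (a : Matrix (Fin 2) (Fin 2) F) i j * (b : Matrix (Fin n₂) (Fin n₂) F) k l := by
        intro i j k l
        have e := congrFun (congrFun hab (i, k)) (j, l)
        exact e
      have e1 := key 0 0 ⟨0, by omega⟩ ⟨0, by omega⟩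
      have e2 := key 0 0 ⟨1, by omega⟩ ⟨1, by omega⟩
      have e3 := key 0 1 ⟨0, by omega⟩ ⟨0, by omega⟩
      simp [hM, hE, omega3, Matrix.single_apply, Fin.ext_iff] at e1 e2 e3
      rcases e1 with h | h
      · rw [h, zero_mul] at e2; exact one_ne_zero e2
      · rw [h, mul_zero] at e3; exact one_ne_zero e3
  · rw [hSL, ← Subgroup.map_top_of_surjective φ.toMonoidHom φ.surjective,
      Subgroup.map_lt_map_iff_of_injective hinj]
    refine lt_of_le_of_ne le_top fun heq => ?_
    set i₀ : Fin n₂ := ⟨0, by omega⟩ with hi₀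
    set i₁ : Fin n₂ := ⟨1, by omega⟩ with hi₁
    have h01 : i₀ ≠ i₁ := by simp [hi₀, hi₁]
    set X : Matrix (Fin 2 × Fin n₂) (Fin 2 × Fin n₂) F :=
      Matrix.single 0 0 1 ⊗ₖ Matrix.single i₀ i₁ 1 with hX
    have hXX : X * X = 0 := by
      rw [hX, ← mul_kronecker_mul, Matrix.single_mul_single_of_ne (h := Ne.symm h01),
        kronecker_zero]
    have hUU : (1 + X) * (1 + X) = 1 := by
      have : X + X = 0 := by rw [← two_smul F X, h20, zero_smul]
      rw [add_mul, mul_add, mul_add, one_mul, mul_one, hXX, add_zero, one_mul, add_assoc, this,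
        add_zero]
    let g : GL (Fin 2 × Fin n₂) F := ⟨1 + X, 1 + X, hUU, hUU⟩
    have hg : g ∈ invNormalizer W := by rw [heq]; trivial
    rcases hg with h | h
    · have e : ((g * W : GL (Fin 2 × Fin n₂) F) : Matrix (Fin 2 × Fin n₂) (Fin 2 × Fin n₂) F) = ((W * g : GL _ F) : Matrix (Fin 2 × Fin n₂) (Fin 2 × Fin n₂) F) :=
        congrArg Units.val (mul_inv_eq_iff_eq_mul.mp h)
      have e' : ((1 + X) * (omega3 ⊗ₖ 1) : Matrix (Fin 2 × Fin n₂) (Fin 2 × Fin n₂) F) =
          (omega3 ⊗ₖ 1) * (1 + X) := e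
      rw [add_mul, mul_add, one_mul, mul_one, add_right_inj, hX, ← mul_kronecker_mul,
        ← mul_kronecker_mul, one_mul, mul_one] at e'
      have := congrFun (congrFun e' (0, i₀)) (1, i₁)
      simp [omega3, Matrix.vecMul, dotProduct, Matrix.single_apply] at this
    · have e : ((g * W : GL (Fin 2 × Fin n₂) F) : Matrix (Fin 2 × Fin n₂) (Fin 2 × Fin n₂) F) =
          ((W⁻¹ * g : GL _ F) : Matrix (Fin 2 × Fin n₂) (Fin 2 × Fin n₂) F) :=
        congrArg Units.val (mul_inv_eq_iff_eq_mul.mp h)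
      have e' : ((1 + X) * (omega3 ⊗ₖ 1) : Matrix (Fin 2 × Fin n₂) (Fin 2 × Fin n₂) F) =
          (omega3Sq ⊗ₖ 1) * (1 + X) := e
      rw [add_mul, mul_add, one_mul, mul_one, hX, ← mul_kronecker_mul, ← mul_kronecker_mul,
        one_mul, mul_one] at e'
      have := congrFun (congrFun e' (0, i₀)) (0, i₀)
      simp [omega3, omega3Sq, Matrix.mul_apply, Matrix.single_apply,
        Ne.symm h01] at this

end CfsgLib.MaxSub
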