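import Cfsg.Agent.MaxSub.TensorFrame
import Cfsg.Agent.MaxSub.Decomposition

/-!
# Frames preserved by `O₃(3)` and by `GU₂(2)`
-/

set_option autoImplicit false
set_option linter.unusedSectionVars false

namespace CfsgLib.MaxSub

open Matrix Cfsg.Geo

variable {F : Type*} [Field F] [Fintype F]

/-- Coordinates with respect to orthogonal non-isotropic vectors spanning the whole space. -/
theorem frame_expand {n : ℕ} {σ : F ≃+* F} {f : (Fin n → F) → (Fin n → F) → F} (hs : SesqForm σ f)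
    {v : Fin n → Fin n → F} (horth : ∀ i j, i ≠ j → f (v i) (v j) = 0)
    (hval : ∀ i, f (v i) (v i) ≠ 0) (x : Fin n → F) :
    x = ∑ i, (f x (v i) / f (v i) (v i)) • v i := by
  have hpair : ∀ (g : Fin n → F) j, f (∑ i, g i • v i) (v j) = g j * f (v j) (v j) := by
    intro g j
    rw [show f (∑ i, g i • v i) (v j) = ∑ i, f (g i • v i) (v j) from
      map_sum (AddMonoidHom.mk' (fun z => f z (v j)) fun a b => hs.add_left a b _) _ _,
      Finset.sum_eq_single j (fun i _ hij => by rw [hs.smul_left, horth i j hij, mul_zero])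
        (fun h => absurd (Finset.mem_univ j) h), hs.smul_left]
  have hli : LinearIndependent F v := by
    rw [Fintype.linearIndependent_iff]
    intro g hg j
    have e := hpair g j
    rw [hg, hs.zero_left, eq_comm] at e
    exact (mul_eq_zero.mp e).resolve_right (hval j)
  rcases Nat.eq_zero_or_pos n with rfl | hn
  · exact funext fun i => i.elim0
  have hspan : ∀ z : Fin n → F, z ∈ Submodule.span F (Set.range v) := fun z => by
    have : Nonempty (Fin n) := ⟨⟨0, hn⟩⟩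
    rw [hli.span_eq_top_of_card_eq_finrank (by simp)]
    trivial
  obtain ⟨g, hg⟩ := (Submodule.mem_span_range_iff_exists_fun F).mp (hspan x)
  conv_lhs => rw [← hg]
  refine Finset.sum_congr rfl fun i _ => ?_
  rw [← hg, hpair, mul_div_cancel_right₀ _ (hval i)]

/-- A map sending each frame vector onto the line of one of them induces a permutation. -/
theorem exists_framePerm {n : ℕ} {σ : F ≃+* F} {f : (Fin n → F) → (Fin n → F) → F}
    (hs : SesqForm σ f) {v : Fin n → Fin n → F} (horth : ∀ i j, i ≠ j → f (v i) (v j) = 0)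
    {μ : F} (hμ : μ ≠ 0) {b : Matrix (Fin n) (Fin n) F}
    (hb : ∀ y y', f (b *ᵥ y) (b *ᵥ y') = μ * f y y') (hval : ∀ i, f (v i) (v i) ≠ 0)
    (hone : ∀ i, ∃ j, ∀ l, l ≠ j → f (b *ᵥ v i) (v l) = 0) :
    ∃ π : Equiv.Perm (Fin n), ∀ i, ∃ ε : F, ε ≠ 0 ∧ b *ᵥ v i = ε • v (π i) := by
  choose π₀ hπ₀ using hone
  have hline : ∀ i, ∃ ε : F, ε ≠ 0 ∧ b *ᵥ v i = ε • v (π₀ i) := by
    intro i
    obtain ⟨ε, hε⟩ : ∃ ε : F, b *ᵥ v i = ε • v (π₀ i) := by
      refine ⟨f (b *ᵥ v i) (v (π₀ i)) / f (v (π₀ i)) (v (π₀ i)), ?_⟩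
      conv_lhs => rw [frame_expand hs horth hval (b *ᵥ v i)]
      rw [Finset.sum_eq_single (π₀ i) (fun l _ hl => by rw [hπ₀ i l hl, zero_div, zero_smul])
        (fun h => absurd (Finset.mem_univ _) h)]
    refine ⟨ε, fun h => ?_, hε⟩
    have e := hb (v i) (v i)
    rw [hε, h, zero_smul, hs.zero_left, eq_comm] at e
    exact mul_ne_zero hμ (hval i) e
  have hinj : Function.Injective π₀ := by
    intro i j hij
    by_contra hne
    obtain ⟨ε, hε0, hε⟩ := hline i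
    obtain ⟨δ, hδ0, hδ⟩ := hline j
    have e := hb (v i) (v j)
    rw [hε, hδ, hij, hs.smul_left, hs.smul_right, horth i j hne, mul_zero] at e
    exact mul_ne_zero hε0 (mul_ne_zero (by simpa using hδ0) (hval _)) e
  exact ⟨Equiv.ofBijective π₀ (Finite.injective_iff_bijective.mp hinj), hline⟩

/-- Over three elements a three-dimensional symmetric form has an orthogonal basis with equal values. -/
theorem exists_frame_three (hq : Fintype.card F = 3) {f₂ : (Fin 3 → F) → (Fin 3 → F) → F}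
    (hf₂ : IsSymmetricForm f₂) : ∃ v : Fin 3 → Fin 3 → F,
      (∀ i j, i ≠ j → f₂ (v i) (v j) = 0) ∧ ∃ a : F, a ≠ 0 ∧ ∀ i, f₂ (v i) (v i) = a := by
  classical
  have h30 : (3 : F) = 0 := by
    have h := FiniteField.cast_card_eq_zero F
    rw [hq] at h
    exact_mod_cast h
  have h20 : (2 : F) ≠ 0 := fun h => one_ne_zero (by linear_combination h30 - h)
  have hvals : ∀ a : F, a ≠ 0 → a = 1 ∨ a = -1 := fun a ha => mul_self_eq_one_iff.mp (by
    have := FiniteField.pow_card_sub_one_eq_one a ha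
    rwa [hq, pow_two] at this)
  have hs₂ : SesqForm (RingEquiv.refl F) f₂ :=
    ⟨hf₂.bilinear.add_left, hf₂.bilinear.smul_left, hf₂.bilinear.add_right,
      fun c v x => hf₂.bilinear.smul_right c v x, hf₂.nondegenerate⟩
  have hnoniso : ∀ S : Submodule F (Fin 3 → F), (∃ x ∈ S, ∃ y ∈ S, f₂ x y ≠ 0) →
      ∃ x ∈ S, f₂ x x ≠ 0 := by
    rintro S ⟨x, hx, y, hy, hxy⟩
    by_contra h
    push Not at h
    have e := h (x + y) (S.add_mem hx hy)
    rw [hs₂.add_left, hs₂.add_right, hs₂.add_right, h x hx, h y hy, hf₂.symm y x] at e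
    exact mul_ne_zero h20 hxy (by linear_combination e)
  obtain ⟨u₁, hu₁0⟩ := exists_ne (0 : Fin 3 → F)
  obtain ⟨v₁, -, hv₁⟩ := hnoniso ⊤ (by
    obtain ⟨-, y, hy⟩ := hf₂.nondegenerate u₁ hu₁0
    exact ⟨u₁, trivial, y, trivial, hy⟩)
  have hperp : ∀ {k : ℕ} (L : Fin k → Fin 3 → F) x, x ∈ dotsKer (fun i => leftVec f₂ (L i)) ↔
      ∀ i, f₂ x (L i) = 0 := by
    intro k L x
    simp only [mem_dotsKer, hs₂.dot_leftVec]
  have hrad : ∀ w, ∀ y, f₂ w y ≠ 0 → f₂ w v₁ = 0 →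
      ∃ z ∈ dotsKer (fun i : Fin 1 => leftVec f₂ (![v₁] i)), f₂ w z ≠ 0 := by
    intro w y hwy hwv
    refine ⟨y - (f₂ y v₁ / f₂ v₁ v₁) • v₁, (hperp ![v₁] _).mpr fun i => ?_, ?_⟩
    · fin_cases i
      simp [hs₂.sub_left, hs₂.smul_left, div_mul_cancel₀ _ hv₁]
    · rw [hs₂.sub_right, hs₂.smul_right, hwv, mul_zero, sub_zero]; exact hwy
  obtain ⟨v₂, hv₂S, hv₂⟩ := hnoniso (dotsKer (fun i : Fin 1 => leftVec f₂ (![v₁] i))) (by
    have h := finrank_dotsKer (fun i : Fin 1 => leftVec f₂ (![v₁] i))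
    rw [Fintype.card_fin] at h
    obtain ⟨w, hw, hw0⟩ := Submodule.exists_mem_ne_zero_of_ne_bot
      (p := dotsKer (fun i : Fin 1 => leftVec f₂ (![v₁] i)))
      (fun hb => by rw [hb, finrank_bot] at h; omega)
    obtain ⟨-, y, hy⟩ := hf₂.nondegenerate w hw0
    obtain ⟨z, hz, hwz⟩ := hrad w y hy ((hperp ![v₁] w).mp hw 0)
    exact ⟨w, hw, z, hz, hwz⟩)
  have h21 : f₂ v₂ v₁ = 0 := (hperp ![v₁] v₂).mp hv₂S 0
  have h12 : f₂ v₁ v₂ = 0 := (hf₂.symm v₁ v₂).trans h21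
  obtain ⟨v₃, hv₃S, hv₃0⟩ : ∃ z ∈ dotsKer (fun i : Fin 2 => leftVec f₂ (![v₁, v₂] i)), z ≠ 0 := by
    refine Submodule.exists_mem_ne_zero_of_ne_bot fun hb => ?_
    have h := finrank_dotsKer (fun i : Fin 2 => leftVec f₂ (![v₁, v₂] i))
    rw [hb, finrank_bot, Fintype.card_fin] at h
    omega
  have h31 : f₂ v₃ v₁ = 0 := (hperp ![v₁, v₂] v₃).mp hv₃S 0
  have h32 : f₂ v₃ v₂ = 0 := (hperp ![v₁, v₂] v₃).mp hv₃S 1
  have h13 : f₂ v₁ v₃ = 0 := (hf₂.symm v₁ v₃).trans h31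
  have h23 : f₂ v₂ v₃ = 0 := (hf₂.symm v₂ v₃).trans h32
  have hv₃ : f₂ v₃ v₃ ≠ 0 := by
    intro h33
    obtain ⟨-, y, hy⟩ := hf₂.nondegenerate v₃ hv₃0
    have hli : LinearIndependent F ![v₁, v₂, v₃] := by
      rw [Fintype.linearIndependent_iff]
      intro g hg
      simp [Fin.sum_univ_three] at hg
      have e1 := congrArg (fun z => f₂ z v₁) hg
      have e2 := congrArg (fun z => f₂ z v₂) hg
      simp only [hs₂.add_left, hs₂.smul_left, h21, h31, h12, h32, hs₂.zero_left, mul_zero,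
        add_zero, zero_add, mul_eq_zero, hv₁, hv₂, or_false] at e1 e2
      rw [e1, e2, zero_smul, zero_smul, zero_add, zero_add, smul_eq_zero] at hg
      intro i; fin_cases i
      · exact e1
      · exact e2
      · exact hg.resolve_right hv₃0
    obtain ⟨g, hg⟩ := (Submodule.mem_span_range_iff_exists_fun F).mp
      ((hli.span_eq_top_of_card_eq_finrank (by simp)).symm ▸ Submodule.mem_top : y ∈ _)
    rw [← hg, Fin.sum_univ_three] at hy
    simp [hs₂.add_right, hs₂.smul_right, h31, h32, h33] at hy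
  suffices h : ∃ v : Fin 3 → Fin 3 → F,
      (∀ i j, i ≠ j → f₂ (v i) (v j) = 0) ∧ ∃ a : F, a ≠ 0 ∧ ∀ i, f₂ (v i) (v i) = a from h
  have tri : ∀ p r s : Fin 3 → F, f₂ p r = 0 → f₂ p s = 0 → f₂ r s = 0 →
      ∀ i j : Fin 3, i ≠ j → f₂ (![p, r, s] i) (![p, r, s] j) = 0 := by
    intro p r s hpr hps hrs i j hij
    have hrp : f₂ r p = 0 := (hf₂.symm r p).trans hpr
    have hsp : f₂ s p = 0 := (hf₂.symm s p).trans hps
    have hsr : f₂ s r = 0 := (hf₂.symm s r).trans hrs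
    fin_cases i <;> fin_cases j <;> first | exact absurd rfl hij | assumption
  have mk : ∀ p r s : Fin 3 → F, f₂ p r = 0 → f₂ p s = 0 → f₂ r s = 0 → f₂ r r = f₂ p p →
      f₂ p p ≠ 0 → f₂ s s ≠ 0 → ∃ v : Fin 3 → Fin 3 → F,
        (∀ i j, i ≠ j → f₂ (v i) (v j) = 0) ∧ ∃ a : F, a ≠ 0 ∧ ∀ i, f₂ (v i) (v i) = a := by
    intro p r s hpr hps hrs hv hp hs0
    rcases eq_or_ne (f₂ s s) (f₂ p p) with h | h
    · refine ⟨![p, r, s], tri p r s hpr hps hrs, f₂ p p, hp, fun i => ?_⟩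
      fin_cases i
      · rfl
      · exact hv
      · exact h
    · have hs1 : f₂ s s = - f₂ p p := by
        rcases hvals _ hs0 with c | c <;> rcases hvals _ hp with b | b
        · exact absurd (c.trans b.symm) h
        · rw [c, b, neg_neg]
        · rw [c, b]
        · exact absurd (c.trans b.symm) h
      have hrp : f₂ r p = 0 := (hf₂.symm r p).trans hpr
      have h1 : f₂ (p + r) (p + r) = f₂ s s := by
        rw [hs₂.add_left, hs₂.add_right, hs₂.add_right, hpr, hrp, hv, hs1]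
        linear_combination f₂ p p * h30
      have h2 : f₂ (p - r) (p - r) = f₂ s s := by
        rw [hs₂.sub_left, hs₂.sub_right, hs₂.sub_right, hpr, hrp, hv, hs1]
        linear_combination f₂ p p * h30
      refine ⟨![p + r, p - r, s], tri _ _ _ ?_ ?_ ?_, f₂ s s, hs0, fun i => ?_⟩
      · rw [hs₂.add_left, hs₂.sub_right, hs₂.sub_right, hpr, hrp, hv]; ring
      · rw [hs₂.add_left, hps, hrs, add_zero]
      · rw [hs₂.sub_left, hps, hrs, sub_zero]
      · fin_cases i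
        · exact h1
        · exact h2
        · rfl
  by_cases c12 : f₂ v₂ v₂ = f₂ v₁ v₁
  · exact mk v₁ v₂ v₃ h12 h13 h23 c12 hv₁ hv₃
  by_cases c13 : f₂ v₃ v₃ = f₂ v₁ v₁
  · exact mk v₁ v₃ v₂ h13 h12 h32 c13 hv₁ hv₂
  refine mk v₂ v₃ v₁ h23 h21 h31 ?_ hv₂ hv₁
  rcases hvals _ hv₁ with h | h <;> rcases hvals _ hv₂ with h' | h' <;>
    rcases hvals _ hv₃ with h'' | h'' <;>
    first | exact h''.trans h'.symm | exact absurd (h'.trans h.symm) c12 |
      exact absurd (h''.trans h.symm) c13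

/-- The stabiliser of a symplectic tensor decomposition with a three-dimensional orthogonal factor
over three elements is not maximal. -/
theorem not_maximal_tensor_O3 {m n₁ : ℕ} (hm : 0 < m) (hq : Fintype.card F = 3)
    (e : (Fin m ⊕ Fin m) ≃ Fin n₁ × Fin 3) (P : GL (Fin m ⊕ Fin m) F)
    (f₁ : (Fin n₁ → F) → (Fin n₁ → F) → F) (f₂ : (Fin 3 → F) → (Fin 3 → F) → F)
    (hf₁ : IsSymplecticForm f₁) (hf₂ : IsSymmetricForm f₂)
    (hT : IsTensorFormStructure id (Cfsg.sympForm m F) f₁ f₂ e P) :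
    ∃ K : Subgroup (GL (Fin m ⊕ Fin m) F),
      tensorProductSubgroup n₁ 3 e P ⊓ Cfsg.spGL m F < K ∧ K < Cfsg.spGL m F := by
  classical
  have h30 : (3 : F) = 0 := by
    have h := FiniteField.cast_card_eq_zero F
    rw [hq] at h
    exact_mod_cast h
  have h20 : (2 : F) ≠ 0 := fun h => one_ne_zero (by linear_combination h30 - h)
  have hsq : ∀ a : F, a ≠ 0 → a * a = 1 := fun a ha => by
    have := FiniteField.pow_card_sub_one_eq_one a ha
    rwa [hq, pow_two] at this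
  have hvals : ∀ a : F, a ≠ 0 → a = 1 ∨ a = -1 := fun a ha =>
    mul_self_eq_one_iff.mp (hsq a ha)
  have hs₂ : SesqForm (RingEquiv.refl F) f₂ :=
    ⟨hf₂.bilinear.add_left, hf₂.bilinear.smul_left, hf₂.bilinear.add_right,
      fun c v x => hf₂.bilinear.smul_right c v x, hf₂.nondegenerate⟩
  have hs₁ := sesqForm_of_symplectic hf₁
  -- an orthogonal basis with equal values
  obtain ⟨v, horth, a, ha, hval⟩ := exists_frame_three hq hf₂
  have hval0 : ∀ i, f₂ (v i) (v i) ≠ 0 := fun i => by rw [hval]; exact ha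
  have hn₁ : 0 < n₁ := by
    have h := Fintype.card_congr e
    simp only [Fintype.card_sum, Fintype.card_fin, Fintype.card_prod] at h
    omega
  obtain ⟨x₀, hx₀⟩ : ∃ x₀ : Fin n₁ → F, x₀ ≠ 0 := ⟨Pi.single ⟨0, hn₁⟩ 1, by simp⟩
  obtain ⟨c, hc, hform⟩ := form_tmul_sesq (σ := RingEquiv.refl F) (fun _ => rfl) hs₁ hs₂ hT
  refine not_maximal_tensorFrame sesq_sympForm (fun x y => TensorNonmax.tmul_eq_zero e P) hs₁ hc
    hform horth hval0 (i₀ := 0) (i₁ := 1) (by decide) hx₀ (hf₁.alternating x₀) inf_le_right ?_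
    one_ne_zero fun w _ => spTv_mem w 1
  rintro g ⟨hg, hgsp⟩
  obtain ⟨A, B, hAB⟩ := TensorNonmax.mem_tensorProductSubgroup hg
  refine ⟨A, B, hAB, ?_⟩
  have hsim : ∀ x x' y y', f₁ ((A : Matrix _ _ F) *ᵥ x) ((A : Matrix _ _ F) *ᵥ x') *
      f₂ ((B : Matrix _ _ F) *ᵥ y) ((B : Matrix _ _ F) *ᵥ y') = f₁ x x' * f₂ y y' := by
    intro x x' y y'
    refine mul_left_cancel₀ hc ?_
    rw [← hform, ← hform, ← hAB, ← hAB, mem_spGL_iff.mp hgsp]
  obtain ⟨x₁, hx₁⟩ := hs₁.exists_left_ne_zero hx₀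
  obtain ⟨ν, hν⟩ : ∃ ν, ν = f₁ ((A : Matrix _ _ F) *ᵥ x₁) ((A : Matrix _ _ F) *ᵥ x₀) := ⟨_, rfl⟩
  have hν0 : ν ≠ 0 := fun h => by
    have := hsim x₁ x₀ (v 0) (v 0)
    rw [← hν, h, zero_mul, eq_comm] at this
    exact mul_ne_zero hx₁ (hval0 0) this
  obtain ⟨μ, hμdef⟩ : ∃ μ, μ = f₁ x₁ x₀ / ν := ⟨_, rfl⟩
  have hμ : μ ≠ 0 := hμdef ▸ div_ne_zero hx₁ hν0
  have hb : ∀ y y', f₂ ((B : Matrix _ _ F) *ᵥ y) ((B : Matrix _ _ F) *ᵥ y') = μ * f₂ y y' := by
    intro y y'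
    rw [hμdef, div_mul_eq_mul_div, eq_div_iff hν0, hν, mul_comm]
    exact hsim x₁ x₀ y y'
  -- the matrix of `B` in the frame
  let M : Matrix (Fin 3) (Fin 3) F := fun i l => f₂ ((B : Matrix _ _ F) *ᵥ v i) (v l) / a
  have hMM : M * M.transpose = μ • 1 := by
    refine Matrix.ext fun i j => ?_
    have e := hb (v i) (v j)
    conv_lhs at e => rw [frame_expand hs₂ horth hval0 ((B : Matrix _ _ F) *ᵥ v i)]
    rw [Fin.sum_univ_three, hs₂.add_left, hs₂.add_left, hs₂.smul_left, hs₂.smul_left,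
      hs₂.smul_left, hval, hval, hval, hf₂.symm (v 0), hf₂.symm (v 1), hf₂.symm (v 2)] at e
    rw [Matrix.mul_apply, Fin.sum_univ_three, Matrix.smul_apply, Matrix.one_apply, smul_eq_mul,
      Matrix.transpose_apply, Matrix.transpose_apply, Matrix.transpose_apply]
    simp only [M]
    rcases eq_or_ne i j with rfl | hij
    · rw [hval] at e
      rw [if_pos rfl]
      field_simp at e ⊢
      linear_combination e
    · rw [horth i j hij] at e
      rw [if_neg hij]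
      field_simp at e ⊢
      linear_combination e
  have hμ1 : μ = 1 := by
    have hd := congrArg Matrix.det hMM
    rw [det_mul, det_transpose, det_smul, det_one, Fintype.card_fin, mul_one] at hd
    have h0 : M.det ≠ 0 := fun h => pow_ne_zero 3 hμ (by rw [← hd, h, zero_mul])
    rw [hsq _ h0] at hd
    linear_combination -hd + (-μ) * hsq μ hμ
  refine exists_framePerm hs₂ horth hμ hb hval0 fun i => ?_
  have hrow := congrFun (congrFun hMM i) i
  simp only [Matrix.mul_apply, Matrix.transpose_apply, Fin.sum_univ_three, Matrix.smul_apply,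
    Matrix.one_apply_eq, smul_eq_mul, mul_one, hμ1] at hrow
  have hz : ∀ l, M i l = 0 → f₂ ((B : Matrix _ _ F) *ᵥ v i) (v l) = 0 := fun l h =>
    (div_eq_zero_iff.mp h).resolve_right ha
  by_cases c0 : M i 0 = 0 <;> by_cases c1 : M i 1 = 0 <;> by_cases c2 : M i 2 = 0
  · exact ⟨0, fun l hl => hz l (by fin_cases l <;> simp_all)⟩
  · exact ⟨2, fun l hl => hz l (by fin_cases l <;> simp_all)⟩
  · exact ⟨1, fun l hl => hz l (by fin_cases l <;> simp_all)⟩
  · rw [c0, hsq _ c1, hsq _ c2] at hrow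
    exact absurd (by linear_combination hrow : (1 : F) = 0) one_ne_zero
  · exact ⟨0, fun l hl => hz l (by fin_cases l <;> simp_all)⟩
  · rw [c1, hsq _ c0, hsq _ c2] at hrow
    exact absurd (by linear_combination hrow : (1 : F) = 0) one_ne_zero
  · rw [c2, hsq _ c0, hsq _ c1] at hrow
    exact absurd (by linear_combination hrow : (1 : F) = 0) one_ne_zero
  · rw [hsq _ c0, hsq _ c1, hsq _ c2] at hrow
    exact absurd (by linear_combination h30 - hrow : (1 : F) = 0) one_ne_zero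

/-- The stabiliser of a unitary tensor decomposition with a two-dimensional factor over four
elements is not maximal. -/
theorem not_maximal_tensor_U2 {n n₂ : ℕ} (hn : 4 ≤ n) (hF : Fintype.card F = 4)
    (e : Fin n ≃ Fin 2 × Fin n₂) (P : GL (Fin n) F)
    (f₁ : (Fin 2 → F) → (Fin 2 → F) → F) (f₂ : (Fin n₂ → F) → (Fin n₂ → F) → F)
    (hf₁ : IsUnitaryFormPow 2 f₁) (hf₂ : IsUnitaryFormPow 2 f₂)
    (hT : IsTensorFormStructure (fun x : F => x ^ 2) (Cfsg.hermForm n F 2) f₁ f₂ e P) :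
    ∃ K : Subgroup (GL (Fin n) F),
      tensorProductSubgroup 2 n₂ e P ⊓ (Cfsg.GU n F 2 ⊓ specialLinear (Fin n) F) < K ∧
        K < Cfsg.GU n F 2 ⊓ specialLinear (Fin n) F := by
  obtain ⟨σ, hne, hinv, hσ⟩ := exists_conjEquiv (F := F) (q := 2) (by rw [hF]; norm_num)
  have hU₁ : IsUnitaryForm σ f₁ :=
    ⟨hne, hinv, hf₁.add_left, hf₁.smul_left, fun u w => by rw [hσ]; exact hf₁.herm u w,
      hf₁.nondegenerate⟩
  have hU₂ : IsUnitaryForm σ f₂ :=
    ⟨hne, hinv, hf₂.add_left, hf₂.smul_left, fun u w => by rw [hσ]; exact hf₂.herm u w,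
      hf₂.nondegenerate⟩
  have hs₁ := sesqForm_of_unitary hU₁
  have hs₂ := sesqForm_of_unitary hU₂
  have hs := sesqForm_of_unitary (isUnitaryForm_hermForm (n := n) hne hinv hσ)
  have h20 : (2 : F) = 0 := by
    have h' := FiniteField.cast_card_eq_zero F
    rw [hF] at h'
    have h4 : (2 : F) * 2 = 0 := by
      rw [show (2 : F) * 2 = ((4 : ℕ) : F) by norm_num]; exact h'
    exact mul_self_eq_zero.mp h4
  have hnorm : ∀ c : F, c ≠ 0 → c * σ c = 1 := by
    intro c hc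
    rw [hσ]
    have := FiniteField.pow_card_sub_one_eq_one c hc
    rw [hF] at this
    linear_combination this
  have hfix : ∀ x, f₁ x x ≠ 0 → f₁ x x = 1 := by
    intro x hx
    have e := herm_self hU₁ x
    rw [hσ] at e
    exact mul_left_cancel₀ hx (by rw [mul_one]; linear_combination e)
  obtain ⟨v₀, -, hv₀⟩ := exists_noniso hU₁ ⊤ (by
    rw [finrank_top, Module.finrank_fin_fun, Fintype.card_fin]; omega)
  obtain ⟨v₁, hv₁0, h10⟩ : ∃ z, z ≠ 0 ∧ f₁ z v₀ = 0 := by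
    obtain ⟨z, hz, hz0⟩ : ∃ z ∈ dotsKer (fun _ : Fin 1 => leftVec f₁ v₀), z ≠ 0 := by
      refine Submodule.exists_mem_ne_zero_of_ne_bot fun hb => ?_
      have h := finrank_dotsKer (fun _ : Fin 1 => leftVec f₁ v₀)
      rw [hb, finrank_bot, Fintype.card_fin] at h
      omega
    exact ⟨z, hz0, by rw [← hs₁.dot_leftVec]; exact mem_dotsKer.mp hz 0⟩
  have h01 : f₁ v₀ v₁ = 0 := unitary_orth_symm hU₁ h10
  have hv₁ : f₁ v₁ v₁ ≠ 0 := by
    intro h11
    have hli : LinearIndependent F ![v₀, v₁] := by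
      refine LinearIndependent.pair_iff.mpr fun p r hpr => ?_
      have e := congrArg (fun z => f₁ z v₀) hpr
      simp only [hs₁.add_left, hs₁.smul_left, h10, hs₁.zero_left, mul_zero, add_zero, mul_eq_zero,
        hv₀, or_false] at e
      rw [e, zero_smul, zero_add, smul_eq_zero] at hpr
      exact ⟨e, hpr.resolve_right hv₁0⟩
    obtain ⟨-, y, hy⟩ := hU₁.nondegenerate v₁ hv₁0
    obtain ⟨g, hg⟩ := (Submodule.mem_span_range_iff_exists_fun F).mp
      ((hli.span_eq_top_of_card_eq_finrank (by simp)).symm ▸ Submodule.mem_top : y ∈ _)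
    rw [← hg, Fin.sum_univ_two] at hy
    simp [hs₁.add_right, hs₁.smul_right, h10, h11] at hy
  have horth : ∀ i j : Fin 2, i ≠ j → f₁ (![v₀, v₁] i) (![v₀, v₁] j) = 0 := by
    intro i j hij; fin_cases i <;> fin_cases j <;> simp_all
  have hval : ∀ i : Fin 2, f₁ (![v₀, v₁] i) (![v₀, v₁] i) ≠ 0 := by
    intro i; fin_cases i <;> simp_all
  have hn₂ : 2 ≤ n₂ := by
    have h := Fintype.card_congr e
    simp only [Fintype.card_fin, Fintype.card_prod] at h
    omega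
  obtain ⟨x₀, -, hx₀, hxx⟩ := exists_iso_mem hU₂ ⊤ (by
    rw [finrank_top, Module.finrank_fin_fun]; omega)
  obtain ⟨c, hc, hform⟩ := form_tmul_sesq (fun a => (hσ a).symm) hs₁ hs₂ hT
  refine not_maximal_tensorFrame hs (T := (TensorNonmax.tmul e P).flip)
    (fun x y h => (TensorNonmax.tmul_eq_zero e P h).symm) hs₂ hc
    (fun x x' y y' => by
      rw [LinearMap.flip_apply, LinearMap.flip_apply, hform, mul_comm (f₁ y y')])
    horth hval (i₀ := 0) (i₁ := 1) (by decide) hx₀ hxx inf_le_right ?_ one_ne_zero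
    fun w hw => hermTv_mem (isUnitaryForm_hermForm hne hinv hσ) hw
      (by rw [map_one]; linear_combination h20)
  rintro g ⟨hg, hgU, -⟩
  obtain ⟨A, B, hAB⟩ := TensorNonmax.mem_tensorProductSubgroup hg
  refine ⟨B, A, fun x y => hAB y x, ?_⟩
  have hsim : ∀ x x' y y', f₁ ((A : Matrix _ _ F) *ᵥ x) ((A : Matrix _ _ F) *ᵥ x') *
      f₂ ((B : Matrix _ _ F) *ᵥ y) ((B : Matrix _ _ F) *ᵥ y') = f₁ x x' * f₂ y y' := by
    intro x x' y y'
    refine mul_left_cancel₀ hc ?_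
    rw [← hform, ← hform, ← hAB, ← hAB, mem_GU_iff_forall.mp hgU]
  obtain ⟨x₁, hx₁⟩ := hs₂.exists_left_ne_zero hx₀
  obtain ⟨ν, hν⟩ : ∃ ν, ν = f₂ ((B : Matrix _ _ F) *ᵥ x₁) ((B : Matrix _ _ F) *ᵥ x₀) := ⟨_, rfl⟩
  have hν0 : ν ≠ 0 := fun h => by
    have := hsim v₀ v₀ x₁ x₀
    rw [← hν, h, mul_zero, eq_comm] at this
    exact mul_ne_zero hv₀ hx₁ this
  obtain ⟨μ, hμdef⟩ : ∃ μ, μ = f₂ x₁ x₀ / ν := ⟨_, rfl⟩
  have hμ : μ ≠ 0 := hμdef ▸ div_ne_zero hx₁ hν0
  have hb : ∀ y y', f₁ ((A : Matrix _ _ F) *ᵥ y) ((A : Matrix _ _ F) *ᵥ y') = μ * f₁ y y' := by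
    intro y y'
    rw [hμdef, div_mul_eq_mul_div, eq_div_iff hν0, hν, mul_comm (f₂ x₁ x₀)]
    exact hsim y y' x₁ x₀
  refine exists_framePerm hs₁ horth hμ hb hval fun i => ?_
  obtain ⟨z, hz⟩ : ∃ z, z = (A : Matrix (Fin 2) (Fin 2) F) *ᵥ ![v₀, v₁] i := ⟨_, rfl⟩
  rw [← hz]
  have hzz : f₁ z z ≠ 0 := by rw [hz, hb]; exact mul_ne_zero hμ (hval i)
  by_cases c0 : f₁ z v₀ = 0
  · exact ⟨1, fun l hl => by fin_cases l <;> simp_all⟩
  by_cases c1 : f₁ z v₁ = 0
  · exact ⟨0, fun l hl => by fin_cases l <;> simp_all⟩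
  exfalso
  refine hzz ?_
  have ez := frame_expand hs₁ horth hval z
  simp only [Fin.sum_univ_two, Matrix.cons_val_zero, Matrix.cons_val_one,
    hfix _ hv₀, hfix _ hv₁, div_one] at ez
  conv_lhs => rw [ez]
  rw [hs₁.add_left, hs₁.add_right, hs₁.add_right, hs₁.smul_left, hs₁.smul_left, hs₁.smul_right,
    hs₁.smul_right, hs₁.smul_left, hs₁.smul_left, hs₁.smul_right, hs₁.smul_right, h10, h01,
    hfix _ hv₀, hfix _ hv₁, mul_one, mul_one, hnorm _ c0, hnorm _ c1]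
  linear_combination h20

end CfsgLib.MaxSub
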