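import Cfsg.Agent.MaxSub.UnitaryCentres

/-!
# Sums of norm-one multiples

With `q + 1` scalars of norm one, the squared lengths of `a + ζ b` take at least `(q + 1) / 2` values among
the `q` fixed scalars; so any four non-zero scalars have a vanishing combination with norm-one coefficients.
-/

set_option autoImplicit false
set_option linter.unusedSectionVars false

namespace CfsgLib.MaxSub.Circle

open Finset

variable {F : Type*} [Field F] [Fintype F] {q : ℕ}

/-- The involution of a field with `q²` elements, `2 ≤ q`. -/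
structure IsBar (q : ℕ) (σ : F ≃+* F) : Prop where
  eq_pow : ∀ a, σ a = a ^ q
  card : Fintype.card F = q ^ 2
  ne_refl : σ ≠ RingEquiv.refl F
  involutive : ∀ a, σ (σ a) = a

variable {σ : F ≃+* F} (h : IsBar q σ)
include h

theorem two_le : 2 ≤ q := by
  have h1 := Fintype.one_lt_card (α := F)
  rw [h.card] at h1
  by_contra hq
  interval_cases q <;> simp at h1

omit h in
/-- Scalars of norm one. -/
noncomputable def normOne (σ : F ≃+* F) : Finset F :=
  open Classical in univ.filter fun x => x * σ x = 1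

theorem mem_normOne {x : F} : x ∈ normOne σ ↔ x * σ x = 1 := by
  simp [normOne]

theorem ne_zero_of_mem {x : F} (hx : x ∈ normOne σ) : x ≠ 0 := fun e => by
  rw [mem_normOne h, e, zero_mul] at hx
  exact zero_ne_one hx

theorem one_mem : (1 : F) ∈ normOne σ := by rw [mem_normOne h, map_one, one_mul]

theorem mul_mem {x y : F} (hx : x ∈ normOne σ) (hy : y ∈ normOne σ) : x * y ∈ normOne σ := by
  rw [mem_normOne h] at hx hy ⊢
  rw [map_mul]
  linear_combination (y * σ y) * hx + hy

theorem bar_eq_inv {x : F} (hx : x ∈ normOne σ) : σ x = x⁻¹ :=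
  eq_inv_of_mul_eq_one_right ((mem_normOne h).mp hx)

theorem inv_mem {x : F} (hx : x ∈ normOne σ) : x⁻¹ ∈ normOne σ := by
  rw [mem_normOne h, map_inv₀, bar_eq_inv h hx, inv_inv, inv_mul_cancel₀ (ne_zero_of_mem h hx)]

theorem pow_mem {x : F} (hx : x ∈ normOne σ) (k : ℕ) : x ^ k ∈ normOne σ := by
  induction k with
  | zero => simpa using one_mem h
  | succ k ih => rw [pow_succ]; exact mul_mem h ih hx

theorem neg_mem {x : F} (hx : x ∈ normOne σ) : -x ∈ normOne σ := by
  rw [mem_normOne h] at hx ⊢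
  rw [map_neg, neg_mul_neg, hx]

/-- A scalar of norm one and order `q + 1`. -/
theorem exists_order : ∃ ζ ∈ normOne σ, ∀ i, i ≤ q → 0 < i → ζ ^ i ≠ 1 := by
  classical
  have hq := two_le h
  obtain ⟨g, hg⟩ := IsCyclic.exists_ofOrder_eq_natCard (α := Fˣ)
  rw [Nat.card_eq_fintype_card, Fintype.card_units, h.card] at hg
  obtain ⟨m, rfl⟩ : ∃ m, q = m + 1 := ⟨q - 1, by omega⟩
  have hm : (m + 1) ^ 2 - 1 = m * (m + 2) := by
    rw [show (m + 1) ^ 2 = m * (m + 2) + 1 by ring]; rfl
  rw [hm] at hg
  refine ⟨((g ^ m : Fˣ) : F), ?_, fun i hi hi0 hpow => ?_⟩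
  · rw [mem_normOne h, h.eq_pow, ← pow_succ', ← Units.val_pow_eq_pow_val, ← pow_mul,
      show m * (m + 1 + 1) = orderOf g by rw [hg], pow_orderOf_eq_one, Units.val_one]
  · rw [← Units.val_pow_eq_pow_val, ← pow_mul, Units.val_eq_one] at hpow
    have h1 := Nat.le_of_dvd (by nlinarith) (orderOf_dvd_of_pow_eq_one hpow)
    rw [hg] at h1
    have h2 := Nat.le_of_mul_le_mul_left h1 (by omega : 0 < m)
    omega

theorem card_normOne : q + 1 ≤ (normOne σ).card := by
  classical
  obtain ⟨ζ, hζ, hord⟩ := exists_order h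
  have h0 := ne_zero_of_mem h hζ
  refine (le_of_eq ?_).trans (card_le_card (show (range (q + 1)).image (fun i => ζ ^ i) ⊆ normOne σ from
    fun x hx => by
      rw [Finset.mem_image] at hx
      obtain ⟨i, -, rfl⟩ := hx
      exact pow_mem h hζ i))
  rw [card_image_of_injOn, card_range]
  intro i hi j hj hij
  simp only [coe_range, Set.mem_Iio] at hi hj
  rcases lt_trichotomy i j with hlt | heq | hgt
  · exfalso
    refine hord (j - i) (by omega) (by omega) (mul_left_cancel₀ (pow_ne_zero i h0) ?_)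
    rw [← pow_add, Nat.add_sub_cancel' hlt.le, mul_one]; exact hij.symm
  · exact heq
  · exfalso
    refine hord (i - j) (by omega) (by omega) (mul_left_cancel₀ (pow_ne_zero j h0) ?_)
    rw [← pow_add, Nat.add_sub_cancel' hgt.le, mul_one]; exact hij

/-- A norm-one scalar outside a given set of at most `q` elements. -/
theorem exists_normOne_notMem (s : Finset F) (hs : s.card ≤ q) : ∃ x ∈ normOne σ, x ∉ s := by
  by_contra hcon
  push Not at hcon
  have h1 := card_le_card (fun x hx => hcon x hx : normOne σ ⊆ s)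
  have h2 := card_normOne h
  omega

/-- The squared length. -/
theorem length_fixed (x : F) : σ (x * σ x) = x * σ x := by rw [map_mul, h.involutive, mul_comm]

theorem card_fixed {s : Finset F} (hs : ∀ x ∈ s, σ x = x) : s.card ≤ q := by
  classical
  have hq := two_le h
  have hsub : s.val ⊆ (Polynomial.X ^ q - Polynomial.X : Polynomial F).roots := fun x hx => by
    rw [Polynomial.mem_roots (FiniteField.X_pow_card_sub_X_ne_zero F hq)]
    simp [← h.eq_pow, hs x hx]
  have := Polynomial.card_le_degree_of_subset_roots hsub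
  rwa [FiniteField.X_pow_card_sub_X_natDegree_eq F hq] at this

theorem card_fixed_units {s : Finset F} (hs : ∀ x ∈ s, σ x = x ∧ x ≠ 0) : s.card + 1 ≤ q := by
  classical
  have := card_fixed h (s := insert 0 s) fun x hx => by
    rcases mem_insert.mp hx with rfl | hx
    · exact map_zero σ
    · exact (hs x hx).1
  rwa [card_insert_of_notMem fun h0 => (hs 0 h0).2 rfl] at this

omit h in
/-- The squared lengths of `a + ζ b`, `ζ` of norm one. -/
noncomputable def lengths (σ : F ≃+* F) (a b : F) : Finset F :=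
  open Classical in (normOne σ).image fun x => (a + x * b) * σ (a + x * b)

theorem mem_lengths {a b r : F} : r ∈ lengths σ a b ↔ ∃ x ∈ normOne σ, (a + x * b) * σ (a + x * b) = r := by
  simp [lengths]

theorem lengths_fixed {a b r : F} (hr : r ∈ lengths σ a b) : σ r = r := by
  obtain ⟨x, -, rfl⟩ := (mem_lengths h).mp hr
  exact length_fixed h _

theorem fibre {a b x y : F} (hx : x ∈ normOne σ) (hy : y ∈ normOne σ) (hab : σ a * b ≠ 0)
    (he : (a + x * b) * σ (a + x * b) = (a + y * b) * σ (a + y * b)) :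
    y = x ∨ y = a * σ b / (σ a * b * x) := by
  have hx0 := ne_zero_of_mem h hx
  have hy0 := ne_zero_of_mem h hy
  rw [map_add, map_add, map_mul, map_mul, bar_eq_inv h hx, bar_eq_inv h hy] at he
  by_cases hxy : y = x
  · exact Or.inl hxy
  refine Or.inr ((eq_div_iff (mul_ne_zero hab hx0)).mpr ?_)
  have e : (y - x) * (σ a * b * x * y - a * σ b) = 0 := by
    field_simp at he
    linear_combination -he
  linear_combination (mul_eq_zero.mp e).resolve_left (sub_ne_zero.mpr hxy)

theorem card_lengths {a b : F} (ha : a ≠ 0) (hb : b ≠ 0) : q + 1 ≤ 2 * (lengths σ a b).card := by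
  classical
  have hab : σ a * b ≠ 0 := mul_ne_zero ((map_ne_zero_iff σ σ.injective).mpr ha) hb
  refine (card_normOne h).trans (card_le_mul_card_image _ 2 fun r hr => ?_)
  obtain ⟨x, hx, rfl⟩ := Finset.mem_image.mp hr
  refine (card_le_card (t := {x, a * σ b / (σ a * b * x)}) fun y hy => ?_).trans card_le_two
  rw [mem_filter] at hy
  rcases fibre h hx hy.1 hab hy.2.symm with e | e <;> simp [e]

/-- For fixed scalars one value is taken only once. -/
theorem card_lengths_fixed {a b : F} (ha : a ≠ 0) (hb : b ≠ 0) (hfa : σ a = a) (hfb : σ b = b) :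
    q + 2 ≤ 2 * (lengths σ a b).card := by
  classical
  have hab : σ a * b ≠ 0 := mul_ne_zero ((map_ne_zero_iff σ σ.injective).mpr ha) hb
  set f := fun x => (a + x * b) * σ (a + x * b) with hf
  have hone : ∀ y ∈ normOne σ, f y = f 1 → y = 1 := fun y hy hy' => by
    rcases fibre h (one_mem h) hy hab hy'.symm with e | e
    · exact e
    · rw [e, hfa, hfb, mul_one, div_self (mul_ne_zero ha hb)]
  have h1 : ((normOne σ).erase 1).card ≤ 2 * ((lengths σ a b).erase (f 1)).card := by
    refine le_trans (card_le_mul_card_image ((normOne σ).erase 1) 2 (f := f) fun r hr => ?_)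
      (Nat.mul_le_mul_left 2 (card_le_card fun r hr => ?_))
    · obtain ⟨x, hx, rfl⟩ := Finset.mem_image.mp hr
      refine (card_le_card (t := {x, a * σ b / (σ a * b * x)}) fun y hy => ?_).trans card_le_two
      rw [mem_filter] at hy
      rcases fibre h (mem_of_mem_erase hx) (mem_of_mem_erase hy.1) hab hy.2.symm with e | e <;> simp [e]
    · obtain ⟨x, hx, rfl⟩ := Finset.mem_image.mp hr
      exact mem_erase.mpr ⟨fun e => (ne_of_mem_erase hx) (hone x (mem_of_mem_erase hx) e),
        (mem_lengths h).mpr ⟨x, mem_of_mem_erase hx, rfl⟩⟩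
  rw [card_erase_of_mem (one_mem h), card_erase_of_mem ((mem_lengths h).mpr ⟨1, one_mem h, rfl⟩)] at h1
  have h2 := card_normOne h
  have h3 : 1 ≤ (lengths σ a b).card := card_pos.mpr ⟨f 1, (mem_lengths h).mpr ⟨1, one_mem h, rfl⟩⟩
  omega

theorem exists_common {s s' : Finset F} (hs : ∀ x ∈ s, σ x = x) (hs' : ∀ x ∈ s', σ x = x)
    (hc : q + 1 ≤ 2 * s.card) (hc' : q + 1 ≤ 2 * s'.card) : ∃ r, r ∈ s ∧ r ∈ s' := by
  classical
  have h1 := card_fixed h (s := s ∪ s') fun x hx => (Finset.mem_union.mp hx).elim (hs x) (hs' x)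
  have h2 := card_union_add_card_inter s s'
  obtain ⟨r, hr⟩ : (s ∩ s').Nonempty := by rw [← card_pos]; omega
  exact ⟨r, (Finset.mem_inter.mp hr).1, (Finset.mem_inter.mp hr).2⟩

theorem exists_common_ne {s s' : Finset F} (hs : ∀ x ∈ s, σ x = x) (hs' : ∀ x ∈ s', σ x = x)
    (hc : q + 2 ≤ 2 * s.card) (hc' : q + 2 ≤ 2 * s'.card) (c : F) : ∃ r, r ∈ s ∧ r ∈ s' ∧ r ≠ c := by
  classical
  have h1 := card_fixed h (s := s ∪ s') fun x hx => (Finset.mem_union.mp hx).elim (hs x) (hs' x)
  have h2 := card_union_add_card_inter s s'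
  obtain ⟨r, hr, hr'⟩ := exists_mem_ne (show 1 < (s ∩ s').card by omega) c
  exact ⟨r, (Finset.mem_inter.mp hr).1, (Finset.mem_inter.mp hr).2, hr'⟩

/-- Equal squared lengths differ by a norm-one factor. -/
theorem exists_rot {x y : F} (he : x * σ x = y * σ y) : ∃ ρ ∈ normOne σ, ρ * x = y := by
  rcases eq_or_ne x 0 with rfl | hx
  · refine ⟨1, one_mem h, ?_⟩
    rw [zero_mul, eq_comm, mul_eq_zero, or_iff_left_iff_imp.mpr (fun hy => (map_eq_zero_iff σ σ.injective).mp hy)] at he
    rw [mul_zero, he]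
  refine ⟨y / x, ?_, div_mul_cancel₀ y hx⟩
  rw [mem_normOne h, map_div₀, div_mul_div_comm, ← he,
    div_self (mul_ne_zero hx ((map_ne_zero_iff σ σ.injective).mpr hx))]

/-- Four non-zero scalars have a vanishing norm-one combination. -/
theorem four_zero {z₁ z₂ z₃ z₄ : F} (h₁ : z₁ ≠ 0) (h₂ : z₂ ≠ 0) (h₃ : z₃ ≠ 0) (h₄ : z₄ ≠ 0) :
    ∃ a ∈ normOne σ, ∃ b ∈ normOne σ, ∃ c ∈ normOne σ, ∃ d ∈ normOne σ,
      a * z₁ + b * z₂ + c * z₃ + d * z₄ = 0 := by
  obtain ⟨r, hr, hr'⟩ := exists_common h (fun x hx => lengths_fixed h hx) (fun x hx => lengths_fixed h hx)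
    (card_lengths h h₁ h₂) (card_lengths h h₃ h₄)
  obtain ⟨x, hx, hxr⟩ := (mem_lengths h).mp hr
  obtain ⟨y, hy, hyr⟩ := (mem_lengths h).mp hr'
  obtain ⟨ρ, hρ, he⟩ := exists_rot h (hyr.trans hxr.symm)
  exact ⟨1, one_mem h, x, hx, -ρ, neg_mem h hρ, -ρ * y, mul_mem h (neg_mem h hρ) hy,
    by linear_combination -he⟩

/-- At least four non-zero scalars have a vanishing norm-one combination. -/
theorem sum_zero {ι : Type*} [DecidableEq ι] (z : ι → F) :
    ∀ (s : Finset ι), (∀ i ∈ s, z i ≠ 0) → 4 ≤ s.card →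
      ∃ d : ι → F, (∀ i, d i ∈ normOne σ) ∧ ∑ i ∈ s, d i * z i = 0 := by
  intro s
  induction s using Finset.strongInduction generalizing z with
  | H s ih =>
    intro hz hcard
    rcases Nat.lt_or_ge 4 s.card with h5 | h4
    · obtain ⟨a, ha, b, hb, hab⟩ := Finset.one_lt_card.mp (by omega : 1 < s.card)
      obtain ⟨x, hx, hx'⟩ := exists_normOne_notMem h {-z a / z b} (by simp; linarith [two_le h])
      rw [Finset.mem_singleton] at hx'
      have hne : z a + x * z b ≠ 0 := fun e => hx' (by
        rw [eq_div_iff (hz b hb)]; linear_combination e)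
      have hbm : b ∈ s := hb
      obtain ⟨d, hd, hsum⟩ := ih (s.erase b) (erase_ssubset hb) (Function.update z a (z a + x * z b))
        (fun i hi => by
          rcases eq_or_ne i a with rfl | hia
          · simpa using hne
          · rw [Function.update_of_ne hia]; exact hz i (mem_of_mem_erase hi))
        (by rw [card_erase_of_mem hb]; omega)
      refine ⟨Function.update d b (x * d a), fun i => ?_, ?_⟩
      · rcases eq_or_ne i b with rfl | hib
        · simpa using mul_mem h hx (hd a)
        · rw [Function.update_of_ne hib]; exact hd i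
      have ham : a ∈ s.erase b := mem_erase.mpr ⟨hab, ha⟩
      have e1 : ∑ i ∈ (s.erase b).erase a, d i * Function.update z a (z a + x * z b) i =
          ∑ i ∈ (s.erase b).erase a, Function.update d b (x * d a) i * z i :=
        Finset.sum_congr rfl fun i hi => by
          rw [Function.update_of_ne (ne_of_mem_erase hi),
            Function.update_of_ne (ne_of_mem_erase (mem_of_mem_erase hi))]
      rw [← Finset.add_sum_erase _ _ ham, e1, Function.update_self] at hsum
      rw [← Finset.add_sum_erase _ _ hb, ← Finset.add_sum_erase _ _ ham, Function.update_self,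
        Function.update_of_ne hab]
      linear_combination hsum
    · obtain ⟨a, b, c, e, hab, hac, hae, hbc, hbe, hce, rfl⟩ := Finset.card_eq_four.mp (by omega : s.card = 4)
      obtain ⟨x₁, hx₁, x₂, hx₂, x₃, hx₃, x₄, hx₄, hsum⟩ :=
        four_zero h (hz a (by simp)) (hz b (by simp)) (hz c (by simp)) (hz e (by simp))
      refine ⟨fun i => if i = a then x₁ else if i = b then x₂ else if i = c then x₃ else x₄, fun i => ?_, ?_⟩
      · simp only; split_ifs <;> assumption
      · rw [Finset.sum_insert (by simp [hab, hac, hae]), Finset.sum_insert (by simp [hbc, hbe]),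
          Finset.sum_insert (by simp [hce]), Finset.sum_singleton]
        simp [Ne.symm hab, Ne.symm hac, Ne.symm hae, Ne.symm hbc, Ne.symm hbe, Ne.symm hce]
        linear_combination hsum

/-- A norm-one combination of three fixed scalars equal to their non-zero sum, with distinct coefficients. -/
theorem three_sum {wa wb wc : F} (hfa : σ wa = wa) (hfb : σ wb = wb) (hfc : σ wc = wc) (ha : wa ≠ 0)
    (hb : wb ≠ 0) (hc : wc ≠ 0) (hW : wa + wb + wc ≠ 0) :
    ∃ a ∈ normOne σ, ∃ b ∈ normOne σ, ∃ c ∈ normOne σ,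
      a ≠ b ∧ a * wa + b * wb + c * wc = wa + wb + wc := by
  obtain ⟨r, hr, hr', hne⟩ := exists_common_ne h (fun x hx => lengths_fixed h hx) (fun x hx => lengths_fixed h hx)
    (card_lengths_fixed h hb ha hfb hfa)
    (card_lengths_fixed h hW (neg_ne_zero.mpr hc) (by rw [map_add, map_add, hfa, hfb, hfc])
      (by rw [map_neg, hfc])) ((wa + wb) * (wa + wb))
  obtain ⟨x, hx, hxr⟩ := (mem_lengths h).mp hr
  obtain ⟨y, hy, hyr⟩ := (mem_lengths h).mp hr'
  obtain ⟨ρ, hρ, he⟩ := exists_rot h (hxr.trans hyr.symm)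
  refine ⟨ρ * x, mul_mem h hρ hx, ρ, hρ, y, hy, fun e => hne ?_, by linear_combination he⟩
  have hx1 : x = 1 := (mul_eq_left₀ (ne_zero_of_mem h hρ)).mp e
  rw [← hxr, hx1, one_mul, map_add, hfa, hfb]
  ring

/-- Two norm-one scalars, one not one, with weighted squared distances from one cancelling. -/
theorem two_dist {wa wb : F} (hfa : σ wa = wa) (hfb : σ wb = wb) (ha : wa ≠ 0) (hb : wb ≠ 0) :
    ∃ x ∈ normOne σ, ∃ y ∈ normOne σ, x ≠ 1 ∧
      wa * ((1 - x) * σ (1 - x)) + wb * ((1 - y) * σ (1 - y)) = 0 := by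
  classical
  have hsc : ∀ w : F, σ w = w → ∀ r ∈ (lengths σ 1 (-1)).image (w * ·), σ r = r := fun w hw r hr => by
    obtain ⟨s, hs, rfl⟩ := Finset.mem_image.mp hr
    rw [map_mul, hw, lengths_fixed h hs]
  have hcard : ∀ w : F, w ≠ 0 → q + 2 ≤ 2 * ((lengths σ 1 (-1)).image (w * ·)).card := fun w hw => by
    rw [card_image_of_injective _ (mul_right_injective₀ hw)]
    exact card_lengths_fixed h one_ne_zero (neg_ne_zero.mpr one_ne_zero) (map_one σ) (by rw [map_neg, map_one])
  obtain ⟨r, hr, hr', hne⟩ := exists_common_ne h (hsc wa hfa) (hsc (-wb) (by rw [map_neg, hfb]))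
    (hcard wa ha) (hcard (-wb) (neg_ne_zero.mpr hb)) 0
  obtain ⟨s, hs, rfl⟩ := Finset.mem_image.mp hr
  obtain ⟨s', hs', hss⟩ := Finset.mem_image.mp hr'
  obtain ⟨x, hx, hxs⟩ := (mem_lengths h).mp hs
  obtain ⟨y, hy, hys⟩ := (mem_lengths h).mp hs'
  refine ⟨x, hx, y, hy, fun e => hne ?_, ?_⟩
  · rw [← hxs, e]; simp
  · have e1 : ∀ t : F, 1 + t * (-1) = 1 - t := fun t => by ring
    rw [e1] at hxs hys
    rw [hxs, hys]
    linear_combination -hss

end CfsgLib.MaxSub.Circle
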