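import Cfsg.Agent.MaxSub.UnitaryCircle

/-!
# Square classes of norm-one coefficients in vanishing combinations

For odd `q` six non-zero scalars have vanishing norm-one combinations whose coefficient product lies in
either class modulo squares.
-/

set_option autoImplicit false
set_option linter.unusedSectionVars false

namespace CfsgLib.MaxSub.Circle

open Finset

variable {F : Type*} [Field F] [Fintype F] {q : ℕ} {σ : F ≃+* F} (h : IsBar q σ)
include h

theorem pow_succ_eq_one {x : F} (hx : x ∈ normOne σ) : x ^ (q + 1) = 1 := by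
  rw [pow_succ', ← h.eq_pow]; exact (mem_normOne h).mp hx

theorem prod_mem {ι : Type*} (s : Finset ι) {d : ι → F} (hd : ∀ i ∈ s, d i ∈ normOne σ) :
    ∏ i ∈ s, d i ∈ normOne σ :=
  Finset.prod_induction _ (fun x => x ∈ normOne σ) (fun _ _ => Circle.mul_mem h) (Circle.one_mem h) hd

variable (h2 : (2 : F) ≠ 0)
include h2

theorem exists_half : ∃ m, q = 2 * m + 1 := by
  rcases Nat.even_or_odd q with ⟨k, hk⟩ | ⟨m, hm⟩
  · exfalso
    have h1 := FiniteField.odd_card_of_char_ne_two (F := F) (fun hc => h2 (by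
      have := ringChar.of_eq hc
      exact CharTwo.two_eq_zero))
    rw [h.card, hk] at h1
    rw [pow_two, show (k + k) * (k + k) = 2 * (2 * k * k) by ring] at h1
    omega
  · exact ⟨m, hm⟩

/-- The squares of the norm-one scalars are those killed by `(q + 1) / 2`. -/
theorem exists_sqrt {u : F} {m : ℕ} (hm : q = 2 * m + 1) (hu1 : u ^ (m + 1) = 1) :
    ∃ v ∈ normOne σ, v ^ 2 = u := by
  classical
  set S := (normOne σ).image fun v => v ^ 2 with hS
  set R := (univ : Finset F).filter fun x => x ^ (m + 1) = 1 with hR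
  have hSR : S ⊆ R := fun x hx => by
    rw [hS, Finset.mem_image] at hx
    obtain ⟨v, hv, rfl⟩ := hx
    rw [hR, mem_filter, ← pow_mul, show 2 * (m + 1) = q + 1 by omega]
    exact ⟨mem_univ _, pow_succ_eq_one h hv⟩
  have hRc : R.card ≤ m + 1 := by
    have hp : (Polynomial.X ^ (m + 1) - Polynomial.C 1 : Polynomial F) ≠ 0 :=
      Polynomial.X_pow_sub_C_ne_zero (by omega) _
    have hsub : R.val ⊆ (Polynomial.X ^ (m + 1) - Polynomial.C 1 : Polynomial F).roots := fun x hx => by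
      have := (mem_filter.mp (Finset.mem_def.mpr hx)).2
      rw [Polynomial.mem_roots hp]
      simp [this]
    have := Polynomial.card_le_degree_of_subset_roots hsub
    rwa [Polynomial.natDegree_X_pow_sub_C] at this
  have hSc : (normOne σ).card ≤ 2 * S.card := by
    refine card_le_mul_card_image _ 2 fun r hr => ?_
    obtain ⟨v, hv, rfl⟩ := Finset.mem_image.mp hr
    refine (card_le_card (t := {v, -v}) fun y hy => ?_).trans card_le_two
    rw [mem_filter] at hy
    rcases eq_or_eq_neg_of_sq_eq_sq y v hy.2 with e | e <;> simp [e]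
  have hq := card_normOne h
  have hu : u ∈ R := by simp [hR, hu1]
  rw [← Finset.eq_of_subset_of_card_le hSR (by omega), hS, Finset.mem_image] at hu
  obtain ⟨v, hv, rfl⟩ := hu
  exact ⟨v, hv, rfl⟩

/-- The two sums `x b + y c`, `x, y` of norm one, fill more than half of the field. -/
theorem card_two_circles {b c : F} (hb : b ≠ 0) (hc : c ≠ 0) :
    open Classical in q ^ 2 + 1 ≤ 2 * ((normOne σ ×ˢ normOne σ).image fun xy => xy.1 * b + xy.2 * c).card := by
  classical
  set T := (normOne σ ×ˢ normOne σ).image fun xy => xy.1 * b + xy.2 * c with hT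
  have hl := card_lengths h hb hc
  set L := lengths σ b c with hL
  have hfib : ∀ r ∈ L, r ≠ 0 → q + 1 ≤ (T.filter fun v => v * σ v = r).card := by
    intro r hr hr0
    obtain ⟨x, hx, hxr⟩ := (mem_lengths h).mp hr
    have hv : b + x * c ≠ 0 := fun e => hr0 (by rw [← hxr, e, zero_mul])
    refine (card_normOne h).trans (Finset.card_le_card_of_injOn (fun u => u * (b + x * c)) (fun u hu => ?_)
      fun u _ u' _ e => mul_right_cancel₀ hv e)
    have hu' := (mem_normOne h).mp hu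
    refine mem_filter.mpr ⟨Finset.mem_image.mpr ⟨(u, u * x), mem_product.mpr ⟨hu, Circle.mul_mem h hu hx⟩, by
      show u * b + u * x * c = u * (b + x * c)
      ring⟩, ?_⟩
    show u * (b + x * c) * σ (u * (b + x * c)) = r
    rw [map_mul, ← hxr]
    linear_combination (b + x * c) * σ (b + x * c) * hu'
  have hsum : (L.erase 0).card * (q + 1) + (if 0 ∈ L then 1 else 0) ≤ T.card := by
    rw [Finset.card_eq_sum_card_fiberwise (f := fun v => v * σ v) (t := T.image fun v => v * σ v)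
      (fun v hv => mem_image_of_mem _ hv)]
    have hLT : L ⊆ T.image fun v => v * σ v := fun r hr => by
      obtain ⟨x, hx, hxr⟩ := (mem_lengths h).mp hr
      refine Finset.mem_image.mpr ⟨b + x * c, Finset.mem_image.mpr ⟨(1, x), mem_product.mpr ⟨Circle.one_mem h, hx⟩, ?_⟩, hxr⟩
      simp
    refine le_trans ?_ (Finset.sum_le_sum_of_subset hLT)
    by_cases h0 : (0 : F) ∈ L
    · rw [if_pos h0, ← Finset.add_sum_erase _ _ h0, add_comm]
      refine Nat.add_le_add (card_pos.mpr ?_) ?_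
      · obtain ⟨v, hv, hv0⟩ := Finset.mem_image.mp (hLT h0)
        exact ⟨v, mem_filter.mpr ⟨hv, hv0⟩⟩
      · rw [← smul_eq_mul]
        exact Finset.card_nsmul_le_sum _ _ _ fun r hr => hfib r (mem_of_mem_erase hr) (ne_of_mem_erase hr)
    · rw [if_neg h0, Finset.erase_eq_of_notMem h0, add_zero, ← smul_eq_mul]
      exact Finset.card_nsmul_le_sum _ _ _ fun r hr => hfib r hr fun e => h0 (e ▸ hr)
  by_cases h0 : (0 : F) ∈ L
  · rw [if_pos h0, card_erase_of_mem h0] at hsum
    obtain ⟨l, hl'⟩ : ∃ l, L.card = l + 1 := ⟨L.card - 1, by have := card_pos.mpr ⟨_, h0⟩; omega⟩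
    rw [hl'] at hsum hl
    simp only [Nat.add_sub_cancel] at hsum
    nlinarith
  · rw [if_neg h0, Finset.erase_eq_of_notMem h0] at hsum
    nlinarith

/-- A translate of the two circles contains scalars of both quadratic characters. -/
theorem exists_other_class {m : ℕ} (hm : q = 2 * m + 1) {a b c κ : F} (ha : a ≠ 0) (hb : b ≠ 0) (hc : c ≠ 0) :
    ∃ x ∈ normOne σ, ∃ y ∈ normOne σ,
      a + x * b + y * c ≠ 0 ∧ (a + x * b + y * c) ^ (2 * m * (m + 1)) ≠ κ := by
  classical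
  by_contra hcon
  push Not at hcon
  set e := 2 * m * (m + 1) with he
  have hq := two_le h
  have he0 : 0 < e := by rw [he]; have : 0 < m := by omega
                         positivity
  have hqe : q ^ 2 = 2 * e + 1 := by rw [he, hm]; ring
  set S := (univ : Finset F).filter fun x => x = 0 ∨ x ^ e = κ with hS
  have hSc : S.card ≤ e + 1 := by
    have hp : (Polynomial.X ^ e - Polynomial.C κ : Polynomial F) ≠ 0 := Polynomial.X_pow_sub_C_ne_zero he0 _
    have hsub : (S.erase 0).val ⊆ (Polynomial.X ^ e - Polynomial.C κ : Polynomial F).roots := fun x hx => by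
      have hx' : x ≠ 0 ∧ x ∈ S := mem_erase.mp (Finset.mem_def.mpr hx)
      have := (mem_filter.mp hx'.2).2.resolve_left hx'.1
      rw [Polynomial.mem_roots hp]
      simp [this]
    have := Polynomial.card_le_degree_of_subset_roots hsub
    rw [Polynomial.natDegree_X_pow_sub_C] at this
    have h0 : (0 : F) ∈ S := by simp [hS]
    rw [card_erase_of_mem h0] at this
    omega
  set T := (normOne σ ×ˢ normOne σ).image fun xy => xy.1 * b + xy.2 * c with hT
  have hTc := card_two_circles h h2 hb hc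
  rw [← hT] at hTc
  have hTS : T.image (fun v => a + v) ⊆ S := fun w hw => by
    simp only [hT, Finset.mem_image, mem_product, Prod.exists] at hw
    obtain ⟨_, ⟨x, y, ⟨hx, hy⟩, rfl⟩, rfl⟩ := hw
    rw [hS, mem_filter, ← add_assoc]
    exact ⟨mem_univ _, (eq_or_ne _ 0).imp id (hcon x hx y hy)⟩
  have hTS' : T.image (fun v => a + v) = S := Finset.eq_of_subset_of_card_le hTS (by
    rw [card_image_of_injective _ (add_right_injective a)]; omega)
  have huS : ∀ u ∈ normOne σ, ∀ w ∈ S, u * w ∈ S := by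
    intro u hu w hw
    rw [hS, mem_filter] at hw ⊢
    refine ⟨mem_univ _, hw.2.imp (fun h => by rw [h, mul_zero]) fun hk => ?_⟩
    rw [mul_pow, hk, he, show 2 * m * (m + 1) = (q + 1) * m by rw [hm]; ring, pow_mul,
      pow_succ_eq_one h hu, one_pow, one_mul]
  have huT : ∀ u ∈ normOne σ, ∀ v ∈ T, u * v ∈ T := by
    intro u hu v hv
    simp only [hT, Finset.mem_image, mem_product, Prod.exists] at hv ⊢
    obtain ⟨x, y, ⟨hx, hy⟩, rfl⟩ := hv
    exact ⟨u * x, u * y, ⟨Circle.mul_mem h hu hx, Circle.mul_mem h hu hy⟩, by ring⟩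
  let P : AddSubgroup F :=
    { carrier := {t | ∀ w, w ∈ S ↔ w + t ∈ S}
      add_mem' := fun {s t} hs ht w => by rw [← add_assoc]; exact (hs w).trans (ht _)
      zero_mem' := fun w => by rw [add_zero]
      neg_mem' := fun {s} hs w => by rw [hs (w + -s), neg_add_cancel_right] }
  obtain ⟨u, hu, hu1⟩ := exists_normOne_notMem h {1} (by simp; omega)
  rw [Finset.mem_singleton] at hu1
  have htP : (1 - u) * a ∈ P := by
    have key : ∀ u ∈ normOne σ, ∀ w ∈ S, w + (1 - u) * a ∈ S := by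
      intro u hu w hw
      have h1 := huS u⁻¹ (Circle.inv_mem h hu) w hw
      rw [← hTS', Finset.mem_image] at h1 ⊢
      obtain ⟨v, hv, hv'⟩ := h1
      refine ⟨u * v, huT u hu v hv, ?_⟩
      have hw' : w = u * (a + v) := by rw [hv', mul_inv_cancel_left₀ (ne_zero_of_mem h hu)]
      rw [hw']; ring
    intro w
    refine ⟨key u hu w, fun h1 => ?_⟩
    have h4 := huS u hu _ (key u⁻¹ (Circle.inv_mem h hu) _ (huS u⁻¹ (Circle.inv_mem h hu) _ h1))
    have e : u * (u⁻¹ * (w + (1 - u) * a) + (1 - u⁻¹) * a) = w := by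
      field_simp [ne_zero_of_mem h hu]; ring
    rwa [e] at h4
  have huP : ∀ u ∈ normOne σ, ∀ t ∈ P, u * t ∈ P := by
    intro u hu t ht w
    have hu0 := ne_zero_of_mem h hu
    refine ⟨fun hw => ?_, fun hw => ?_⟩
    · have h1 := huS u hu _ ((ht _).mp (huS u⁻¹ (Circle.inv_mem h hu) _ hw))
      rwa [mul_add, mul_inv_cancel_left₀ hu0] at h1
    · have h1 := huS u⁻¹ (Circle.inv_mem h hu) _ hw
      rw [mul_add, inv_mul_cancel_left₀ hu0] at h1
      have h2' := huS u hu _ ((ht _).mpr h1)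
      rwa [mul_inv_cancel_left₀ hu0] at h2'
  have ht0 : (1 - u) * a ≠ 0 := mul_ne_zero (sub_ne_zero.mpr (Ne.symm hu1)) ha
  have hPT := card_two_circles h h2 ht0 ht0
  have hsub : (normOne σ ×ˢ normOne σ).image (fun xy => xy.1 * ((1 - u) * a) + xy.2 * ((1 - u) * a)) ⊆
      (univ : Finset F).filter (· ∈ P) := fun w hw => by
    simp only [Finset.mem_image, mem_product, Prod.exists] at hw
    obtain ⟨x, y, ⟨hx, hy⟩, rfl⟩ := hw
    exact mem_filter.mpr ⟨mem_univ _, P.add_mem (huP x hx _ htP) (huP y hy _ htP)⟩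
  have hPc : q ^ 2 + 1 ≤ 2 * Nat.card P := by
    rw [Nat.card_eq_fintype_card, Fintype.card_subtype]
    exact hPT.trans (Nat.mul_le_mul_left 2 (card_le_card hsub))
  have htop : P = ⊤ := by
    rw [← AddSubgroup.index_eq_one]
    have h1 := P.card_mul_index
    rw [Nat.card_eq_fintype_card (α := F), h.card] at h1
    have h3 : P.index ≠ 0 := fun e => by rw [e, mul_zero] at h1; nlinarith
    by_contra hne
    have : 2 ≤ P.index := by omega
    nlinarith
  have huniv : (univ : Finset F) ⊆ S := fun w _ => by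
    have hw : w ∈ P := htop ▸ AddSubgroup.mem_top w
    simpa using (hw 0).mp (by simp [hS])
  have := card_le_card huniv
  rw [card_univ, h.card] at this
  omega

/-- With a pair of different quadratic characters both classes of coefficient products occur. -/
theorem four_both {m : ℕ} (hm : q = 2 * m + 1) {z₁ z₂ z₃ z₄ ε : F} (h₁ : z₁ ≠ 0) (h₂ : z₂ ≠ 0) (h₃ : z₃ ≠ 0)
    (h₄ : z₄ ≠ 0) (hne : z₁ ^ (2 * m * (m + 1)) ≠ z₂ ^ (2 * m * (m + 1))) (hε : ε * ε = 1) :
    ∃ a ∈ normOne σ, ∃ b ∈ normOne σ, ∃ c ∈ normOne σ, ∃ d ∈ normOne σ,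
      a * z₁ + b * z₂ + c * z₃ + d * z₄ = 0 ∧ (a * b * c * d) ^ (m + 1) = ε := by
  have hσ0 : ∀ {x : F}, x ≠ 0 → σ x ≠ 0 := fun hx => (map_ne_zero_iff σ σ.injective).mpr hx
  have hqe : q ^ 2 = 2 * (2 * m * (m + 1)) + 1 := by rw [hm]; ring
  have hsign : ∀ {x : F}, x ≠ 0 → x ^ (2 * m * (m + 1)) = 1 ∨ x ^ (2 * m * (m + 1)) = -1 := fun {x} hx => by
    refine mul_self_eq_one_iff.mp ?_
    rw [← pow_two, ← pow_mul, ← FiniteField.pow_card_sub_one_eq_one x hx, h.card, hqe, Nat.add_sub_cancel, mul_comm]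
  have hone : ∀ {x : F}, x ∈ normOne σ → x ^ (m + 1) = 1 ∨ x ^ (m + 1) = -1 := fun {x} hx => by
    refine mul_self_eq_one_iff.mp ?_
    rw [← pow_two, ← pow_mul, show (m + 1) * 2 = q + 1 by omega, pow_succ_eq_one h hx]
  obtain ⟨r, hr, hr'⟩ := exists_common h (fun x hx => lengths_fixed h hx) (fun x hx => lengths_fixed h hx)
    (card_lengths h h₁ h₂) (card_lengths h h₃ h₄)
  obtain ⟨x, hx, hxr⟩ := (mem_lengths h).mp hr
  obtain ⟨y, hy, hyr⟩ := (mem_lengths h).mp hr'
  set cc := z₁ * σ z₂ / (σ z₁ * z₂) with hcc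
  have hccn : cc ∈ normOne σ := by
    rw [mem_normOne h, hcc, map_div₀, map_mul, map_mul, h.involutive, h.involutive]
    field_simp [hσ0 h₁, hσ0 h₂]
  have hccc : cc ^ (m + 1) = -1 := by
    have e1 : cc ^ (m + 1) * z₁ ^ (2 * m * (m + 1)) = z₂ ^ (2 * m * (m + 1)) := by
      have hp : ∀ z : F, z ≠ 0 → σ z = z * z ^ (2 * m) := fun z _ => by rw [h.eq_pow, hm, pow_succ']
      have hc' : cc * z₁ ^ (2 * m) = z₂ ^ (2 * m) := by
        rw [hcc, hp z₁ h₁, hp z₂ h₂]
        field_simp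
      rw [pow_mul z₁ (2 * m) (m + 1), ← mul_pow, hc', ← pow_mul]
    rcases hone hccn with e | e
    · rw [e, one_mul] at e1; exact absurd e1 hne
    · exact e
  have hx0 := ne_zero_of_mem h hx
  set x' := cc / x with hx'
  have hx'n : x' ∈ normOne σ := by
    rw [hx', div_eq_mul_inv]; exact Circle.mul_mem h hccn (Circle.inv_mem h hx)
  have hx'r : (z₁ + x' * z₂) * σ (z₁ + x' * z₂) = r := by
    rw [← hxr, map_add, map_add, map_mul, map_mul, bar_eq_inv h hx, bar_eq_inv h hx'n, hx', hcc]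
    field_simp [hσ0 h₁, hσ0 h₂]
  obtain ⟨w, hw, hwr, hwε⟩ : ∃ w ∈ normOne σ, (z₁ + w * z₂) * σ (z₁ + w * z₂) = r ∧ (w * y) ^ (m + 1) = ε := by
    have hprod : (x * y) ^ (m + 1) * (x' * y) ^ (m + 1) = -1 := by
      rw [← mul_pow, show x * y * (x' * y) = cc * (y * y) by rw [hx']; field_simp, mul_pow, hccc, ← pow_two,
        ← pow_mul, show 2 * (m + 1) = q + 1 by omega, pow_succ_eq_one h hy, mul_one]
    by_cases he : (x * y) ^ (m + 1) = ε
    · exact ⟨x, hx, hxr, he⟩
    refine ⟨x', hx'n, hx'r, ?_⟩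
    rcases mul_self_eq_one_iff.mp hε with e | e <;> rcases hone (Circle.mul_mem h hx hy) with e' | e' <;>
      rw [e'] at hprod he <;> rw [e] at he ⊢ <;>
      first
        | exact absurd rfl he
        | linear_combination hprod
        | linear_combination -hprod
  obtain ⟨ρ, hρ, he⟩ := exists_rot h (hyr.trans hwr.symm)
  refine ⟨1, Circle.one_mem h, w, hw, -ρ, Circle.neg_mem h hρ, -ρ * y,
    Circle.mul_mem h (Circle.neg_mem h hρ) hy, by linear_combination -he, ?_⟩
  rw [show 1 * w * -ρ * (-ρ * y) = w * y * ρ ^ 2 by ring, mul_pow, hwε, ← pow_mul,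
    show 2 * (m + 1) = q + 1 by omega, pow_succ_eq_one h hρ, mul_one]

/-- Six non-zero scalars have vanishing combinations in both classes. -/
theorem six_both {ι : Type*} [DecidableEq ι] (z : ι → F) {m : ℕ} (hm : q = 2 * m + 1) (s : Finset ι)
    (hz : ∀ i ∈ s, z i ≠ 0) (hcard : s.card = 6) {ε : F} (hε : ε * ε = 1) :
    ∃ d : ι → F, (∀ i, d i ∈ normOne σ) ∧ ∑ i ∈ s, d i * z i = 0 ∧ (∏ i ∈ s, d i) ^ (m + 1) = ε := by
  classical
  suffices hex : ∃ a b c e f g : ι, [a, b, c, e, f, g].Nodup ∧ [a, b, c, e, f, g].toFinset = s ∧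
      ∃ x ∈ normOne σ, ∃ y ∈ normOne σ, ∃ w, w = z a + x * z b + y * z c ∧ w ≠ 0 ∧
        ((z e) ^ (2 * m * (m + 1)) ≠ (z f) ^ (2 * m * (m + 1)) ∨
          w ^ (2 * m * (m + 1)) ≠ (z e) ^ (2 * m * (m + 1))) by
    obtain ⟨a, b, c, e, f, g, hnd, hs, x, hx, y, hy, w, hw, hw0, hdiff⟩ := hex
    have hmem : ∀ i ∈ [a, b, c, e, f, g], z i ≠ 0 := fun i hi => hz i (hs ▸ List.mem_toFinset.mpr hi)
    obtain ⟨ρ, hρ, u₁, hu₁, u₂, hu₂, u₃, hu₃, hsum, hcls⟩ : ∃ ρ ∈ normOne σ, ∃ u₁ ∈ normOne σ,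
        ∃ u₂ ∈ normOne σ, ∃ u₃ ∈ normOne σ, ρ * w + u₁ * z e + u₂ * z f + u₃ * z g = 0 ∧
          (ρ * u₁ * u₂ * u₃) ^ (m + 1) = ε * (x * y) ^ (m + 1) := by
      have hε' : ε * (x * y) ^ (m + 1) * (ε * (x * y) ^ (m + 1)) = 1 := by
        rw [mul_mul_mul_comm, hε, one_mul, ← pow_add, show m + 1 + (m + 1) = q + 1 by omega,
          pow_succ_eq_one h (Circle.mul_mem h hx hy)]
      rcases hdiff with hne | hne
      · obtain ⟨α, hα, β, hβ, γ, hγ, δ, hδ, hsum, hcls⟩ := four_both h h2 hm (hmem e (by simp)) (hmem f (by simp))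
          hw0 (hmem g (by simp)) hne hε'
        exact ⟨γ, hγ, α, hα, β, hβ, δ, hδ, by linear_combination hsum, by rw [← hcls]; congr 1; ring⟩
      · obtain ⟨α, hα, β, hβ, γ, hγ, δ, hδ, hsum, hcls⟩ := four_both h h2 hm hw0 (hmem e (by simp))
          (hmem f (by simp)) (hmem g (by simp)) hne hε'
        exact ⟨α, hα, β, hβ, γ, hγ, δ, hδ, hsum, hcls⟩
    simp only [List.nodup_cons, List.mem_cons, List.not_mem_nil, List.nodup_nil, or_false, not_or, not_false_iff,
      and_true] at hnd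
    obtain ⟨⟨ab, ac, ae, af, ag⟩, ⟨bc, be, bf, bg⟩, ⟨ce, cf, cg⟩, ⟨ef, eg⟩, fg⟩ := hnd
    refine ⟨fun i => if i = a then ρ else if i = b then ρ * x else if i = c then ρ * y else if i = e then u₁
      else if i = f then u₂ else u₃, fun i => ?_, ?_, ?_⟩
    · simp only
      split_ifs <;> first | assumption | exact Circle.mul_mem h hρ hx | exact Circle.mul_mem h hρ hy
    · subst hs
      simp [ab, ac, ae, af, ag, bc, be, bf, bg, ce, cf, cg, ef, eg, fg, Ne.symm ab, Ne.symm ac, Ne.symm ae,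
        Ne.symm af, Ne.symm ag, Ne.symm bc, Ne.symm be, Ne.symm bf, Ne.symm bg, Ne.symm ce, Ne.symm cf, Ne.symm cg,
        Ne.symm ef, Ne.symm eg, Ne.symm fg]
      linear_combination hsum + ρ * -hw
    · subst hs
      simp [ab, ac, ae, af, ag, bc, be, bf, bg, ce, cf, cg, ef, eg, fg, Ne.symm ab, Ne.symm ac, Ne.symm ae,
        Ne.symm af, Ne.symm ag, Ne.symm bc, Ne.symm be, Ne.symm bf, Ne.symm bg, Ne.symm ce, Ne.symm cf, Ne.symm cg,
        Ne.symm ef, Ne.symm eg, Ne.symm fg]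
      have e1 : ρ * (ρ * x * (ρ * y * (u₁ * (u₂ * u₃)))) = ρ * u₁ * u₂ * u₃ * (x * y) * ρ ^ 2 := by ring
      rw [e1, mul_pow, mul_pow, hcls, ← pow_mul, show 2 * (m + 1) = q + 1 by omega, pow_succ_eq_one h hρ, mul_one,
        mul_assoc, ← pow_add, show m + 1 + (m + 1) = q + 1 by omega, pow_succ_eq_one h (Circle.mul_mem h hx hy),
        mul_one]
  have hsel : ∀ e ∈ s, ∀ f ∈ s, e ≠ f → ∃ a b c g : ι, [a, b, c, e, f, g].Nodup ∧ [a, b, c, e, f, g].toFinset = s := by
    intro e he f hf hef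
    obtain ⟨a, b, c, g, hab, hac, hag, hbc, hbg, hcg, hset⟩ := Finset.card_eq_four.mp (show ((s.erase e).erase f).card = 4 by
      rw [card_erase_of_mem (mem_erase.mpr ⟨Ne.symm hef, hf⟩), card_erase_of_mem he, hcard])
    have hin : ∀ i ∈ ({a, b, c, g} : Finset ι), i ≠ f ∧ i ≠ e := fun i hi => by
      rw [← hset, mem_erase, mem_erase] at hi; exact ⟨hi.1, hi.2.1⟩
    have ha := hin a (by simp)
    have hb := hin b (by simp)
    have hc := hin c (by simp)
    have hg := hin g (by simp)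
    refine ⟨a, b, c, g, by simp [hab, hac, hag, hbc, hbg, hcg, hef, ha.1, ha.2, hb.1, hb.2, hc.1, hc.2,
      Ne.symm hg.1, Ne.symm hg.2], ?_⟩
    conv_rhs => rw [← insert_erase he, ← insert_erase (mem_erase.mpr ⟨Ne.symm hef, hf⟩), hset]
    ext i
    simp
    tauto
  by_cases hdiff : ∃ e ∈ s, ∃ f ∈ s, (z e) ^ (2 * m * (m + 1)) ≠ (z f) ^ (2 * m * (m + 1))
  · obtain ⟨e, he, f, hf, hne⟩ := hdiff
    obtain ⟨a, b, c, g, hnd, hs⟩ := hsel e he f hf fun e' => hne (by rw [e'])
    have hmem : ∀ i ∈ [a, b, c, e, f, g], z i ≠ 0 := fun i hi => hz i (hs ▸ List.mem_toFinset.mpr hi)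
    obtain ⟨x, hx, y, hy, h0, -⟩ := exists_other_class h h2 hm (κ := (0 : F))
      (hmem a (by simp)) (hmem b (by simp)) (hmem c (by simp))
    exact ⟨a, b, c, e, f, g, hnd, hs, x, hx, y, hy, _, rfl, h0, Or.inl hne⟩
  push Not at hdiff
  obtain ⟨e, he, f, hf, hef⟩ := Finset.one_lt_card.mp (by omega : 1 < s.card)
  obtain ⟨a, b, c, g, hnd, hs⟩ := hsel e he f hf hef
  have hmem : ∀ i ∈ [a, b, c, e, f, g], z i ≠ 0 := fun i hi => hz i (hs ▸ List.mem_toFinset.mpr hi)
  obtain ⟨x, hx, y, hy, h0, hk⟩ := exists_other_class h h2 hm (κ := (z e) ^ (2 * m * (m + 1)))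
    (hmem a (by simp)) (hmem b (by simp)) (hmem c (by simp))
  exact ⟨a, b, c, e, f, g, hnd, hs, x, hx, y, hy, _, rfl, h0, Or.inr hk⟩

end CfsgLib.MaxSub.Circle
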