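import Cfsg.Agent.MaxSub.UnitaryFrame
import Cfsg.Agent.MaxSub.Monomial
import Cfsg.Agent.MaxSub.LinearDecomposition

/-!
# Stabilisers of orthogonal decompositions in the special unitary group

`isMaximalIn_uDecomposition` handles members of dimension at least two: an overgroup contains the centre
`e + e'` of two isotropic vectors in different members, hence all isotropic centres in two members, hence all.
-/

set_option autoImplicit false
set_option linter.unusedSectionVars false

namespace CfsgLib.MaxSub.UC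

open Matrix Cfsg.Geo

variable {F : Type*} [Field F] [Fintype F] {n q : ℕ} {σ : F ≃+* F}

local notation "V" => (Fin n → F)
local notation "η" => Cfsg.hermForm n F q
local notation "Mat" => Matrix (Fin n) (Fin n) F
local notation "SU" => (Cfsg.GU n F q ⊓ specialLinear (Fin n) F)

variable (hf : IsUnitaryForm σ (Cfsg.hermForm n F q))
include hf

/-- Monomial matrices with entries of norm one are unitary. -/
theorem monEl_mem_GU (hσ : ∀ a, σ a = a ^ q) (φ : Equiv.Perm (Fin n)) (d : Fin n → Fˣ)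
    (hd : ∀ r, (d r : F) * σ (d r) = 1) : Monomial.monEl φ d ∈ Cfsg.GU n F q := by
  refine mem_GU_iff_forall.mpr fun x y => ?_
  show ∑ l, _ * _ ^ q = ∑ l, _ * _ ^ q
  rw [← Equiv.sum_comp φ]
  refine Finset.sum_congr rfl fun l _ => ?_
  rw [Monomial.monEl_mulVec, Monomial.monEl_mulVec, Equiv.symm_apply_apply, mul_pow, ← hσ]
  linear_combination (x l * y l ^ q) * hd l

/-- A vector with prescribed norm and product with a given vector. -/
theorem exists_norm_pairing {U : Submodule F V} (hU : IsNondegenerateOn η U)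
    (h2 : 2 ≤ Module.finrank F U) {y : V} (hy : y ∈ U) (hy0 : y ≠ 0) (m : F) {r : F} (hr : σ r = r)
    (hm : m ≠ 0 ∨ η y y ≠ 0) : ∃ a ∈ U, η y a = m ∧ η a a = r := by
  have hs := sesqForm_of_unitary hf
  by_cases hyy : η y y = 0
  · have hm0 : m ≠ 0 := hm.resolve_right fun h => h hyy
    obtain ⟨v, hv, hvv, hyv⟩ := exists_iso_pairing hf hU h2 hy hy0
    obtain ⟨u, hu⟩ := trace_surjective hf.ne_refl hf.involutive hr
    have hvy : η v y = 1 := by rw [hf.herm, hyv, map_one]
    have hσm : σ m ≠ 0 := (map_ne_zero_iff σ σ.injective).mpr hm0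
    refine ⟨σ m • v + σ (u / σ m) • y, U.add_mem (U.smul_mem _ hv) (U.smul_mem _ hy), ?_, ?_⟩
    · rw [hs.add_right, hs.smul_right, hs.smul_right, hyv, hyy, hf.involutive, mul_one, mul_zero, add_zero]
    · simp only [hs.add_left, hs.add_right, hs.smul_left, hs.smul_right, hvv, hyy, hvy, hyv, map_div₀,
        hf.involutive]
      field_simp
      linear_combination (σ m * m) * hu
  · have hne : orthIn hf U y ≠ ⊥ := fun h => by
      have := finrank_orthIn hf hy hyy
      rw [h, finrank_bot] at this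
      omega
    obtain ⟨e, he, hee⟩ := exists_norm_one hf (nondeg_orthIn hf hU hy hyy) hne
    rw [mem_orthIn] at he
    set c := σ m / η y y with hc
    have hσc : σ c = m / η y y := by rw [hc, map_div₀, hf.involutive, herm_self hf]
    obtain ⟨s, hs'⟩ := norm_surjective hf.ne_refl hf.involutive (a := r - c * σ c * η y y)
      (by rw [map_sub, hr, map_mul, map_mul, hf.involutive, herm_self hf]; ring)
    refine ⟨c • y + s • e, U.add_mem (U.smul_mem _ hy) (U.smul_mem _ he.1), ?_, ?_⟩
    · rw [hs.add_right, hs.smul_right, hs.smul_right, unitary_orth_symm hf he.2, hσc, mul_zero, add_zero,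
        div_mul_cancel₀ _ hyy]
    · simp only [hs.add_left, hs.add_right, hs.smul_left, hs.smul_right, he.2, unitary_orth_symm hf he.2, hee]
      linear_combination hs'

section

variable {t k : ℕ} {D : Fin t → Submodule F (Fin n → F)}
  (hD : IsNondegenerateMDecomposition (Cfsg.hermForm n F q) k D)
include hD

theorem dist_eq_zero {p r : Fin t} {v : V} (hpr : p ≠ r) (hp : v ∈ D p) (hr : v ∈ D r) : v = 0 := by
  by_contra h0
  obtain ⟨-, z, hz, hz'⟩ := hD.nondegenerate r v hr h0
  exact hz' (hD.orthogonal p r hpr v hp z hz)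

theorem mem_decomp_of_forall {g : GL (Fin n) F}
    (h : ∀ p, ∀ x ∈ D p, (g : Mat) *ᵥ x ∈ D p) : g ∈ decompositionStabilizer D := by
  refine ⟨1, fun p => Submodule.eq_of_le_of_finrank_le ?_ ?_⟩
  · rintro y ⟨x, hx, rfl⟩
    rw [toLin'_apply]; exact h p x hx
  · rw [Equiv.Perm.one_apply, Matrix.toLin'_apply', finrank_map_gl hf]

theorem uTv_mem_decomp {p : Fin t} {v : V} (hv : v ∈ D p) (hv0 : η v v = 0) {c : F} (hc : σ c = -c) :
    uTv q v c ∈ decompositionStabilizer D ⊓ SU := by
  refine ⟨mem_decomp_of_forall hf hD fun a x hx => ?_, uTv_mem hf hv0 hc⟩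
  rw [uTv_mulVec hf hv0]
  rcases eq_or_ne a p with rfl | hap
  · exact (D a).add_mem hx ((D a).smul_mem _ hv)
  · rw [hD.orthogonal a p hap x hx v hv, mul_zero, zero_smul, add_zero]; exact hx

/-- Moving a centre within a member, with a compensating vector. -/
theorem decomp_step {M : Subgroup (GL (Fin n) F)} (hHM : decompositionStabilizer D ⊓ SU ≤ M) {p r : Fin t}
    {x d e : V} (hd : d ∈ D p) (he : e ∈ D r) (hee : η e e ≠ 0) (hex : η e x = 0) (hed : η e d = 0)
    (hcx : CentreIn q σ M x) (hx : η x x = 0) (hxd : η x d ≠ 0) (hsum : η (x + d) (x + d) = 0) :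
    CentreIn q σ M (x + d) := by
  have hs := sesqForm_of_unitary hf
  rw [hs.add_left, hs.add_right, hs.add_right, hx, hf.herm d x, zero_add] at hsum
  set c := (η x d)⁻¹ with hc
  have hσne : σ (η x d) ≠ 0 := (map_ne_zero_iff σ σ.injective).mpr hxd
  have hcond : c + σ c + c * σ c * η d d = 0 := by
    rw [hc, map_inv₀]
    field_simp
    linear_combination hsum
  obtain ⟨R, hR, hRd, hRa⟩ := exists_quasiReflection hf hcond
  have hne : 1 + c * η d d ≠ 0 := hRd ▸ ((isUnit_iff_isUnit_det _).mp R.isUnit).ne_zero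
  set c' := ((1 + c * η d d)⁻¹ - 1) / η e e with hc'
  have hnorm : (1 + c * η d d)⁻¹ * σ (1 + c * η d d)⁻¹ = 1 := by
    rw [map_inv₀, ← mul_inv, inv_eq_one, map_add, map_one, map_mul, herm_self hf]
    linear_combination η d d * hcond
  have key : ∀ t E : F, t * σ t = 1 → E ≠ 0 → σ E = E →
      (t - 1) / E + σ ((t - 1) / E) + (t - 1) / E * σ ((t - 1) / E) * E = 0 := by
    intro t E ht hE hσE
    rw [map_div₀, map_sub, map_one, hσE]
    field_simp
    linear_combination ht
  have hcond' : c' + σ c' + c' * σ c' * η e e = 0 := key _ _ hnorm hee (herm_self hf e)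
  obtain ⟨R', hR', hR'd, hR'a⟩ := exists_quasiReflection hf hcond'
  have hxe : η x e = 0 := unitary_orth_symm hf hex
  have hde : η d e = 0 := unitary_orth_symm hf hed
  have hkeep : ∀ {v : V} {a : Fin t}, v ∈ D a → ∀ (b : Fin t) (y : V), y ∈ D b → ∀ s : F,
      y + (s * η y v) • v ∈ D b := by
    intro v a hv b y hy s
    rcases eq_or_ne b a with rfl | hba
    · exact (D b).add_mem hy ((D b).smul_mem _ hv)
    · rw [hD.orthogonal b a hba y hy v hv, mul_zero, zero_smul, add_zero]; exact hy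
  have hmove : ((R' * R : GL (Fin n) F) : Mat) *ᵥ x = x + d := by
    rw [Units.val_mul, ← mulVec_mulVec, hRa, hR'a, inv_mul_cancel₀ hxd, one_smul, hs.add_left,
      hxe, hde, add_zero, mul_zero, zero_smul, add_zero]
  have hmem : R' * R ∈ decompositionStabilizer D ⊓ SU := by
    refine ⟨mem_decomp_of_forall hf hD fun b y hy => ?_, mul_mem hR' hR, (su_det hf).mpr ?_⟩
    · rw [Units.val_mul, ← mulVec_mulVec, hR'a, hRa]
      exact hkeep he b _ (hkeep hd b y hy c) c'
    · rw [Units.val_mul, det_mul, hRd, hR'd, hc', div_mul_cancel₀ _ hee, add_sub_cancel,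
        inv_mul_cancel₀ hne]
  rw [← hmove]
  exact centreIn_map hf hcx hmem.2.1 (hHM hmem)

/-- The component of a centre in a member may be replaced by one of the same norm. -/
theorem decomp_change {M : Subgroup (GL (Fin n) F)} (hHM : decompositionStabilizer D ⊓ SU ≤ M) {p : Fin t}
    {a a' b : V} (hcomp : ∀ y ∈ D p, ∀ d ∈ D p, ∃ r, ∃ e ∈ D r, η e e ≠ 0 ∧ η e b = 0 ∧ η e y = 0 ∧ η e d = 0)
    (ha : a ∈ D p) (ha' : a' ∈ D p) (ha0 : a ≠ 0) (ha'0 : a' ≠ 0) (hb : ∀ z ∈ D p, η b z = 0)
    (hN : η a a = η a' a') (hiso : η (a + b) (a + b) = 0) (hc : CentreIn q σ M (a + b)) :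
    CentreIn q σ M (a' + b) := by
  have hs := sesqForm_of_unitary hf
  have hiso' : ∀ a₂ ∈ D p, η a₂ a₂ = η a a → η (a₂ + b) (a₂ + b) = 0 := by
    intro a₂ h₂ hN₂
    rw [hs.add_left, hs.add_right, hs.add_right, hb a₂ h₂, unitary_orth_symm hf (hb a₂ h₂), hN₂]
    rw [hs.add_left, hs.add_right, hs.add_right, hb a ha, unitary_orth_symm hf (hb a ha)] at hiso
    exact hiso
  have one : ∀ a₁ ∈ D p, ∀ a₂ ∈ D p, η a₁ a₁ = η a a → η a₂ a₂ = η a a → η a₁ a₂ ≠ η a a →
      CentreIn q σ M (a₁ + b) → CentreIn q σ M (a₂ + b) := by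
    intro a₁ h₁ a₂ h₂ hN₁ hN₂ hne hc₁
    have e : a₁ + b + (a₂ - a₁) = a₂ + b := by abel
    rw [← e]
    obtain ⟨r, w, hw, hww, hwb, hwy, hwd⟩ := hcomp a₁ h₁ (a₂ - a₁) ((D p).sub_mem h₂ h₁)
    refine decomp_step hf hD hHM ((D p).sub_mem h₂ h₁) hw hww (by rw [hs.add_right, hwy, hwb, add_zero]) hwd
      hc₁ (hiso' a₁ h₁ hN₁) ?_ ?_
    · rw [hs.add_left, hb _ ((D p).sub_mem h₂ h₁), add_zero, hs.sub_right, hN₁]
      exact sub_ne_zero.mpr hne
    · rw [e]; exact hiso' a₂ h₂ hN₂
  by_cases h1 : η a a' ≠ η a a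
  · exact one a ha a' ha' rfl hN.symm h1 hc
  rw [not_not] at h1
  rcases eq_or_ne (η a a) 0 with hN0 | hN0
  · rw [hN0] at h1
    have hU := hD.nondegenerate p
    have part : ∀ y ∈ D p, y ≠ 0 → η y y = 0 → ∃ z ∈ D p, η z z = 0 ∧ η z y = 1 := by
      intro y hy hy0 hyy
      obtain ⟨-, z, hz, hz'⟩ := hU y hy hy0
      exact exists_iso_partner hf hy hyy hz (unitary_ne_symm hf hz')
    obtain ⟨z₁, hz₁, hz₁0, hz₁a⟩ := part a ha ha0 hN0
    obtain ⟨z₂, hz₂, hz₂0, hz₂a⟩ := part a' ha' ha'0 (hN ▸ hN0)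
    obtain ⟨z, hz, hzz, hza, hza'⟩ : ∃ z ∈ D p, η z z = 0 ∧ η z a ≠ 0 ∧ η z a' ≠ 0 := by
      by_cases c₁ : η z₁ a' = 0
      · by_cases c₂ : η z₂ a = 0
        · obtain ⟨δ, hδ0, hδ⟩ := exists_traceZero hf.ne_refl hf.involutive
          obtain ⟨s, hs0, hs'⟩ : ∃ s, s ≠ 0 ∧ σ s * η z₁ z₂ + s * η z₂ z₁ = 0 := by
            rcases eq_or_ne (η z₁ z₂) 0 with h | h
            · exact ⟨1, one_ne_zero, by rw [h, unitary_orth_symm hf h, mul_zero, mul_zero, add_zero]⟩
            · refine ⟨δ * η z₁ z₂, mul_ne_zero hδ0 h, ?_⟩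
              rw [map_mul, hδ, ← hf.herm z₂ z₁]
              ring
          refine ⟨z₁ + s • z₂, (D p).add_mem hz₁ ((D p).smul_mem _ hz₂), ?_, ?_, ?_⟩
          · simp only [hs.add_left, hs.add_right, hs.smul_left, hs.smul_right, hz₁0, hz₂0]
            linear_combination hs'
          · rw [hs.add_left, hs.smul_left, c₂, mul_zero, add_zero, hz₁a]; exact one_ne_zero
          · rw [hs.add_left, hs.smul_left, c₁, zero_add, hz₂a, mul_one]; exact hs0
        · exact ⟨z₂, hz₂, hz₂0, c₂, by rw [hz₂a]; exact one_ne_zero⟩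
      · exact ⟨z₁, hz₁, hz₁0, by rw [hz₁a]; exact one_ne_zero, c₁⟩
    refine one z hz a' ha' (hzz.trans hN0.symm) hN.symm (by rwa [hN0]) ?_
    exact one a ha z hz rfl (hzz.trans hN0.symm) (by rw [hN0]; exact unitary_ne_symm hf hza) hc
  · obtain ⟨d, hd⟩ := exists_moved hf.ne_refl
    have hσd : σ d ≠ 0 := fun h => hd (h.trans ((map_eq_zero_iff σ σ.injective).mp h).symm)
    set ζ := d / σ d with hζ
    have hd0 : d ≠ 0 := fun h => hd (by rw [h, map_zero])
    have hζ1 : ζ ≠ 1 := fun h => hd ((div_eq_one_iff_eq hσd).mp h).symm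
    have hζn : ζ * σ ζ = 1 := by
      rw [hζ, map_div₀, hf.involutive]; field_simp
    have hNz : η (ζ • a) (ζ • a) = η a a := by
      rw [hs.smul_left, hs.smul_right, ← mul_assoc, hζn, one_mul]
    refine one (ζ • a) ((D p).smul_mem _ ha) a' ha' hNz hN.symm ?_ ?_
    · rw [hs.smul_left, h1]
      exact fun h => hζ1 ((mul_eq_right₀ hN0).mp h)
    · refine one a ha (ζ • a) ((D p).smul_mem _ ha) rfl hNz ?_ hc
      rw [hs.smul_right]
      exact fun h => hζ1 (σ.injective (((mul_eq_right₀ hN0).mp h).trans (map_one σ).symm))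

/-- Elements of the stabiliser permuting the members arbitrarily. -/
theorem exists_perm_decomp (hσ : ∀ a, σ a = a ^ q) (π : Equiv.Perm (Fin t)) :
    ∃ T ∈ decompositionStabilizer D ⊓ SU, ∀ p, (D p).map (toLin' (T : Mat)) = D (π p) := by
  classical
  obtain ⟨P, e, hP, hDP⟩ := exists_adapted hf hD
  set φ : Equiv.Perm (Fin n) := (e.symm.trans (Equiv.prodCongr π (Equiv.refl (Fin k)))).trans e with hφ
  have hpos := hD.decomp.pos
  have ht := hD.decomp.two_le
  set x₀ : Fin n := e (⟨0, by omega⟩, ⟨0, hpos⟩)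
  set S : Fˣ := Units.map (Int.castRingHom F).toMonoidHom (Equiv.Perm.sign φ) with hS
  have hSS : (S : F) * σ (S : F) = 1 := by
    rcases Int.units_eq_one_or (Equiv.Perm.sign φ) with h | h <;> simp [hS, h]
  set d : Fin n → Fˣ := fun r => if r = x₀ then S⁻¹ else 1 with hd
  have hdn : ∀ r, (d r : F) * σ (d r) = 1 := fun r => by
    by_cases hr : r = x₀
    · simp only [hd, if_pos hr, Units.val_inv_eq_inv_val, map_inv₀, ← mul_inv, hSS, inv_one]
    · simp [hd, hr]
  set m := Monomial.monEl φ d with hm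
  have hmdet : (m : Mat).det = 1 := by
    rw [hm, Monomial.det_monEl, ← Units.coe_prod, hd, Finset.prod_ite_eq' _ x₀, if_pos (Finset.mem_univ _)]
    show ((S : Fˣ) : F) * _ = 1
    simp
  set T := P * m * P⁻¹ with hT
  have hTu : ∀ p r, (T : Mat) *ᵥ ((P : Mat) *ᵥ Pi.single (e (p, r)) 1) =
      (d (e (p, r)) : F) • ((P : Mat) *ᵥ Pi.single (e (π p, r)) 1) := by
    intro p r
    rw [hT, Units.val_mul, Units.val_mul, mulVec_mulVec, Matrix.mul_assoc, Units.inv_mul, Matrix.mul_one,
      ← mulVec_mulVec, hm, Monomial.monEl_single, mulVec_smul]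
    simp [hφ]
  have hmap : ∀ p, (D p).map (toLin' (T : Mat)) = D (π p) := by
    intro p
    refine Submodule.eq_of_le_of_finrank_le ?_ (by
      rw [Matrix.toLin'_apply', finrank_map_gl hf, hD.decomp.finrank_eq, hD.decomp.finrank_eq])
    rw [hDP p, Submodule.map_span, Submodule.span_le]
    rintro _ ⟨_, ⟨r, rfl⟩, rfl⟩
    rw [toLin'_apply, hTu, hDP (π p)]
    exact Submodule.smul_mem _ _ (Submodule.subset_span ⟨r, rfl⟩)
  refine ⟨T, ⟨⟨π, hmap⟩, ?_, (su_det hf).mpr ?_⟩, hmap⟩
  · exact (Cfsg.GU n F q).mul_mem ((Cfsg.GU n F q).mul_mem hP (monEl_mem_GU hf hσ φ d hdn)) ((Cfsg.GU n F q).inv_mem hP)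
  · rw [hT, Units.val_mul, Units.val_mul, det_units_conj, hmdet]

end

/-- There is a fixed scalar other than `0` and `-1` unless `q = 2`. -/
theorem exists_fixed_scalar (hσ : ∀ a, σ a = a ^ q) (hF : Fintype.card F = q ^ 2) (hq : q ≠ 2) :
    ∃ s : F, σ s = s ∧ s ≠ 0 ∧ s ≠ -1 := by
  classical
  by_contra hcon
  push Not at hcon
  obtain ⟨g, hg⟩ := IsCyclic.exists_ofOrder_eq_natCard (α := Fˣ)
  rw [Nat.card_eq_fintype_card, Fintype.card_units, hF] at hg
  have h1 : (1 : F) = -1 := hcon 1 (map_one σ) one_ne_zero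
  have hg0 := g.ne_zero
  have hN : (g : F) * σ (g : F) = 1 := by
    rw [h1]
    exact hcon _ (by rw [map_mul, hf.involutive, mul_comm])
      (mul_ne_zero hg0 ((map_ne_zero_iff σ σ.injective).mpr hg0))
  rw [hσ, ← pow_succ'] at hN
  have h2 := Nat.le_of_dvd (Nat.succ_pos q)
    (orderOf_dvd_of_pow_eq_one (Units.ext (by simpa using hN) : g ^ (q + 1) = 1))
  rw [hg] at h2
  have hF1 := Fintype.one_lt_card (α := F)
  rw [hF] at hF1
  have hq2 : 2 ≤ q := by
    by_contra h
    interval_cases q <;> simp at hF1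
  have h3 : 3 ≤ q := by omega
  have h4 : 3 * q ≤ q ^ 2 := by rw [pow_two]; exact Nat.mul_le_mul_right q h3
  omega

set_option maxHeartbeats 1000000 in
/-- The stabiliser of an orthogonal decomposition with members of dimension at least two is maximal in `SU`. -/
theorem isMaximalIn_uDecomposition (hσ : ∀ a, σ a = a ^ q) (hF : Fintype.card F = q ^ 2) (hn : 6 ≤ n)
    {t k : ℕ} {D : Fin t → Submodule F (Fin n → F)} (hD : IsNondegenerateMDecomposition η k D) (hk : 2 ≤ k)
    (hex : ¬ (k = 2 ∧ q = 2)) : IsMaximalIn SU (decompositionStabilizer D ⊓ SU) := by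
  classical
  have hs := sesqForm_of_unitary hf
  obtain ⟨δ, hδ0, hδ⟩ := exists_traceZero hf.ne_refl hf.involutive
  have hU := hD.nondegenerate
  have hdim : ∀ p, 2 ≤ Module.finrank F (D p) := fun p => by rw [hD.decomp.finrank_eq]; exact hk
  have htk : t * k = n := by
    obtain ⟨-, e, -, -⟩ := exists_adapted hf hD
    simpa using Fintype.card_congr e
  have ht := hD.decomp.two_le
  have horth := hD.orthogonal
  have hsl : ∀ (s : Finset (Fin t)) (c : Fin t → V) (z : V), η (∑ p ∈ s, c p) z = ∑ p ∈ s, η (c p) z := by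
    intro s c z
    induction s using Finset.induction_on with
    | empty => simp [hs.zero_left]
    | insert a s ha ih => rw [Finset.sum_insert ha, Finset.sum_insert ha, hs.add_left, ih]
  have hiso_ne : ∀ p, ∃ v ∈ D p, v ≠ 0 ∧ η v v = 0 := fun p => exists_iso_mem hf (D p) (hdim p)
  refine isMaximalIn_of inf_le_right ?_ fun M hHM hMK g hg hg' => ?_
  · obtain ⟨a, ha, ha0, haa⟩ := hiso_ne ⟨0, by omega⟩
    obtain ⟨b, hb, hb0, hbb⟩ := hiso_ne ⟨1, by omega⟩
    have h01 : (⟨0, by omega⟩ : Fin t) ≠ ⟨1, by omega⟩ := by simp [Fin.ext_iff]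
    have hab : η (a + b) (a + b) = 0 := by
      rw [hs.add_left, hs.add_right, hs.add_right, haa, hbb, horth _ _ h01 a ha b hb,
        horth _ _ (Ne.symm h01) b hb a ha]
      ring
    refine ⟨uTv q (a + b) δ, uTv_mem hf hab hδ, fun h => ?_⟩
    obtain ⟨π, hπ⟩ := h.1
    obtain ⟨z, hz, hzz, haz⟩ := exists_iso_pairing hf (hU _) (hdim _) ha ha0
    have hza : η z a = 1 := by rw [hf.herm, haz, map_one]
    have hzb : η z b = 0 := horth _ _ h01 z hz b hb
    have hmem : z + δ • (a + b) ∈ D (π ⟨0, by omega⟩) := by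
      rw [← hπ]
      refine ⟨z, hz, ?_⟩
      rw [toLin'_apply, uTv_mulVec hf hab, hs.add_right, hza, hzb, add_zero, mul_one]
    by_cases hp : π ⟨0, by omega⟩ = ⟨0, by omega⟩
    · rw [hp, smul_add, ← add_assoc, Submodule.add_mem_iff_right _ ((D _).add_mem hz ((D _).smul_mem _ ha)),
        Submodule.smul_mem_iff _ hδ0] at hmem
      exact hb0 (dist_eq_zero hf hD (Ne.symm h01) hb hmem)
    · have e1 := horth _ _ hp _ hmem a ha
      rw [hs.add_left, hs.smul_left, hs.add_left, hza, haa, horth _ _ (Ne.symm h01) b hb a ha, add_zero,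
        mul_zero, add_zero] at e1
      exact one_ne_zero e1
  have hgs : g ∈ Cfsg.GU n F q := (hMK hg).1
  have hcD : ∀ p, ∀ v ∈ D p, η v v = 0 → CentreIn q σ M v :=
    fun p v hv hv0 c hc => hHM (uTv_mem_decomp hf hD hv hv0 hc)
  -- an isotropic vector of a member leaving all members
  obtain ⟨i, v, hv, hvv, hv'⟩ : ∃ i, ∃ v ∈ D i, η v v = 0 ∧ ∀ p, (g : Mat) *ᵥ v ∉ D p := by
    by_contra hcon
    push Not at hcon
    have hone : ∀ i, ∃ p, ∀ u ∈ D i, (g : Mat) *ᵥ u ∈ D p := by
      intro i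
      obtain ⟨v₀, hv₀, hv₀0, hv₀v⟩ := hiso_ne i
      obtain ⟨p, hp⟩ := hcon i v₀ hv₀ hv₀v
      refine ⟨p, ?_⟩
      have hiso : ∀ u ∈ D i, η u u = 0 → η u v₀ ≠ 0 → (g : Mat) *ᵥ u ∈ D p := by
        intro u hu huu hne
        obtain ⟨r, hr⟩ := hcon i u hu huu
        rcases eq_or_ne r p with rfl | hrp
        · exact hr
        · exact absurd (by rw [← mem_GU_iff_forall.mp hgs]; exact horth r p hrp _ hr _ hp) hne
      have hnon : ∀ u ∈ D i, η u v₀ ≠ 0 → (g : Mat) *ᵥ u ∈ D p := by
        intro u hu hne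
        obtain ⟨s, h1, h2⟩ := exists_iso_shift hf hv₀v hne
        have := hiso _ ((D i).add_mem hu ((D i).smul_mem s hv₀)) h1 (by rw [h2]; exact hne)
        rw [mulVec_add, mulVec_smul, Submodule.add_mem_iff_left _ ((D p).smul_mem _ hp)] at this
        exact this
      intro u hu
      by_cases hne : η u v₀ = 0
      · obtain ⟨z, hz, -, hzv⟩ := exists_iso_pairing hf (hU i) (hdim i) hv₀ hv₀0
        have hz1 : η z v₀ = 1 := by rw [hf.herm, hzv, map_one]
        have h1 := hnon z hz (by rw [hz1]; exact one_ne_zero)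
        have h2 := hnon (u + z) ((D i).add_mem hu hz) (by rw [hs.add_left, hne, hz1, zero_add]; exact one_ne_zero)
        rwa [mulVec_add, Submodule.add_mem_iff_left _ h1] at h2
      · exact hnon u hu hne
    choose π hπ using hone
    have hmap : ∀ i, (D i).map (toLin' (g : Mat)) = D (π i) := fun i =>
      Submodule.eq_of_le_of_finrank_le (by
        rintro y ⟨x, hx, rfl⟩
        rw [toLin'_apply]; exact hπ i x hx) (by
        rw [Matrix.toLin'_apply', finrank_map_gl hf, hD.decomp.finrank_eq, hD.decomp.finrank_eq])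
    have hinj : Function.Injective π := by
      intro p r hpr
      by_contra hne
      obtain ⟨u, hu, hu0, -⟩ := hiso_ne p
      have : toLin' (g : Mat) u ∈ (D r).map (toLin' (g : Mat)) := by
        rw [hmap r, ← hpr, ← hmap p]; exact Submodule.mem_map_of_mem hu
      obtain ⟨w, hw, hwe⟩ := this
      rw [toLin'_apply, toLin'_apply] at hwe
      have : w = u := mulVec_injective_iff_isUnit.mpr g.isUnit hwe
      exact hu0 (dist_eq_zero hf hD hne hu (this ▸ hw))
    exact hg' ⟨⟨Equiv.ofBijective π (Finite.injective_iff_bijective.mp hinj), hmap⟩, hMK hg⟩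
  set x := (g : Mat) *ᵥ v with hxdef
  have hcx : CentreIn q σ M x := centreIn_map hf (hcD i v hv hvv) hgs hg
  have hxx : η x x = 0 := by rw [hxdef, mem_GU_iff_forall.mp hgs]; exact hvv
  -- components
  have hdec : ∀ y : V, ∃ c : Fin t → V, (∀ p, c p ∈ D p) ∧ ∑ p, c p = y := by
    intro y
    have hy : y ∈ iSup D := by rw [hD.decomp.iSup_eq_top]; exact Submodule.mem_top
    induction hy using Submodule.iSup_induction' with
    | mem p y hy =>
      refine ⟨Pi.single p y, fun r => ?_, by simp [Finset.sum_pi_single']⟩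
      rcases eq_or_ne r p with rfl | h
      · simpa using hy
      · simp [h]
    | zero => exact ⟨0, fun p => (D p).zero_mem, by simp⟩
    | add u w _ _ hu hw =>
      obtain ⟨c, hc, hc'⟩ := hu
      obtain ⟨c', hc₁, hc₂⟩ := hw
      exact ⟨c + c', fun p => (D p).add_mem (hc p) (hc₁ p), by
        rw [show ∑ p, (c + c') p = ∑ p, c p + ∑ p, c' p from Finset.sum_add_distrib, hc', hc₂]⟩
  obtain ⟨c, hc, hcsum⟩ := hdec x
  have hxc : ∀ p, ∀ u ∈ D p, η x u = η (c p) u := by
    intro p u hu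
    rw [← hcsum, hsl, Finset.sum_eq_single p]
    · exact fun r _ hr => horth r p hr _ (hc r) u hu
    · simp
  obtain ⟨j, hj⟩ : ∃ j, c j ≠ 0 := by
    by_contra hcon
    push Not at hcon
    exact hv' i (by rw [← hcsum, Finset.sum_eq_zero fun p _ => hcon p]; exact (D i).zero_mem)
  obtain ⟨l, hlj, hl⟩ : ∃ l, l ≠ j ∧ c l ≠ 0 := by
    by_contra hcon
    push Not at hcon
    exact hv' j (by rw [← hcsum, Finset.sum_eq_single j (fun p _ hp => hcon p hp) (by simp)]; exact hc j)
  -- compensating vectors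
  have hcomp : ∀ (p r r' : Fin t), r ≠ p → r' ≠ p → (r = r' ∨ 3 ≤ k) → ∀ b₁ ∈ D r, ∀ b₂ ∈ D r', ∀ y ∈ D p,
      ∀ d ∈ D p, ∃ w, ∃ e ∈ D w, η e e ≠ 0 ∧ η e (b₁ + b₂) = 0 ∧ η e y = 0 ∧ η e d = 0 := by
    intro p r r' hr hr' hrk b₁ hb₁ b₂ hb₂ y hy d hd
    by_cases hw : ∃ w, w ≠ p ∧ w ≠ r ∧ w ≠ r'
    · obtain ⟨w, h1, h2, h3⟩ := hw
      obtain ⟨e, he, hee⟩ := exists_norm_one hf (hU w) fun h => by
        have := hdim w; rw [h, finrank_bot] at this; omega
      refine ⟨w, e, he, by rw [hee]; exact one_ne_zero, ?_, horth w p h1 e he y hy, horth w p h1 e he d hd⟩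
      rw [hs.add_right, horth w r h2 e he b₁ hb₁, horth w r' h3 e he b₂ hb₂, add_zero]
    · have hk3 : 3 ≤ k := by
        rcases hrk with rfl | h
        · by_contra hk3
          have h4 : (Finset.univ : Finset (Fin t)) ⊆ {p, r} := fun w _ => by
            by_contra hw'
            simp only [Finset.mem_insert, Finset.mem_singleton, not_or] at hw'
            exact hw ⟨w, hw'.1, hw'.2, hw'.2⟩
          have ht2 : t ≤ 2 := by
            have := (Finset.card_le_card h4).trans Finset.card_le_two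
            simpa using this
          have : t * k ≤ 2 * 2 := Nat.mul_le_mul ht2 (by omega)
          omega
        · exact h
      have h3 : 3 ≤ Module.finrank F (D r) := by rw [hD.decomp.finrank_eq]; exact hk3
      rcases eq_or_ne r r' with rfl | hrr
      · obtain ⟨e, he, hee, heb⟩ := exists_norm_one_orth_one hf (hU r) h3 (b₁ + b₂)
        exact ⟨r, e, he, by rw [hee]; exact one_ne_zero, heb, horth r p hr e he y hy, horth r p hr e he d hd⟩
      · obtain ⟨e, he, hee, heb⟩ := exists_norm_one_orth_one hf (hU r) h3 b₁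
        refine ⟨r, e, he, by rw [hee]; exact one_ne_zero, ?_, horth r p hr e he y hy, horth r p hr e he d hd⟩
        rw [hs.add_right, heb, horth r r' hrr e he b₂ hb₂, add_zero]
  have hiso2 : ∀ {p r : Fin t}, p ≠ r → ∀ a ∈ D p, ∀ b ∈ D r, η (a + b) (a + b) = η a a + η b b := by
    intro p r hpr a ha b hb
    rw [hs.add_left, hs.add_right, hs.add_right, horth p r hpr a ha b hb, horth r p (Ne.symm hpr) b hb a ha]
    ring
  have hchange : ∀ {p r : Fin t}, r ≠ p → ∀ a ∈ D p, ∀ a' ∈ D p, ∀ b ∈ D r, a ≠ 0 → a' ≠ 0 →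
      η a a = η a' a' → η (a + b) (a + b) = 0 → CentreIn q σ M (a + b) → CentreIn q σ M (a' + b) := by
    intro p r hrp a ha a' ha' b hb ha0 ha'0 hN hiso hc'
    refine decomp_change hf hD hHM (fun y hy d hd => ?_) ha ha' ha0 ha'0 (fun z hz => horth r p hrp b hb z hz)
      hN hiso hc'
    simpa using hcomp p r r hrp hrp (Or.inl rfl) b hb 0 (D r).zero_mem y hy d hd
  -- two isotropic vectors in different members
  obtain ⟨j₀, l₀, hjl, e₁, he₁, e₂, he₂, he₁0, he₂0, he₁₁, he₂₂, hce⟩ : ∃ (j₀ l₀ : Fin t), j₀ ≠ l₀ ∧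
      ∃ e₁ ∈ D j₀, ∃ e₂ ∈ D l₀, e₁ ≠ 0 ∧ e₂ ≠ 0 ∧ η e₁ e₁ = 0 ∧ η e₂ e₂ = 0 ∧
        CentreIn q σ M (e₁ + e₂) := by
    obtain ⟨v₁, hv₁, hv₁v, hjv⟩ := exists_iso_pairing hf (hU j) (hdim j) (hc j) hj
    obtain ⟨v₂, hv₂, hv₂v, hlv⟩ := exists_iso_pairing hf (hU l) (hdim l) (hc l) hl
    rw [← hxc j v₁ hv₁] at hjv
    rw [← hxc l v₂ hv₂] at hlv
    have hv12 : η v₁ v₂ = 0 := horth j l (Ne.symm hlj) v₁ hv₁ v₂ hv₂
    have hv21 : η v₂ v₁ = 0 := unitary_orth_symm hf hv12
    have hne₁ : v₁ ≠ 0 := fun h => by rw [h, hs.zero_right] at hjv; exact zero_ne_one hjv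
    have hne₂ : v₂ ≠ 0 := fun h => by rw [h, hs.zero_right] at hlv; exact zero_ne_one hlv
    by_cases hq : q = 2
    swap
    · obtain ⟨s, hσs, hs0, hs1⟩ := exists_fixed_scalar hf hσ hF hq
      have hsδ : σ (s * δ) = -(s * δ) := by rw [map_mul, hσs, hδ, mul_neg]
      have h1 := centreIn_map hf hcx (uTv_mem hf hv₁v hδ).1 (hHM (uTv_mem_decomp hf hD hv₁ hv₁v hδ))
      have h2 := centreIn_map hf h1 (uTv_mem hf hv₂v hsδ).1 (hHM (uTv_mem_decomp hf hD hv₂ hv₂v hsδ))
      rw [uTv_mulVec hf hv₁v, hjv, mul_one, uTv_mulVec hf hv₂v, hs.add_left, hs.smul_left, hlv, hv12,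
        mul_zero, add_zero, mul_one] at h2
      refine ⟨j, l, Ne.symm hlj, δ • v₁, (D j).smul_mem _ hv₁, (s * δ) • v₂, (D l).smul_mem _ hv₂,
        smul_ne_zero hδ0 hne₁, smul_ne_zero (mul_ne_zero hs0 hδ0) hne₂,
        by rw [hs.smul_left, hs.smul_right, hv₁v, mul_zero, mul_zero],
        by rw [hs.smul_left, hs.smul_right, hv₂v, mul_zero, mul_zero], ?_⟩
      have h3 := centreIn_add hf (centreIn_smul hf hcx (-1)) h2
        (by rw [hs.smul_left, hs.smul_right, hxx, mul_zero, mul_zero]) ?_ ?_ ?_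
      · convert h3 using 1
        module
      · simp only [hs.add_left, hs.add_right, hs.smul_left, hs.smul_right, hxx, hjv, hlv, hv₁v, hv₂v, hv12,
          hv21, hf.herm v₁ x, hf.herm v₂ x, map_one, hδ, hsδ]
        ring
      · simp only [hs.add_right, hs.smul_left, hs.smul_right, hxx, hjv, hlv, hδ, hsδ]
        intro h0
        have : δ * (1 + s) = 0 := by linear_combination h0
        rcases mul_eq_zero.mp this with h | h
        · exact hδ0 h
        · exact hs1 (eq_neg_of_add_eq_zero_right h)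
      · rw [show (-1 : F) • x + (x + δ • v₁ + (s * δ) • v₂) = δ • v₁ + (s * δ) • v₂ by module]
        simp only [hs.add_left, hs.add_right, hs.smul_left, hs.smul_right, hv₁v, hv₂v, hv12, hv21]
        ring
    have hk3 : 3 ≤ k := by
      by_contra h
      exact hex ⟨by omega, hq⟩
    have h2F : (2 : F) = 0 := by
      have h := FiniteField.cast_card_eq_zero F
      rw [hF, hq] at h
      norm_num at h
      have h4 : (2 : F) * 2 = 0 := by norm_num; exact h
      exact (mul_self_eq_zero).mp h4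
    by_cases hthree : ∃ m, m ≠ j ∧ m ≠ l ∧ c m ≠ 0
    · obtain ⟨m, hmj, hml, hm⟩ := hthree
      obtain ⟨v₃, hv₃, hv₃v, hmv⟩ := exists_iso_pairing hf (hU m) (hdim m) (hc m) hm
      rw [← hxc m v₃ hv₃] at hmv
      have hne₃ : v₃ ≠ 0 := fun h => by rw [h, hs.zero_right] at hmv; exact zero_ne_one hmv
      have hv13 : η v₁ v₃ = 0 := horth j m (Ne.symm hmj) v₁ hv₁ v₃ hv₃
      have hv23 : η v₂ v₃ = 0 := horth l m (Ne.symm hml) v₂ hv₂ v₃ hv₃
      have hv31 := unitary_orth_symm hf hv13
      have hv32 := unitary_orth_symm hf hv23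
      have h1 := centreIn_map hf hcx (uTv_mem hf hv₁v hδ).1 (hHM (uTv_mem_decomp hf hD hv₁ hv₁v hδ))
      have h2 := centreIn_map hf h1 (uTv_mem hf hv₂v hδ).1 (hHM (uTv_mem_decomp hf hD hv₂ hv₂v hδ))
      have h3 := centreIn_map hf h2 (uTv_mem hf hv₃v hδ).1 (hHM (uTv_mem_decomp hf hD hv₃ hv₃v hδ))
      rw [uTv_mulVec hf hv₁v, hjv, mul_one, uTv_mulVec hf hv₂v, hs.add_left, hs.smul_left, hlv, hv12,
        mul_zero, add_zero, mul_one, uTv_mulVec hf hv₃v, hs.add_left, hs.add_left, hs.smul_left, hs.smul_left,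
        hmv, hv13, hv23, mul_zero, add_zero, add_zero, mul_one] at h3
      set u₁ := δ • v₁ with hu₁
      set u₂ := δ • v₂ with hu₂
      set u₃ := δ • v₃ with hu₃
      have hu₁D : u₁ ∈ D j := (D j).smul_mem _ hv₁
      have hu₂D : u₂ ∈ D l := (D l).smul_mem _ hv₂
      have hu₃D : u₃ ∈ D m := (D m).smul_mem _ hv₃
      have huu : ∀ w : V, η w w = 0 → η (δ • w) (δ • w) = 0 := fun w hw => by
        rw [hs.smul_left, hs.smul_right, hw, mul_zero, mul_zero]
      have huu₁ := huu v₁ hv₁v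
      have huu₂ := huu v₂ hv₂v
      have huu₃ := huu v₃ hv₃v
      rw [← hu₁] at huu₁; rw [← hu₂] at huu₂; rw [← hu₃] at huu₃
      have o12 := horth j l (Ne.symm hlj) u₁ hu₁D u₂ hu₂D
      have o13 := horth j m (Ne.symm hmj) u₁ hu₁D u₃ hu₃D
      have o23 := horth l m (Ne.symm hml) u₂ hu₂D u₃ hu₃D
      have o21 := unitary_orth_symm hf o12
      have o31 := unitary_orth_symm hf o13
      have o32 := unitary_orth_symm hf o23
      have htriple : CentreIn q σ M (u₁ + (u₂ + u₃)) := by
        have h4 := centreIn_add hf (centreIn_smul hf hcx (-1)) h3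
          (by rw [hs.smul_left, hs.smul_right, hxx, mul_zero, mul_zero]) ?_ ?_ ?_
        · convert h4 using 1
          module
        · have e1 : η v₁ x = 1 := by rw [hf.herm, hjv, map_one]
          have e2 : η v₂ x = 1 := by rw [hf.herm, hlv, map_one]
          have e3 : η v₃ x = 1 := by rw [hf.herm, hmv, map_one]
          simp only [hu₁, hu₂, hu₃, hs.add_left, hs.add_right, hs.smul_left, hs.smul_right, hxx, hjv, hlv, hmv,
            e1, e2, e3, hv₁v, hv₂v, hv₃v, hv12, hv21, hv13, hv31, hv23, hv32, hδ]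
          ring
        · simp only [hu₁, hu₂, hu₃, hs.add_right, hs.smul_left, hs.smul_right, hxx, hjv, hlv, hmv, hδ]
          intro h0
          exact hδ0 (by linear_combination h0 - δ * h2F)
        · rw [show (-1 : F) • x + (x + u₁ + u₂ + u₃) = u₁ + u₂ + u₃ by module]
          simp only [hs.add_left, hs.add_right, huu₁, huu₂, huu₃, o12, o13, o23, o21, o31, o32]
          ring
      -- from three members to two
      obtain ⟨f₁, hf₁, hf₁f, hef⟩ := exists_iso_pairing hf (hU j) (hdim j) hu₁D (smul_ne_zero hδ0 hne₁)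
      have hf₁0 : f₁ ≠ 0 := fun h => by rw [h, hs.zero_right] at hef; exact zero_ne_one hef
      have hfe : η f₁ u₁ = 1 := by rw [hf.herm, hef, map_one]
      obtain ⟨d, hd⟩ := exists_moved hf.ne_refl
      have hσd : σ d ≠ 0 := fun h => hd (h.trans ((map_eq_zero_iff σ σ.injective).mp h).symm)
      set ζ := d / σ d with hζ
      have hd0 : d ≠ 0 := fun h => hd (by rw [h, map_zero])
      have hζ1 : ζ ≠ 1 := fun h => hd ((div_eq_one_iff_eq hσd).mp h).symm
      have hζ0 : ζ ≠ 0 := div_ne_zero hd0 hσd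
      have hne₂' : u₂ ≠ 0 := smul_ne_zero hδ0 hne₂
      have h5 : CentreIn q σ M (f₁ + (u₂ + u₃)) :=
        decomp_change hf hD hHM (hcomp j l m hlj hmj (Or.inr hk3) u₂ hu₂D u₃ hu₃D) hu₁D hf₁ (smul_ne_zero hδ0 hne₁) hf₁0
          (fun z hz => by rw [hs.add_left, horth l j hlj u₂ hu₂D z hz, horth m j hmj u₃ hu₃D z hz, add_zero])
          (huu₁.trans hf₁f.symm) (by
            simp only [hs.add_left, hs.add_right, huu₁, huu₂, huu₃, o12, o13, o23, o21, o31, o32]; ring) htriple
      have g12 := horth j l (Ne.symm hlj) f₁ hf₁ u₂ hu₂D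
      have g13 := horth j m (Ne.symm hmj) f₁ hf₁ u₃ hu₃D
      have g21 := unitary_orth_symm hf g12
      have g31 := unitary_orth_symm hf g13
      have h6 : CentreIn q σ M (ζ • u₂ + (f₁ + u₃)) :=
        decomp_change hf hD hHM (hcomp l j m (Ne.symm hlj) hml (Or.inr hk3) f₁ hf₁ u₃ hu₃D) hu₂D ((D l).smul_mem _ hu₂D)
          hne₂' (smul_ne_zero hζ0 hne₂')
          (fun z hz => by
            rw [hs.add_left, horth j l (Ne.symm hlj) f₁ hf₁ z hz, horth m l hml u₃ hu₃D z hz, add_zero])
          (by rw [huu₂, hs.smul_left ζ, hs.smul_right ζ, huu₂, mul_zero, mul_zero]) (by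
            simp only [hs.add_left, hs.add_right, hf₁f, huu₂, huu₃, g12, g13, o23, g21, g31, o32]; ring)
          (by convert h5 using 1; module)
      have h2x : ∀ w : V, w + w = 0 := fun w => by rw [← two_smul F w, h2F, zero_smul]
      refine ⟨j, l, Ne.symm hlj, u₁ + f₁, (D j).add_mem hu₁D hf₁, (1 + ζ) • u₂, (D l).smul_mem _ hu₂D,
        fun h => ?_, smul_ne_zero (fun h => hζ1 (by linear_combination h - h2F)) hne₂',
        by rw [hs.add_left, hs.add_right, hs.add_right, huu₁, hf₁f, hef, hfe]; linear_combination h2F,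
        by rw [hs.smul_left, hs.smul_right, huu₂, mul_zero, mul_zero], ?_⟩
      · have := congrArg (fun w => η w u₁) h
        simp [hs.add_left, hs.zero_left, huu₁, hfe] at this
      · have h7 := centreIn_add hf htriple h6
          (by simp only [hs.add_left, hs.add_right, huu₁, huu₂, huu₃, o12, o13, o23, o21, o31, o32]; ring)
          (by simp only [hs.add_left, hs.add_right, hs.smul_left, hs.smul_right, hf₁f, huu₂, huu₃, g12, g13,
                o23, g21, g31, o32]; ring)
          (by simp only [hs.add_left, hs.add_right, hs.smul_left, hs.smul_right, hef, huu₂, huu₃, o12, o13, o23,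
                g21, g31, o21, o31, o32]; simp)
          (by
            rw [show u₁ + (u₂ + u₃) + (ζ • u₂ + (f₁ + u₃)) = (u₁ + f₁) + (1 + ζ) • u₂ + (u₃ + u₃) by module,
              h2x, add_zero, hiso2 (Ne.symm hlj) _ ((D j).add_mem hu₁D hf₁) _ ((D l).smul_mem _ hu₂D),
              hs.smul_left, hs.smul_right, huu₂, hs.add_left, hs.add_right, hs.add_right, huu₁, hf₁f, hef, hfe]
            linear_combination h2F)
        convert h7 using 1
        rw [show u₁ + (u₂ + u₃) + (ζ • u₂ + (f₁ + u₃)) = (u₁ + f₁) + (1 + ζ) • u₂ + (u₃ + u₃) by module,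
          h2x, add_zero]
    · push Not at hthree
      have hxjl : x = c j + c l := by
        rw [← hcsum, Finset.sum_eq_add j l (Ne.symm hlj) (fun p _ hp => hthree p hp.1 hp.2) (by simp) (by simp)]
      have hcjl : CentreIn q σ M (c j + c l) := hxjl ▸ hcx
      have hN : η (c j) (c j) + η (c l) (c l) = 0 := by
        rw [← hiso2 (Ne.symm hlj) _ (hc j) _ (hc l), ← hxjl]; exact hxx
      by_cases hN0 : η (c j) (c j) = 0
      · exact ⟨j, l, Ne.symm hlj, c j, hc j, c l, hc l, hj, hl, hN0, by linear_combination hN - hN0, hcjl⟩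
      have hfix1 : ∀ {w : V}, η w w ≠ 0 → η w w = 1 := fun {w} hw => by
        have h := herm_self hf w
        rw [hσ, show η w w ^ q = η w w ^ 2 from congrArg _ hq, pow_two] at h
        exact (mul_eq_left₀ hw).mp h
      have hj1 := hfix1 hN0
      have hl1 : η (c l) (c l) = 1 := by linear_combination hN - hj1 - h2F
      have hne : orthIn hf (D j) (c j) ≠ ⊥ := fun h => by
        have := finrank_orthIn hf (hc j) hN0
        rw [h, finrank_bot, hD.decomp.finrank_eq] at this
        omega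
      obtain ⟨a', ha', ha'1⟩ := exists_norm_one hf (nondeg_orthIn hf (hU j) (hc j) hN0) hne
      rw [mem_orthIn] at ha'
      obtain ⟨w, hw, hw0, hww⟩ := exists_iso_mem hf (orthIn hf (D l) (c l)) (by
        have := finrank_orthIn hf (hc l) (by rw [hl1]; exact one_ne_zero)
        rw [hD.decomp.finrank_eq] at this
        omega)
      rw [mem_orthIn] at hw
      have hwl : η (c l) w = 0 := unitary_orth_symm hf hw.2
      have ha'j : η (c j) a' = 0 := unitary_orth_symm hf ha'.2
      have hb'N : η (c l + w) (c l + w) = 1 := by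
        rw [hs.add_left, hs.add_right, hs.add_right, hl1, hwl, hw.2, hww]; ring
      have hb'0 : c l + w ≠ 0 := fun h => by rw [h, hs.zero_left] at hb'N; exact zero_ne_one hb'N
      have ha'0 : a' ≠ 0 := fun h => by rw [h, hs.zero_left] at ha'1; exact zero_ne_one ha'1
      have h8 := hchange hlj _ (hc j) a' ha'.1 _ (hc l) hj ha'0 (hj1.trans ha'1.symm) (hxjl ▸ hxx) hcjl
      have h9 := hchange (Ne.symm hlj) _ (hc l) _ ((D l).add_mem (hc l) hw.1) a' ha'.1 hl hb'0
        (hl1.trans hb'N.symm)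
        (by rw [hiso2 hlj _ (hc l) _ ha'.1, hl1, ha'1]; linear_combination h2F) (by rwa [add_comm])
      refine ⟨j, l, Ne.symm hlj, c j + a', (D j).add_mem (hc j) ha'.1, w, hw.1, fun h => ?_, hw0,
        by rw [hs.add_left, hs.add_right, hs.add_right, hj1, ha'1, ha'j, ha'.2]; linear_combination h2F,
        hww, ?_⟩
      · have := congrArg (fun z => η z a') h
        simp [hs.add_left, hs.zero_left, ha'j, ha'1] at this
      · have h10 := centreIn_add hf hcjl h9 (hxjl ▸ hxx)
          (by rw [hiso2 hlj _ ((D l).add_mem (hc l) hw.1) _ ha'.1, hb'N, ha'1]; linear_combination h2F)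
          (by simp only [hs.add_left, hs.add_right, hl1, hwl, ha'j, horth j l (Ne.symm hlj) _ (hc j) _ (hc l),
                horth j l (Ne.symm hlj) _ (hc j) _ hw.1, horth l j hlj _ (hc l) _ ha'.1]; simp)
          (by
            rw [show c j + c l + (c l + w + a') = (c j + a') + w + (c l + c l) by abel, ← two_smul F (c l), h2F,
              zero_smul, add_zero, hiso2 (Ne.symm hlj) _ ((D j).add_mem (hc j) ha'.1) _ hw.1, hs.add_left,
              hs.add_right, hs.add_right, hj1, ha'1, ha'j, ha'.2, hww]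
            linear_combination h2F)
        convert h10 using 1
        rw [show c j + c l + (c l + w + a') = (c j + a') + w + (c l + c l) by abel, ← two_smul F (c l), h2F,
          zero_smul, add_zero]
  -- all centres in two members
  let Pair : Fin t → Fin t → Prop := fun p r => ∀ a ∈ D p, ∀ b ∈ D r, η (a + b) (a + b) = 0 →
    CentreIn q σ M (a + b)
  have hiso_pair : ∀ a ∈ D j₀, ∀ b ∈ D l₀, a ≠ 0 → b ≠ 0 → η a a = 0 → η b b = 0 →
      CentreIn q σ M (a + b) := by
    intro a ha b hb ha0 hb0 haa hbb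
    have h1 := hchange (Ne.symm hjl) e₁ he₁ a ha e₂ he₂ he₁0 ha0 (he₁₁.trans haa.symm)
      (by rw [hiso2 hjl e₁ he₁ e₂ he₂, he₁₁, he₂₂, add_zero]) hce
    rw [add_comm]
    exact hchange hjl e₂ he₂ b hb a ha he₂0 hb0 (he₂₂.trans hbb.symm)
      (by rw [hiso2 (Ne.symm hjl) e₂ he₂ a ha, he₂₂, haa, add_zero]) (by rwa [add_comm])
  have hpair₀ : Pair j₀ l₀ := by
    intro a ha b hb hab
    have hab' := hab
    rw [hiso2 hjl a ha b hb] at hab'
    rcases eq_or_ne a 0 with rfl | ha0
    · rw [zero_add]; rw [hs.zero_left, zero_add] at hab'; exact hcD l₀ b hb hab'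
    rcases eq_or_ne b 0 with rfl | hb0
    · rw [add_zero]; rw [hs.zero_left, add_zero] at hab'; exact hcD j₀ a ha hab'
    by_cases hN0 : η a a = 0
    · exact hiso_pair a ha b hb ha0 hb0 hN0 (by linear_combination hab' - hN0)
    obtain ⟨m, hm, hm'⟩ : ∃ m, m + σ m = η a a ∧ σ m ≠ m := by
      obtain ⟨m, hm⟩ := trace_surjective hf.ne_refl hf.involutive (herm_self hf a)
      by_cases hfix : σ m = m
      · refine ⟨m + δ, by rw [map_add, hδ]; linear_combination hm, fun h => hN0 ?_⟩
        rw [map_add, hδ, hfix] at h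
        have h2 : (2 : F) * δ = 0 := by linear_combination -h
        rw [← hm, hfix]
        linear_combination m * ((mul_eq_zero.mp h2).resolve_right hδ0)
      · exact ⟨m, hm, hfix⟩
    have hm0 : m ≠ 0 := fun h => hm' (by rw [h, map_zero])
    obtain ⟨f₁, hf₁, hf₁f, hef₁⟩ := exists_iso_pairing hf (hU _) (hdim _) he₁ he₁0
    obtain ⟨f₂, hf₂, hf₂f, hef₂⟩ := exists_iso_pairing hf (hU _) (hdim _) he₂ he₂0
    have hf₁0 : f₁ ≠ 0 := fun h => by rw [h, hs.zero_right] at hef₁; exact zero_ne_one hef₁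
    have hf₂0 : f₂ ≠ 0 := fun h => by rw [h, hs.zero_right] at hef₂; exact zero_ne_one hef₂
    have hfe₁ : η f₁ e₁ = 1 := by rw [hf.herm, hef₁, map_one]
    have hfe₂ : η f₂ e₂ = 1 := by rw [hf.herm, hef₂, map_one]
    set g₁ := σ m • f₁ with hg₁
    set g₂ := (-m) • f₂ with hg₂
    have hg₁g : η g₁ g₁ = 0 := by rw [hg₁, hs.smul_left, hs.smul_right, hf₁f, mul_zero, mul_zero]
    have hg₂g : η g₂ g₂ = 0 := by rw [hg₂, hs.smul_left, hs.smul_right, hf₂f, mul_zero, mul_zero]
    have hcg := hiso_pair g₁ ((D _).smul_mem _ hf₁) g₂ ((D _).smul_mem _ hf₂)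
      (smul_ne_zero ((map_ne_zero_iff σ σ.injective).mpr hm0) hf₁0) (smul_ne_zero (neg_ne_zero.mpr hm0) hf₂0)
      hg₁g hg₂g
    have hA : η (e₁ + g₁) (e₁ + g₁) = η a a := by
      rw [hs.add_left, hs.add_right, hs.add_right, he₁₁, hg₁g, hg₁, hs.smul_left, hs.smul_right, hef₁, hfe₁,
        hf.involutive, mul_one, mul_one]
      linear_combination hm
    have hB : η (e₂ + g₂) (e₂ + g₂) = η b b := by
      rw [hs.add_left, hs.add_right, hs.add_right, he₂₂, hg₂g, hg₂, hs.smul_left, hs.smul_right, hef₂, hfe₂,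
        map_neg, mul_one, mul_one]
      linear_combination -hm - hab'
    have o12 := horth j₀ l₀ hjl
    have o21 := horth l₀ j₀ (Ne.symm hjl)
    have hsum0 : η (e₁ + g₁ + (e₂ + g₂)) (e₁ + g₁ + (e₂ + g₂)) = 0 := by
      rw [hiso2 hjl _ ((D _).add_mem he₁ ((D _).smul_mem _ hf₁)) _ ((D _).add_mem he₂ ((D _).smul_mem _ hf₂)),
        hA, hB, hab']
    have h1 : CentreIn q σ M (e₁ + g₁ + (e₂ + g₂)) := by
      rw [show e₁ + g₁ + (e₂ + g₂) = e₁ + e₂ + (g₁ + g₂) by abel]
      refine centreIn_add hf hce hcg (by rw [hiso2 hjl e₁ he₁ e₂ he₂, he₁₁, he₂₂, add_zero])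
        (by rw [hiso2 hjl g₁ ((D _).smul_mem _ hf₁) g₂ ((D _).smul_mem _ hf₂), hg₁g, hg₂g, add_zero]) ?_ ?_
      · rw [hs.add_left, hs.add_right, hs.add_right, o12 e₁ he₁ g₂ ((D _).smul_mem _ hf₂),
          o21 e₂ he₂ g₁ ((D _).smul_mem _ hf₁), hg₁, hg₂, hs.smul_right, hs.smul_right, hef₁, hef₂,
          hf.involutive, map_neg]
        intro h0
        exact hm' (by linear_combination -h0)
      · rw [show e₁ + e₂ + (g₁ + g₂) = e₁ + g₁ + (e₂ + g₂) by abel]; exact hsum0
    have hA0 : e₁ + g₁ ≠ 0 := fun h => hN0 (by rw [← hA, h, hs.zero_left])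
    have hB0 : e₂ + g₂ ≠ 0 := fun h => hN0 (by rw [h, hs.zero_left] at hB; linear_combination hab' + hB)
    have h2 := hchange (Ne.symm hjl) _ ((D _).add_mem he₁ ((D _).smul_mem _ hf₁)) a ha _
      ((D _).add_mem he₂ ((D _).smul_mem _ hf₂)) hA0 ha0 hA hsum0 h1
    rw [add_comm]
    exact hchange hjl _ ((D _).add_mem he₂ ((D _).smul_mem _ hf₂)) b hb a ha hB0 hb0 hB
      (by rw [hiso2 (Ne.symm hjl) _ ((D _).add_mem he₂ ((D _).smul_mem _ hf₂)) a ha, hB]
          linear_combination hab') (by rwa [add_comm])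
  have hall : ∀ p r, p ≠ r → Pair p r := by
    intro p r hpr
    obtain ⟨π, hπp, hπr⟩ := LinDecomp.exists_perm_two hjl hpr
    obtain ⟨T, hT, hTmap⟩ := exists_perm_decomp hf hD hσ π
    intro a ha b hb hab
    rw [← hπp, ← hTmap] at ha
    rw [← hπr, ← hTmap] at hb
    obtain ⟨a', ha', rfl⟩ := ha
    obtain ⟨b', hb', rfl⟩ := hb
    rw [toLin'_apply, toLin'_apply, ← mulVec_add] at hab ⊢
    rw [mem_GU_iff_forall.mp hT.2.1] at hab
    exact centreIn_map hf (hpair₀ a' ha' b' hb' hab) hT.2.1 (hHM hT)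
  -- all centres
  have hall' : ∀ (N : ℕ) (s : Finset (Fin t)) (c : Fin t → V), s.card ≤ N → (∀ p, c p ∈ D p) →
      η (∑ p ∈ s, c p) (∑ p ∈ s, c p) = 0 → CentreIn q σ M (∑ p ∈ s, c p) := by
    intro N
    induction N with
    | zero =>
      intro s c hs' _ _
      rw [Finset.card_eq_zero.mp (Nat.le_zero.mp hs'), Finset.sum_empty]
      exact centreIn_zero hf M
    | succ N ih =>
      intro s c hs' hc hiso
      by_cases h0 : ∃ a ∈ s, c a = 0
      · obtain ⟨a, ha, ha0⟩ := h0
        rw [← Finset.add_sum_erase s c ha, ha0, zero_add] at hiso ⊢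
        exact ih _ c (by rw [Finset.card_erase_of_mem ha]; omega) hc hiso
      push Not at h0
      rcases Nat.lt_or_ge s.card 2 with hcard | hcard
      · rcases Nat.eq_zero_or_pos s.card with h | h
        · rw [Finset.card_eq_zero.mp h, Finset.sum_empty]; exact centreIn_zero hf M
        obtain ⟨a, rfl⟩ := Finset.card_eq_one.mp (by omega : s.card = 1)
        rw [Finset.sum_singleton] at hiso ⊢
        exact hcD a _ (hc a) hiso
      obtain ⟨a, ha, b, hb, hab, hgood⟩ : ∃ a ∈ s, ∃ b ∈ s, a ≠ b ∧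
          (η (c b) (c b) ≠ 0 ∨ η (c a) (c a) = 0) := by
        obtain ⟨a, ha, b, hb, hab⟩ := Finset.one_lt_card.mp hcard
        by_cases h : η (c b) (c b) ≠ 0 ∨ η (c a) (c a) = 0
        · exact ⟨a, ha, b, hb, hab, h⟩
        · push Not at h
          exact ⟨b, hb, a, ha, Ne.symm hab, Or.inl h.2⟩
      set S := η (c a) (c a) + η (c b) (c b) with hS
      have hSfix : σ S = S := by rw [hS, map_add, herm_self hf, herm_self hf]
      obtain ⟨a', ha', hpair, hN'⟩ := exists_norm_pairing hf (hU b) (hdim b) (hc b) (h0 b hb) (S + δ) hSfix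
        (by
          rcases hgood with h | h
          · exact Or.inr h
          · by_cases hb0 : η (c b) (c b) = 0
            · left; rw [hS, h, hb0, add_zero, zero_add]; exact hδ0
            · exact Or.inr hb0)
      set w := (-1 : F) • a' + (c a + c b) with hw
      have oab := horth a b hab _ (hc a) _ (hc b)
      have oba := unitary_orth_symm hf oab
      have oa' := horth a b hab _ (hc a) _ ha'
      have o'a := unitary_orth_symm hf oa'
      have hpair' : η a' (c b) = S - δ := by rw [hf.herm, hpair, map_add, hSfix, hδ]; ring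
      have hww : η w w = 0 := by
        simp only [hw, hs.add_left, hs.add_right, hs.smul_left, hs.smul_right, hN', hpair, hpair', oab, oba, oa',
          o'a, map_neg, map_one]
        linear_combination (-1 : F) * hS
      have hcw : CentreIn q σ M w := by
        have e : w = c a + (c b + (-1 : F) • a') := by rw [hw]; abel
        rw [e] at hww ⊢
        exact hall a b hab _ (hc a) _ ((D b).add_mem (hc b) ((D b).smul_mem _ ha')) hww
      have hrest : ∀ r ∈ ({a, b} : Finset (Fin t)), ∀ u ∈ D r, η (∑ p ∈ (s.erase a).erase b, c p) u = 0 := by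
        intro r hr u hu
        rw [hsl]
        refine Finset.sum_eq_zero fun p hp => horth p r ?_ _ (hc p) u hu
        rintro rfl
        simp only [Finset.mem_insert, Finset.mem_singleton] at hr
        simp only [Finset.mem_erase] at hp
        rcases hr with rfl | rfl
        · exact hp.2.1 rfl
        · exact hp.1 rfl
      set R := ∑ p ∈ (s.erase a).erase b, c p with hR
      set c' := Function.update c b a' with hc'
      have hc'D : ∀ p, c' p ∈ D p := fun p => by
        rcases eq_or_ne p b with rfl | hpb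
        · simp [hc', ha']
        · simp [hc', hpb, hc p]
      have hbm : b ∈ s.erase a := Finset.mem_erase.mpr ⟨Ne.symm hab, hb⟩
      have hsum' : ∑ p ∈ s.erase a, c' p = a' + R := by
        rw [← Finset.add_sum_erase _ c' hbm, hR]
        congr 1
        · simp [hc']
        · exact Finset.sum_congr rfl fun p hp => by simp [hc', Finset.ne_of_mem_erase hp]
      have hsum : ∑ p ∈ s, c p = c a + c b + R := by
        rw [← Finset.add_sum_erase _ c ha, ← Finset.add_sum_erase _ c hbm, hR, add_assoc]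
      have oRa : η R (c a) = 0 := hrest a (by simp) _ (hc a)
      have oRb : η R (c b) = 0 := hrest b (by simp) _ (hc b)
      have oR' : η R a' = 0 := hrest b (by simp) _ ha'
      have oaR := unitary_orth_symm hf oRa
      have obR := unitary_orth_symm hf oRb
      have o'R := unitary_orth_symm hf oR'
      rw [hsum] at hiso ⊢
      have hiso' : η (a' + R) (a' + R) = 0 := by
        simp only [hs.add_left, hs.add_right, hN', o'R, oR', oaR, obR, oRa, oRb, oab, oba] at hiso ⊢
        linear_combination hiso + hS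
      have hprev : CentreIn q σ M (a' + R) := by
        have := ih (s.erase a) c' (by rw [Finset.card_erase_of_mem ha]; omega) hc'D (by rw [hsum']; exact hiso')
        rwa [hsum'] at this
      have hxw : η (a' + R) w = -δ := by
        simp only [hw, hs.add_left, hs.add_right, hs.smul_right, hN', hpair', o'a, oR', oRa, oRb, map_neg, map_one]
        ring
      rw [show c a + c b + R = (a' + R) + w by rw [hw]; module]
      refine centreIn_add hf hprev hcw hiso' hww (by rw [hxw]; exact neg_ne_zero.mpr hδ0) ?_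
      rw [show (a' + R) + w = c a + c b + R by rw [hw]; module]
      exact hiso
  refine su_le_of_forall_uTv hf hσ hF (by omega) fun w hw => ?_
  obtain ⟨c, hc, rfl⟩ := hdec w
  exact hall' _ Finset.univ c le_rfl hc hw

end CfsgLib.MaxSub.UC
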