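import Cfsg.Agent.MaxSub.UnitaryMonomial

/-!
# Zero entries in overgroups of the unitary monomial group

Conjugating a product of two transpositions with phases gives a diagonal entry zero: two trace sets of
circles fill the fixed field. This replaces the counting of blocks and works from dimension six on.
-/

set_option autoImplicit false
set_option linter.unusedSectionVars false

namespace CfsgLib.MaxSub.UMono

open Matrix Cfsg.Geo CfsgLib.MaxSub.UC CfsgLib.MaxSub.Monomial CfsgLib.MaxSub.Circle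

variable {F : Type*} [Field F] [Fintype F] {n q : ℕ} {σ : F ≃+* F}

local notation "Mat" => Matrix (Fin n) (Fin n) F

variable (hf : IsUnitaryForm σ (Cfsg.hermForm n F q)) (hb : IsBar q σ)
include hf hb

/-- Two circles through given points have traces with a prescribed sum, not both at fixed points. -/
theorem exists_two_traces {u v T : F} (hu : u ≠ 0) (hv : v ≠ 0) (hT : σ T = T) :
    ∃ x ∈ normOne σ, ∃ y ∈ normOne σ, x * u + σ (x * u) + (y * v + σ (y * v)) = T ∧
      (σ (x * u) ≠ x * u ∨ σ (y * v) ≠ y * v) := by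
  classical
  let bad : F → Finset F := fun u => (normOne σ).filter fun x => σ (x * u) = x * u
  wlog hle : (bad u).card ≤ (bad v).card generalizing u v
  · obtain ⟨x, hx, y, hy, h1, h2⟩ := this hv hu (le_of_not_ge hle)
    exact ⟨y, hy, x, hx, by rw [add_comm]; exact h1, h2.symm⟩
  let t : F → F → F := fun u x => x * u + σ (x * u)
  have hfib : ∀ {u : F}, u ≠ 0 → ∀ x ∈ normOne σ, ∀ y ∈ normOne σ, t u x = t u y →
      y = x ∨ y * u = σ (x * u) := by
    intro u hu x hx y hy h
    have hx0 := ne_zero_of_mem hb hx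
    have hy0 := ne_zero_of_mem hb hy
    simp only [t, map_mul, bar_eq_inv hb hx, bar_eq_inv hb hy] at h ⊢
    field_simp at h ⊢
    have e : (y - x) * (u * y * x - σ u) = 0 := by linear_combination -h
    rcases mul_eq_zero.mp e with e | e
    · exact Or.inl (sub_eq_zero.mp e)
    · right
      linear_combination e
  have hC := card_normOne hb
  -- the traces at points that are not fixed
  have hgood : (normOne σ).card ≤ 2 * (((normOne σ) \ bad u).image (t u)).card + (bad u).card := by
    have h1 : ((normOne σ) \ bad u).card ≤ 2 * (((normOne σ) \ bad u).image (t u)).card := by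
      refine Finset.card_le_mul_card_image _ 2 fun r hr => ?_
      obtain ⟨x, hx, rfl⟩ := Finset.mem_image.mp hr
      have hxC := (Finset.mem_sdiff.mp hx).1
      refine (Finset.card_le_card (t := {x, σ (x * u) / u}) fun y hy => ?_).trans Finset.card_le_two
      rw [Finset.mem_filter, Finset.mem_sdiff] at hy
      rcases hfib hu x hxC y hy.1.1 hy.2.symm with e | e
      · simp [e]
      · simp [← e, hu]
    have h2 := Finset.card_sdiff_of_subset (Finset.filter_subset (fun x => σ (x * u) = x * u) (normOne σ))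
    have h3 := Finset.card_le_card (Finset.filter_subset (fun x => σ (x * u) = x * u) (normOne σ))
    simp only [bad] at h1 h2 h3 ⊢
    omega
  have hall : (normOne σ).card + (bad v).card ≤ 2 * ((normOne σ).image (t v)).card := by
    have h1 : ((normOne σ) \ bad v).card ≤ 2 * (((normOne σ) \ bad v).image (t v)).card := by
      refine Finset.card_le_mul_card_image _ 2 fun r hr => ?_
      obtain ⟨x, hx, rfl⟩ := Finset.mem_image.mp hr
      have hxC := (Finset.mem_sdiff.mp hx).1
      refine (Finset.card_le_card (t := {x, σ (x * v) / v}) fun y hy => ?_).trans Finset.card_le_two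
      rw [Finset.mem_filter, Finset.mem_sdiff] at hy
      rcases hfib hv x hxC y hy.1.1 hy.2.symm with e | e
      · simp [e]
      · simp [← e, hv]
    have h2 : (bad v).card = ((bad v).image (t v)).card := by
      refine (Finset.card_image_of_injOn fun x hx y hy h => ?_).symm
      simp only [bad, Finset.coe_filter, Set.mem_setOf_eq] at hx hy
      rcases hfib hv x hx.1 y hy.1 h with e | e
      · exact e.symm
      · exact mul_right_cancel₀ hv (hx.2.symm.trans e.symm)
    have hdis : Disjoint (((normOne σ) \ bad v).image (t v)) ((bad v).image (t v)) := by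
      rw [Finset.disjoint_left]
      intro r hr hr'
      obtain ⟨x, hx, rfl⟩ := Finset.mem_image.mp hr
      obtain ⟨y, hy, he⟩ := Finset.mem_image.mp hr'
      rw [Finset.mem_sdiff] at hx
      simp only [bad, Finset.mem_filter, not_and] at hx hy
      rcases hfib hv y hy.1 x hx.1 he with e | e
      · exact hx.2 hx.1 (e ▸ hy.2)
      · exact hx.2 hx.1 (by rw [e, hb.involutive, hy.2])
    have h3 : ((normOne σ).image (t v)).card =
        (((normOne σ) \ bad v).image (t v)).card + ((bad v).image (t v)).card := by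
      rw [← Finset.card_union_of_disjoint hdis, ← Finset.image_union,
        Finset.sdiff_union_of_subset (Finset.filter_subset _ _)]
    have h4 := Finset.card_sdiff_of_subset (Finset.filter_subset (fun x => σ (x * v) = x * v) (normOne σ))
    have h5 := Finset.card_le_card (Finset.filter_subset (fun x => σ (x * v) = x * v) (normOne σ))
    simp only [bad] at h1 h2 h3 h4 h5 ⊢
    omega
  have hfixt : ∀ u x : F, σ (t u x) = t u x := fun u x => by simp only [t, map_add, hb.involutive, add_comm]
  set A := ((normOne σ) \ bad u).image (t u) with hA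
  set B := ((normOne σ).image (t v)).image (T - ·) with hB
  have hBc : B.card = ((normOne σ).image (t v)).card :=
    Finset.card_image_of_injective _ fun a b h => by simpa using h
  have hfixU : ∀ r ∈ A ∪ B, σ r = r := by
    intro r hr
    rcases Finset.mem_union.mp hr with h | h
    · obtain ⟨x, -, rfl⟩ := Finset.mem_image.mp h
      exact hfixt u x
    · obtain ⟨_, h', rfl⟩ := Finset.mem_image.mp h
      obtain ⟨y, -, rfl⟩ := Finset.mem_image.mp h'
      rw [map_sub, hT, hfixt]
  have hU := card_fixed hb hfixU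
  have hI := Finset.card_union_add_card_inter A B
  obtain ⟨r, hr⟩ := Finset.card_pos.mp (show 0 < (A ∩ B).card by omega)
  obtain ⟨hrA, hrB⟩ := Finset.mem_inter.mp hr
  obtain ⟨x, hx, rfl⟩ := Finset.mem_image.mp hrA
  obtain ⟨_, h', hxy⟩ := Finset.mem_image.mp hrB
  obtain ⟨y, hy, rfl⟩ := Finset.mem_image.mp h'
  rw [Finset.mem_sdiff] at hx
  refine ⟨x, hx.1, y, hy, ?_, Or.inl fun h => hx.2 (Finset.mem_filter.mpr ⟨hx.1, h⟩)⟩
  simp only [t] at hxy
  linear_combination -hxy

/-- An element without zero entries gives one with a zero entry. -/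
theorem exists_zero_entry (hn : 5 ≤ n) {M : Subgroup (GL (Fin n) F)} (hM : UMonoIn σ M)
    (hMU : M ≤ Cfsg.GU n F q) {g : GL (Fin n) F} (hg : g ∈ M) (hG : ∀ p r, (g : Mat) p r ≠ 0) :
    ∃ b ∈ M, ¬ Mono b ∧ ∃ k c, (b : Mat) k c = 0 := by
  classical
  have hgU := hMU hg
  let i₀ : Fin n := ⟨0, by omega⟩
  let i₁ : Fin n := ⟨1, by omega⟩
  let i₂ : Fin n := ⟨2, by omega⟩
  let i₃ : Fin n := ⟨3, by omega⟩
  set π : Equiv.Perm (Fin n) := Equiv.swap i₀ i₁ * Equiv.swap i₂ i₃ with hπ
  obtain ⟨k, -⟩ : ∃ k : Fin n, True := ⟨i₀, trivial⟩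
  set z : Fin n → F := fun s => (g : Mat) k (π s) * σ ((g : Mat) k s) with hz
  have hz0 : ∀ s, z s ≠ 0 := fun s => mul_ne_zero (hG _ _) ((map_ne_zero_iff σ σ.injective).mpr (hG _ _))
  have h01 : i₀ ≠ i₁ := by simp [i₀, i₁]
  have h02 : i₀ ≠ i₂ := by simp [i₀, i₂]
  have h03 : i₀ ≠ i₃ := by simp [i₀, i₃]
  have h12 : i₁ ≠ i₂ := by simp [i₁, i₂]
  have h13 : i₁ ≠ i₃ := by simp [i₁, i₃]
  have h23 : i₂ ≠ i₃ := by simp [i₂, i₃]
  have p0 : π i₀ = i₁ := by simp [hπ, Equiv.swap_apply_of_ne_of_ne h02 h03]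
  have p1 : π i₁ = i₀ := by simp [hπ, Equiv.swap_apply_of_ne_of_ne h12 h13]
  have p2 : π i₂ = i₃ := by simp [hπ, Equiv.swap_apply_of_ne_of_ne (Ne.symm h03) (Ne.symm h13)]
  have p3 : π i₃ = i₂ := by simp [hπ, Equiv.swap_apply_of_ne_of_ne (Ne.symm h02) (Ne.symm h12)]
  have pout : ∀ s, s ∉ ({i₀, i₁, i₂, i₃} : Finset (Fin n)) → π s = s := by
    intro s hs
    simp only [Finset.mem_insert, Finset.mem_singleton, not_or] at hs
    simp [hπ, Equiv.swap_apply_of_ne_of_ne hs.2.2.1 hs.2.2.2, Equiv.swap_apply_of_ne_of_ne hs.1 hs.2.1]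
  set rest := ∑ s ∈ Finset.univ \ ({i₀, i₁, i₂, i₃} : Finset (Fin n)), z s with hrest
  have hrestfix : σ rest = rest := by
    rw [hrest, map_sum]
    refine Finset.sum_congr rfl fun s hs => ?_
    rw [hz]; dsimp only
    rw [pout s (Finset.mem_sdiff.mp hs).2, length_fixed hb]
  have h10 : σ (z i₁) = z i₀ := by
    simp only [hz, p0, p1, map_mul, hb.involutive]; ring
  have h32 : σ (z i₃) = z i₂ := by
    simp only [hz, p2, p3, map_mul, hb.involutive]; ring
  obtain ⟨x, hx, y, hy, hsum, hgood⟩ :=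
    exists_two_traces hf hb (hz0 i₀) (hz0 i₂) (T := -rest) (by rw [map_neg, hrestfix])
  -- elements with a zero at `(k, k)`
  let mk : Fˣ → Fˣ → Fin n → Fˣ := fun a c s =>
    if s = i₀ then a else if s = i₁ then a⁻¹ else if s = i₂ then c else if s = i₃ then c⁻¹ else 1
  have main : ∀ a c : Fˣ, (a : F) ∈ normOne σ → (c : F) ∈ normOne σ →
      (a : F) * z i₀ + σ ((a : F) * z i₀) + ((c : F) * z i₂ + σ ((c : F) * z i₂)) = -rest →
      monEl π (mk a c) ∈ M ∧ ((g * monEl π (mk a c) * g⁻¹ : GL (Fin n) F) : Mat) k k = 0 := by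
    intro a c ha hc hac
    have hdn : ∀ s, (mk a c s : F) ∈ normOne σ := fun s => by
      simp only [mk]
      split_ifs
      · exact ha
      · simpa using Circle.inv_mem hb ha
      · exact hc
      · simpa using Circle.inv_mem hb hc
      · simpa using Circle.one_mem hb
    refine ⟨hM _ _ hdn ?_, ?_⟩
    · rw [det_monEl, hπ, map_mul, Equiv.Perm.sign_swap h01, Equiv.Perm.sign_swap h23, ← Units.coe_prod,
        ← Finset.prod_subset (Finset.subset_univ ({i₀, i₁, i₂, i₃} : Finset (Fin n))) (fun s _ hs => by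
          simp only [Finset.mem_insert, Finset.mem_singleton, not_or] at hs
          simp [mk, hs.1, hs.2.1, hs.2.2.1, hs.2.2.2]),
        Finset.prod_insert (by simp [h01, h02, h03]), Finset.prod_insert (by simp [h12, h13]),
        Finset.prod_pair h23]
      simp [mk, Ne.symm h01, Ne.symm h02, Ne.symm h03, Ne.symm h12, Ne.symm h13, Ne.symm h23]
    · rw [← col_apply' hf hb (g * monEl π (mk a c) * g⁻¹) k k, Units.val_mul, Units.val_mul, ← mulVec_mulVec,
        ← mulVec_mulVec]
      show ∑ j, (g : Mat) k j * _ = 0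
      rw [← Equiv.sum_comp π]
      have hterm : ∀ s, (g : Mat) k (π s) * ((monEl π (mk a c) : GL (Fin n) F) : Mat).mulVec
          (((g⁻¹ : GL (Fin n) F) : Mat) *ᵥ Pi.single k 1) (π s) = (mk a c s : F) * z s := fun s => by
        rw [monEl_mulVec, Equiv.symm_apply_apply, col_apply' hf hb, inv_entry hf hb hgU, hz]
        ring
      rw [Finset.sum_congr rfl fun s _ => hterm s,
        ← Finset.sum_sdiff (Finset.subset_univ ({i₀, i₁, i₂, i₃} : Finset (Fin n))),
        Finset.sum_congr rfl (g := z) (fun s hs => by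
          simp only [Finset.mem_sdiff, Finset.mem_insert, Finset.mem_singleton, not_or] at hs
          simp [mk, hs.2.1, hs.2.2.1, hs.2.2.2.1, hs.2.2.2.2]),
        Finset.sum_insert (by simp [h01, h02, h03]), Finset.sum_insert (by simp [h12, h13]),
        Finset.sum_pair h23, ← hrest]
      simp only [map_mul, bar_eq_inv hb ha, bar_eq_inv hb hc] at hac
      simp only [← h10, ← h32, hb.involutive] at hac
      simp [mk, Ne.symm h01, Ne.symm h02, Ne.symm h03, Ne.symm h12, Ne.symm h13, Ne.symm h23]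
      rw [← h10, ← h32]
      linear_combination hac
  -- two of them differ by a diagonal element on two coordinates
  have two : ∃ a c a' c' : Fˣ, ((a : F) ∈ normOne σ ∧ (c : F) ∈ normOne σ ∧
      (a : F) * z i₀ + σ ((a : F) * z i₀) + ((c : F) * z i₂ + σ ((c : F) * z i₂)) = -rest) ∧
      ((a' : F) ∈ normOne σ ∧ (c' : F) ∈ normOne σ ∧
      (a' : F) * z i₀ + σ ((a' : F) * z i₀) + ((c' : F) * z i₂ + σ ((c' : F) * z i₂)) = -rest) ∧
      ((a ≠ a' ∧ c = c') ∨ (a = a' ∧ c ≠ c')) := by
    have flip : ∀ x u : F, x ∈ normOne σ → u ≠ 0 → σ (x * u) / u ∈ normOne σ := fun x u hx hu => by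
      rw [mem_normOne hb] at hx ⊢
      have hσu : σ u ≠ 0 := (map_ne_zero_iff σ σ.injective).mpr hu
      rw [map_div₀, map_mul, map_mul, hb.involutive, hb.involutive]
      field_simp
      linear_combination hx
    have hx0 := ne_zero_of_mem hb hx
    have hy0 := ne_zero_of_mem hb hy
    rcases hgood with h | h
    · have hx' := flip x _ hx (hz0 i₀)
      have e : σ (x * z i₀) / z i₀ * z i₀ = σ (x * z i₀) := div_mul_cancel₀ _ (hz0 i₀)
      refine ⟨Units.mk0 x hx0, Units.mk0 y hy0, Units.mk0 _ (ne_zero_of_mem hb hx'), Units.mk0 y hy0,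
        ⟨hx, hy, hsum⟩, ⟨hx', hy, ?_⟩, Or.inl ⟨fun he => h ?_, rfl⟩⟩
      · simp only [Units.val_mk0, e, hb.involutive]; linear_combination hsum
      · have := congrArg Units.val he
        simp only [Units.val_mk0] at this
        rw [← e, ← this]
    · have hy' := flip y _ hy (hz0 i₂)
      have e : σ (y * z i₂) / z i₂ * z i₂ = σ (y * z i₂) := div_mul_cancel₀ _ (hz0 i₂)
      refine ⟨Units.mk0 x hx0, Units.mk0 y hy0, Units.mk0 x hx0, Units.mk0 _ (ne_zero_of_mem hb hy'),
        ⟨hx, hy, hsum⟩, ⟨hx, hy', ?_⟩, Or.inr ⟨rfl, fun he => h ?_⟩⟩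
      · simp only [Units.val_mk0, e, hb.involutive]; linear_combination hsum
      · have := congrArg Units.val he
        simp only [Units.val_mk0] at this
        rw [← e, ← this]
  obtain ⟨a, c, a', c', ⟨ha, hc, hac⟩, ⟨ha', hc', hac'⟩, hdiff⟩ := two
  obtain ⟨hm, hmz⟩ := main a c ha hc hac
  obtain ⟨hm', hmz'⟩ := main a' c' ha' hc' hac'
  by_contra hcon
  push Not at hcon
  have mono : ∀ m ∈ M, ((g * m * g⁻¹ : GL (Fin n) F) : Mat) k k = 0 → Mono (g * m * g⁻¹) := fun m hm h0 => by
    by_contra hnm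
    exact hcon _ (M.mul_mem (M.mul_mem hg hm) (M.inv_mem hg)) hnm k k h0
  set δ : Fin n → Fˣ := fun s => (mk a' c' s)⁻¹ * mk a c s with hδ
  have e : (monEl π (mk a' c'))⁻¹ * monEl π (mk a c) = monEl 1 δ := by
    rw [inv_mul_eq_iff_eq_mul]
    refine Units.ext ?_
    show monMat π _ = monMat π _ * monMat 1 _
    rw [monMat_mul, mul_one]
    congr 1
    funext s
    simp [hδ]
  have hmono : Mono (g * monEl 1 δ * g⁻¹) := by
    rw [← e, show g * ((monEl π (mk a' c'))⁻¹ * monEl π (mk a c)) * g⁻¹ =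
      (g * monEl π (mk a' c') * g⁻¹)⁻¹ * (g * monEl π (mk a c) * g⁻¹) by group]
    exact (mono _ hm' hmz').inv.mul (mono _ hm hmz)
  rcases hdiff with ⟨hne, rfl⟩ | ⟨rfl, hne⟩
  · have h := small_diag_eq_one hf hb hgU hG {i₀, i₁} (by rw [Finset.card_pair h01]; omega) (fun s hs => by
      simp only [Finset.mem_insert, Finset.mem_singleton, not_or] at hs
      simp [hδ, mk, hs.1, hs.2]
      split_ifs <;> simp) hmono i₀
    simp only [hδ, mk, if_pos rfl] at h
    exact hne (inv_mul_eq_one.mp h).symm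
  · have h := small_diag_eq_one hf hb hgU hG {i₂, i₃} (by rw [Finset.card_pair h23]; omega) (fun s hs => by
      simp only [Finset.mem_insert, Finset.mem_singleton, not_or] at hs
      simp [hδ, mk, hs.1, hs.2]
      split_ifs <;> simp) hmono i₂
    simp [hδ, mk, Ne.symm h02, Ne.symm h12] at h
    exact hne (inv_mul_eq_one.mp h).symm

/-- `exists_fixer` from dimension six on, for `3 ≤ q`, unless the characteristic is two and `q + 1` divides
`n`. -/
theorem exists_fixer_small (hn : 6 ≤ n) (hq : 3 ≤ q) (h2 : (2 : F) ≠ 0 ∨ ∃ ζ ∈ normOne σ, ζ ^ n ≠ 1)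
    {M : Subgroup (GL (Fin n) F)} (hM : UMonoIn σ M) (hMU : M ≤ Cfsg.GU n F q) {g : GL (Fin n) F} (hg : g ∈ M)
    (hg' : ¬ Mono g) : Fixer M := by
  by_cases h1 : ∃ k l, (g : Mat) k l = 0
  · obtain ⟨k, l, h⟩ := h1
    exact one_zero hf hb hn (Or.inr hq) h2 hM hMU hg hg' h
  push Not at h1
  obtain ⟨b, hb', hb'', k, c, h⟩ := exists_zero_entry hf hb (by omega) hM hMU hg h1
  exact one_zero hf hb hn (Or.inr hq) h2 hM hMU hb' hb'' h

end CfsgLib.MaxSub.UMono
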