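import Cfsg.Agent.MaxSub.UnitaryMonomialMax
import Cfsg.Agent.MaxSub.UnitaryMonomialSmall
import Cfsg.Agent.MaxSub.HermStandard

/-!
# Stabilisers of orthonormal coordinate frames in the special unitary group

An adapted unitary frame carries the monomial subgroup to the stabiliser of a decomposition into lines.
-/

set_option autoImplicit false
set_option linter.unusedSectionVars false

namespace CfsgLib.MaxSub.UMono

open Matrix Cfsg.Geo CfsgLib.MaxSub.UC CfsgLib.MaxSub.Monomial CfsgLib.MaxSub.Circle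

variable {F : Type*} [Field F] [Fintype F] {n q : ℕ} {σ : F ≃+* F}

local notation "V" => (Fin n → F)
local notation "η" => Cfsg.hermForm n F q
local notation "Mat" => Matrix (Fin n) (Fin n) F
local notation "ε⟦" r "⟧" => (Pi.single r (1 : F) : Fin n → F)
local notation "SU" => (Cfsg.GU n F q ⊓ specialLinear (Fin n) F)

variable (hf : IsUnitaryForm σ (Cfsg.hermForm n F q)) (hb : IsBar q σ)
include hf hb

/-- For `n ≥ 4` the special unitary group has a non-monomial element. -/
theorem exists_su_not_mono (hn : 4 ≤ n) : ∃ T ∈ SU, ¬ Mono T := by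
  classical
  obtain ⟨c, hc0, hc⟩ := exists_traceZero hb.ne_refl hb.involutive
  obtain ⟨γ, hγ⟩ := norm_surjective hb.ne_refl hb.involutive (a := (-1 : F)) (by rw [map_neg, map_one])
  have hγ0 : γ ≠ 0 := by rintro rfl; simp at hγ
  let a : Fin n := ⟨0, by omega⟩
  let b : Fin n := ⟨1, by omega⟩
  let a' : Fin n := ⟨2, by omega⟩
  let b' : Fin n := ⟨3, by omega⟩
  let z : V := ε⟦a⟧ + γ • ε⟦b⟧ + (ε⟦a'⟧ + γ • ε⟦b'⟧)
  have hza : z a = 1 := by simp [z, a, b, a', b', Pi.single_apply]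
  have hzb : z b = γ := by simp [z, a, b, a', b', Pi.single_apply]
  have hza' : z a' = 1 := by simp [z, a, b, a', b', Pi.single_apply]
  have hzb' : z b' = γ := by simp [z, a, b, a', b', Pi.single_apply]
  have hs := sesqForm_of_unitary hf
  have hzz : η z z = 0 := by
    simp only [z, hs.add_left, hs.smul_left, herm_single_left hf hb]
    rw [show (ε⟦a⟧ + γ • ε⟦b⟧ + (ε⟦a'⟧ + γ • ε⟦b'⟧) : V) = z from rfl, hza, hzb, hza', hzb', map_one]
    linear_combination 2 * hγ
  refine ⟨uTv q z c, uTv_mem hf hzz hc, fun ⟨π, hπ⟩ => ?_⟩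
  have hcol : ∀ p, p ≠ a → z p ≠ 0 → p = π a := by
    intro p hp hzp
    refine hπ p a ?_
    rw [← col_apply' hf hb, uTv_mulVec hf hzz, herm_single_left hf hb, hza, map_one, mul_one, Pi.add_apply,
      Pi.smul_apply, Pi.single_eq_of_ne hp, zero_add, smul_eq_mul]
    exact mul_ne_zero hc0 hzp
  have e1 := hcol b (by simp [a, b]) (by rw [hzb]; exact hγ0)
  have e2 := hcol a' (by simp [a, a']) (by rw [hza']; exact one_ne_zero)
  exact absurd (e1.trans e2.symm) (by simp [b, a'])

theorem conj_mem_su {Q x : GL (Fin n) F} (hQ : Q ∈ Cfsg.GU n F q) (hx : x ∈ SU) : Q * x * Q⁻¹ ∈ SU :=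
  ⟨(Cfsg.GU n F q).mul_mem ((Cfsg.GU n F q).mul_mem hQ hx.1) ((Cfsg.GU n F q).inv_mem hQ),
    (MonoidHom.normal_ker _).conj_mem x hx.2 Q⟩

/-- The stabiliser of an orthonormal set of lines is maximal in `SU` if the monomial group is. -/
theorem isMaximalIn_uDecomposition_one_of (hn : 4 ≤ n)
    (hgen : ∀ (M : Subgroup (GL (Fin n) F)), UMonoIn σ M → M ≤ Cfsg.GU n F q → ∀ g ∈ M, ¬ Mono g → SU ≤ M)
    {t : ℕ} {D : Fin t → Submodule F (Fin n → F)}
    (hD : IsNondegenerateMDecomposition η 1 D) : IsMaximalIn SU (decompositionStabilizer D ⊓ SU) := by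
  classical
  obtain ⟨P, e, hP, hDP⟩ := exists_adapted hf hD
  let ρ : Fin t ≃ Fin n := (Equiv.prodUnique (Fin t) (Fin 1)).symm.trans e
  have hρ : ∀ p, D p = Submodule.span F {(P : Mat) *ᵥ ε⟦ρ p⟧} := by
    intro p
    rw [hDP p, Set.range_unique]
    rfl
  have hinj : Function.Injective fun x : V => (P : Mat) *ᵥ x := mulVec_injective_iff_isUnit.mpr P.isUnit
  -- monomial elements in the adapted frame are those of the stabiliser
  have hmono : ∀ φ d, P * monEl φ d * P⁻¹ ∈ decompositionStabilizer D := by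
    intro φ d
    refine ⟨(ρ.trans φ).trans ρ.symm, fun p => ?_⟩
    rw [hρ, hρ, Submodule.map_span, Set.image_singleton, toLin'_apply]
    simp only [Equiv.trans_apply, Equiv.apply_symm_apply]
    rw [Units.val_mul, Units.val_mul, ← mulVec_mulVec, ← mulVec_mulVec, mulVec_mulVec (M := ((P⁻¹ : GL (Fin n) F) : Mat)),
      Units.inv_mul, one_mulVec, monEl_single, mulVec_smul]
    exact Submodule.span_singleton_smul_eq (d (ρ p)).isUnit _
  have hstab : ∀ g, g ∈ decompositionStabilizer D → Mono (P⁻¹ * g * P) := by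
    rintro g ⟨π, hπ⟩
    refine ⟨(ρ.symm.trans π).trans ρ, fun p r h => ?_⟩
    have hmem : (g : Mat) *ᵥ ((P : Mat) *ᵥ ε⟦r⟧) ∈ D (π (ρ.symm r)) := by
      rw [← hπ]
      refine ⟨_, ?_, toLin'_apply _ _⟩
      rw [hρ, Equiv.apply_symm_apply]
      exact Submodule.mem_span_singleton_self _
    rw [hρ, Submodule.mem_span_singleton] at hmem
    obtain ⟨a, ha⟩ := hmem
    have he : ((P⁻¹ * g * P : GL (Fin n) F) : Mat) *ᵥ ε⟦r⟧ = a • ε⟦ρ (π (ρ.symm r))⟧ := by
      refine hinj ?_
      show (P : Mat) *ᵥ _ = (P : Mat) *ᵥ _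
      rw [mulVec_mulVec, ← Units.val_mul, ← mul_assoc, ← mul_assoc, mul_inv_cancel, one_mul, Units.val_mul,
        ← mulVec_mulVec, mulVec_smul, ha]
    rw [← col_apply' hf hb, he] at h
    by_contra hne
    simp only [Equiv.trans_apply] at hne
    exact h (by simp [Pi.single_eq_of_ne hne])
  refine isMaximalIn_of inf_le_right ?_ fun M hHM hMK g hg hg' => ?_
  · obtain ⟨T, hT, hT'⟩ := exists_su_not_mono hf hb (by omega)
    refine ⟨P * T * P⁻¹, conj_mem_su hf hb hP hT, fun h => hT' ?_⟩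
    have := hstab _ h.1
    rwa [show P⁻¹ * (P * T * P⁻¹) * P = T by group] at this
  · let M' : Subgroup (GL (Fin n) F) := M.comap (MulAut.conj P).toMonoidHom
    have hM'mem : ∀ x, x ∈ M' ↔ P * x * P⁻¹ ∈ M := fun x => Iff.rfl
    have hM' : UMonoIn σ M' := fun φ d hd hdet => by
      rw [hM'mem]
      refine hHM ⟨hmono φ d, conj_mem_su hf hb hP ⟨UC.monEl_mem_GU hf hb.eq_pow φ d fun r => ?_, ?_⟩⟩
      · exact (mem_normOne hb).mp (hd r)
      · exact Units.ext hdet
    have hM'U : M' ≤ Cfsg.GU n F q := fun x hx => by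
      have h1 := conj_mem_su hf hb ((Cfsg.GU n F q).inv_mem hP) (hMK ((hM'mem x).mp hx))
      rw [show P⁻¹ * (P * x * P⁻¹) * P⁻¹⁻¹ = x by group] at h1
      exact h1.1
    have hgM' : P⁻¹ * g * P ∈ M' := by
      rw [hM'mem, show P * (P⁻¹ * g * P) * P⁻¹ = g by group]; exact hg
    have hgmono : ¬ Mono (P⁻¹ * g * P) := by
      intro h
      obtain ⟨φ, d, he⟩ := h.eq_monEl
      refine hg' ⟨?_, hMK hg⟩
      rw [show g = P * monEl φ d * P⁻¹ by rw [← he]; group]
      exact hmono φ d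
    have hle := hgen M' hM' hM'U _ hgM' hgmono
    intro x hx
    have h1 := hle (conj_mem_su hf hb ((Cfsg.GU n F q).inv_mem hP) hx)
    rwa [hM'mem, show P * (P⁻¹ * x * P⁻¹⁻¹) * P⁻¹ = x by group] at h1

/-- The stabiliser of an orthonormal set of lines is maximal in `SU`. -/
theorem isMaximalIn_uDecomposition_one (hn : 10 ≤ n) {t : ℕ} {D : Fin t → Submodule F (Fin n → F)}
    (hD : IsNondegenerateMDecomposition η 1 D) : IsMaximalIn SU (decompositionStabilizer D ⊓ SU) :=
  isMaximalIn_uDecomposition_one_of hf hb (by omega)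
    (fun _ hM hMU _ hg hg' => su_le_of_not_mono hf hb hn hM hMU hg hg') hD

/-- The same from dimension six on for `3 ≤ q`, unless the characteristic is two and `q + 1` divides `n`. -/
theorem isMaximalIn_uDecomposition_one_small (hn : 6 ≤ n) (hq : 3 ≤ q)
    (h2 : (2 : F) ≠ 0 ∨ ∃ ζ ∈ normOne σ, ζ ^ n ≠ 1) {t : ℕ} {D : Fin t → Submodule F (Fin n → F)}
    (hD : IsNondegenerateMDecomposition η 1 D) : IsMaximalIn SU (decompositionStabilizer D ⊓ SU) :=
  isMaximalIn_uDecomposition_one_of hf hb (by omega)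
    (fun _ hM hMU _ hg hg' => su_le_of_forall_uTv hf hb.eq_pow hb.card (by omega)
      (centres_of_fixer hf hb (by omega) hq hM hMU (exists_fixer_small hf hb hn hq h2 hM hMU hg hg'))) hD

end CfsgLib.MaxSub.UMono
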