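import Cfsg.Agent.MaxSub.UnitaryCentres
import Cfsg.Agent.MaxSub.Subspace

/-!
# Vectors and frames in non-degenerate subspaces of a unitary space
-/

set_option autoImplicit false
set_option linter.unusedSectionVars false

namespace CfsgLib.MaxSub.UC

open Matrix Cfsg.Geo

variable {F : Type*} [Field F] [Fintype F] {n q : ℕ} {σ : F ≃+* F}

local notation "V" => (Fin n → F)
local notation "η" => Cfsg.hermForm n F q
local notation "Mat" => Matrix (Fin n) (Fin n) F

variable (hf : IsUnitaryForm σ (Cfsg.hermForm n F q))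
include hf

/-- The vectors of `U` orthogonal to `u`. -/
def orthIn (U : Submodule F V) (u : V) : Submodule F V :=
  U ⊓ uPerp hf (Submodule.span F {u})

theorem mem_orthIn {U : Submodule F V} {u x : V} : x ∈ orthIn hf U u ↔ x ∈ U ∧ η x u = 0 := by
  refine ⟨fun h => ⟨h.1, h.2 u (Submodule.mem_span_singleton_self u)⟩, fun h => ⟨h.1, fun w hw => ?_⟩⟩
  obtain ⟨c, rfl⟩ := Submodule.mem_span_singleton.mp hw
  rw [(sesqForm_of_unitary hf).smul_right, h.2, mul_zero]

theorem finrank_orthIn_ge (U : Submodule F V) (u : V) :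
    Module.finrank F U ≤ Module.finrank F (orthIn hf U u) + 1 := by
  have h1 := Submodule.finrank_sup_add_finrank_inf_eq U (uPerp hf (Submodule.span F {u}))
  have h2 := finrank_uPerp hf (Submodule.span F {u})
  have h3 := Submodule.finrank_le (U ⊔ uPerp hf (Submodule.span F {u}))
  have h4 : Module.finrank F (Submodule.span F {u}) ≤ 1 := by
    rcases eq_or_ne u 0 with rfl | hu
    · rw [Submodule.span_singleton_eq_bot.mpr rfl, finrank_bot]; omega
    · rw [finrank_span_singleton hu]
  rw [Module.finrank_fin_fun] at h3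
  show _ ≤ Module.finrank F ↥(U ⊓ uPerp hf (Submodule.span F {u})) + 1
  omega

/-- A non-zero non-degenerate subspace has a vector of norm one. -/
theorem exists_norm_one {U : Submodule F V} (hU : IsNondegenerateOn η U) (hne : U ≠ ⊥) :
    ∃ e ∈ U, η e e = 1 := by
  have hs := sesqForm_of_unitary hf
  obtain ⟨x, hx, hxx⟩ : ∃ x ∈ U, η x x ≠ 0 := by
    by_contra hcon
    push Not at hcon
    obtain ⟨a, ha, ha0⟩ := Submodule.exists_mem_ne_zero_of_ne_bot hne
    obtain ⟨-, z, hz, hz'⟩ := hU a ha ha0
    exact hz' (singular_of_forall_iso hf hcon a ha z hz)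
  obtain ⟨s, hs'⟩ := norm_surjective hf.ne_refl hf.involutive (a := (η x x)⁻¹)
    (by rw [map_inv₀, herm_self hf])
  refine ⟨s • x, U.smul_mem _ hx, ?_⟩
  rw [hs.smul_left, hs.smul_right, ← mul_assoc, hs', inv_mul_cancel₀ hxx]

theorem nondeg_orthIn {U : Submodule F V} (hU : IsNondegenerateOn η U) {u : V} (hu : u ∈ U)
    (huu : η u u ≠ 0) : IsNondegenerateOn η (orthIn hf U u) := by
  have hs := sesqForm_of_unitary hf
  intro w hw hw0
  rw [mem_orthIn] at hw
  obtain ⟨-, z, hz, hz'⟩ := hU w hw.1 hw0
  have hmem : z - (η z u / η u u) • u ∈ orthIn hf U u := by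
    rw [mem_orthIn]
    refine ⟨U.sub_mem hz (U.smul_mem _ hu), ?_⟩
    rw [hs.sub_left, hs.smul_left, div_mul_cancel₀ _ huu, sub_self]
  have hne : η w (z - (η z u / η u u) • u) ≠ 0 := by
    rw [hs.sub_right, hs.smul_right, hw.2, mul_zero, sub_zero]; exact hz'
  exact ⟨⟨_, hmem, unitary_ne_symm hf hne⟩, _, hmem, hne⟩

theorem finrank_orthIn {U : Submodule F V} {u : V} (hu : u ∈ U) (huu : η u u ≠ 0) :
    Module.finrank F (orthIn hf U u) + 1 = Module.finrank F U := by
  have hlt : orthIn hf U u < U := lt_of_le_of_ne inf_le_left fun e => huu ((mem_orthIn hf).mp (e ▸ hu)).2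
  have := Submodule.finrank_lt_finrank_of_lt hlt
  have := finrank_orthIn_ge hf U u
  omega

/-- An orthonormal list spanning a non-degenerate subspace. -/
theorem exists_frame : ∀ {d : ℕ} {U : Submodule F V}, IsNondegenerateOn η U → Module.finrank F U = d →
    ∃ b : Fin d → V, (∀ i, b i ∈ U) ∧ ∀ i j, η (b i) (b j) = if i = j then 1 else 0 := by
  intro d
  induction d with
  | zero => exact fun _ _ => ⟨fun i => i.elim0, fun i => i.elim0, fun i => i.elim0⟩
  | succ d ih =>
    intro U hU hd
    obtain ⟨e, he, hee⟩ := exists_norm_one hf hU fun h => by rw [h, finrank_bot] at hd; omega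
    have hne : η e e ≠ 0 := by rw [hee]; exact one_ne_zero
    obtain ⟨b, hb, hbb⟩ := ih (nondeg_orthIn hf hU he hne) (by have := finrank_orthIn hf he hne; omega)
    simp only [mem_orthIn] at hb
    refine ⟨Fin.cons e b, fun i => ?_, fun i j => ?_⟩
    · induction i using Fin.cases with
      | zero => simpa using he
      | succ i => simpa using (hb i).1
    · induction i using Fin.cases with
      | zero =>
        induction j using Fin.cases with
        | zero => simpa using hee
        | succ j =>
          simp only [Fin.cons_zero, Fin.cons_succ, if_neg (Fin.succ_ne_zero j).symm]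
          exact unitary_orth_symm hf (hb j).2
      | succ i =>
        induction j using Fin.cases with
        | zero =>
          simp only [Fin.cons_zero, Fin.cons_succ, if_neg (Fin.succ_ne_zero i)]
          exact (hb i).2
        | succ j => simpa using hbb i j

/-- An isotropic vector pairing to one with a given vector. -/
theorem exists_iso_pairing {U : Submodule F V} (hU : IsNondegenerateOn η U)
    (h2 : 2 ≤ Module.finrank F U) {y : V} (hy : y ∈ U) (hy0 : y ≠ 0) :
    ∃ v ∈ U, η v v = 0 ∧ η y v = 1 := by
  have hs := sesqForm_of_unitary hf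
  suffices ∃ v ∈ U, η v v = 0 ∧ η y v ≠ 0 by
    obtain ⟨v, hv, hvv, hyv⟩ := this
    refine ⟨σ (η y v)⁻¹ • v, U.smul_mem _ hv, by rw [hs.smul_left, hs.smul_right, hvv, mul_zero, mul_zero], ?_⟩
    rw [hs.smul_right, hf.involutive, inv_mul_cancel₀ hyv]
  by_cases hyy : η y y = 0
  · obtain ⟨-, w, hw, hw'⟩ := hU y hy hy0
    obtain ⟨v, hv, hvv, hvy⟩ := exists_iso_partner hf hy hyy hw (unitary_ne_symm hf hw')
    exact ⟨v, hv, hvv, unitary_ne_symm hf (by rw [hvy]; exact one_ne_zero)⟩
  · have hne : orthIn hf U y ≠ ⊥ := fun h => by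
      have := finrank_orthIn hf hy hyy
      rw [h, finrank_bot] at this
      omega
    obtain ⟨e, he, hee⟩ := exists_norm_one hf (nondeg_orthIn hf hU hy hyy) hne
    rw [mem_orthIn] at he
    obtain ⟨s, hs'⟩ := norm_surjective hf.ne_refl hf.involutive (a := -η y y)
      (by rw [map_neg, herm_self hf])
    refine ⟨y + s • e, U.add_mem hy (U.smul_mem _ he.1), ?_, ?_⟩
    · rw [hs.add_left, hs.add_right, hs.add_right, hs.smul_left, hs.smul_right, hs.smul_left,
        hs.smul_right, he.2, unitary_orth_symm hf he.2, hee, mul_one, hs']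
      ring
    · rw [hs.add_right, hs.smul_right, unitary_orth_symm hf he.2, mul_zero, add_zero]
      exact hyy

/-- A vector of norm one orthogonal to two given vectors in a subspace of dimension five. -/
theorem exists_norm_one_orth {U : Submodule F V} (hU : IsNondegenerateOn η U)
    (h5 : 5 ≤ Module.finrank F U) (u v : V) : ∃ e ∈ U, η e e = 1 ∧ η e u = 0 ∧ η e v = 0 := by
  have hs := sesqForm_of_unitary hf
  set K := orthIn hf (orthIn hf U u) v
  suffices ∃ e ∈ K, η e e ≠ 0 by
    obtain ⟨e, he, hee⟩ := this
    obtain ⟨s, hs'⟩ := norm_surjective hf.ne_refl hf.involutive (a := (η e e)⁻¹)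
      (by rw [map_inv₀, herm_self hf])
    rw [mem_orthIn, mem_orthIn] at he
    exact ⟨s • e, U.smul_mem _ he.1.1,
      by rw [hs.smul_left, hs.smul_right, ← mul_assoc, hs', inv_mul_cancel₀ hee],
      by rw [hs.smul_left, he.1.2, mul_zero], by rw [hs.smul_left, he.2, mul_zero]⟩
  by_contra hcon
  push Not at hcon
  have hts := singular_of_forall_iso hf hcon
  have hKU : K ≤ U := fun x hx => ((mem_orthIn hf).mp ((mem_orthIn hf).mp hx).1).1
  have hle : K ⊔ uPerp hf U ≤ uPerp hf K :=
    sup_le (fun s hs' t ht => hts s hs' t ht) fun w hw t ht => hw t (hKU ht)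
  have hinf : K ⊓ uPerp hf U = ⊥ := by
    rw [eq_bot_iff]
    rintro w ⟨hw, hw'⟩
    by_contra h0
    obtain ⟨-, z, hz, hz'⟩ := hU w (hKU hw) (by simpa using h0)
    exact hz' (hw' z hz)
  have h1 := Submodule.finrank_mono hle
  have h2 := Submodule.finrank_sup_add_finrank_inf_eq K (uPerp hf U)
  rw [hinf, finrank_bot] at h2
  have h3 := finrank_uPerp hf K
  have h4 := finrank_uPerp hf U
  have h6 := finrank_orthIn_ge hf U u
  have h7 : Module.finrank F (orthIn hf U u) ≤ Module.finrank F K + 1 := finrank_orthIn_ge hf _ v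
  omega

/-- In a non-degenerate subspace of dimension at least three a unit vector is orthogonal to any given vector. -/
theorem exists_norm_one_orth_one {U : Submodule F V} (hU : IsNondegenerateOn η U)
    (h3' : 3 ≤ Module.finrank F U) (u : V) : ∃ e ∈ U, η e e = 1 ∧ η e u = 0 := by
  have hs := sesqForm_of_unitary hf
  suffices ∃ e ∈ orthIn hf U u, η e e ≠ 0 by
    obtain ⟨e, he, hee⟩ := this
    obtain ⟨s, hs'⟩ := norm_surjective hf.ne_refl hf.involutive (a := (η e e)⁻¹)
      (by rw [map_inv₀, herm_self hf])
    rw [mem_orthIn] at he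
    exact ⟨s • e, U.smul_mem _ he.1,
      by rw [hs.smul_left, hs.smul_right, ← mul_assoc, hs', inv_mul_cancel₀ hee],
      by rw [hs.smul_left, he.2, mul_zero]⟩
  by_contra hcon
  push Not at hcon
  set K := orthIn hf U u with hK
  have hts := singular_of_forall_iso hf hcon
  have hKU : K ≤ U := fun x hx => ((mem_orthIn hf).mp hx).1
  have hle : K ⊔ uPerp hf U ≤ uPerp hf K :=
    sup_le (fun s hs' t ht => hts s hs' t ht) fun w hw t ht => hw t (hKU ht)
  have hinf : K ⊓ uPerp hf U = ⊥ := by
    rw [eq_bot_iff]
    rintro w ⟨hw, hw'⟩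
    by_contra h0
    obtain ⟨-, z, hz, hz'⟩ := hU w (hKU hw) (by simpa using h0)
    exact hz' (hw' z hz)
  have h1 := Submodule.finrank_mono hle
  have h2 := Submodule.finrank_sup_add_finrank_inf_eq K (uPerp hf U)
  rw [hinf, finrank_bot] at h2
  have h3 := finrank_uPerp hf K
  have h4 := finrank_uPerp hf U
  have h6 : Module.finrank F U ≤ Module.finrank F K + 1 := finrank_orthIn_ge hf U u
  omega

/-- A unitary element taking unit vectors to an adapted basis of an orthogonal decomposition. -/
theorem exists_adapted {t k : ℕ} {D : Fin t → Submodule F (Fin n → F)}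
    (hD : IsNondegenerateMDecomposition η k D) :
    ∃ (P : GL (Fin n) F) (e : Fin t × Fin k ≃ Fin n), P ∈ Cfsg.GU n F q ∧
      ∀ p, D p = Submodule.span F (Set.range fun r => (P : Mat) *ᵥ Pi.single (e (p, r)) 1) := by
  classical
  have hs := sesqForm_of_unitary hf
  choose b hb hbb using fun p => exists_frame hf (hD.nondegenerate p) (hD.decomp.finrank_eq p)
  let B : Fin t × Fin k → V := fun x => b x.1 x.2
  have hBB : ∀ x y, η (B x) (B y) = if x = y then 1 else 0 := by
    intro x y
    by_cases h : x.1 = y.1
    · obtain ⟨p, r⟩ := x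
      obtain ⟨p', r'⟩ := y
      obtain rfl : p = p' := h
      simp [B, hbb, Prod.mk.injEq]
    · rw [if_neg fun e => h (congrArg Prod.fst e)]
      exact hD.orthogonal _ _ h _ (hb _ _) _ (hb _ _)
  have hli : LinearIndependent F B := by
    rw [Fintype.linearIndependent_iff]
    intro g hg x
    have h := congrArg (fun y => η y (B x)) hg
    simp only [hs.zero_left] at h
    let L : V →ₗ[F] F :=
      { toFun := fun y => η y (B x)
        map_add' := fun a c => hs.add_left a c _
        map_smul' := fun c a => hs.smul_left c a _ }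
    change L (∑ i, g i • B i) = 0 at h
    rw [map_sum, Finset.sum_eq_single x (fun y _ hy => by simp [L, map_smul, hBB, hy]) (by simp)] at h
    simpa [L, hBB, hs.smul_left] using h
  have hspan : ∀ p, D p = Submodule.span F (Set.range (b p)) := by
    intro p
    refine (Submodule.eq_of_le_of_finrank_eq (Submodule.span_le.mpr ?_) ?_).symm
    · rintro x ⟨r, rfl⟩; exact hb p r
    · rw [hD.decomp.finrank_eq]
      have := finrank_span_eq_card (hli.comp (fun r => (p, r)) fun a c h => by simpa using h)
      rw [Fintype.card_fin] at this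
      exact this
  have htop : ⊤ ≤ Submodule.span F (Set.range B) := by
    rw [← hD.decomp.iSup_eq_top, iSup_le_iff]
    intro p
    rw [hspan p]
    exact Submodule.span_mono fun x ⟨r, hr⟩ => ⟨(p, r), hr⟩
  let bas : Module.Basis (Fin t × Fin k) F V := Module.Basis.mk hli htop
  have hcard : Fintype.card (Fin t × Fin k) = n := by
    rw [← Module.finrank_eq_card_basis bas, Module.finrank_fin_fun]
  let e : Fin t × Fin k ≃ Fin n := (Fintype.equivFin _).trans (finCongr hcard)
  let A : Mat := Matrix.of fun x y => B (e.symm y) x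
  have hcol : ∀ y, A *ᵥ Pi.single y 1 = B (e.symm y) := fun y => by funext x; simp [A]
  have hker : ∀ x : V, A *ᵥ x = 0 → x = 0 := by
    intro x hx
    funext y
    have h0 : ∑ z, x (e z) • B z = 0 := by
      rw [← hx]
      funext w
      rw [Finset.sum_apply, Matrix.mulVec, dotProduct, ← Equiv.sum_comp e fun z => A w z * x z]
      refine Finset.sum_congr rfl fun z _ => ?_
      simp [A, mul_comm]
    simpa using Fintype.linearIndependent_iff.mp hli _ h0 (e.symm y)
  have hA : IsUnit A := mulVec_injective_iff_isUnit.mp fun x y h => sub_eq_zero.mp (hker _ (by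
    rw [mulVec_sub]; exact sub_eq_zero.mpr h))
  refine ⟨hA.unit, e, mem_GU_iff_forall.mpr fun x y => ?_, fun p => ?_⟩
  · show η (A *ᵥ x) (A *ᵥ y) = η x y
    have hx : ∀ z : V, A *ᵥ z = ∑ i, z i • B (e.symm i) := fun z => by
      funext w
      rw [Finset.sum_apply, Matrix.mulVec, dotProduct]
      refine Finset.sum_congr rfl fun i _ => ?_
      simp [A, mul_comm]
    have hl : ∀ (s : Finset (Fin n)) (c : Fin n → V) (z : V),
        η (∑ i ∈ s, c i) z = ∑ i ∈ s, η (c i) z := by
      intro s c z
      induction s using Finset.induction_on with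
      | empty => simp [hs.zero_left]
      | insert a s ha ih => rw [Finset.sum_insert ha, Finset.sum_insert ha, hs.add_left, ih]
    have hr : ∀ (s : Finset (Fin n)) (c : Fin n → V) (z : V),
        η z (∑ i ∈ s, c i) = ∑ i ∈ s, η z (c i) := by
      intro s c z
      induction s using Finset.induction_on with
      | empty => simp [hs.zero_right]
      | insert a s ha ih => rw [Finset.sum_insert ha, Finset.sum_insert ha, hs.add_right, ih]
    rw [hx, hx, hl]
    simp only [hr, hs.smul_left, hs.smul_right, hBB, EmbeddingLike.apply_eq_iff_eq]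
    have hr' : η x y = ∑ i, x i * σ (y i) := by
      conv_lhs => rw [pi_eq_sum_univ' x, pi_eq_sum_univ' y]
      rw [hl]
      simp only [hr, hs.smul_left, hs.smul_right]
      refine Finset.sum_congr rfl fun i _ => ?_
      rw [Finset.sum_eq_single i]
      · rw [show η (Pi.single i 1) (Pi.single i 1) = (1 : F) by
          show ∑ l, (Pi.single i (1 : F) : V) l * (Pi.single i (1 : F) : V) l ^ q = 1
          rw [Finset.sum_eq_single i] <;> simp +contextual]
        ring
      · intro j _ hj
        have hq : q ≠ 0 := by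
          rintro rfl
          have := hs.zero_right (Pi.single i (1 : F))
          simp [Cfsg.hermForm, Pi.single_apply] at this
        rw [show η (Pi.single i 1) (Pi.single j 1) = (0 : F) by
          simp [Cfsg.hermForm, Pi.single_apply, hj, Ne.symm hj, zero_pow hq]]
        ring
      · simp
    rw [hr']
    refine Finset.sum_congr rfl fun i _ => ?_
    simp
  · rw [hspan p]
    congr 1
    ext x
    simp only [Set.mem_range]
    refine exists_congr fun r => ?_
    rw [show ((hA.unit : GL (Fin n) F) : Mat) *ᵥ Pi.single (e (p, r)) 1 = b p r by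
      rw [IsUnit.unit_spec, hcol, Equiv.symm_apply_apply]]

end CfsgLib.MaxSub.UC
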