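import Cfsg.Agent.MaxSub.UnitaryCircle
import Cfsg.Agent.MaxSub.UnitaryClasses
import Cfsg.Agent.MaxSub.UnitaryDecomposition
import Cfsg.Agent.MaxSub.Monomial

/-!
# Overgroups of the monomial group in the special unitary group: fixing a coordinate line

`exists_fixer`: a subgroup of `SU` containing the unitary monomial matrices of determinant one and another
element contains a non-monomial element fixing a coordinate line. In odd characteristic zeros are created
in columns of elements; in characteristic two a conjugate of a monomial transvection is moved.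
-/

set_option autoImplicit false
set_option linter.unusedSectionVars false

namespace CfsgLib.MaxSub.UMono

open Matrix Cfsg.Geo CfsgLib.MaxSub.UC CfsgLib.MaxSub.Monomial CfsgLib.MaxSub.Circle

variable {F : Type*} [Field F] [Fintype F] {n q : ℕ} {σ : F ≃+* F}

local notation "V" => (Fin n → F)
local notation "η" => Cfsg.hermForm n F q
local notation "Mat" => Matrix (Fin n) (Fin n) F
local notation "ε⟦" r "⟧" => (Pi.single r (1 : F) : Fin n → F)

/-- `M` contains the unitary monomial elements of determinant one. -/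
def UMonoIn (σ : F ≃+* F) (M : Subgroup (GL (Fin n) F)) : Prop :=
  ∀ (φ : Equiv.Perm (Fin n)) (d : Fin n → Fˣ), (∀ r, (d r : F) ∈ normOne σ) →
    (monEl φ d : Matrix (Fin n) (Fin n) F).det = 1 → monEl φ d ∈ M

/-- A non-monomial element of `M` fixes a coordinate line. -/
def Fixer (M : Subgroup (GL (Fin n) F)) : Prop :=
  ∃ k, ∃ g ∈ M, ¬ Mono g ∧ ∃ α : F, (g : Matrix (Fin n) (Fin n) F) *ᵥ Pi.single k 1 = α • Pi.single k 1

/-- `M` contains the products of opposite quasi-reflections of two orthogonal unit vectors. -/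
def DRefIn (q : ℕ) (σ : F ≃+* F) (M : Subgroup (GL (Fin n) F)) (u w : Fin n → F) : Prop :=
  Cfsg.hermForm n F q u u = 1 ∧ Cfsg.hermForm n F q w w = 1 ∧ Cfsg.hermForm n F q u w = 0 ∧
    ∀ l ∈ normOne σ, ∃ R ∈ M, ∀ x, (R : Matrix (Fin n) (Fin n) F) *ᵥ x =
      x + ((l - 1) * Cfsg.hermForm n F q x u) • u + ((l⁻¹ - 1) * Cfsg.hermForm n F q x w) • w

variable (hf : IsUnitaryForm σ (Cfsg.hermForm n F q)) (hb : IsBar q σ)
include hf hb

theorem herm_apply (x y : V) : η x y = ∑ i, x i * σ (y i) := by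
  simp only [Cfsg.hermForm, hb.eq_pow]

theorem herm_single_right (x : V) (p : Fin n) : η x ε⟦p⟧ = x p := by
  rw [herm_apply hf hb, Finset.sum_eq_single p] <;> simp +contextual

theorem herm_single_left (x : V) (p : Fin n) : η ε⟦p⟧ x = σ (x p) := by
  rw [herm_apply hf hb, Finset.sum_eq_single p] <;> simp +contextual

theorem col_apply' (g : GL (Fin n) F) (p r : Fin n) : ((g : Mat) *ᵥ ε⟦r⟧) p = (g : Mat) p r := by simp

theorem inv_entry {g : GL (Fin n) F} (hg : g ∈ Cfsg.GU n F q) (r p : Fin n) :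
    ((g⁻¹ : GL (Fin n) F) : Mat) r p = σ ((g : Mat) p r) := by
  rw [← col_apply' hf hb, ← herm_single_right hf hb (((g⁻¹ : GL (Fin n) F) : Mat) *ᵥ ε⟦p⟧) r,
    ← mem_GU_iff_forall.mp hg, mulVec_mulVec, Units.mul_inv, one_mulVec, herm_single_left hf hb,
    col_apply' hf hb]

theorem col_herm {g : GL (Fin n) F} (hg : g ∈ Cfsg.GU n F q) (a b : Fin n) :
    η ((g : Mat) *ᵥ ε⟦a⟧) ((g : Mat) *ᵥ ε⟦b⟧) = if a = b then 1 else 0 := by
  rw [mem_GU_iff_forall.mp hg, herm_single_right hf hb, Pi.single_apply]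
  by_cases h : a = b
  · subst h; simp
  · rw [if_neg (Ne.symm h), if_neg h]

theorem mono_unitary {g : GL (Fin n) F} (hg : g ∈ Cfsg.GU n F q) (h : Mono g) :
    ∃ (π : Equiv.Perm (Fin n)) (d : Fin n → Fˣ), (∀ r, (d r : F) ∈ normOne σ) ∧ g = monEl π d := by
  obtain ⟨π, d, rfl⟩ := h.eq_monEl
  refine ⟨π, d, fun r => (mem_normOne hb).mpr ?_, rfl⟩
  have := col_herm hf hb hg r r
  rwa [if_pos rfl, monEl_single, (sesqForm_of_unitary hf).smul_left, (sesqForm_of_unitary hf).smul_right,
    herm_single_right hf hb, Pi.single_eq_same, mul_one] at this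

theorem monEl_mem_GU' {φ : Equiv.Perm (Fin n)} {d : Fin n → Fˣ} (hd : ∀ r, (d r : F) ∈ normOne σ) :
    monEl φ d ∈ Cfsg.GU n F q :=
  monEl_mem_GU hf hb.eq_pow φ d fun r => (mem_normOne hb).mp (hd r)

theorem sign_normOne (φ : Equiv.Perm (Fin n)) :
    ((Units.map (Int.castRingHom F).toMonoidHom (Equiv.Perm.sign φ) : Fˣ) : F) ∈ normOne σ := by
  rcases Int.units_eq_one_or (Equiv.Perm.sign φ) with h | h <;> simp [h, mem_normOne hb]

theorem exists_perm_mem {M : Subgroup (GL (Fin n) F)} (hM : UMonoIn σ M) (π : Equiv.Perm (Fin n)) (k : Fin n) :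
    ∃ d : Fin n → Fˣ, (∀ r, (d r : F) ∈ normOne σ) ∧ (∀ r, r ≠ k → d r = 1) ∧ monEl π d ∈ M := by
  set P : Fˣ := Units.map (Int.castRingHom F).toMonoidHom (Equiv.Perm.sign π) with hP
  refine ⟨fun r => if r = k then P⁻¹ else 1, fun r => ?_, fun r hr => if_neg hr, hM _ _ (fun r => ?_) ?_⟩
  iterate 2
    by_cases hr : r = k
    · simp only [if_pos hr, Units.val_inv_eq_inv_val]
      exact Circle.inv_mem hb (sign_normOne hf hb π)
    · simpa [hr] using Circle.one_mem hb
  rw [det_monEl, ← Units.coe_prod, Finset.prod_ite_eq' _ k, if_pos (Finset.mem_univ _)]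
  show ((P : Fˣ) : F) * _ = 1
  simp

theorem mono_of_left {m g : GL (Fin n) F} (hm : Mono m) (h : Mono (m * g)) : Mono g := by
  have := hm.inv.mul h
  rwa [inv_mul_cancel_left] at this

theorem fixer_of_single_col {M : Subgroup (GL (Fin n) F)} (hM : UMonoIn σ M) {g : GL (Fin n) F} (hg : g ∈ M)
    (hg' : ¬ Mono g) {c r : Fin n} (h : ∀ p, p ≠ r → (g : Mat) p c = 0) : Fixer M := by
  obtain ⟨d, -, -, hd⟩ := exists_perm_mem hf hb hM (Equiv.swap r c) c
  refine ⟨c, _, M.mul_mem hd hg, fun hm => hg' (mono_of_left hf hb (mono_monEl _ _) hm),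
    (g : Mat) r c * d r, ?_⟩
  have e : (g : Mat) *ᵥ ε⟦c⟧ = (g : Mat) r c • ε⟦r⟧ := by
    funext p
    by_cases hp : p = r
    · subst hp; simp
    · simp [hp, h p hp]
  rw [Units.val_mul, ← mulVec_mulVec, e, mulVec_smul, monEl_single, Equiv.swap_apply_left, smul_smul]

theorem dref_conj {M : Subgroup (GL (Fin n) F)} {u w : V} (h : DRefIn q σ M u w) {g : GL (Fin n) F}
    (hg : g ∈ M) (hgU : g ∈ Cfsg.GU n F q) : DRefIn q σ M ((g : Mat) *ᵥ u) ((g : Mat) *ᵥ w) := by
  obtain ⟨hu, hw, huw, h⟩ := h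
  refine ⟨by rw [mem_GU_iff_forall.mp hgU, hu], by rw [mem_GU_iff_forall.mp hgU, hw],
    by rw [mem_GU_iff_forall.mp hgU, huw], fun l hl => ?_⟩
  obtain ⟨R, hR, hRa⟩ := h l hl
  refine ⟨g * R * g⁻¹, M.mul_mem (M.mul_mem hg hR) (M.inv_mem hg), fun x => ?_⟩
  set y := ((g⁻¹ : GL (Fin n) F) : Mat) *ᵥ x with hy
  have hx : x = (g : Mat) *ᵥ y := by rw [hy, mulVec_mulVec, Units.mul_inv, one_mulVec]
  rw [Units.val_mul, Units.val_mul, ← mulVec_mulVec, ← mulVec_mulVec, ← hy, hRa, mulVec_add, mulVec_add,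
    mulVec_smul, mulVec_smul, hx, mem_GU_iff_forall.mp hgU, mem_GU_iff_forall.mp hgU]

theorem dref_single {M : Subgroup (GL (Fin n) F)} (hM : UMonoIn σ M) {i j : Fin n} (hij : i ≠ j) :
    DRefIn q σ M ε⟦i⟧ ε⟦j⟧ := by
  refine ⟨by rw [herm_single_right hf hb]; simp, by rw [herm_single_right hf hb]; simp,
    by rw [herm_single_right hf hb]; simp [Ne.symm hij], fun l hl => ?_⟩
  set lu : Fˣ := Units.mk0 l (ne_zero_of_mem hb hl)
  refine ⟨pairDiag i j lu, hM _ _ (fun r => ?_) ?_, fun x => ?_⟩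
  · try dsimp only
    split_ifs
    · exact hl
    · simpa [lu] using Circle.inv_mem hb hl
    · simpa using Circle.one_mem hb
  · rw [det_monEl, map_one, Units.val_one, Int.cast_one, one_mul, ← Units.coe_prod,
      Finset.prod_eq_mul i j hij (fun r _ hr => by simp [hr.1, hr.2]) (by simp) (by simp)]
    simp [Ne.symm hij]
  · funext p
    rw [pairDiag_mulVec, herm_single_right hf hb, herm_single_right hf hb]
    by_cases hi : p = i
    · subst hi; simp [lu, hij]; ring
    by_cases hj : p = j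
    · subst hj; simp [lu, hi]; ring
    · simp [hi, hj]

/-! ### Monomial elements close to the identity -/

theorem fixed_of_rank_two {π : Equiv.Perm (Fin n)} {δ : Fin n → Fˣ} {P Q : V} {N : ℕ} (hN3 : 3 ≤ N)
    (hN : ∀ r r', ({r, π r, π.symm r, r', π r', π.symm r'} : Finset (Fin n)).card ≤ N)
    (hv : ∀ r, ∃ a b : F, (δ r : F) • ε⟦π r⟧ - ε⟦r⟧ = a • P + b • Q) :
    ∃ S : Finset (Fin n), S.card ≤ N ∧ ∀ r, r ∉ S → π r = r ∧ (δ r : F) = 1 := by
  classical
  by_contra hcon
  push Not at hcon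
  obtain ⟨r₁, -, h₁⟩ := hcon ∅ (by simp)
  obtain ⟨r₂, hr₂, h₂⟩ := hcon {r₁, π r₁, π.symm r₁} (Finset.card_le_three.trans hN3)
  obtain ⟨r₃, hr₃, h₃⟩ := hcon {r₁, π r₁, π.symm r₁, r₂, π r₂, π.symm r₂} (hN r₁ r₂)
  simp only [Finset.mem_insert, Finset.mem_singleton, not_or] at hr₂ hr₃
  let r : Fin 3 → Fin n := ![r₁, r₂, r₃]
  have hmoved : ∀ i, π (r i) ≠ r i ∨ (δ (r i) : F) ≠ 1 := by
    intro i
    fin_cases i
    · exact or_iff_not_imp_left.mpr fun h => h₁ (not_not.mp h)
    · exact or_iff_not_imp_left.mpr fun h => h₂ (not_not.mp h)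
    · exact or_iff_not_imp_left.mpr fun h => h₃ (not_not.mp h)
  have hne : ∀ i, ((δ (r i) : F) • ε⟦π (r i)⟧ - ε⟦r i⟧) (r i) ≠ 0 := by
    intro i
    by_cases hp : π (r i) = r i
    · simpa [hp, sub_eq_zero] using (hmoved i).resolve_left (fun h => h hp)
    · simp [Ne.symm hp]
  have hsym : ∀ a b : Fin n, b ≠ π.symm a → π b ≠ a := fun a b h e => h (by rw [← e, Equiv.symm_apply_apply])
  have h21 := hsym r₁ r₂ hr₂.2.2
  have h31 := hsym r₁ r₃ hr₃.2.2.1
  have h32 := hsym r₂ r₃ hr₃.2.2.2.2.2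
  have hoff : ∀ i j, i ≠ j → ((δ (r j) : F) • ε⟦π (r j)⟧ - ε⟦r j⟧) (r i) = 0 := by
    intro i j hij
    fin_cases i <;> fin_cases j <;>
      first
        | exact absurd rfl hij
        | simp [r, hr₂.1, Ne.symm hr₂.1, hr₂.2.1, hr₃.1, Ne.symm hr₃.1, hr₃.2.1, hr₃.2.2.2.1, Ne.symm hr₃.2.2.2.1,
            hr₃.2.2.2.2.1, Ne.symm h21, Ne.symm h31, Ne.symm h32]
  choose a b hab using fun i => hv (r i)
  obtain ⟨w, hw0, hw⟩ := exists_kernel (Matrix.of fun (e : Fin 2) (i : Fin 3) => if e = 0 then a i else b i)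
  refine hw0 (funext fun i => ?_)
  have hsum : ∑ j, w j • ((δ (r j) : F) • ε⟦π (r j)⟧ - ε⟦r j⟧) = 0 := by
    have e0 : ∑ j, a j * w j = 0 := by
      have := congrFun hw 0; simpa [Matrix.mulVec, dotProduct] using this
    have e1 : ∑ j, b j * w j = 0 := by
      have := congrFun hw 1; simpa [Matrix.mulVec, dotProduct] using this
    simp only [hab, smul_add, smul_smul, Finset.sum_add_distrib, ← Finset.sum_smul]
    rw [show ∑ j, w j * a j = 0 by rw [← e0]; simp [mul_comm],
      show ∑ j, w j * b j = 0 by rw [← e1]; simp [mul_comm]]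
    simp
  have h := congrFun hsum (r i)
  rw [Finset.sum_apply, Finset.sum_eq_single i (fun j _ hj => by
    rw [Pi.smul_apply, hoff i j (Ne.symm hj), smul_zero]) (by simp)] at h
  rw [Pi.smul_apply, smul_eq_mul] at h
  exact (mul_eq_zero.mp h).resolve_right (hne i)

theorem pair_indep {g : GL (Fin n) F} {c c' : Fin n} (hcc : c ≠ c') {a b : F}
    (h : a • ((g : Mat) *ᵥ ε⟦c⟧) + b • ((g : Mat) *ᵥ ε⟦c'⟧) = 0) : a = 0 ∧ b = 0 := by
  have e : (g : Mat) *ᵥ (a • ε⟦c⟧ + b • ε⟦c'⟧) = 0 := by rw [mulVec_add, mulVec_smul, mulVec_smul]; exact h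
  have := UC.mulVec_eq_zero hf e
  exact ⟨by simpa [hcc] using congrFun this c, by simpa [Ne.symm hcc] using congrFun this c'⟩

/-- Two zeros in a row confine two columns to three coordinates. -/
theorem pair_zero {M : Subgroup (GL (Fin n) F)} (hM : UMonoIn σ M) (hMU : M ≤ Cfsg.GU n F q)
    {g : GL (Fin n) F} (hg : g ∈ M) (hg' : ¬ Mono g) {k c c' : Fin n} (hcc : c ≠ c')
    (h1 : (g : Mat) k c = 0) (h2 : (g : Mat) k c' = 0) :
    Fixer M ∨ ∃ S : Finset (Fin n), S.card ≤ 3 ∧ (3 ≤ q → S.card ≤ 2) ∧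
      ∀ p, p ∉ S → (g : Mat) p c = 0 ∧ (g : Mat) p c' = 0 := by
  classical
  have hs := sesqForm_of_unitary hf
  have hgU := hMU hg
  obtain ⟨l, hl, hlord⟩ := exists_order hb
  have hq := two_le hb
  have hl1 : l ≠ 1 := by simpa using hlord 1 (by omega) one_pos
  have hl2 : l ^ 2 ≠ 1 := hlord 2 hq two_pos
  have hl0 := ne_zero_of_mem hb hl
  set P := (g : Mat) *ᵥ ε⟦c⟧ with hP
  set Q := (g : Mat) *ᵥ ε⟦c'⟧ with hQ
  obtain ⟨hPP, hQQ, hPQ, href⟩ := dref_conj hf hb (dref_single hf hb hM hcc) hg hgU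
  rw [← hP, ← hQ] at hPQ
  rw [← hP] at hPP
  rw [← hQ] at hQQ
  obtain ⟨u, hu, hua⟩ := href l hl
  simp only [← hP, ← hQ] at hua
  by_cases hmono : Mono u
  swap
  · refine Or.inl ⟨k, u, hu, hmono, 1, ?_⟩
    rw [hua, herm_single_left hf hb, herm_single_left hf hb, hP, hQ, col_apply' hf hb, col_apply' hf hb, h1, h2]
    simp
  by_contra hno
  push Not at hno
  obtain ⟨hnofix, hno⟩ := hno
  obtain ⟨π, δ, hπ⟩ := hmono.eq_monEl
  have hcP : ∀ p, δ (π.symm p) * P (π.symm p) = l * P p := fun p => by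
    have := congrFun (hua P) p
    rw [hπ, monEl_mulVec, hPP, hPQ] at this
    rw [this]
    simp
    ring
  have hcQ : ∀ p, δ (π.symm p) * Q (π.symm p) = l⁻¹ * Q p := fun p => by
    have := congrFun (hua Q) p
    rw [hπ, monEl_mulVec, hQQ, unitary_orth_symm hf hPQ] at this
    rw [this]
    simp
    ring
  let v : Fin n → V := fun r => (δ r : F) • ε⟦π r⟧ - ε⟦r⟧
  have hv : ∀ r, ∃ a b : F, v r = a • P + b • Q := fun r =>
    ⟨(l - 1) * η ε⟦r⟧ P, (l⁻¹ - 1) * η ε⟦r⟧ Q, by
      have := hua ε⟦r⟧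
      rw [hπ, monEl_single] at this
      simp only [v, this]
      abel⟩
  have hind : ∀ a b : F, a • P + b • Q = 0 → a = 0 ∧ b = 0 := fun a b h => pair_indep hf hb hcc h
  have hcolP : ∀ r, (∀ p, p ≠ r → P p = 0) → False := fun r h =>
    hnofix (fixer_of_single_col hf hb hM hg hg' (c := c) (r := r) fun p hp => by simpa [hP] using h p hp)
  have hcolQ : ∀ r, (∀ p, p ≠ r → Q p = 0) → False := fun r h =>
    hnofix (fixer_of_single_col hf hb hM hg hg' (c := c') (r := r) fun p hp => by simpa [hQ] using h p hp)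
  -- fixed points of the permutation have entry one
  have hfix : ∀ r, π r = r → (δ r : F) = 1 := by
    intro r hr
    by_contra hne
    obtain ⟨a, b, hab⟩ := hv r
    have hx : ∀ p, p ≠ r → a * P p + b * Q p = 0 := fun p hp => by
      have := congrFun hab p
      simpa [v, hr, hp] using this.symm
    have hx' : ∀ p, a * (l - δ r) * P p + b * (l⁻¹ - δ r) * Q p = 0 := by
      intro p
      by_cases hp : p = r
      · subst hp
        have e1 := hcP p
        have e2 := hcQ p
        rw [show π.symm p = p by rw [Equiv.symm_apply_eq, hr]] at e1 e2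
        linear_combination -a * e1 - b * e2
      · have hp' : π.symm p ≠ r := fun e => hp (by rw [Equiv.symm_apply_eq] at e; rw [e, hr])
        linear_combination -a * hcP p - b * hcQ p + (δ (π.symm p) : F) * hx _ hp' - (δ r : F) * hx p hp
    obtain ⟨ha, hb'⟩ := hind (a * (l - δ r)) (b * (l⁻¹ - δ r)) (funext fun p => by simpa using hx' p)
    rcases mul_eq_zero.mp ha with ha0 | ha0
    · refine hcolQ r fun p hp => ?_
      have hb0 : b ≠ 0 := fun hb0 => hne (by
        have := congrFun hab r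
        simp [v, hr, ha0, hb0] at this
        linear_combination this)
      have := hx p hp
      simpa [ha0, hb0] using this
    · rcases mul_eq_zero.mp hb' with hb0 | hb0
      · refine hcolP r fun p hp => ?_
        have ha1 : a ≠ 0 := fun ha1 => hne (by
          have := congrFun hab r
          simp [v, hr, ha1, hb0] at this
          linear_combination this)
        have := hx p hp
        simpa [ha1, hb0] using this
      · refine hl2 ?_
        have : l = l⁻¹ := by linear_combination ha0 - hb0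
        rw [pow_two]
        nth_rewrite 2 [this]
        exact mul_inv_cancel₀ hl0
  have hPfix : ∀ r, π r = r → P r = 0 ∧ Q r = 0 := fun r hr => by
    have e1 := hcP r
    have e2 := hcQ r
    rw [show π.symm r = r by rw [Equiv.symm_apply_eq, hr], hfix r hr, one_mul] at e1 e2
    refine ⟨?_, ?_⟩
    · have : (l - 1) * P r = 0 := by linear_combination -e1
      exact (mul_eq_zero.mp this).resolve_left (sub_ne_zero.mpr hl1)
    · have : (l⁻¹ - 1) * Q r = 0 := by linear_combination -e2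
      exact (mul_eq_zero.mp this).resolve_left (sub_ne_zero.mpr fun e => hl1 (inv_eq_one.mp e))
  obtain ⟨r₁, hr₁⟩ : ∃ r, π r ≠ r := by
    by_contra hcon
    push Not at hcon
    have := (hind 1 0 (funext fun p => by simp [(hPfix p (hcon p)).1])).1
    exact one_ne_zero this
  set r₂ := π r₁ with hr₂
  have hr₂₂ : π r₂ ≠ r₂ := fun e => hr₁ (π.injective e)
  have hspan : ∀ x y : Fin n, (∀ s t : F, s • v x + t • v y = 0 → s = 0 ∧ t = 0) →
      ∀ a b : F, ∃ s t : F, a • P + b • Q = s • v x + t • v y := by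
    intro x y hxy a b
    obtain ⟨ax, bx, hx⟩ := hv x
    obtain ⟨ay, by', hy⟩ := hv y
    have hD : ax * by' - ay * bx ≠ 0 := by
      intro h0
      obtain ⟨e1, e2⟩ := hxy by' (-bx) (by
        rw [hx, hy]; match_scalars
        · linear_combination h0
        · ring)
      obtain ⟨e3, e4⟩ := hxy ay (-ax) (by
        rw [hx, hy]; match_scalars
        · ring
        · linear_combination -h0)
      have hax : ax = 0 := neg_eq_zero.mp e4
      have hbx : bx = 0 := neg_eq_zero.mp e2
      exact one_ne_zero (hxy 1 0 (by rw [hx, hax, hbx]; simp)).1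
    set E := ax * by' - ay * bx with hE
    have ea : (a * by' - b * ay) / E * ax + (b * ax - a * bx) / E * ay = a := by
      rw [div_mul_eq_mul_div, div_mul_eq_mul_div, ← add_div, div_eq_iff hD, hE]; ring
    have eb : (a * by' - b * ay) / E * bx + (b * ax - a * bx) / E * by' = b := by
      rw [div_mul_eq_mul_div, div_mul_eq_mul_div, ← add_div, div_eq_iff hD, hE]; ring
    refine ⟨(a * by' - b * ay) / E, (b * ax - a * bx) / E, ?_⟩
    rw [hx, hy, smul_add, smul_add, smul_smul, smul_smul, smul_smul, smul_smul, add_add_add_comm,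
      ← add_smul, ← add_smul, ea, eb]
  by_cases hσ2 : π r₂ = r₁
  · obtain ⟨r₃, hr₃, h₃1, h₃2⟩ : ∃ r, π r ≠ r ∧ r ≠ r₁ ∧ r ≠ r₂ := by
      by_contra hcon
      push Not at hcon
      obtain ⟨p, hp, hp'⟩ := hno {r₁, r₂} (Finset.card_le_two.trans (by norm_num)) fun _ => Finset.card_le_two
      simp only [Finset.mem_insert, Finset.mem_singleton, not_or] at hp
      by_cases hs' : π p = p
      · exact hp' (by simpa [hP] using (hPfix p hs').1) (by simpa [hQ] using (hPfix p hs').2)
      · exact hp.2 (hcon p hs' hp.1)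
    have e31 : π r₃ ≠ r₁ := fun e => h₃2 (π.injective (e.trans hσ2.symm))
    have hxy : ∀ s t : F, s • v r₁ + t • v r₃ = 0 → s = 0 ∧ t = 0 := by
      intro s t h
      have e1 := congrFun h r₁
      have e3 := congrFun h r₃
      simp [v, Ne.symm h₃1, Ne.symm e31, Ne.symm hr₁, ← hr₂] at e1
      simp [v, h₃1, Ne.symm hr₃, ← hr₂, h₃2, e1] at e3
      exact ⟨e1, e3⟩
    obtain ⟨s, t, hst⟩ := hv r₂
    obtain ⟨a, b, hab⟩ := hspan r₁ r₃ hxy s t
    rw [← hst] at hab
    have e2 := congrFun hab r₂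
    have e3 := congrFun hab r₃
    have e1 := congrFun hab r₁
    have e32 : π r₃ ≠ r₂ := fun e => h₃1 (π.injective e)
    simp [v, hσ2, h₃1, h₃2, Ne.symm hr₃, ← hr₂] at e3
    simp [v, hσ2, ← hr₂, hr₁, e3] at e2
    simp [v, hσ2, ← hr₂, Ne.symm hr₁, e3] at e1
    have hd : (δ r₁ : F) * δ r₂ = 1 := by linear_combination (δ r₁ : F) * e1 + e2
    have hz : ∀ (R : V) (μ : F), μ ^ 2 ≠ 1 → (∀ p, δ (π.symm p) * R (π.symm p) = μ * R p) → R r₁ = 0 := by
      intro R μ hμ hR
      have f1 := hR r₁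
      have f2 := hR r₂
      rw [show π.symm r₁ = r₂ by rw [Equiv.symm_apply_eq, hσ2]] at f1
      rw [show π.symm r₂ = r₁ by rw [Equiv.symm_apply_eq, hr₂]] at f2
      have : (μ ^ 2 - 1) * R r₁ = 0 := by linear_combination R r₁ * hd - μ * f1 - (δ r₂ : F) * f2
      exact (mul_eq_zero.mp this).resolve_left (sub_ne_zero.mpr hμ)
    obtain ⟨s', t', hst'⟩ := hv r₁
    have := congrFun hst' r₁
    simp [v, ← hr₂, Ne.symm hr₁, hz P l hl2 hcP,
      hz Q l⁻¹ (by rw [inv_pow]; exact fun e => hl2 (inv_eq_one.mp e)) hcQ] at this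
  · set r₃ := π r₂ with hr₃
    have e12 : r₁ ≠ r₂ := Ne.symm hr₁
    have hxy : ∀ s t : F, s • v r₁ + t • v r₂ = 0 → s = 0 ∧ t = 0 := by
      intro s t h
      have e1 := congrFun h r₁
      have e3 := congrFun h r₃
      simp [v, ← hr₂, ← hr₃, e12, Ne.symm hσ2] at e1
      simp [v, ← hr₂, ← hr₃, hr₂₂, hσ2, e1] at e3
      exact ⟨e1, e3⟩
    obtain ⟨sP, tP, hP'⟩ := hspan r₁ r₂ hxy 1 0
    obtain ⟨sQ, tQ, hQ'⟩ := hspan r₁ r₂ hxy 0 1
    rw [one_smul, zero_smul, add_zero] at hP'
    rw [one_smul, zero_smul, zero_add] at hQ'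
    have hout : ∀ p, p ∉ ({r₁, r₂, r₃} : Finset (Fin n)) → P p = 0 ∧ Q p = 0 := by
      intro p hp
      simp only [Finset.mem_insert, Finset.mem_singleton, not_or] at hp
      have a1 := congrFun hP' p
      have a2 := congrFun hQ' p
      simp [v, ← hr₂, ← hr₃, hp.1, hp.2.1, hp.2.2] at a1
      simp [v, ← hr₂, ← hr₃, hp.1, hp.2.1, hp.2.2] at a2
      exact ⟨a1, a2⟩
    rcases Nat.lt_or_ge q 3 with hq3 | hq3
    · obtain ⟨p, hp, hp'⟩ := hno {r₁, r₂, r₃} Finset.card_le_three fun h => absurd h (by omega)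
      exact hp' (by simpa [hP] using (hout p hp).1) (by simpa [hQ] using (hout p hp).2)
    -- a three-cycle has the three roots of one number as eigenvalues
    have n13 : r₁ ≠ r₃ := Ne.symm hσ2
    have n23 : r₂ ≠ r₃ := Ne.symm hr₂₂
    have cyc : ∀ (X : V) (μ : F), μ ≠ 0 → X ≠ 0 → (∀ p, p ∉ ({r₁, r₂, r₃} : Finset (Fin n)) → X p = 0) →
        (∀ p, δ (π.symm p) * X (π.symm p) = μ * X p) →
        (δ r₁ : F) * δ r₂ * δ r₃ = μ ^ 3 := by
      intro X μ hμ hX hXout hXeq
      have f : ∀ p, (δ p : F) * X p = μ * X (π p) := fun p => by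
        have := hXeq (π p); rwa [Equiv.symm_apply_apply] at this
      by_cases h31 : π r₃ = r₁
      · have f1 := f r₁
        have f2 := f r₂
        have f3 := f r₃
        rw [← hr₂] at f1
        rw [← hr₃] at f2
        rw [h31] at f3
        have hX1 : X r₁ ≠ 0 := fun h => hX (funext fun p => by
          rw [h, mul_zero] at f1
          have e2 : X r₂ = 0 := (mul_eq_zero.mp f1.symm).resolve_left hμ
          rw [e2, mul_zero] at f2
          have e3 : X r₃ = 0 := (mul_eq_zero.mp f2.symm).resolve_left hμ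
          by_cases hp : p ∈ ({r₁, r₂, r₃} : Finset (Fin n))
          · simp only [Finset.mem_insert, Finset.mem_singleton] at hp
            rcases hp with rfl | rfl | rfl <;> assumption
          · exact hXout p hp)
        refine mul_right_cancel₀ hX1 ?_
        linear_combination ((δ r₂ : F) * δ r₃) * f1 + (μ * (δ r₃ : F)) * f2 + μ ^ 2 * f3
      · exfalso
        have e3 : π r₃ ∉ ({r₁, r₂, r₃} : Finset (Fin n)) := by
          simp only [Finset.mem_insert, Finset.mem_singleton, not_or]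
          exact ⟨h31, fun e => n13 (π.injective e).symm, fun e => n23 (π.injective e).symm⟩
        have x3 : X r₃ = 0 := by
          have := f r₃
          rw [hXout _ e3, mul_zero] at this
          exact (mul_eq_zero.mp this).resolve_left (δ r₃).ne_zero
        have x2 : X r₂ = 0 := by
          have := f r₂
          rw [← hr₃, x3, mul_zero] at this
          exact (mul_eq_zero.mp this).resolve_left (δ r₂).ne_zero
        have x1 : X r₁ = 0 := by
          have := f r₁
          rw [← hr₂, x2, mul_zero] at this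
          exact (mul_eq_zero.mp this).resolve_left (δ r₁).ne_zero
        refine hX (funext fun p => ?_)
        by_cases hp : p ∈ ({r₁, r₂, r₃} : Finset (Fin n))
        · simp only [Finset.mem_insert, Finset.mem_singleton] at hp
          rcases hp with rfl | rfl | rfl <;> assumption
        · exact hXout p hp
    have hP0 : P ≠ 0 := fun h => one_ne_zero (hind 1 0 (by simp [h])).1
    have cP := cyc P l hl0 hP0 (fun p hp => (hout p hp).1) hcP
    obtain ⟨w, hw0, hw⟩ := exists_kernel (Matrix.of fun (e : Fin 2) (i : Fin 3) =>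
      σ ((if e = 0 then P else Q) (![r₁, r₂, r₃] i)))
    set x : V := w 0 • ε⟦r₁⟧ + w 1 • ε⟦r₂⟧ + w 2 • ε⟦r₃⟧ with hx
    have hx1 : x r₁ = w 0 := by simp [hx, e12, n13]
    have hx2 : x r₂ = w 1 := by simp [hx, Ne.symm e12, n23]
    have hx3 : x r₃ = w 2 := by simp [hx, Ne.symm n13, Ne.symm n23]
    have hx0 : x ≠ 0 := fun h => hw0 (funext fun i => by
      fin_cases i
      · simpa [hx1] using congrFun h r₁
      · simpa [hx2] using congrFun h r₂
      · simpa [hx3] using congrFun h r₃)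
    have hxP : η x P = 0 := by
      have := congrFun hw 0
      simp [Matrix.mulVec, dotProduct, Fin.sum_univ_three] at this
      simp only [hx, hs.add_left, hs.smul_left, herm_single_left hf hb]
      linear_combination this
    have hxQ : η x Q = 0 := by
      have := congrFun hw 1
      simp [Matrix.mulVec, dotProduct, Fin.sum_univ_three] at this
      simp only [hx, hs.add_left, hs.smul_left, herm_single_left hf hb]
      linear_combination this
    have cx := cyc x 1 one_ne_zero hx0 (fun p hp => by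
      simp only [Finset.mem_insert, Finset.mem_singleton, not_or] at hp
      simp [hx, hp.1, hp.2.1, hp.2.2]) fun p => by
      have := congrFun (hua x) p
      rw [hπ, monEl_mulVec, hxP, hxQ] at this
      rw [this]
      simp
    exact hlord 3 hq3 three_pos (by rw [← cP, cx, one_pow])

omit hf hb in
/-- The coordinates where a vector is not zero. -/
noncomputable def supp (v : Fin n → F) : Finset (Fin n) :=
  open Classical in Finset.univ.filter fun p => v p ≠ 0

theorem mem_supp {v : V} {p : Fin n} : p ∈ supp v ↔ v p ≠ 0 := by simp [supp]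

/-- Columns, each two of which lie in three coordinates, are at most three or contain a coordinate line. -/
theorem plane_contra {g : GL (Fin n) F} (hg : g ∈ Cfsg.GU n F q) (Z : Finset (Fin n)) (hZ : 4 ≤ Z.card)
    (h2 : ∀ a ∈ Z, 2 ≤ (supp ((g : Mat) *ᵥ ε⟦a⟧)).card)
    (hu : ∀ a ∈ Z, ∀ b ∈ Z, a ≠ b → (supp ((g : Mat) *ᵥ ε⟦a⟧) ∪ supp ((g : Mat) *ᵥ ε⟦b⟧)).card ≤ 3) :
    False := by
  classical
  set S : Fin n → Finset (Fin n) := fun a => supp ((g : Mat) *ᵥ ε⟦a⟧) with hS
  have hone : ∀ a b, a ≠ b → (S a ∩ S b).card ≠ 1 := by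
    intro a b hab hcard
    obtain ⟨p, hp⟩ := Finset.card_eq_one.mp hcard
    have hpm : p ∈ S a ∩ S b := by rw [hp]; exact Finset.mem_singleton_self p
    rw [Finset.mem_inter, hS, mem_supp hf hb, mem_supp hf hb] at hpm
    have h0 := col_herm hf hb hg a b
    rw [if_neg hab, herm_apply hf hb, Finset.sum_eq_single p] at h0
    · exact mul_ne_zero hpm.1 ((map_ne_zero_iff σ σ.injective).mpr hpm.2) h0
    · intro x _ hx
      by_contra hne
      have : x ∈ S a ∩ S b := by
        rw [Finset.mem_inter, hS, mem_supp hf hb, mem_supp hf hb]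
        exact ⟨left_ne_zero_of_mul hne, fun e => right_ne_zero_of_mul hne (by rw [e, map_zero])⟩
      rw [hp, Finset.mem_singleton] at this
      exact hx this
    · simp
  obtain ⟨T, hT3, hT⟩ : ∃ T : Finset (Fin n), T.card ≤ 3 ∧ ∀ b ∈ Z, S b ⊆ T := by
    by_cases h3 : ∃ a ∈ Z, 3 ≤ (S a).card
    · obtain ⟨a, ha, ha3⟩ := h3
      obtain ⟨b₀, hb₀, hab₀⟩ := Finset.exists_mem_ne (by omega : 1 < Z.card) a
      have h3' : (S a).card ≤ 3 :=
        (Finset.card_le_card Finset.subset_union_left).trans (hu a ha b₀ hb₀ (Ne.symm hab₀))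
      refine ⟨S a, h3', fun b hbZ => ?_⟩
      rcases eq_or_ne b a with rfl | hba
      · exact subset_rfl
      · have := Finset.eq_of_subset_of_card_le (Finset.subset_union_left (s₁ := S a) (s₂ := S b))
          ((hu a ha b hbZ (Ne.symm hba)).trans ha3)
        rw [this]; exact Finset.subset_union_right
    · push Not at h3
      obtain ⟨a, ha⟩ := Finset.card_pos.mp (by omega : 0 < Z.card)
      have hSa := h2 a ha
      refine ⟨S a, (h3 a ha).le, fun b hbZ => ?_⟩
      rcases eq_or_ne b a with rfl | hba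
      · exact subset_rfl
      · have e1 := Finset.card_union_add_card_inter (S a) (S b)
        have e2 := hu a ha b hbZ (Ne.symm hba)
        have e3 := h2 b hbZ
        have e4 := hone a b (Ne.symm hba)
        have e5 : (S b).card ≤ (S a ∩ S b).card := by
          have e6 := h3 b hbZ
          have e7 : (S a ∩ S b).card ≤ (S a).card := Finset.card_le_card Finset.inter_subset_left
          have e8 := h3 a ha
          simp only [hS] at *
          omega
        exact Finset.inter_eq_right.mp (Finset.eq_of_subset_of_card_le Finset.inter_subset_right e5)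
  obtain ⟨Z', hZ', hcard⟩ := Finset.exists_subset_card_eq hZ
  let L : (↥Z' → F) →ₗ[F] (↥T → F) :=
    { toFun := fun w p => ∑ a : ↥Z', w a * (g : Mat) p.1 a.1
      map_add' := fun w w' => funext fun p => by simp [add_mul, Finset.sum_add_distrib]
      map_smul' := fun c w => funext fun p => by simp [Finset.mul_sum, mul_assoc] }
  obtain ⟨w, hw, hw0⟩ := Submodule.exists_mem_ne_zero_of_ne_bot
    (LinearMap.ker_ne_bot_of_finrank_lt (f := L) (by simp [Fintype.card_coe, hcard]; omega))
  let x : V := fun a => if ha : a ∈ Z' then w ⟨a, ha⟩ else 0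
  have hx : (g : Mat) *ᵥ x = 0 := by
    funext p
    show ∑ a, (g : Mat) p a * x a = 0
    rw [← Finset.sum_subset (Finset.subset_univ Z') (fun a _ ha => by simp [x, ha]), ← Finset.sum_coe_sort]
    by_cases hp : p ∈ T
    · have := congrFun (LinearMap.mem_ker.mp hw) ⟨p, hp⟩
      refine Eq.trans (Finset.sum_congr rfl fun a _ => ?_) this
      simp [x, mul_comm]
    · refine Finset.sum_eq_zero fun a _ => ?_
      have : (g : Mat) p a = 0 := by
        by_contra hne
        exact hp (hT a (hZ' a.2) ((mem_supp hf hb).mpr (by simpa using hne)))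
      rw [this, zero_mul]
  refine hw0 (funext fun a => ?_)
  have := congrFun (UC.mulVec_eq_zero hf hx) a
  simpa [x] using this

theorem weight_or_fixer {M : Subgroup (GL (Fin n) F)} (hM : UMonoIn σ M) {g : GL (Fin n) F} (hg : g ∈ M)
    (hg' : ¬ Mono g) (a : Fin n) : Fixer M ∨ 2 ≤ (supp ((g : Mat) *ᵥ ε⟦a⟧)).card := by
  by_contra hcon
  push Not at hcon
  obtain ⟨hfx, hcard⟩ := hcon
  refine hfx ?_
  rcases Nat.eq_zero_or_pos (supp ((g : Mat) *ᵥ ε⟦a⟧)).card with h0 | h0
  · refine fixer_of_single_col hf hb hM hg hg' (c := a) (r := a) fun p _ => ?_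
    by_contra hne
    have : p ∈ supp ((g : Mat) *ᵥ ε⟦a⟧) := (mem_supp hf hb).mpr (by simpa using hne)
    rw [Finset.card_eq_zero.mp h0] at this
    exact Finset.notMem_empty p this
  · obtain ⟨r, hr⟩ := Finset.card_eq_one.mp (by omega : (supp ((g : Mat) *ᵥ ε⟦a⟧)).card = 1)
    refine fixer_of_single_col hf hb hM hg hg' (c := a) (r := r) fun p hp => ?_
    by_contra hne
    have : p ∈ supp ((g : Mat) *ᵥ ε⟦a⟧) := (mem_supp hf hb).mpr (by simpa using hne)
    rw [hr, Finset.mem_singleton] at this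
    exact hp this

theorem two_zeros (hn : 6 ≤ n) (hnq : 7 ≤ n ∨ 3 ≤ q) {M : Subgroup (GL (Fin n) F)} (hM : UMonoIn σ M) (hMU : M ≤ Cfsg.GU n F q)
    {g : GL (Fin n) F} (hg : g ∈ M) (hg' : ¬ Mono g) {k c c' : Fin n} (hcc : c ≠ c')
    (h1 : (g : Mat) k c = 0) (h2 : (g : Mat) k c' = 0) : Fixer M := by
  classical
  rcases pair_zero hf hb hM hMU hg hg' hcc h1 h2 with h | ⟨S, hS, hS2, hcol⟩
  · exact h
  by_contra hno
  have hgi := M.inv_mem hg
  have hgi' : ¬ Mono g⁻¹ := fun h => hg' (by simpa using h.inv)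
  refine plane_contra hf hb (hMU hgi) (Finset.univ \ S) ?_
    (fun a _ => (weight_or_fixer hf hb hM hgi hgi' a).resolve_left hno) fun a ha b hb' hab => ?_
  · rw [Finset.card_sdiff, Finset.inter_univ, Finset.card_univ, Fintype.card_fin]
    rcases hnq with h7 | h3
    · omega
    · have := hS2 h3; omega
  simp only [Finset.mem_sdiff, Finset.mem_univ, true_and] at ha hb'
  have hz : ∀ p, p ∉ S → ((g⁻¹ : GL (Fin n) F) : Mat) c p = 0 := fun p hp => by
    rw [inv_entry hf hb (hMU hg), (hcol p hp).1, map_zero]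
  rcases pair_zero hf hb hM hMU hgi hgi' hab (hz a ha) (hz b hb') with h | ⟨T, hT, -, hT'⟩
  · exact absurd h hno
  refine (Finset.card_le_card fun p hp => ?_).trans hT
  by_contra hpT
  rw [Finset.mem_union, mem_supp hf hb, mem_supp hf hb, col_apply' hf hb, col_apply' hf hb, (hT' p hpT).1,
    (hT' p hpT).2] at hp
  simp at hp

/-- In odd characteristic a zero entry leads to a fixed line. -/
theorem one_zero (hn : 6 ≤ n) (hnq : 7 ≤ n ∨ 3 ≤ q) (h2 : (2 : F) ≠ 0 ∨ ∃ ζ ∈ normOne σ, ζ ^ n ≠ 1) {M : Subgroup (GL (Fin n) F)} (hM : UMonoIn σ M)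
    (hMU : M ≤ Cfsg.GU n F q) {g : GL (Fin n) F} (hg : g ∈ M) (hg' : ¬ Mono g) {k l : Fin n}
    (hkl : (g : Mat) k l = 0) : Fixer M := by
  classical
  have hgi' : ¬ Mono g⁻¹ := fun h => hg' (by simpa using h.inv)
  by_cases hrow : ∃ j, j ≠ l ∧ (g : Mat) k j = 0
  · obtain ⟨j, hjl, hj⟩ := hrow
    exact two_zeros hf hb hn hnq hM hMU hg hg' (Ne.symm hjl) hkl hj
  by_cases hcol : ∃ p, p ≠ k ∧ (g : Mat) p l = 0
  · obtain ⟨p, hpk, hp⟩ := hcol
    exact two_zeros hf hb hn hnq hM hMU (M.inv_mem hg) hgi' (k := l) (Ne.symm hpk)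
      (by rw [inv_entry hf hb (hMU hg), hkl, map_zero]) (by rw [inv_entry hf hb (hMU hg), hp, map_zero])
  push Not at hrow hcol
  have hgU := hMU hg
  set w := ((g⁻¹ : GL (Fin n) F) : Mat) *ᵥ ε⟦k⟧ with hw
  have hwv : ∀ s, w s = σ ((g : Mat) k s) := fun s => by rw [hw, col_apply' hf hb, inv_entry hf hb hgU]
  have hgw : (g : Mat) *ᵥ w = ε⟦k⟧ := by rw [hw, mulVec_mulVec, Units.mul_inv, one_mulVec]
  by_cases hA : ∀ x ∈ normOne σ, x ^ n = 1
  swap
  · push Not at hA
    obtain ⟨ζ, hζ, hζn⟩ := hA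
    set ζu : Fˣ := Units.mk0 ζ (ne_zero_of_mem hb hζ) with hζu
    set d : Fin n → Fˣ := fun s => if s = l then (ζu ^ (n - 1))⁻¹ else ζu with hd
    have hDM : monEl 1 d ∈ M := by
      refine hM _ _ (fun r => ?_) ?_
      · by_cases hr : r = l
        · simp only [hd, if_pos hr, hζu, Units.val_inv_eq_inv_val, Units.val_pow_eq_pow_val, Units.val_mk0]
          exact Circle.inv_mem hb (Circle.pow_mem hb hζ _)
        · simpa [hd, hr, hζu] using hζ
      · rw [det_monEl, map_one, Units.val_one, Int.cast_one, one_mul, ← Units.coe_prod, hd,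
          ← Finset.mul_prod_erase _ _ (Finset.mem_univ l), if_pos rfl,
          Finset.prod_congr rfl (g := fun _ => ζu) (fun s hs => if_neg (Finset.ne_of_mem_erase hs)),
          Finset.prod_const, Finset.card_erase_of_mem (Finset.mem_univ l), Finset.card_univ, Fintype.card_fin,
          inv_mul_cancel, Units.val_one]
    set b := g * monEl 1 d * g⁻¹ with hb'
    have hbk : (b : Mat) *ᵥ ε⟦k⟧ = ζ • ε⟦k⟧ := by
      rw [hb', Units.val_mul, ← mulVec_mulVec, ← hw, Units.val_mul, ← mulVec_mulVec,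
        show (monEl 1 d : Mat) *ᵥ w = ζ • w by
          funext s
          rw [monEl_mulVec, show (1 : Equiv.Perm (Fin n)).symm = 1 from rfl, Equiv.Perm.one_apply]
          by_cases hs : s = l
          · subst hs; simp [hwv, hkl]
          · simp [hd, hs, hζu], mulVec_smul, hgw]
    refine ⟨k, b, M.mul_mem (M.mul_mem hg hDM) (M.inv_mem hg), ?_, ζ, hbk⟩
    rintro ⟨π, hπ⟩
    set μ : F := ((ζu ^ (n - 1))⁻¹ : Fˣ) / ζ with hμ
    have hμ1 : μ ≠ 1 := by
      intro e
      rw [hμ, div_eq_one_iff_eq (ne_zero_of_mem hb hζ), Units.val_inv_eq_inv_val, Units.val_pow_eq_pow_val,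
        hζu, Units.val_mk0] at e
      refine hζn ?_
      rw [show n = (n - 1) + 1 by omega, pow_succ]
      nth_rewrite 2 [← e]
      exact mul_inv_cancel₀ (pow_ne_zero _ (ne_zero_of_mem hb hζ))
    have hent : ∀ p r, p ≠ r → (b : Mat) p r = ζ * ((μ - 1) * ((g : Mat) p l * σ ((g : Mat) r l))) := by
      intro p r hpr
      rw [hb', conj_diag_apply, Matrix.one_apply_ne hpr, zero_add,
        ← Finset.add_sum_erase _ _ (Finset.mem_univ l)]
      have h0 : ∑ s ∈ (Finset.univ : Finset (Fin n)).erase l,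
          ((d s : F) - 1) * ((g : Mat) p s * ((g⁻¹ : GL (Fin n) F) : Mat) s r) =
          (ζ - 1) * (0 - (g : Mat) p l * σ ((g : Mat) r l)) := by
        have e : ∑ s, (g : Mat) p s * ((g⁻¹ : GL (Fin n) F) : Mat) s r = 0 := by
          rw [← Matrix.mul_apply, Units.mul_inv, Matrix.one_apply_ne hpr]
        rw [← inv_entry hf hb hgU, ← e, ← Finset.add_sum_erase _ _ (Finset.mem_univ l), add_sub_cancel_left,
          Finset.mul_sum]
        refine Finset.sum_congr rfl fun s hs => ?_
        simp [hd, Finset.ne_of_mem_erase hs, hζu]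
      rw [h0, inv_entry hf hb hgU]
      have := ne_zero_of_mem hb hζ
      simp only [hd, if_pos rfl, hμ]
      field_simp
      ring
    obtain ⟨r, hr⟩ := exists_outside (by simp; omega) {k} (by simp)
    obtain ⟨p, hp⟩ := exists_outside (by simp; omega) {k, r, π r} (Finset.card_le_three.trans (by norm_num))
    simp only [Finset.mem_insert, Finset.mem_singleton, not_or] at hr hp
    refine hp.2.2 (hπ p r ?_)
    rw [hent p r hp.2.1]
    exact mul_ne_zero (ne_zero_of_mem hb hζ) (mul_ne_zero (sub_ne_zero.mpr hμ1)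
      (mul_ne_zero (hcol p hp.1) ((map_ne_zero_iff σ σ.injective).mpr (hcol r hr))))
  -- all norm-one scalars have order dividing `n`
  replace h2 : (2 : F) ≠ 0 := h2.resolve_right fun ⟨ζ, hζ, hne⟩ => hne (hA ζ hζ)
  have hqn : q + 1 ≤ n := by
    obtain ⟨ζ, hζ, hord⟩ := exists_order hb
    by_contra hlt
    exact hord n (by omega) (by omega) (hA ζ hζ)
  obtain ⟨a, ha, a', ha', haa, hN⟩ : ∃ a ∈ (Finset.univ : Finset (Fin n)).erase l,
      ∃ a' ∈ (Finset.univ : Finset (Fin n)).erase l, a ≠ a' ∧ w a * σ (w a) = w a' * σ (w a') := by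
    by_contra hcon
    push Not at hcon
    have h1 := card_fixed_units hb (s := ((Finset.univ : Finset (Fin n)).erase l).image fun s => w s * σ (w s))
      (fun x hx => by
        obtain ⟨s, hs, rfl⟩ := Finset.mem_image.mp hx
        have hne : w s ≠ 0 := by
          rw [hwv]; exact (map_ne_zero_iff σ σ.injective).mpr (hrow s (Finset.ne_of_mem_erase hs))
        exact ⟨length_fixed hb _, mul_ne_zero hne ((map_ne_zero_iff σ σ.injective).mpr hne)⟩)
    rw [Finset.card_image_of_injOn fun x hx y hy e => by_contra fun hne => hcon x hx y hy hne e,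
      Finset.card_erase_of_mem (Finset.mem_univ l), Finset.card_univ, Fintype.card_fin] at h1
    omega
  have hal := Finset.ne_of_mem_erase ha
  have ha'l := Finset.ne_of_mem_erase ha'
  obtain ⟨y, hy, hyw⟩ := exists_rot hb hN
  set yu : Fˣ := Units.mk0 y (ne_zero_of_mem hb hy) with hyu
  set d : Fin n → Fˣ := fun s => if s = a then yu else if s = a' then yu⁻¹ else if s = l then -1 else 1 with hd
  have hPM : monEl (Equiv.swap a a') d ∈ M := by
    refine hM _ _ (fun r => ?_) ?_
    · simp only [hd]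
      split_ifs
      · exact hy
      · simpa [hyu] using Circle.inv_mem hb hy
      · simpa using Circle.neg_mem hb (Circle.one_mem hb)
      · simpa using Circle.one_mem hb
    · rw [det_monEl, Equiv.Perm.sign_swap haa, ← Units.coe_prod, hd,
        ← Finset.mul_prod_erase _ _ (Finset.mem_univ a), if_pos rfl,
        ← Finset.mul_prod_erase _ _ (Finset.mem_erase.mpr ⟨Ne.symm haa, Finset.mem_univ a'⟩), if_neg (Ne.symm haa),
        if_pos rfl, ← Finset.mul_prod_erase _ _ (Finset.mem_erase.mpr ⟨Ne.symm ha'l,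
          Finset.mem_erase.mpr ⟨Ne.symm hal, Finset.mem_univ l⟩⟩), if_neg (Ne.symm hal), if_neg (Ne.symm ha'l),
        if_pos rfl, Finset.prod_eq_one fun s hs => by
          simp only [Finset.mem_erase] at hs
          rw [if_neg hs.2.2.1, if_neg hs.2.1, if_neg hs.1]]
      simp
  set P := monEl (Equiv.swap a a') d with hP
  have hPv : ∀ x : V, (P : Mat) *ᵥ x = x + (y⁻¹ * x a' - x a) • (ε⟦a⟧ - y • ε⟦a'⟧) + (-2 * x l) • ε⟦l⟧ := by
    intro x
    funext p
    rw [hP, monEl_mulVec, Equiv.symm_swap]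
    have := ne_zero_of_mem hb hy
    by_cases hpa : p = a
    · subst hpa; simp [hd, hyu, Ne.symm haa, haa, hal]
    by_cases hpa' : p = a'
    · subst hpa'; simp [hd, hyu, Ne.symm haa, haa, ha'l]; field_simp; ring
    rw [Equiv.swap_apply_of_ne_of_ne hpa hpa']
    by_cases hpl : p = l
    · subst hpl; simp [hd, Ne.symm hal, Ne.symm ha'l]; ring
    · simp [hd, hpa, hpa', hpl]
  set b := g * P * g⁻¹ with hb'
  refine ⟨k, b, M.mul_mem (M.mul_mem hg hPM) (M.inv_mem hg), fun hm => ?_, 1, ?_⟩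
  · obtain ⟨π, δ, hπ⟩ := hm.eq_monEl
    have hPP : P * P = 1 := by
      refine Units.ext (Matrix.ext_iff_mulVec.mpr fun x => funext fun p => ?_)
      have := ne_zero_of_mem hb hy
      rw [Units.val_mul, ← mulVec_mulVec, Units.val_one, one_mulVec, hP, monEl_mulVec, monEl_mulVec, Equiv.symm_swap,
        Equiv.swap_apply_self]
      by_cases hpa : p = a
      · subst hpa; simp [hd, hyu, Ne.symm haa, this]
      by_cases hpa' : p = a'
      · subst hpa'; simp [hd, hyu, Ne.symm haa, this]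
      rw [Equiv.swap_apply_of_ne_of_ne hpa hpa']
      by_cases hpl : p = l <;> simp [hd, hpa, hpa', hpl, Ne.symm hal, Ne.symm ha'l]
    have hππ : ∀ r, π (π r) = r := fun r => by
      have e : ((b * b : GL (Fin n) F) : Mat) *ᵥ ε⟦r⟧ = ε⟦r⟧ := by
        rw [hb', show g * P * g⁻¹ * (g * P * g⁻¹) = g * (P * P) * g⁻¹ by group, hPP, mul_one, mul_inv_cancel,
          Units.val_one, one_mulVec]
      rw [hπ, Units.val_mul, ← mulVec_mulVec, monEl_single, mulVec_smul, monEl_single, smul_smul] at e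
      by_contra hne
      have := congrFun e (π (π r))
      simp [hne, (δ r).ne_zero, (δ (π r)).ne_zero] at this
    have hsymm : ∀ r, π.symm r = π r := fun r => by rw [Equiv.symm_apply_eq, hππ]
    obtain ⟨S, hS, hSfix⟩ := fixed_of_rank_two hf hb (π := π) (δ := δ) (N := 4) (by norm_num)
      (fun r r' => (Finset.card_le_card (t := ({r, π r, r', π r'} : Finset (Fin n))) fun x hx => by
        simp only [Finset.mem_insert, Finset.mem_singleton, hsymm] at hx ⊢
        tauto).trans Finset.card_le_four)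
      (P := (g : Mat) *ᵥ (ε⟦a⟧ - y • ε⟦a'⟧))
      (Q := (g : Mat) *ᵥ ε⟦l⟧) fun r => ⟨y⁻¹ * (((g⁻¹ : GL (Fin n) F) : Mat) *ᵥ ε⟦r⟧) a' -
        (((g⁻¹ : GL (Fin n) F) : Mat) *ᵥ ε⟦r⟧) a, -2 * (((g⁻¹ : GL (Fin n) F) : Mat) *ᵥ ε⟦r⟧) l, by
        rw [← monEl_single π δ r, ← hπ, hb', Units.val_mul, ← mulVec_mulVec, Units.val_mul, ← mulVec_mulVec,
          hPv, mulVec_add, mulVec_add, mulVec_smul, mulVec_smul,
          mulVec_mulVec ε⟦r⟧ (g : Mat), Units.mul_inv, one_mulVec]
        abel⟩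
    obtain ⟨r, -, hr⟩ := Finset.exists_mem_notMem_of_card_lt_card
      (show (insert k S).card < (Finset.univ : Finset (Fin n)).card by
        rw [Finset.card_univ, Fintype.card_fin]; exact (Finset.card_insert_le _ _).trans_lt (by omega))
    rw [Finset.mem_insert, not_or] at hr
    obtain ⟨hr1, hr2⟩ := hSfix r hr.2
    have e : (b : Mat) *ᵥ ε⟦r⟧ = ε⟦r⟧ := by rw [hπ, monEl_single, hr1, hr2, one_smul]
    set z := ((g⁻¹ : GL (Fin n) F) : Mat) *ᵥ ε⟦r⟧ with hz
    have e2 : (P : Mat) *ᵥ z = z := by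
      have := congrArg (fun v => ((g⁻¹ : GL (Fin n) F) : Mat) *ᵥ v) e
      simp only [hb', Units.val_mul, ← mulVec_mulVec, ← hz] at this
      rwa [mulVec_mulVec ((P : Mat) *ᵥ z) ((g⁻¹ : GL (Fin n) F) : Mat), Units.inv_mul, one_mulVec] at this
    have e3 := congrFun e2 l
    rw [hP, monEl_mulVec, Equiv.symm_swap, Equiv.swap_apply_of_ne_of_ne (Ne.symm hal) (Ne.symm ha'l)] at e3
    simp [hd, Ne.symm hal, Ne.symm ha'l] at e3
    have h2z : (2 : F) * z l = 0 := by linear_combination -e3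
    have := (mul_eq_zero.mp h2z).resolve_left h2
    rw [hz, col_apply' hf hb, inv_entry hf hb hgU, map_eq_zero_iff σ σ.injective] at this
    exact hcol r hr.1 this
  · rw [hb', one_smul, Units.val_mul, ← mulVec_mulVec, ← hw, Units.val_mul, ← mulVec_mulVec, hPv,
      show y⁻¹ * w a' - w a = 0 by rw [← hyw, inv_mul_cancel_left₀ (ne_zero_of_mem hb hy), sub_self],
      show w l = 0 by rw [hwv, hkl, map_zero]]
    simpa using hgw

theorem zero_family {z : Fin n → F} (hz : ∀ s, z s ≠ 0) {A B : Finset (Fin n)} (hAB : Disjoint A B)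
    (hA : A.card = 4) (hB : B.card = 5) (hn : 13 ≤ n) :
    ∃ d : Fin n → Fˣ, (∀ s, (d s : F) ∈ normOne σ) ∧ ∏ s, d s = 1 ∧ ∑ s ∈ A, (d s : F) * z s = 0 ∧
      ∑ s ∈ B, (d s : F) * z s = 0 ∧ ∑ s, (d s : F) * z s = 0 := by
  classical
  set C := (Finset.univ : Finset (Fin n)) \ (A ∪ B) with hC
  have hCc : 4 ≤ C.card := by
    rw [hC, Finset.card_sdiff, Finset.inter_univ, Finset.card_union_of_disjoint hAB, Finset.card_univ,
      Fintype.card_fin]
    omega
  obtain ⟨da, hda, hsa⟩ := sum_zero hb z A (fun i _ => hz i) (by omega)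
  obtain ⟨db, hdb, hsb⟩ := sum_zero hb z B (fun i _ => hz i) (by omega)
  obtain ⟨dc, hdc, hsc⟩ := sum_zero hb z C (fun i _ => hz i) hCc
  let d₀ : Fin n → Fˣ := fun s =>
    if s ∈ A then Units.mk0 _ (ne_zero_of_mem hb (hda s))
    else if s ∈ B then Units.mk0 _ (ne_zero_of_mem hb (hdb s))
    else Units.mk0 _ (ne_zero_of_mem hb (hdc s))
  have hd₀ : ∀ s, (d₀ s : F) ∈ normOne σ := fun s => by
    simp only [d₀]; split_ifs <;> simp [hda, hdb, hdc]
  set Δ := ∏ s, d₀ s with hΔ
  have hΔn : (Δ : F) ∈ normOne σ := by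
    rw [hΔ, Units.coe_prod]
    exact Finset.prod_induction _ (fun x => x ∈ normOne σ) (fun _ _ => Circle.mul_mem hb) (Circle.one_mem hb)
      fun s _ => hd₀ s
  let d : Fin n → Fˣ := fun s => if s ∈ A then Δ * d₀ s else if s ∈ B then Δ⁻¹ * d₀ s else d₀ s
  have hnotB : ∀ s ∈ A, s ∉ B := fun s hs => Finset.disjoint_left.mp hAB hs
  have hsumA : ∑ s ∈ A, (d s : F) * z s = 0 := by
    rw [Finset.sum_congr rfl (g := fun s => (Δ : F) * (da s * z s)) (fun s hs => by
      simp only [d, d₀, if_pos hs, Units.val_mul, Units.val_mk0]; ring), ← Finset.mul_sum, hsa, mul_zero]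
  have hsumB : ∑ s ∈ B, (d s : F) * z s = 0 := by
    rw [Finset.sum_congr rfl (g := fun s => ((Δ⁻¹ : Fˣ) : F) * (db s * z s)) (fun s hs => by
      simp only [d, d₀, if_pos hs, if_neg (fun h => hnotB s h hs), Units.val_mul, Units.val_mk0]; ring),
      ← Finset.mul_sum, hsb, mul_zero]
  refine ⟨d, fun s => ?_, ?_, hsumA, hsumB, ?_⟩
  · simp only [d]
    split_ifs
    · simpa using Circle.mul_mem hb hΔn (hd₀ s)
    · simpa using Circle.mul_mem hb (Circle.inv_mem hb hΔn) (hd₀ s)
    · exact hd₀ s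
  · have e : ∀ s, d s = (if s ∈ A then Δ else 1) * (if s ∈ B then Δ⁻¹ else 1) * d₀ s := fun s => by
      by_cases h1 : s ∈ A
      · simp [d, h1, hnotB s h1]
      · by_cases h2 : s ∈ B <;> simp [d, h1, h2]
    rw [Finset.prod_congr rfl fun s _ => e s, Finset.prod_mul_distrib, Finset.prod_mul_distrib,
      Finset.prod_ite_mem, Finset.prod_ite_mem, Finset.univ_inter, Finset.univ_inter, Finset.prod_const,
      Finset.prod_const, hA, hB, ← hΔ]
    group
  · rw [← Finset.sum_sdiff (Finset.subset_univ (A ∪ B)), Finset.sum_union hAB, hsumA, hsumB, ← hC,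
      Finset.sum_congr rfl (g := fun s => dc s * z s) (fun s hs => by
        rw [hC, Finset.mem_sdiff, Finset.mem_union, not_or] at hs
        simp only [d, d₀, if_neg hs.2.1, if_neg hs.2.2, Units.val_mk0]), hsc]
    simp

omit hf hb in
theorem diag_mulVec₀ (d : Fin n → Fˣ) (x : V) :
    ((monEl 1 d : GL (Fin n) F) : Mat) *ᵥ x = fun p => (d p : F) * x p := by
  funext p
  rw [monEl_mulVec, show (1 : Equiv.Perm (Fin n)).symm = 1 from rfl, Equiv.Perm.one_apply]

/-- A monomial conjugate of a diagonal element with small support is trivial, for a conjugator without zeros. -/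
theorem small_diag_eq_one {g : GL (Fin n) F} (hgU : g ∈ Cfsg.GU n F q) (hG : ∀ p r, (g : Mat) p r ≠ 0)
    {δ : Fin n → Fˣ} (A : Finset (Fin n)) (hA : 2 * A.card < n) (hδ : ∀ s, s ∉ A → δ s = 1)
    (hmono : Mono (g * monEl 1 δ * g⁻¹)) : ∀ s, δ s = 1 := by
  classical
  obtain ⟨π, c, hπ⟩ := hmono.eq_monEl
  have hconj : ∀ x : V, ((g * monEl 1 δ * g⁻¹ : GL (Fin n) F) : Mat) *ᵥ x =
      (g : Mat) *ᵥ fun s => (δ s : F) * (((g⁻¹ : GL (Fin n) F) : Mat) *ᵥ x) s := by
    intro x
    rw [Units.val_mul, Units.val_mul, ← mulVec_mulVec, ← mulVec_mulVec, diag_mulVec₀]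
  by_cases hr : ∃ r, π r = r ∧ c r = 1
  · obtain ⟨r, hr1, hr2⟩ := hr
    have e := hconj ε⟦r⟧
    rw [hπ, monEl_single, hr1, hr2, Units.val_one, one_smul] at e
    intro s
    have e' := congrFun (congrArg (((g⁻¹ : GL (Fin n) F) : Mat) *ᵥ ·) e) s
    simp only [mulVec_mulVec, Units.inv_mul, one_mulVec] at e'
    rw [col_apply' hf hb] at e'
    have hne : ((g⁻¹ : GL (Fin n) F) : Mat) s r ≠ 0 := by
      rw [inv_entry hf hb hgU]; exact (map_ne_zero_iff σ σ.injective).mpr (hG r s)
    exact Units.ext ((mul_eq_right₀ hne).mp e'.symm)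
  push Not at hr
  exfalso
  -- representatives of the orbits of `π` that are not fixed
  set R := Finset.univ.filter fun r => π r ≠ r ∧ ∀ s, π.SameCycle r s → r ≤ s with hR
  have hRc : 2 * R.card ≤ n := by
    have hd : Disjoint R (R.map π.toEmbedding) := by
      rw [Finset.disjoint_left]
      intro r hr' hr''
      rw [Finset.mem_map_equiv] at hr''
      simp only [hR, Finset.mem_filter, Finset.mem_univ, true_and] at hr' hr''
      have hsc : π.SameCycle (π.symm r) r := ⟨1, by simp⟩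
      have h1 := le_antisymm (hr'.2 _ hsc.symm) (hr''.2 _ hsc)
      exact hr'.1 (π.symm_apply_eq.mp h1.symm).symm
    have := Finset.card_le_univ (R ∪ R.map π.toEmbedding)
    rw [Finset.card_union_of_disjoint hd, Finset.card_map, Fintype.card_fin] at this
    omega
  -- a fixed vector vanishing on the representatives
  let L : (Fin n → F) →ₗ[F] (({x // x ∈ A} → F) × ({x // x ∈ R} → F)) :=
    LinearMap.prod (LinearMap.funLeft F F Subtype.val)
      ((LinearMap.funLeft F F Subtype.val).comp (g : Mat).mulVecLin)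
  obtain ⟨y, hy, hy0⟩ := Submodule.exists_mem_ne_zero_of_ne_bot (p := LinearMap.ker L)
    (LinearMap.ker_ne_bot_of_finrank_lt (by
      rw [Module.finrank_prod, Module.finrank_pi, Module.finrank_pi, Module.finrank_pi,
        Fintype.card_coe, Fintype.card_coe, Fintype.card_fin]
      omega))
  rw [LinearMap.mem_ker] at hy
  have hyA : ∀ s ∈ A, y s = 0 := fun s hs => congrFun (congrArg Prod.fst hy) ⟨s, hs⟩
  have hxR : ∀ r ∈ R, ((g : Mat) *ᵥ y) r = 0 := fun r hr' => congrFun (congrArg Prod.snd hy) ⟨r, hr'⟩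
  set x := (g : Mat) *ᵥ y with hx
  have hfix : ((g * monEl 1 δ * g⁻¹ : GL (Fin n) F) : Mat) *ᵥ x = x := by
    rw [hconj, hx, mulVec_mulVec _ ((g⁻¹ : GL (Fin n) F) : Mat), Units.inv_mul, one_mulVec]
    congr 1
    funext s
    by_cases hs : s ∈ A
    · rw [hyA s hs, mul_zero]
    · rw [hδ s hs, Units.val_one, one_mul]
  have hstep : ∀ r, x (π r) = (c r : F) * x r := fun r => by
    have e := congrFun hfix (π r)
    rw [hπ, monEl_mulVec, Equiv.symm_apply_apply] at e
    exact e.symm
  have hx0 : ∀ r, x r = 0 := by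
    intro r
    obtain ⟨μ, hμ, hmin⟩ := Finset.exists_min_image (Finset.univ.filter fun s => π.SameCycle r s) id
      ⟨r, by simp [Equiv.Perm.SameCycle.refl]⟩
    rw [Finset.mem_filter] at hμ
    have hzero : x μ = 0 := by
      by_cases hfixμ : π μ = μ
      · have e := hstep μ
        rw [hfixμ] at e
        exact (mul_eq_zero.mp (show ((c μ : F) - 1) * x μ = 0 by linear_combination -e)).resolve_left
          (sub_ne_zero.mpr fun e' => hr μ hfixμ (Units.ext e'))
      · refine hxR μ ?_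
        simp only [hR, Finset.mem_filter, Finset.mem_univ, true_and]
        exact ⟨hfixμ, fun s hs => hmin s (by simpa using hμ.2.trans hs)⟩
    obtain ⟨i, hi⟩ := hμ.2.symm.exists_nat_pow_eq
    rw [← hi]
    clear hi
    induction i with
    | zero => simpa using hzero
    | succ i ih => rw [pow_succ', Equiv.Perm.mul_apply, hstep, ih, mul_zero]
  exact hy0 (UC.mulVec_eq_zero hf (funext hx0))

/-- A vanishing combination of five scalars in which the first two coefficients have a given ratio. -/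
theorem five_solution {z : Fin n → F} (hz : ∀ s, z s ≠ 0) {A : Finset (Fin n)} (hA : A.card = 5) {a b : Fin n}
    (ha : a ∈ A) (hb' : b ∈ A) (hab : a ≠ b) {x : F} (hx : x ∈ normOne σ) (hne : z a + x * z b ≠ 0) :
    ∃ e : Fin n → F, (∀ s, e s ∈ normOne σ) ∧ ∑ s ∈ A, e s * z s = 0 ∧ e b = x * e a := by
  classical
  obtain ⟨d, hd, hsum⟩ := sum_zero hb (Function.update z a (z a + x * z b)) (A.erase b)
    (fun i _ => by
      rcases eq_or_ne i a with rfl | h
      · simpa using hne
      · rw [Function.update_of_ne h]; exact hz i)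
    (by rw [Finset.card_erase_of_mem hb']; omega)
  refine ⟨Function.update d b (x * d a), fun i => ?_, ?_, by rw [Function.update_self, Function.update_of_ne hab]⟩
  · rcases eq_or_ne i b with rfl | hib
    · simpa using Circle.mul_mem hb hx (hd a)
    · rw [Function.update_of_ne hib]; exact hd i
  have ham : a ∈ A.erase b := Finset.mem_erase.mpr ⟨hab, ha⟩
  have e1 : ∑ i ∈ (A.erase b).erase a, d i * Function.update z a (z a + x * z b) i =
      ∑ i ∈ (A.erase b).erase a, Function.update d b (x * d a) i * z i :=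
    Finset.sum_congr rfl fun i hi => by
      rw [Function.update_of_ne (Finset.ne_of_mem_erase hi),
        Function.update_of_ne (Finset.ne_of_mem_erase (Finset.mem_of_mem_erase hi))]
  rw [← Finset.add_sum_erase _ _ ham, e1, Function.update_self] at hsum
  rw [← Finset.add_sum_erase _ _ hb', ← Finset.add_sum_erase _ _ ham, Function.update_self,
    Function.update_of_ne hab]
  linear_combination hsum

/-- Two vanishing blocks scaled to product one. -/
theorem scale_blocks {z e : Fin n → F} (A : Finset (Fin n)) (he : ∀ s, e s ∈ normOne σ)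
    (h₁ : ∑ s ∈ A, e s * z s = 0) (h₂ : ∑ s ∈ Aᶜ, e s * z s = 0) {t u : F} (ht : t ∈ normOne σ)
    (hu : u ∈ normOne σ) (htu : t ^ A.card * u ^ (n - A.card) * ∏ s, e s = 1) :
    ∃ d : Fin n → Fˣ, (∀ s, (d s : F) ∈ normOne σ) ∧ ∏ s, d s = 1 ∧ ∑ s ∈ A, (d s : F) * z s = 0 ∧
      ∑ s, (d s : F) * z s = 0 ∧ ∀ s, (d s : F) = (if s ∈ A then t else u) * e s := by
  classical
  have hm : ∀ s, (if s ∈ A then t else u) * e s ∈ normOne σ := fun s => by
    split_ifs <;> exact Circle.mul_mem hb (by assumption) (he s)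
  refine ⟨fun s => Units.mk0 _ (ne_zero_of_mem hb (hm s)), hm, Units.ext ?_, ?_, ?_, fun s => rfl⟩
  · rw [Units.coe_prod, Units.val_one]
    simp only [Units.val_mk0]
    rw [Finset.prod_mul_distrib, ← Finset.prod_mul_prod_compl A (fun s => if s ∈ A then t else u),
      Finset.prod_congr (s₁ := A) rfl (g := fun _ => t) (fun s hs => if_pos hs),
      Finset.prod_congr (s₁ := Aᶜ) rfl (g := fun _ => u) (fun s hs => if_neg (Finset.mem_compl.mp hs)),
      Finset.prod_const, Finset.prod_const, Finset.card_compl, Fintype.card_fin]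
    exact htu
  · rw [Finset.sum_congr rfl (g := fun s => t * (e s * z s)) (fun s hs => by simp [hs]; ring), ← Finset.mul_sum, h₁,
      mul_zero]
  · rw [← Finset.sum_add_sum_compl A,
      Finset.sum_congr (s₁ := A) rfl (g := fun s => t * (e s * z s)) (fun s hs => by simp [hs]; ring),
      Finset.sum_congr (s₁ := Aᶜ) rfl (g := fun s => u * (e s * z s))
        (fun s hs => by simp [Finset.mem_compl.mp hs]; ring),
      ← Finset.mul_sum, ← Finset.mul_sum, h₁, h₂, mul_zero, mul_zero, add_zero]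

/-- Two diagonal elements giving a zero entry, equal up to a scalar away from a small set. -/
theorem zero_pair {z : Fin n → F} (hz : ∀ s, z s ≠ 0) (hn : 10 ≤ n) (h2 : (2 : F) ≠ 0) :
    ∃ (d d' : Fin n → Fˣ) (A : Finset (Fin n)) (K : Fˣ), (∀ s, (d s : F) ∈ normOne σ) ∧
      (∀ s, (d' s : F) ∈ normOne σ) ∧ ∏ s, d s = 1 ∧ ∏ s, d' s = 1 ∧ ∑ s, (d s : F) * z s = 0 ∧
      ∑ s, (d' s : F) * z s = 0 ∧ 2 * A.card < n ∧ (∀ s, s ∉ A → d' s = K * d s) ∧ ∃ s, d' s ≠ K * d s := by
  classical
  have hneg : -(1 : F) ≠ 1 := fun e => h2 (by linear_combination -e)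
  have flip : ∀ (d : Fin n → Fˣ) (A : Finset (Fin n)), Even A.card → 2 * A.card < n → A.Nonempty →
      (∀ s, (d s : F) ∈ normOne σ) → ∏ s, d s = 1 → ∑ s ∈ A, (d s : F) * z s = 0 → ∑ s, (d s : F) * z s = 0 →
      ∃ (d d' : Fin n → Fˣ) (A : Finset (Fin n)) (K : Fˣ), (∀ s, (d s : F) ∈ normOne σ) ∧
      (∀ s, (d' s : F) ∈ normOne σ) ∧ ∏ s, d s = 1 ∧ ∏ s, d' s = 1 ∧ ∑ s, (d s : F) * z s = 0 ∧
      ∑ s, (d' s : F) * z s = 0 ∧ 2 * A.card < n ∧ (∀ s, s ∉ A → d' s = K * d s) ∧ ∃ s, d' s ≠ K * d s := by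
    intro d A hev hc hne hd hp hsA hs
    refine ⟨d, fun s => if s ∈ A then -d s else d s, A, 1, hd, fun s => ?_, hp, ?_, hs, ?_, hc,
      fun s hs' => by simp [hs'], ?_⟩
    · dsimp only
      split_ifs
      · simpa using Circle.neg_mem hb (hd s)
      · exact hd s
    · have e : ∀ s, (if s ∈ A then -d s else d s) = (if s ∈ A then (-1 : Fˣ) else 1) * d s := fun s => by
        split_ifs <;> simp
      rw [Finset.prod_congr rfl fun s _ => e s, Finset.prod_mul_distrib, Finset.prod_ite_mem, Finset.univ_inter,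
        Finset.prod_const, hev.neg_one_pow, hp, one_mul]
    · have e : ∀ s, ((if s ∈ A then -d s else d s : Fˣ) : F) * z s =
          (d s : F) * z s - (if s ∈ A then 2 * ((d s : F) * z s) else 0) := fun s => by
        split_ifs <;> simp <;> ring
      rw [Finset.sum_congr rfl fun s _ => e s, Finset.sum_sub_distrib, Finset.sum_ite_mem, Finset.univ_inter,
        ← Finset.mul_sum, hsA, hs, mul_zero, sub_zero]
    · obtain ⟨s, hs'⟩ := hne
      refine ⟨s, fun e => hneg ?_⟩
      have e' := congrArg Units.val e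
      simp only [if_pos hs', one_mul, Units.val_neg] at e'
      exact mul_right_cancel₀ (d s).ne_zero (by rw [neg_one_mul, one_mul]; exact e')
  by_cases h13 : 13 ≤ n
  · obtain ⟨A, -, hA⟩ := Finset.exists_subset_card_eq
      (show 4 ≤ (Finset.univ : Finset (Fin n)).card by simp; omega)
    obtain ⟨B, hBsub, hB⟩ := Finset.exists_subset_card_eq (show 5 ≤ ((Finset.univ : Finset (Fin n)) \ A).card by
      rw [Finset.card_sdiff, Finset.inter_univ, Finset.card_univ, Fintype.card_fin]; omega)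
    have hAB : Disjoint A B :=
      Finset.disjoint_left.mpr fun s hs hs' => (Finset.mem_sdiff.mp (hBsub hs')).2 hs
    obtain ⟨d, hd, hp, hsA, -, hs⟩ := zero_family hf hb hz hAB hA hB h13
    exact flip d A ⟨2, by omega⟩ (by omega) (Finset.card_pos.mp (by omega)) hd hp hsA hs
  obtain ⟨m, hm⟩ := exists_half hb h2
  -- the two blocks
  have blocks : ∀ a : ℕ, a ≤ n → ∃ A : Finset (Fin n), A.card = a ∧ Aᶜ.card = n - a := fun a ha => by
    obtain ⟨A, -, hA⟩ := Finset.exists_subset_card_eq (show a ≤ (Finset.univ : Finset (Fin n)).card by simpa using ha)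
    exact ⟨A, hA, by rw [Finset.card_compl, hA, Fintype.card_fin]⟩
  have glue : ∀ (A : Finset (Fin n)) (eA eB : Fin n → F), (∀ s, eA s ∈ normOne σ) → (∀ s, eB s ∈ normOne σ) →
      ∑ s ∈ A, eA s * z s = 0 → ∑ s ∈ Aᶜ, eB s * z s = 0 →
      ∃ e : Fin n → F, (∀ s, e s ∈ normOne σ) ∧ ∑ s ∈ A, e s * z s = 0 ∧ ∑ s ∈ Aᶜ, e s * z s = 0 ∧
        ∏ s, e s = (∏ s ∈ A, eA s) * ∏ s ∈ Aᶜ, eB s ∧ (∀ s ∈ A, e s = eA s) ∧ ∀ s, s ∉ A → e s = eB s := by
    intro A eA eB hA hB h₁ h₂'
    refine ⟨fun s => if s ∈ A then eA s else eB s, fun s => ?_, ?_, ?_, ?_, fun s hs => if_pos hs,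
      fun s hs => if_neg hs⟩
    · dsimp only; split_ifs <;> [exact hA s; exact hB s]
    · rw [← h₁]; exact Finset.sum_congr rfl fun s hs => by simp [hs]
    · rw [← h₂']; exact Finset.sum_congr rfl fun s hs => by simp [Finset.mem_compl.mp hs]
    · rw [← Finset.prod_mul_prod_compl A]
      congr 1
      · exact Finset.prod_congr rfl fun s hs => if_pos hs
      · exact Finset.prod_congr rfl fun s hs => if_neg (Finset.mem_compl.mp hs)
  rcases (show n = 10 ∨ n = 11 ∨ n = 12 by omega) with h10 | h11 | h12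
  · obtain ⟨A, hA, hAc⟩ := blocks 4 (by omega)
    obtain ⟨eA, heA, hsA⟩ := sum_zero hb z A (fun s _ => hz s) (by omega)
    have hPA := prod_mem hb A fun s _ => heA s
    have hε : (∏ s ∈ A, eA s) ^ (m + 1) * (∏ s ∈ A, eA s) ^ (m + 1) = 1 := by
      rw [← pow_add, show m + 1 + (m + 1) = q + 1 by omega, pow_succ_eq_one hb hPA]
    obtain ⟨eB, heB, hsB, hcls⟩ := six_both hb h2 z hm Aᶜ (fun s _ => hz s) (by omega) hε
    obtain ⟨e, he, h₁, h₂', hpe, -, -⟩ := glue A eA eB heA heB hsA hsB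
    obtain ⟨v, hv, hvv⟩ := exists_sqrt hb h2 (u := ∏ s, e s) hm (by rw [hpe, mul_pow, hcls, hε])
    have hv0 := ne_zero_of_mem hb hv
    obtain ⟨d, hd, hp, hs₁, hs, -⟩ := scale_blocks hf hb A he h₁ h₂' hv (Circle.inv_mem hb hv) (by
      rw [hA, show n - 4 = 6 by omega, ← hvv]; field_simp)
    exact flip d A ⟨2, by omega⟩ (by omega) (Finset.card_pos.mp (by omega)) hd hp hs₁ hs
  · obtain ⟨A, hA, hAc⟩ := blocks 4 (by omega)
    obtain ⟨eA, heA, hsA⟩ := sum_zero hb z A (fun s _ => hz s) (by omega)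
    obtain ⟨eB, heB, hsB⟩ := sum_zero hb z Aᶜ (fun s _ => hz s) (by omega)
    obtain ⟨e, he, h₁, h₂', -, -, -⟩ := glue A eA eB heA heB hsA hsB
    have hΔ := prod_mem hb Finset.univ fun s _ => he s
    have hΔ0 := ne_zero_of_mem hb hΔ
    obtain ⟨d, hd, hp, hs₁, hs, -⟩ := scale_blocks hf hb A he h₁ h₂' (Circle.pow_mem hb hΔ 5)
      (Circle.pow_mem hb (Circle.inv_mem hb hΔ) 3) (by rw [hA, show n - 4 = 7 by omega]; field_simp)
    exact flip d A ⟨2, by omega⟩ (by omega) (Finset.card_pos.mp (by omega)) hd hp hs₁ hs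
  · obtain ⟨A, hA, hAc⟩ := blocks 5 (by omega)
    obtain ⟨a, ha, b, hb', hab⟩ := Finset.one_lt_card.mp (by omega : 1 < A.card)
    have hq := two_le hb
    obtain ⟨x, hx, hx'⟩ := exists_normOne_notMem hb {-z a / z b} (by simp; omega)
    obtain ⟨y, hy, hy'⟩ := exists_normOne_notMem hb {-z a / z b, x} (Finset.card_le_two.trans hq)
    simp only [Finset.mem_singleton, Finset.mem_insert, not_or] at hx' hy'
    have hne : ∀ w, w ≠ -z a / z b → z a + w * z b ≠ 0 := fun w hw e => hw (by
      rw [eq_div_iff (hz b)]; linear_combination e)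
    obtain ⟨eA, heA, hsA, hAx⟩ := five_solution hf hb hz hA ha hb' hab hx (hne x hx')
    obtain ⟨eA', heA', hsA', hAy⟩ := five_solution hf hb hz hA ha hb' hab hy (hne y hy'.1)
    obtain ⟨eB, heB, hsB⟩ := sum_zero hb z Aᶜ (fun s _ => hz s) (by omega)
    obtain ⟨e, he, h₁, h₂', -, hin, hout⟩ := glue A eA eB heA heB hsA hsB
    obtain ⟨e', he', h₁', h₂'', -, hin', hout'⟩ := glue A eA' eB heA' heB hsA' hsB
    have hsc : ∀ e : Fin n → F, (∀ s, e s ∈ normOne σ) →
        ∃ t ∈ normOne σ, ∃ u ∈ normOne σ, t ^ A.card * u ^ (n - A.card) * ∏ s, e s = 1 := fun e he => by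
      have hΔ := prod_mem hb Finset.univ fun s _ => he s
      have hΔ0 := ne_zero_of_mem hb hΔ
      refine ⟨_, Circle.pow_mem hb hΔ 4, _, Circle.pow_mem hb (Circle.inv_mem hb hΔ) 3, ?_⟩
      rw [hA, show n - 5 = 7 by omega]; field_simp
    obtain ⟨t, ht, u, hu, htu⟩ := hsc e he
    obtain ⟨t', ht', u', hu', htu'⟩ := hsc e' he'
    obtain ⟨d, hd, hp, -, hs, hdv⟩ := scale_blocks hf hb A he h₁ h₂' ht hu htu
    obtain ⟨d', hd', hp', -, hs', hdv'⟩ := scale_blocks hf hb A he' h₁' h₂'' ht' hu' htu'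
    refine ⟨d, d', A, Units.mk0 u' (ne_zero_of_mem hb hu') * (Units.mk0 u (ne_zero_of_mem hb hu))⁻¹, hd, hd', hp,
      hp', hs, hs', by omega, fun s hs => Units.ext ?_, ?_⟩
    · rw [Units.val_mul, Units.val_mul, Units.val_inv_eq_inv_val, Units.val_mk0, Units.val_mk0, hdv, hdv',
        if_neg hs, if_neg hs, hout s hs, hout' s hs]
      field_simp [ne_zero_of_mem hb hu]
    · by_contra hcon
      push Not at hcon
      have k1 := congrArg (Units.val) (hcon a)
      have k2 := congrArg (Units.val) (hcon b)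
      rw [Units.val_mul, hdv, hdv', if_pos ha, if_pos ha, hin a ha, hin' a ha] at k1
      rw [Units.val_mul, hdv, hdv', if_pos hb', if_pos hb', hin b hb', hin' b hb', hAx, hAy] at k2
      refine hy'.2 (mul_right_cancel₀ (mul_ne_zero (ne_zero_of_mem hb ht') (ne_zero_of_mem hb (heA' a))) ?_)
      linear_combination k2 - x * k1

/-- In odd characteristic an element without zero entries gives one with a zero entry. -/
theorem no_zero (hn : 10 ≤ n) (h2 : (2 : F) ≠ 0) {M : Subgroup (GL (Fin n) F)} (hM : UMonoIn σ M)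
    (hMU : M ≤ Cfsg.GU n F q) {g : GL (Fin n) F} (hg : g ∈ M) (hG : ∀ p r, (g : Mat) p r ≠ 0) :
    ∃ b ∈ M, ¬ Mono b ∧ ∃ k c, (b : Mat) k c = 0 := by
  classical
  have hgU := hMU hg
  set k : Fin n := ⟨0, by omega⟩
  set c : Fin n := ⟨1, by omega⟩
  have hkc : k ≠ c := by simp [k, c]
  set z : Fin n → F := fun s => (g : Mat) k s * ((g⁻¹ : GL (Fin n) F) : Mat) s c with hz
  have hz0 : ∀ s, z s ≠ 0 := fun s => by
    simp only [hz]
    rw [inv_entry hf hb hgU]
    exact mul_ne_zero (hG k s) ((map_ne_zero_iff σ σ.injective).mpr (hG c s))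
  obtain ⟨d, d', A, K, hd, hd', hp, hp', hs, hs', hA, hout, s₀, hs₀⟩ := zero_pair hf hb hz0 hn h2
  by_contra hcon
  push Not at hcon
  have hmono : ∀ d : Fin n → Fˣ, (∀ s, (d s : F) ∈ normOne σ) → ∏ s, d s = 1 → ∑ s, (d s : F) * z s = 0 →
      Mono (g * monEl 1 d * g⁻¹) := by
    intro d hd hp hs
    by_contra hnm
    refine hcon _ (M.mul_mem (M.mul_mem hg (hM _ _ hd ?_)) (M.inv_mem hg)) hnm k c ?_
    · rw [det_monEl, map_one, Units.val_one, Int.cast_one, one_mul, ← Units.coe_prod, hp, Units.val_one]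
    rw [conj_diag_apply, Matrix.one_apply_ne hkc, zero_add]
    have e : ∑ s, z s = 0 := by
      simp only [hz]; rw [← Matrix.mul_apply, Units.mul_inv, Matrix.one_apply_ne hkc]
    calc _ = ∑ s, ((d s : F) - 1) * z s := Finset.sum_congr rfl fun s _ => by simp [hz]
      _ = 0 := by simp only [sub_mul, one_mul, Finset.sum_sub_distrib, e, hs, sub_zero]
  set δ : Fin n → Fˣ := fun s => d' s * (K * d s)⁻¹ with hδ
  have hscal : ∀ J : Fˣ, g * monEl 1 (fun _ => J) * g⁻¹ = monEl 1 fun _ => J := by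
    intro J
    rw [mul_inv_eq_iff_eq_mul]
    refine Units.ext (Matrix.ext fun p r => ?_)
    rw [Units.val_mul, Units.val_mul, Matrix.mul_apply, Matrix.mul_apply, Finset.sum_eq_single r,
      Finset.sum_eq_single p]
    · simp [monEl_apply, mul_comm]
    · intro s _ hs; simp [monEl_apply, Ne.symm hs]
    · simp
    · intro s _ hs; simp [monEl_apply, hs]
    · simp
  have e : g * monEl 1 δ * g⁻¹ =
      (g * monEl 1 d' * g⁻¹) * (g * monEl 1 d * g⁻¹)⁻¹ * (g * monEl 1 (fun _ => K⁻¹) * g⁻¹) := by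
    have e' : monEl 1 δ = monEl 1 d' * (monEl 1 d)⁻¹ * monEl 1 fun _ => K⁻¹ := by
      rw [monEl_inv]
      refine Units.ext (Matrix.ext_iff_mulVec.mpr fun x => ?_)
      funext p
      simp only [Units.val_mul, ← mulVec_mulVec, inv_one, monEl_mulVec,
        show (1 : Equiv.Perm (Fin n)).symm = 1 from rfl, Equiv.Perm.one_apply]
      simp [hδ]
      ring
    rw [e']; group
  have h1 := small_diag_eq_one hf hb hgU hG A hA (δ := δ) (fun s hs => by
    simp only [hδ]; rw [hout s hs, mul_inv_cancel]) (by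
    rw [e, hscal]; exact ((hmono d' hd' hp' hs').mul (hmono d hd hp hs).inv).mul (mono_monEl _ _)) s₀
  exact hs₀ (mul_inv_eq_one.mp h1)

omit hf hb in
theorem pow_three_inj {ζ : F} (h0 : ζ ≠ 0) (h1 : ζ ≠ 1) (h2 : ζ ^ 2 ≠ 1) (i j : Fin 3)
    (e : ζ ^ (i : ℕ) = ζ ^ (j : ℕ)) : i = j := by
  have h12 : ζ ≠ ζ ^ 2 := fun e => h1 (mul_left_cancel₀ h0 (by rw [mul_one, ← pow_two]; exact e.symm))
  apply Fin.ext
  have hi := i.2
  have hj := j.2
  rcases (show (i : ℕ) = 0 ∨ (i : ℕ) = 1 ∨ (i : ℕ) = 2 by omega) with a | a | a <;>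
    rcases (show (j : ℕ) = 0 ∨ (j : ℕ) = 1 ∨ (j : ℕ) = 2 by omega) with b | b | b <;>
      rw [a, b] at e ⊢ <;> simp only [pow_zero, pow_one] at e <;>
      first
        | exact absurd e h1
        | exact absurd e.symm h1
        | exact absurd e h2
        | exact absurd e.symm h2
        | exact absurd e h12
        | exact absurd e.symm h12

/-- A conjugate of a monomial transvection meeting three coordinates. -/
theorem exists_transvection (hn : 9 ≤ n) (h2 : (2 : F) = 0) {M : Subgroup (GL (Fin n) F)} (hM : UMonoIn σ M)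
    (hMU : M ≤ Cfsg.GU n F q) {g : GL (Fin n) F} (hg : g ∈ M) (hg' : ¬ Mono g) :
    Fixer M ∨ ∃ z, η z z = 0 ∧ uTv q z 1 ∈ M ∧ 3 ≤ (supp z).card := by
  classical
  have hs := sesqForm_of_unitary hf
  have hgU := hMU hg
  by_contra hcon
  push Not at hcon
  obtain ⟨hfx, hcon⟩ := hcon
  refine plane_contra hf hb hgU Finset.univ (by simp; omega)
    (fun a _ => (weight_or_fixer hf hb hM hg hg' a).resolve_left hfx) fun a _ b _ hab => ?_
  by_contra hT
  push Not at hT
  obtain ⟨T, hT', hTc⟩ := Finset.exists_subset_card_eq (Nat.succ_le_of_lt hT)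
  have hweight : ∀ x ∈ normOne σ, (supp ((g : Mat) *ᵥ (ε⟦a⟧ + x • ε⟦b⟧))).card ≤ 2 := by
    intro x hx
    set z₀ : V := ε⟦a⟧ + x • ε⟦b⟧ with hz₀
    have hx' := (mem_normOne hb).mp hx
    have hz00 : η z₀ z₀ = 0 := by
      simp [hz₀, hs.add_left, hs.add_right, hs.smul_left, hs.smul_right, herm_single_right hf hb,
        hab, Ne.symm hab, mul_comm]
      linear_combination h2 + hx'
    set xu : Fˣ := Units.mk0 x (ne_zero_of_mem hb hx) with hxu
    set d : Fin n → Fˣ := fun s => if s = a then xu else if s = b then xu⁻¹ else 1 with hd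
    have hone : (-1 : F) = 1 := by linear_combination -h2
    have hmem : monEl (Equiv.swap a b) d ∈ M := by
      refine hM _ _ (fun r => ?_) ?_
      · simp only [hd]
        split_ifs
        · exact hx
        · simpa [hxu] using Circle.inv_mem hb hx
        · simpa using Circle.one_mem hb
      · rw [det_monEl, Equiv.Perm.sign_swap hab, ← Units.coe_prod,
          Finset.prod_eq_mul a b hab (fun r _ hr => by simp [hd, hr.1, hr.2]) (by simp) (by simp)]
        simp [hd, Ne.symm hab, hone]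
    have heq : uTv q z₀ 1 = monEl (Equiv.swap a b) d := by
      refine Units.ext (Matrix.ext_iff_mulVec.mpr fun y => ?_)
      rw [uTv_mulVec hf hz00]
      funext p
      rw [monEl_mulVec, Equiv.symm_swap]
      have hσx : σ x = x⁻¹ := bar_eq_inv hb hx
      have hx0 := ne_zero_of_mem hb hx
      simp only [hz₀, hs.add_right, hs.smul_right, herm_single_right hf hb, hσx]
      by_cases hpa : p = a
      · subst hpa; simp [hd, hab, Ne.symm hab, hxu]; linear_combination y p * h2
      by_cases hpb : p = b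
      · subst hpb; simp [hd, hab, Ne.symm hab, hxu]; field_simp; linear_combination y p * h2
      · simp [hd, hpa, hpb, Equiv.swap_apply_of_ne_of_ne hpa hpb]
    have ht : uTv q ((g : Mat) *ᵥ z₀) 1 ∈ M := by
      rw [← conj_uTv hf hgU, heq]
      exact M.mul_mem (M.mul_mem hg hmem) (M.inv_mem hg)
    exact Nat.le_of_lt_succ (hcon _ (by rw [mem_GU_iff_forall.mp hgU, hz00]) ht)
  obtain ⟨ζ, hζ, hord⟩ := exists_order hb
  have hζ0 := ne_zero_of_mem hb hζ
  have hz1 : ζ ≠ 1 := by simpa using hord 1 (by linarith [two_le hb]) one_pos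
  have hz2 : ζ ^ 2 ≠ 1 := hord 2 (two_le hb) two_pos
  set Zr : Fin 3 → Finset (Fin n) := fun i => T.filter fun p =>
    ((g : Mat) *ᵥ (ε⟦a⟧ + (ζ ^ (i : ℕ)) • ε⟦b⟧)) p = 0 with hZ
  have hge : ∀ i, 2 ≤ (Zr i).card := by
    intro i
    have h1 : (T \ Zr i).card ≤ 2 := (Finset.card_le_card fun p hp => by
      simp only [hZ, Finset.mem_sdiff, Finset.mem_filter, not_and] at hp
      exact (mem_supp hf hb).mpr (hp.2 hp.1)).trans (hweight _ (Circle.pow_mem hb hζ _))
    have hsub : Zr i ⊆ T := Finset.filter_subset _ _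
    rw [Finset.card_sdiff_of_subset hsub, hTc] at h1
    omega
  have hdis : ∀ i j, i ≠ j → Disjoint (Zr i) (Zr j) := by
    intro i j hij
    rw [Finset.disjoint_left]
    intro p hpi hpj
    simp only [hZ, Finset.mem_filter, mulVec_add, mulVec_smul, Pi.add_apply, Pi.smul_apply, smul_eq_mul,
      col_apply' hf hb] at hpi hpj
    have e : (ζ ^ (i : ℕ) - ζ ^ (j : ℕ)) * (g : Mat) p b = 0 := by linear_combination hpi.2 - hpj.2
    rcases mul_eq_zero.mp e with e | e
    · exact hij (pow_three_inj hζ0 hz1 hz2 i j (sub_eq_zero.mp e))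
    · have hga : (g : Mat) p a = 0 := by simpa [e] using hpi.2
      have := hT' hpi.1
      rw [Finset.mem_union, mem_supp hf hb, mem_supp hf hb, col_apply' hf hb, col_apply' hf hb, hga, e] at this
      simp at this
  have hsum : ∑ i, (Zr i).card ≤ T.card := by
    rw [← Finset.card_biUnion (fun i _ j _ hij => hdis i j hij)]
    exact Finset.card_le_card (Finset.biUnion_subset.mpr fun i _ => Finset.filter_subset _ _)
  rw [Fin.sum_univ_three, hTc] at hsum
  have := hge 0; have := hge 1; have := hge 2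
  omega

/-- Moving a transvection centre to one with a zero coordinate. -/
theorem fixer_of_transvection (hn : 9 ≤ n) (h2 : (2 : F) = 0) {M : Subgroup (GL (Fin n) F)}
    (hM : UMonoIn σ M) {z : V} (hzz : η z z = 0) (ht : uTv q z 1 ∈ M) (hz3 : 3 ≤ (supp z).card) : Fixer M := by
  classical
  have hs := sesqForm_of_unitary hf
  have h1 : σ (1 : F) = -1 := by rw [map_one]; linear_combination h2
  have finish : ∀ z : V, η z z = 0 → uTv q z 1 ∈ M → 3 ≤ (supp z).card → ∀ p, z p = 0 → Fixer M := by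
    intro z hzz ht hz3 p hp
    refine ⟨p, _, ht, ?_, 1, by rw [uTv_mulVec hf hzz, herm_single_left hf hb, hp]; simp⟩
    rintro ⟨π, hπ⟩
    obtain ⟨r, hr⟩ := Finset.card_pos.mp (by omega : 0 < (supp z).card)
    obtain ⟨x, hx, hx'⟩ := Finset.exists_mem_notMem_of_card_lt_card
      (show ({r, π r} : Finset (Fin n)).card < (supp z).card from Finset.card_le_two.trans_lt (by omega))
    simp only [Finset.mem_insert, Finset.mem_singleton, not_or] at hx'
    refine hx'.2 (hπ x r ?_)
    rw [← col_apply' hf hb, uTv_mulVec hf hzz, herm_single_left hf hb]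
    simpa [hx'.1, (mem_supp hf hb).mp hr] using (mem_supp hf hb).mp hx
  by_cases hfull : ∃ p, z p = 0
  · obtain ⟨p, hp⟩ := hfull
    exact finish z hzz ht hz3 p hp
  push Not at hfull
  set w : Fin n → F := fun j => z j * σ (z j) with hw
  have hw0 : ∀ j, w j ≠ 0 := fun j => mul_ne_zero (hfull j) ((map_ne_zero_iff σ σ.injective).mpr (hfull j))
  have hwsum : ∑ j, w j = 0 := by rw [← hzz, herm_apply hf hb]
  set p : Fin n := ⟨0, by omega⟩
  set O := (Finset.univ : Finset (Fin n)).erase p with hO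
  have hOc : O.card = n - 1 := by
    rw [hO, Finset.card_erase_of_mem (Finset.mem_univ p), Finset.card_univ, Fintype.card_fin]
  have hwfix : ∀ s, σ (w s) = w s := fun s => Circle.length_fixed hb (z s)
  have hneg : ∀ x : F, -x = x := fun x => by linear_combination -x * h2
  -- the coefficients outside a block of four
  have target : ∀ A ⊆ O, A.card = 4 → ∀ ea : Fin n → F, (∀ s, ea s ∈ normOne σ) → ∑ s ∈ A, ea s * w s = 0 →
      ∃ e : Fin n → F, (∀ s, e s ∈ normOne σ) ∧ e p = 1 ∧ (∀ s ∈ A, e s = ea s) ∧ ∑ s, e s * w s = 1 := by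
    intro A hAO hA ea hea hsA
    set C := O \ A with hC
    have hCc : C.card = n - 5 := by rw [hC, Finset.card_sdiff_of_subset hAO, hOc, hA]; omega
    obtain ⟨ec, hec, hecs⟩ : ∃ e : Fin n → F, (∀ s, e s ∈ normOne σ) ∧ ∑ s ∈ C, e s * w s = 1 - w p := by
      by_cases hT : 1 - w p = 0
      · obtain ⟨e, he, hes⟩ := sum_zero hb w C (fun j _ => hw0 j) (by omega)
        exact ⟨e, he, hes.trans hT.symm⟩
      · obtain ⟨e, he, hes⟩ := sum_zero hb (fun o : Option (Fin n) => o.elim (-(1 - w p)) w) (Finset.insertNone C)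
          (fun o ho => by
            rcases o with _ | j
            · exact neg_ne_zero.mpr hT
            · exact hw0 j) (by rw [Finset.card_insertNone, hCc]; omega)
        have he0 := ne_zero_of_mem hb (he none)
        refine ⟨fun s => (e none)⁻¹ * e (some s), fun s => Circle.mul_mem hb (Circle.inv_mem hb (he none)) (he _), ?_⟩
        rw [Finset.sum_insertNone] at hes
        simp only [Option.elim_none, Option.elim_some] at hes
        simp only [mul_assoc, ← Finset.mul_sum]
        rw [inv_mul_eq_iff_eq_mul₀ he0]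
        linear_combination hes
    have hpA : p ∉ A := fun h => Finset.ne_of_mem_erase (hAO h) rfl
    refine ⟨fun s => if s ∈ A then ea s else if s = p then 1 else ec s, fun s => ?_, by simp [hpA],
      fun s hs => if_pos hs, ?_⟩
    · dsimp only
      split_ifs
      · exact hea s
      · exact Circle.one_mem hb
      · exact hec s
    · rw [← Finset.add_sum_erase _ _ (Finset.mem_univ p), ← hO, ← Finset.sum_sdiff hAO, ← hC,
        Finset.sum_congr (s₁ := A) rfl (g := fun s => ea s * w s) (fun s hs => by simp [hs]), hsA,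
        Finset.sum_congr rfl (g := fun s => ec s * w s) (fun s hs => by
          rw [hC, Finset.mem_sdiff, hO, Finset.mem_erase] at hs
          simp [hs.2, hs.1.1]), hecs]
      simp [hpA]
  have hroot : ∀ x ∈ normOne σ, ∃ v ∈ normOne σ, v ^ 2 = x := fun x hx => by
    obtain ⟨k, hk⟩ : ∃ k, q = 2 * k := by
      rcases Nat.even_or_odd q with ⟨k, hk⟩ | ho
      · exact ⟨k, by omega⟩
      · exfalso
        have h := FiniteField.cast_card_eq_zero F
        obtain ⟨k, hk⟩ := ho.pow (n := 2)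
        rw [hb.card, hk] at h
        push_cast at h
        rw [h2, zero_mul, zero_add] at h
        exact one_ne_zero h
    refine ⟨x ^ (k + 1), Circle.pow_mem hb hx _, ?_⟩
    rw [← pow_mul, show (k + 1) * 2 = (q + 1) + 1 by omega, pow_succ, pow_succ_eq_one hb hx, one_mul]
  obtain ⟨e, he, hep, hS, hprod, hmany⟩ : ∃ e : Fin n → F, (∀ s, e s ∈ normOne σ) ∧ e p = 1 ∧
      ∑ s, e s * w s = 1 ∧ ∏ s, e s = 1 ∧ 3 ≤ (Finset.univ.filter fun s => e s ≠ 1).card := by
    have hprodA : ∀ (e : Fin n → F) (A : Finset (Fin n)) (t : Fin n → F),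
        ∏ s, (if s ∈ A then t s else 1) * e s = (∏ s ∈ A, t s) * ∏ s, e s := fun e A t => by
      rw [Finset.prod_mul_distrib, Finset.prod_ite_mem, Finset.univ_inter]
    by_cases hpairs : ∃ j ∈ O, ∃ l ∈ O, ∃ k ∈ O, ∃ m ∈ O, j ≠ l ∧ j ≠ k ∧ j ≠ m ∧ l ≠ k ∧ l ≠ m ∧ k ≠ m ∧
        w j = w l ∧ w k = w m
    · obtain ⟨j, hj, l, hl, k, hk, m, hm, jl, jk, jm, lk, lm, km, wjl, wkm⟩ := hpairs
      have hA : ({j, l, k, m} : Finset (Fin n)).card = 4 :=
        Finset.card_eq_four.mpr ⟨j, l, k, m, jl, jk, jm, lk, lm, km, rfl⟩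
      have hAO : ({j, l, k, m} : Finset (Fin n)) ⊆ O := by
        simp [Finset.insert_subset_iff, hj, hl, hk, hm]
      obtain ⟨e₀, he₀, he₀p, he₀A, hS₀⟩ := target _ hAO hA (fun _ => 1) (fun _ => Circle.one_mem hb) (by
        simp [jl, jk, jm, lk, lm, km]; linear_combination wjl + wkm + (w l + w m) * h2)
      obtain ⟨r, hr, hr2⟩ := hroot _ (Circle.inv_mem hb (prod_mem hb Finset.univ fun s _ => he₀ s))
      obtain ⟨u, hu, hu'⟩ := exists_normOne_notMem hb {1, r} (Finset.card_le_two.trans (two_le hb))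
      simp only [Finset.mem_insert, Finset.mem_singleton, not_or] at hu'
      set v := r / u with hv
      have hvn : v ∈ normOne σ := by rw [hv, div_eq_mul_inv]; exact Circle.mul_mem hb hr (Circle.inv_mem hb hu)
      have hu0 := ne_zero_of_mem hb hu
      let t : Fin n → F := fun s => if s = j ∨ s = l then u else v
      refine ⟨fun s => (if s ∈ ({j, l, k, m} : Finset (Fin n)) then t s else 1) * e₀ s, fun s => ?_, ?_, ?_, ?_, ?_⟩
      · refine Circle.mul_mem hb ?_ (he₀ s)
        simp only [t]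
        split_ifs <;> first | assumption | exact Circle.one_mem hb
      · show (if p ∈ ({j, l, k, m} : Finset (Fin n)) then t p else 1) * e₀ p = 1
        rw [if_neg fun h => Finset.ne_of_mem_erase (hAO h) rfl, he₀p, one_mul]
      · refine Eq.trans ?_ hS₀
        rw [← Finset.sum_sdiff (Finset.subset_univ ({j, l, k, m} : Finset (Fin n))),
          ← Finset.sum_sdiff (Finset.subset_univ ({j, l, k, m} : Finset (Fin n))) (f := fun s => e₀ s * w s),
          Finset.sum_congr rfl (g := fun s => e₀ s * w s) (fun s hs => by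
            simp [(Finset.mem_sdiff.mp hs).2])]
        congr 1
        simp [t, jl, jk, jm, lk, lm, km, Ne.symm jk, Ne.symm jm, Ne.symm lk, Ne.symm lm, Ne.symm km, Ne.symm jl,
          he₀A, wjl, wkm]
        linear_combination ((u - 1) * w l + (v - 1) * w m) * h2
      · rw [hprodA]
        have e1 : ∏ s ∈ ({j, l, k, m} : Finset (Fin n)), t s = r ^ 2 := by
          simp [t, jl, jk, jm, lk, lm, km, Ne.symm jk, Ne.symm jm, Ne.symm lk, Ne.symm lm, Ne.symm km, Ne.symm jl]
          rw [hv]; field_simp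
        rw [e1, hr2, inv_mul_cancel₀ (ne_zero_of_mem hb (prod_mem hb Finset.univ fun s _ => he₀ s))]
      · refine le_trans (by omega : 3 ≤ ({j, l, k, m} : Finset (Fin n)).card) (Finset.card_le_card fun s hs => ?_)
        simp only [Finset.mem_filter]
        rw [if_pos hs, he₀A s hs, mul_one]
        refine ⟨Finset.mem_univ _, ?_⟩
        simp only [t]
        split_ifs
        · exact hu'.1
        · rw [hv]; intro h; exact hu'.2 ((div_eq_one_iff_eq hu0).mp h).symm
    -- otherwise four distinct values with non-zero sum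
    push Not at hpairs
    obtain ⟨O', hO', hO'c, hinj⟩ : ∃ O' ⊆ O, n - 3 ≤ O'.card ∧ Set.InjOn w O' := by
      by_cases h : ∃ j ∈ O, ∃ l ∈ O, j ≠ l ∧ w j = w l
      · obtain ⟨j, hj, l, hl, hjl, hw'⟩ := h
        refine ⟨(O.erase j).erase l, fun s hs => Finset.mem_of_mem_erase (Finset.mem_of_mem_erase hs), ?_, ?_⟩
        · rw [Finset.card_erase_of_mem (Finset.mem_erase.mpr ⟨Ne.symm hjl, hl⟩), Finset.card_erase_of_mem hj, hOc]
          omega
        · intro k hk m hm hkm
          simp only [Finset.coe_erase, Set.mem_diff, Set.mem_singleton_iff, Finset.mem_coe] at hk hm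
          by_contra hne
          exact hpairs j hj l hl k hk.1.1 m hm.1.1 hjl (Ne.symm hk.1.2) (Ne.symm hm.1.2) (Ne.symm hk.2)
            (Ne.symm hm.2) hne hw' hkm
      · push Not at h
        exact ⟨O, subset_rfl, by omega, fun j hj l hl e => by_contra fun hne => h j hj l hl hne e⟩
    obtain ⟨A₅, hA₅, hA₅c⟩ := Finset.exists_subset_card_eq (show 5 ≤ O'.card by omega)
    obtain ⟨A, hA₀, hA, hAsum⟩ : ∃ A ⊆ A₅, A.card = 4 ∧ ∑ s ∈ A, w s ≠ 0 := by
      by_contra hcon
      push Not at hcon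
      obtain ⟨i, hi, i', hi', hii⟩ := Finset.one_lt_card.mp (by omega : 1 < A₅.card)
      have k : ∀ x ∈ A₅, ∑ s ∈ A₅, w s = w x := fun x hx => by
        rw [← Finset.add_sum_erase _ _ hx,
          hcon _ (Finset.erase_subset _ _) (by rw [Finset.card_erase_of_mem hx, hA₅c]), add_zero]
      exact hii (hinj (hA₅ hi) (hA₅ hi') ((k i hi).symm.trans (k i' hi')))
    have hAO : A ⊆ O := hA₀.trans (hA₅.trans hO')
    have hAinj : ∀ a ∈ A, ∀ b ∈ A, w a = w b → a = b := fun a ha b hb' e => hinj (hA₅ (hA₀ ha)) (hA₅ (hA₀ hb')) e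
    obtain ⟨ea, hea, heas⟩ := sum_zero hb w A (fun j _ => hw0 j) (by omega)
    obtain ⟨e₀, he₀, he₀p, he₀A, hS₀⟩ := target A hAO hA ea hea heas
    obtain ⟨r₁, hr₁, hr₁2⟩ := hroot _ (Circle.inv_mem hb (prod_mem hb Finset.univ fun s _ => he₀ s))
    obtain ⟨r, hr, hr2⟩ := hroot _ hr₁
    set e : Fin n → F := fun s => (if s ∈ A then r else 1) * e₀ s with he'
    have hsA : ∑ s ∈ A, e s * w s = 0 := by
      rw [Finset.sum_congr rfl (g := fun s => r * (ea s * w s)) (fun s hs => by simp [he', hs, he₀A s hs, mul_assoc]),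
        ← Finset.mul_sum, heas, mul_zero]
    have he : ∀ s, e s ∈ normOne σ := fun s => by
      simp only [he']
      refine Circle.mul_mem hb ?_ (he₀ s)
      split_ifs
      · exact hr
      · exact Circle.one_mem hb
    have hprod : ∏ s, e s = 1 := by
      simp only [he', hprodA, Finset.prod_const, hA]
      rw [show r ^ 4 = (r ^ 2) ^ 2 by ring, hr2, hr₁2,
        inv_mul_cancel₀ (ne_zero_of_mem hb (prod_mem hb Finset.univ fun s _ => he₀ s))]
    refine ⟨e, he, by simp [he', he₀p, show p ∉ A from fun h => Finset.ne_of_mem_erase (hAO h) rfl], ?_, hprod, ?_⟩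
    · rw [← hS₀, ← Finset.sum_sdiff (Finset.subset_univ A),
        ← Finset.sum_sdiff (Finset.subset_univ A) (f := fun s => e₀ s * w s), hsA,
        Finset.sum_congr (s₁ := A) rfl (g := fun s => ea s * w s) (fun s hs => by rw [he₀A s hs]), heas]
      congr 1
      exact Finset.sum_congr rfl fun s hs => by simp [he', (Finset.mem_sdiff.mp hs).2]
    · by_contra hlt
      push Not at hlt
      set N := Finset.univ.filter fun s => e s ≠ 1 with hN
      have hone : ∀ s, s ∉ N → e s = 1 := fun s hs => by simpa [hN] using hs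
      have hpN : ∏ s ∈ N, e s = 1 := by
        rw [Finset.prod_subset (Finset.subset_univ N) fun s _ hs => hone s hs]; exact hprod
      obtain ⟨j, hjA, hjN⟩ : ∃ j ∈ A, j ∈ N := by
        by_contra hno
        push Not at hno
        exact hAsum ((Finset.sum_congr rfl fun s hs => by rw [hone s (hno s hs), one_mul]).symm.trans hsA)
      obtain ⟨l, hlN, hlj⟩ : ∃ l ∈ N, l ≠ j := by
        by_contra hno
        push Not at hno
        rw [Finset.prod_eq_single j (fun s hs hne => absurd (hno s hs) hne) (fun h => absurd hjN h)] at hpN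
        exact (Finset.mem_filter.mp hjN).2 hpN
      have hNeq : ∀ s, s ≠ j → s ≠ l → e s = 1 := fun s hsj hsl => hone s fun hs => by
        have h3 : ({j, l, s} : Finset (Fin n)) ⊆ N := by simp [Finset.insert_subset_iff, hjN, hlN, hs]
        have := Finset.card_le_card h3
        rw [Finset.card_eq_three.mpr ⟨j, l, s, Ne.symm hlj, Ne.symm hsj, Ne.symm hsl, rfl⟩] at this
        omega
      rw [← Finset.add_sum_erase _ _ hjA] at hsA
      have hej := (Finset.mem_filter.mp hjN).2
      have hej' : (e j)⁻¹ ≠ e j := fun h => hej (by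
        have h' : (e j - 1) * (e j - 1) = 0 := by
          have h0 := mul_inv_cancel₀ (ne_zero_of_mem hb (he j))
          rw [h] at h0
          linear_combination h0 + (1 - e j) * h2
        exact sub_eq_zero.mp (mul_self_eq_zero.mp h'))
      by_cases hlA : l ∈ A
      · rw [← Finset.add_sum_erase _ _ (Finset.mem_erase.mpr ⟨hlj, hlA⟩),
          Finset.sum_congr rfl (g := w) (fun s hs => by
            rw [hNeq s (Finset.ne_of_mem_erase (Finset.mem_of_mem_erase hs)) (Finset.ne_of_mem_erase hs), one_mul])]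
          at hsA
        rw [Finset.prod_eq_mul j l (Ne.symm hlj) (fun s hs hne => hNeq s hne.1 hne.2) (fun h => absurd hjN h)
          (fun h => absurd hlN h)] at hpN
        have hel : e l = (e j)⁻¹ := eq_inv_of_mul_eq_one_right hpN
        have h' := congrArg σ hsA
        simp only [map_add, map_mul, map_sum, map_zero, hwfix, bar_eq_inv hb (he j), hel, map_inv₀, inv_inv] at h'
        rw [hel] at hsA
        have e1 : ((e j)⁻¹ - e j) * (w j - w l) = 0 := by linear_combination h' - hsA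
        exact hlj (hAinj l hlA j hjA
          (sub_eq_zero.mp ((mul_eq_zero.mp e1).resolve_left (sub_ne_zero.mpr hej'))).symm)
      · rw [Finset.sum_congr rfl (g := w) (fun s hs => by
          rw [hNeq s (Finset.ne_of_mem_erase hs) (fun h => hlA (h ▸ Finset.mem_of_mem_erase hs)), one_mul])] at hsA
        have h' := congrArg σ hsA
        simp only [map_add, map_mul, map_sum, map_zero, hwfix, bar_eq_inv hb (he j)] at h'
        have e1 : ((e j)⁻¹ - e j) * w j = 0 := by linear_combination h' - hsA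
        exact hej' (sub_eq_zero.mp ((mul_eq_zero.mp e1).resolve_right (hw0 j)))
  set d : Fin n → Fˣ := fun s => (Units.mk0 (e s) (ne_zero_of_mem hb (he s)))⁻¹ with hd
  have hdn : ∀ s, (d s : F) ∈ normOne σ := fun s => by simpa [hd] using Circle.inv_mem hb (he s)
  have hdM : monEl 1 d ∈ M := by
    refine hM _ _ hdn ?_
    rw [det_monEl, map_one, Units.val_one, Int.cast_one, one_mul]
    simp only [hd, Units.val_inv_eq_inv_val, Units.val_mk0, Finset.prod_inv_distrib, hprod, inv_one]
  have hdU := monEl_mem_GU' hf hb (φ := 1) hdn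
  set z₂ := (monEl 1 d : Mat) *ᵥ z with hz₂
  have hz₂v : ∀ s, z₂ s = (e s)⁻¹ * z s := fun s => by
    rw [hz₂, monEl_mulVec, show (1 : Equiv.Perm (Fin n)).symm = 1 from rfl, Equiv.Perm.one_apply]; simp [hd]
  have hz₂z : η z₂ z₂ = 0 := by rw [hz₂, mem_GU_iff_forall.mp hdU, hzz]
  have ht₂ : uTv q z₂ 1 ∈ M := by
    rw [hz₂, ← conj_uTv hf hdU]; exact M.mul_mem (M.mul_mem hdM ht) (M.inv_mem hdM)
  have hzz₂ : η z z₂ = 1 := by
    rw [herm_apply hf hb, ← hS]
    refine Finset.sum_congr rfl fun s _ => ?_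
    rw [hz₂v, map_mul, map_inv₀, bar_eq_inv hb (he s), inv_inv, hw]
    ring
  have hU₂ : uTv q z₂ 1 ∈ Cfsg.GU n F q := (uTv_mem hf hz₂z h1).1
  set z' := (uTv q z₂ 1 : Mat) *ᵥ z with hz'
  have hz'v : ∀ s, z' s = (1 + (e s)⁻¹) * z s := fun s => by
    rw [hz', uTv_mulVec hf hz₂z, hzz₂, Pi.add_apply, Pi.smul_apply, hz₂v, smul_eq_mul]; ring
  refine finish z' (by rw [hz', mem_GU_iff_forall.mp hU₂, hzz]) ?_ ?_ p ?_
  · rw [hz', ← conj_uTv hf hU₂]; exact M.mul_mem (M.mul_mem ht₂ ht) (M.inv_mem ht₂)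
  · refine hmany.trans (Finset.card_le_card fun s hs => ?_)
    rw [Finset.mem_filter] at hs
    rw [mem_supp hf hb, hz'v]
    refine mul_ne_zero (fun h0 => hs.2 ?_) (hfull s)
    have : (e s)⁻¹ = 1 := by linear_combination h0 - h2
    rwa [inv_eq_one] at this
  · rw [hz'v, hep, inv_one, show (1 : F) + 1 = 0 by linear_combination h2, zero_mul]

/-- A subgroup of `SU` properly above the monomial group has a non-monomial element fixing a coordinate line. -/
theorem exists_fixer (hn : 10 ≤ n) {M : Subgroup (GL (Fin n) F)} (hM : UMonoIn σ M)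
    (hMU : M ≤ Cfsg.GU n F q) {g : GL (Fin n) F} (hg : g ∈ M) (hg' : ¬ Mono g) : Fixer M := by
  by_cases h2 : (2 : F) = 0
  · rcases exists_transvection hf hb (by omega) h2 hM hMU hg hg' with h | ⟨z, hzz, ht, hz3⟩
    · exact h
    · exact fixer_of_transvection hf hb (by omega) h2 hM hzz ht hz3
  · by_cases h1 : ∃ k l, (g : Mat) k l = 0
    · obtain ⟨k, l, h⟩ := h1
      exact one_zero hf hb (by omega) (Or.inl (by omega)) (Or.inl h2) hM hMU hg hg' h
    push Not at h1
    obtain ⟨b, hb', hb'', k, c, h⟩ := no_zero hf hb hn h2 hM hMU hg h1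
    exact one_zero hf hb (by omega) (Or.inl (by omega)) (Or.inl h2) hM hMU hb' hb'' h

end CfsgLib.MaxSub.UMono
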