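import Cfsg.Agent.MaxSub.UnitaryMonomial

/-!
# The monomial subgroup of the special unitary group is maximal

From a non-monomial element fixing a coordinate line an overgroup gets a pair of unit vectors whose
reflections it contains, then a degenerate plane, an isotropic centre and finally all centres.
-/

set_option autoImplicit false
set_option linter.unusedSectionVars false

namespace CfsgLib.MaxSub.UMono

open Matrix Cfsg.Geo CfsgLib.MaxSub.UC CfsgLib.MaxSub.Monomial CfsgLib.MaxSub.Circle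

variable {F : Type*} [Field F] [Fintype F] {n q : ℕ} {σ : F ≃+* F}

local notation "V" => (Fin n → F)
local notation "η" => Cfsg.hermForm n F q
local notation "Mat" => Matrix (Fin n) (Fin n) F
local notation "ε⟦" r "⟧" => (Pi.single r (1 : F) : Fin n → F)
local notation "SU" => (Cfsg.GU n F q ⊓ specialLinear (Fin n) F)

/-- The unipotent element of a degenerate plane with parameters `s, t`. -/
def Degen (q : ℕ) (σ : F ≃+* F) (u v : Fin n → F) (s t : F) (R : GL (Fin n) F) : Prop :=
  ∀ x, (R : Matrix (Fin n) (Fin n) F) *ᵥ x = x + (-(σ s * Cfsg.hermForm n F q x v)) • u +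
    (s * Cfsg.hermForm n F q x u + t * Cfsg.hermForm n F q x v) • v

variable (hf : IsUnitaryForm σ (Cfsg.hermForm n F q)) (hb : IsBar q σ)
include hf hb

theorem sum_norm (w : V) : η w w = ∑ i, w i * σ (w i) := herm_apply hf hb w w

theorem norm_pos {x : F} (hx : x ≠ 0) : x * σ x ≠ 0 := mul_ne_zero hx ((map_ne_zero_iff σ σ.injective).mpr hx)

theorem diag_mulVec (d : Fin n → Fˣ) (x : V) (p : Fin n) : ((monEl 1 d : GL (Fin n) F) : Mat) *ᵥ x = fun p => (d p : F) * x p := by
  funext p
  rw [monEl_mulVec, show (1 : Equiv.Perm (Fin n)).symm = 1 from rfl, Equiv.Perm.one_apply]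

/-- A monomial element of `M` with prescribed values away from one coordinate. -/
theorem exists_monomial_mem {M : Subgroup (GL (Fin n) F)} (hM : UMonoIn σ M) (π : Equiv.Perm (Fin n)) (k : Fin n)
    (d : Fin n → F) (hd : ∀ r, r ≠ k → d r ∈ normOne σ) :
    ∃ d' : Fin n → Fˣ, (∀ r, (d' r : F) ∈ normOne σ) ∧ (∀ r, r ≠ k → (d' r : F) = d r) ∧ monEl π d' ∈ M := by
  classical
  let d₀ : Fin n → Fˣ := fun r => if h : r = k then 1 else Units.mk0 (d r) (ne_zero_of_mem hb (hd r h))
  set P : Fˣ := Units.map (Int.castRingHom F).toMonoidHom (Equiv.Perm.sign π) * ∏ r, d₀ r with hP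
  have hd₀ : ∀ r, (d₀ r : F) ∈ normOne σ := fun r => by
    by_cases h : r = k
    · simp [d₀, h, Circle.one_mem hb]
    · simpa [d₀, h] using hd r h
  have hPn : (P : F) ∈ normOne σ := by
    rw [hP, Units.val_mul, Units.coe_prod]
    exact Circle.mul_mem hb (sign_normOne hf hb π)
      (Finset.prod_induction _ (fun x => x ∈ normOne σ) (fun _ _ => Circle.mul_mem hb) (Circle.one_mem hb)
        fun r _ => hd₀ r)
  refine ⟨fun r => if r = k then P⁻¹ else d₀ r, fun r => ?_, fun r hr => by simp [d₀, hr], hM _ _ (fun r => ?_) ?_⟩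
  iterate 2
    by_cases h : r = k
    · simpa [h] using Circle.inv_mem hb hPn
    · simpa [h] using hd₀ r
  rw [det_monEl, ← Units.coe_prod, ← Finset.mul_prod_erase _ _ (Finset.mem_univ k), if_pos rfl,
    Finset.prod_congr rfl (g := d₀) (fun r hr => if_neg (Finset.ne_of_mem_erase hr))]
  have e : ∏ r ∈ Finset.univ.erase k, d₀ r = ∏ r, d₀ r := by
    rw [← Finset.mul_prod_erase _ _ (Finset.mem_univ k), show d₀ k = 1 from dif_pos rfl, one_mul]
  rw [e]
  show ((Units.map (Int.castRingHom F).toMonoidHom (Equiv.Perm.sign π) : Fˣ) : F) * _ = 1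
  rw [← Units.val_mul, ← mul_assoc, mul_comm _ P⁻¹, mul_assoc, hP, inv_mul_cancel, Units.val_one]

theorem dref_smul_right {M : Subgroup (GL (Fin n) F)} {u w : V} {a : F} (ha : a ∈ normOne σ)
    (h : DRefIn q σ M u (a • w)) : DRefIn q σ M u w := by
  have hs := sesqForm_of_unitary hf
  have ha' := (mem_normOne hb).mp ha
  obtain ⟨hu, hw, huw, h⟩ := h
  rw [hs.smul_left, hs.smul_right, ← mul_assoc, ha', one_mul] at hw
  rw [hs.smul_right] at huw
  refine ⟨hu, hw, (mul_eq_zero.mp huw).resolve_left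
    ((map_ne_zero_iff σ σ.injective).mpr (ne_zero_of_mem hb ha)), fun l hl => ?_⟩
  obtain ⟨R, hR, hRa⟩ := h l hl
  refine ⟨R, hR, fun x => ?_⟩
  rw [hRa, hs.smul_right, smul_smul]
  congr 2
  linear_combination ((l⁻¹ - 1) * η x w) * ha'

theorem supp_card_pos {w : V} (hw : w ≠ 0) : 0 < (supp w).card := by
  obtain ⟨p, hp⟩ : ∃ p, w p ≠ 0 := Function.ne_iff.mp hw
  exact Finset.card_pos.mpr ⟨p, (mem_supp hf hb).mpr hp⟩

/-- An isotropic vector does not have one-element support. -/
theorem two_le_supp {w : V} (hw : w ≠ 0) (hww : η w w = 0) : 2 ≤ (supp w).card := by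
  by_contra h
  obtain ⟨p, hp⟩ := Finset.card_eq_one.mp (by have := supp_card_pos hf hb hw; omega : (supp w).card = 1)
  have hpw : w p ≠ 0 := (mem_supp hf hb).mp (by rw [hp]; exact Finset.mem_singleton_self p)
  rw [sum_norm hf hb, Finset.sum_eq_single p] at hww
  · exact norm_pos hf hb hpw hww
  · intro x _ hx
    have : w x = 0 := by
      by_contra hne
      exact hx (Finset.mem_singleton.mp (hp ▸ (mem_supp hf hb).mpr hne))
    rw [this, zero_mul]
  · simp

/-- From a fixed line, reflections of a unit vector meeting two coordinates. -/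
theorem exists_dref {M : Subgroup (GL (Fin n) F)} (hM : UMonoIn σ M) (hMU : M ≤ Cfsg.GU n F q) (hfx : Fixer M) :
    ∃ k u, u k = 0 ∧ 2 ≤ (supp u).card ∧ DRefIn q σ M u ε⟦k⟧ := by
  classical
  have hs := sesqForm_of_unitary hf
  obtain ⟨k, g, hg, hg', α, hk⟩ := hfx
  have hgU := hMU hg
  have hα : α ∈ normOne σ := by
    have := col_herm hf hb hgU k k
    rw [if_pos rfl, hk, hs.smul_left, hs.smul_right, herm_single_right hf hb, Pi.single_eq_same, mul_one] at this
    exact (mem_normOne hb).mpr this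
  have hrow : ∀ r, r ≠ k → (g : Mat) k r = 0 := by
    intro r hr
    have := col_herm hf hb hgU r k
    rw [if_neg hr, hk, hs.smul_right, herm_single_right hf hb, col_apply' hf hb] at this
    exact (mul_eq_zero.mp this).resolve_left ((map_ne_zero_iff σ σ.injective).mpr (ne_zero_of_mem hb hα))
  obtain ⟨d, hd⟩ : ∃ d, 2 ≤ (supp ((g : Mat) *ᵥ ε⟦d⟧)).card := by
    by_contra hcon
    push Not at hcon
    have h1 : ∀ d, ∃ p, supp ((g : Mat) *ᵥ ε⟦d⟧) = {p} := fun d => Finset.card_eq_one.mp (by
      have h0 := supp_card_pos hf hb (w := (g : Mat) *ᵥ ε⟦d⟧) fun e => by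
        simpa using congrFun (UC.mulVec_eq_zero hf e) d
      have := hcon d
      omega)
    choose π hπ using h1
    have hin : ∀ p d, (g : Mat) p d ≠ 0 → p = π d := fun p d h => by
      rw [← Finset.mem_singleton, ← hπ d, mem_supp hf hb, col_apply' hf hb]; exact h
    have hself : ∀ d, (g : Mat) (π d) d ≠ 0 := fun d => by
      rw [← col_apply' hf hb, ← mem_supp hf hb, hπ d]; exact Finset.mem_singleton_self _
    have hinj : Function.Injective π := by
      intro a b hab
      by_contra hne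
      have := col_herm hf hb hgU a b
      rw [if_neg hne, herm_apply hf hb, Finset.sum_eq_single (π a)] at this
      · rw [col_apply' hf hb, col_apply' hf hb] at this
        exact mul_ne_zero (hself a) ((map_ne_zero_iff σ σ.injective).mpr (hab ▸ hself b)) this
      · intro x _ hx
        rw [col_apply' hf hb, col_apply' hf hb]
        have : (g : Mat) x a = 0 := by_contra fun h => hx (hin x a h)
        rw [this, zero_mul]
      · simp
    exact hg' ⟨Equiv.ofBijective π (Finite.injective_iff_bijective.mp hinj), hin⟩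
  have hdk : d ≠ k := by
    rintro rfl
    have hle : (supp ((g : Mat) *ᵥ ε⟦d⟧)).card ≤ ({d} : Finset (Fin n)).card := Finset.card_le_card fun p hp => by
      rw [mem_supp hf hb, hk] at hp
      rw [Finset.mem_singleton]
      by_contra h
      exact hp (by simp [h])
    rw [Finset.card_singleton] at hle
    omega
  have h := dref_conj hf hb (dref_single hf hb hM hdk) hg hgU
  rw [hk] at h
  exact ⟨k, (g : Mat) *ᵥ ε⟦d⟧, by rw [col_apply' hf hb]; exact hrow d hdk, hd, dref_smul_right hf hb hα h⟩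

theorem degen_mul {u v : V} (hvv : η v v = 0) (huu : η u u = 1) (huv : η u v = 0) {s t s' t' : F}
    {R R' : GL (Fin n) F} (h : Degen q σ u v s t R) (h' : Degen q σ u v s' t' R') :
    Degen q σ u v (s + s') (t + t' - s * σ s') (R * R') := by
  have hs := sesqForm_of_unitary hf
  intro x
  rw [Units.val_mul, ← mulVec_mulVec, h', h]
  simp only [hs.add_left, hs.smul_left, hvv, huu, huv, unitary_orth_symm hf huv, map_add]
  match_scalars <;> ring

theorem degen_inv {u v : V} (hvv : η v v = 0) (huu : η u u = 1) (huv : η u v = 0) {s t : F}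
    {R : GL (Fin n) F} (h : Degen q σ u v s t R) : Degen q σ u v (-s) (-t - s * σ s) R⁻¹ := by
  have hs := sesqForm_of_unitary hf
  intro x
  set y := x + (-(σ (-s) * η x v)) • u + (-s * η x u + (-t - s * σ s) * η x v) • v with hy
  have e : (R : Mat) *ᵥ y = x := by
    rw [h, hy]
    simp only [hs.add_left, hs.smul_left, hvv, huu, huv, unitary_orth_symm hf huv, map_neg]
    match_scalars <;> ring
  have := congrArg (fun z => ((R⁻¹ : GL (Fin n) F) : Mat) *ᵥ z) e
  simp only [mulVec_mulVec, Units.inv_mul, one_mulVec] at this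
  exact this.symm

/-- An additive subgroup containing all `μ - 1`, `μ` of norm one, contains everything. -/
theorem addSubgroup_full (S : AddSubgroup F) (hS : ∀ μ ∈ normOne σ, μ - 1 ∈ S) (y : F) : y ∈ S := by
  classical
  set A := AddSubgroup.closure {x : F | ∃ μ ∈ normOne σ, x = μ - 1} with hA
  have hAS : A ≤ S := by
    rw [hA, AddSubgroup.closure_le]
    rintro _ ⟨μ, hμ, rfl⟩
    exact hS μ hμ
  let B : Subring F :=
    { carrier := {x | ∀ a ∈ A, x * a ∈ A}
      mul_mem' := fun {x y} hx hy a ha => by rw [mul_assoc]; exact hx _ (hy a ha)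
      one_mem' := fun a ha => by rwa [one_mul]
      add_mem' := fun {x y} hx hy a ha => by rw [add_mul]; exact A.add_mem (hx a ha) (hy a ha)
      zero_mem' := fun a _ => by rw [zero_mul]; exact A.zero_mem
      neg_mem' := fun {x} hx a ha => by rw [neg_mul]; exact A.neg_mem (hx a ha) }
  have hC : ∀ ν ∈ normOne σ, ν ∈ B := by
    intro ν hν a ha
    induction ha using AddSubgroup.closure_induction with
    | mem x hx =>
      obtain ⟨μ, hμ, rfl⟩ := hx
      rw [show ν * (μ - 1) = (ν * μ - 1) - (ν - 1) by ring]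
      exact A.sub_mem (AddSubgroup.subset_closure ⟨ν * μ, Circle.mul_mem hb hν hμ, rfl⟩)
        (AddSubgroup.subset_closure ⟨ν, hν, rfl⟩)
    | zero => rw [mul_zero]; exact A.zero_mem
    | add x y _ _ hx hy => rw [mul_add]; exact A.add_mem hx hy
    | neg x _ hx => rw [mul_neg]; exact A.neg_mem hx
  have hcard := card_lengths_fixed hb (one_ne_zero : (1 : F) ≠ 0) one_ne_zero (map_one σ) (map_one σ)
  have hL : ∀ r ∈ lengths σ (1 : F) 1, r ∈ B := by
    intro r hr
    obtain ⟨μ, hμ, rfl⟩ := (mem_lengths hb).mp hr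
    rw [mul_one, map_add, map_one, bar_eq_inv hb hμ]
    exact B.mul_mem (B.add_mem B.one_mem (hC μ hμ)) (B.add_mem B.one_mem (hC _ (Circle.inv_mem hb hμ)))
  have hF₀ : ∀ x, σ x = x → x ∈ B := by
    intro x hx
    obtain ⟨r, hr, hr'⟩ := exists_common hb (s := lengths σ (1 : F) 1) (s' := (lengths σ (1 : F) 1).image (x - ·))
      (fun r hr => lengths_fixed hb hr) (fun r hr => by
        obtain ⟨r', hr', rfl⟩ := Finset.mem_image.mp hr
        rw [map_sub, hx, lengths_fixed hb hr']) (by omega)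
      (by rw [Finset.card_image_of_injective _ fun a b h => by simpa using h]; omega)
    obtain ⟨r', hr'', e⟩ := Finset.mem_image.mp hr'
    rw [show x = r + r' by rw [← e]; ring]
    exact B.add_mem (hL r hr) (hL r' hr'')
  obtain ⟨ν, hν, hord⟩ := exists_order hb
  have hν1 : ν ≠ 1 := by simpa using hord 1 (by linarith [two_le hb]) one_pos
  have hd : ν - σ ν ≠ 0 := fun e => hord 2 (two_le hb) two_pos (by
    rw [pow_two]
    nth_rewrite 2 [sub_eq_zero.mp e]
    exact (mem_normOne hb).mp hν)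
  have hall : ∀ x, x ∈ B := by
    intro x
    set β := (x - σ x) / (ν - σ ν) with hβ
    have hβf : σ β = β := by
      rw [hβ, map_div₀, map_sub, map_sub, h_inv hf hb x, h_inv hf hb ν, ← neg_sub x (σ x), ← neg_sub ν (σ ν),
        neg_div_neg_eq]
    have e : σ (x - β * ν) = x - β * ν := by
      rw [map_sub, map_mul, hβf]
      have : β * (ν - σ ν) = x - σ x := by rw [hβ, div_mul_cancel₀ _ hd]
      linear_combination this
    rw [show x = (x - β * ν) + β * ν by ring]
    exact B.add_mem (hF₀ _ e) (B.mul_mem (hF₀ _ hβf) (hC ν hν))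
  have h1 := hall (y / (ν - 1)) _ (AddSubgroup.subset_closure ⟨ν, hν, rfl⟩ : ν - 1 ∈ A)
  rw [div_mul_cancel₀ _ (sub_ne_zero.mpr hν1)] at h1
  exact hAS h1
where
  h_inv {F : Type _} [Field F] [Fintype F] {n q : ℕ} {σ : F ≃+* F}
      (_hf : IsUnitaryForm σ (Cfsg.hermForm n F q)) (hb : IsBar q σ) (a : F) : σ (σ a) = a := hb.involutive a

/-- A degenerate plane of reflection pairs gives an isotropic centre. -/
theorem centre_of_degenerate {M : Subgroup (GL (Fin n) F)} {k : Fin n} {u v : V}
    (hvv : η v v = 0) (huv : η u v = 0) (huk : u k = 0) (hvk : v k = 0)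
    (h : DRefIn q σ M u ε⟦k⟧) (h' : DRefIn q σ M (u + v) ε⟦k⟧) : CentreIn q σ M v := by
  have hs := sesqForm_of_unitary hf
  obtain ⟨huu, -, -, hR⟩ := h
  obtain ⟨-, -, -, hR'⟩ := h'
  have hkk : η ε⟦k⟧ ε⟦k⟧ = 1 := by rw [herm_single_right hf hb]; simp
  have huk' : η u ε⟦k⟧ = 0 := by rw [herm_single_right hf hb, huk]
  have hvk' : η v ε⟦k⟧ = 0 := by rw [herm_single_right hf hb, hvk]
  have gen : ∀ μ ∈ normOne σ, ∃ R ∈ M, Degen q σ u v (μ - 1) (μ - 1) R := by
    intro μ hμ
    obtain ⟨R₁, hR₁, hR₁a⟩ := hR' μ hμ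
    obtain ⟨R₂, hR₂, hR₂a⟩ := hR μ⁻¹ (Circle.inv_mem hb hμ)
    refine ⟨R₂ * R₁, M.mul_mem hR₂ hR₁, fun x => ?_⟩
    have := ne_zero_of_mem hb hμ
    rw [Units.val_mul, ← mulVec_mulVec, hR₁a, hR₂a, inv_inv, map_sub, map_one, bar_eq_inv hb hμ]
    simp only [hs.add_left, hs.add_right, hs.smul_left, huu, hkk, huk', hvk', huv,
      unitary_orth_symm hf huv, unitary_orth_symm hf huk']
    match_scalars <;> field_simp <;> ring
  let S : AddSubgroup F :=
    { carrier := {s | ∃ t, ∃ R ∈ M, Degen q σ u v s t R}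
      add_mem' := by
        rintro s s' ⟨t, R, hR, hd⟩ ⟨t', R', hR', hd'⟩
        exact ⟨_, R * R', M.mul_mem hR hR', degen_mul hf hb hvv huu huv hd hd'⟩
      zero_mem' := ⟨0, 1, M.one_mem, fun x => by simp⟩
      neg_mem' := by
        rintro s ⟨t, R, hR, hd⟩
        exact ⟨_, R⁻¹, M.inv_mem hR, degen_inv hf hb hvv huu huv hd⟩ }
  have hS : ∀ s, s ∈ S := addSubgroup_full hf hb S fun μ hμ => ⟨_, gen μ hμ⟩
  intro c hc
  obtain ⟨d, hd⟩ := exists_moved hf.ne_refl
  have hdd : d - σ d ≠ 0 := sub_ne_zero.mpr (Ne.symm hd)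
  set m := c / (d - σ d) * d with hm
  have hmc : m - σ m = c := by
    rw [hm, map_mul, map_div₀, map_sub, hc, hf.involutive,
      show -c / (σ d - d) = c / (d - σ d) by rw [← neg_sub d (σ d), neg_div_neg_eq], ← mul_sub,
      div_mul_cancel₀ _ hdd]
  obtain ⟨t₁, R₁, hR₁, hD₁⟩ := hS 1
  obtain ⟨t₂, R₂, hR₂, hD₂⟩ := hS m
  have e : uTv q v c * (R₂ * R₁) = R₁ * R₂ := by
    refine Units.ext (Matrix.ext_iff_mulVec.2 fun x => ?_)
    rw [Units.val_mul, ← mulVec_mulVec, uTv_mulVec hf hvv, degen_mul hf hb hvv huu huv hD₁ hD₂ x,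
      degen_mul hf hb hvv huu huv hD₂ hD₁ x]
    simp only [hs.add_left, hs.smul_left, hvv, huv, map_one, mul_one, map_add]
    match_scalars
    · ring
    · ring
    · linear_combination -(η x v) * hmc
  rw [eq_mul_inv_of_mul_eq e]
  exact M.mul_mem (M.mul_mem hR₁ hR₂) (M.inv_mem (M.mul_mem hR₂ hR₁))

/-! ### At least three fixed scalars -/

theorem exists_weight_three (hn : 4 ≤ n) (hq : 3 ≤ q) {M : Subgroup (GL (Fin n) F)} (hM : UMonoIn σ M)
    {k : Fin n} {u : V} (huk : u k = 0) (h2 : 2 ≤ (supp u).card) (h : DRefIn q σ M u ε⟦k⟧) :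
    ∃ u' : V, u' k = 0 ∧ 3 ≤ (supp u').card ∧ DRefIn q σ M u' ε⟦k⟧ := by
  classical
  have hs := sesqForm_of_unitary hf
  by_cases h3 : 3 ≤ (supp u).card
  · exact ⟨u, huk, h3, h⟩
  obtain ⟨a, b, hab, hS⟩ := Finset.card_eq_two.mp (by omega : (supp u).card = 2)
  have hu0 : ∀ p, p ≠ a → p ≠ b → u p = 0 := fun p h1 h2 => by
    by_contra hne
    have := (mem_supp hf hb).mpr hne
    rw [hS] at this
    simp [h1, h2] at this
  have hua : u a ≠ 0 := (mem_supp hf hb).mp (by rw [hS]; simp)
  have hub : u b ≠ 0 := (mem_supp hf hb).mp (by rw [hS]; simp)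
  have hak : a ≠ k := fun e => hua (e ▸ huk)
  have hbk : b ≠ k := fun e => hub (e ▸ huk)
  obtain ⟨c, -, hc⟩ := Finset.exists_mem_notMem_of_card_lt_card (s := ({a, b, k} : Finset (Fin n))) (t := Finset.univ)
    (Finset.card_le_three.trans_lt (by simp; omega))
  simp only [Finset.mem_insert, Finset.mem_singleton, not_or] at hc
  obtain ⟨d, hdn, hd, hm⟩ := exists_monomial_mem hf hb hM (Equiv.swap b c) k (fun _ => 1)
    (fun _ _ => Circle.one_mem hb)
  set m := monEl (Equiv.swap b c) d with hm'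
  have hmk : (m : Mat) *ᵥ ε⟦k⟧ = (d k : F) • ε⟦k⟧ := by
    rw [hm', monEl_single, Equiv.swap_apply_of_ne_of_ne (Ne.symm hbk) (Ne.symm hc.2.2)]
  have h1 := dref_conj hf hb h hm (monEl_mem_GU' hf hb hdn)
  rw [hmk] at h1
  have h1' := dref_smul_right hf hb (hdn k) h1
  set u' := (m : Mat) *ᵥ u with hu'
  have hu'v : ∀ p, u' p = d (Equiv.swap b c p) * u (Equiv.swap b c p) := fun p => by
    rw [hu', hm', monEl_mulVec, Equiv.symm_swap]
  have hu'k : u' k = 0 := by
    rw [hu'v, Equiv.swap_apply_of_ne_of_ne (Ne.symm hbk) (Ne.symm hc.2.2), huk, mul_zero]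
  have hu'a : u' a = u a := by
    rw [hu'v, Equiv.swap_apply_of_ne_of_ne hab (Ne.symm hc.1), hd a hak, one_mul]
  have hu'b : u' b = 0 := by rw [hu'v, Equiv.swap_apply_left, hu0 c hc.1 hc.2.1, mul_zero]
  have hu'c : u' c = u b := by rw [hu'v, Equiv.swap_apply_right, hd b hbk, one_mul]
  have hP : η u' u = u a * σ (u a) := by
    rw [herm_apply hf hb, Finset.sum_eq_single a]
    · rw [hu'a]
    · intro p _ hp
      by_cases hpb : p = b
      · rw [hpb, hu'b, zero_mul]
      · rw [hu0 p hp hpb, map_zero, mul_zero]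
    · simp
  set W := u a * σ (u a) with hW
  have hW0 : W ≠ 0 := norm_pos hf hb hua
  obtain ⟨l, hl, hl'⟩ := exists_normOne_notMem hb ({1, 1 - W⁻¹} : Finset F)
    (Finset.card_le_two.trans (by omega))
  simp only [Finset.mem_insert, Finset.mem_singleton, not_or] at hl'
  obtain ⟨R, hR, hRa⟩ := h.2.2.2 l hl
  have hRU : (R : GL (Fin n) F) ∈ Cfsg.GU n F q := by
    refine mem_GU_iff_forall.mpr fun x y => ?_
    obtain ⟨huu, hkk, huk', -⟩ := h
    have hl1 := (mem_normOne hb).mp hl
    have hl0 := ne_zero_of_mem hb hl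
    rw [hRa, hRa]
    simp only [hs.add_left, hs.add_right, hs.smul_left, hs.smul_right, huu, hkk, huk',
      unitary_orth_symm hf huk', map_mul, map_sub, map_one, map_inv₀, ← hf.herm, bar_eq_inv hb hl, inv_inv]
    field_simp
    ring
  have hRk : (R : Mat) *ᵥ ε⟦k⟧ = l⁻¹ • ε⟦k⟧ := by
    rw [hRa, herm_single_left hf hb, huk, map_zero, mul_zero, zero_smul, add_zero, h.2.1, mul_one, sub_smul,
      one_smul, add_sub_cancel]
  have h4 := dref_conj hf hb h1' hR hRU
  rw [hRk] at h4
  have h5 := dref_smul_right hf hb (Circle.inv_mem hb hl) h4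
  have hw : ∀ p, p ≠ k → ((R : Mat) *ᵥ u') p = u' p + (l - 1) * W * u p := fun p hp => by
    rw [hRa, hP]; simp [hp]
  refine ⟨(R : Mat) *ᵥ u', ?_, ?_, h5⟩
  · rw [hRa, herm_single_right hf hb, hu'k, mul_zero, zero_smul, add_zero, Pi.add_apply, Pi.smul_apply, hu'k, huk,
      smul_zero, add_zero]
  · have hsub : ({a, b, c} : Finset (Fin n)) ⊆ supp ((R : Mat) *ᵥ u') := by
      intro p hp
      rw [mem_supp hf hb]
      simp only [Finset.mem_insert, Finset.mem_singleton] at hp
      rcases hp with rfl | rfl | rfl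
      · rw [hw p hak, hu'a]
        intro h0
        have h6 : u p * (1 + (l - 1) * W) = 0 := by linear_combination h0
        refine hl'.2 ?_
        have h7 := (mul_eq_zero.mp h6).resolve_left hua
        field_simp
        linear_combination h7
      · rw [hw p hbk, hu'b, zero_add]
        exact mul_ne_zero (mul_ne_zero (sub_ne_zero.mpr hl'.1) hW0) hub
      · rw [hw p hc.2.2, hu'c, hu0 p hc.1 hc.2.1, mul_zero, add_zero]
        exact hub
    have := Finset.card_le_card hsub
    rw [Finset.card_insert_of_notMem (by simp [hab, Ne.symm hc.1]), Finset.card_insert_of_notMem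
      (by simp [Ne.symm hc.2.1]), Finset.card_singleton] at this
    exact this

theorem centre_small {M : Subgroup (GL (Fin n) F)} (hM : UMonoIn σ M) {k : Fin n} {u : V} (huk : u k = 0)
    (h3 : 3 ≤ (supp u).card) (h : DRefIn q σ M u ε⟦k⟧) :
    ∃ v : V, v ≠ 0 ∧ η v v = 0 ∧ (supp v).card ≤ 3 ∧ CentreIn q σ M v := by
  classical
  have hs := sesqForm_of_unitary hf
  obtain ⟨T, hT, hTc⟩ := Finset.exists_subset_card_eq h3
  obtain ⟨a, b, c, hab, hac, hbc, rfl⟩ := Finset.card_eq_three.mp hTc
  have hua : u a ≠ 0 := (mem_supp hf hb).mp (hT (by simp))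
  have hub : u b ≠ 0 := (mem_supp hf hb).mp (hT (by simp))
  have huc : u c ≠ 0 := (mem_supp hf hb).mp (hT (by simp))
  set wa := u a * σ (u a) with hwa
  set wb := u b * σ (u b) with hwb
  set wc := u c * σ (u c) with hwc
  obtain ⟨da, hda, db, hdb, dc, hdc, hne, hsum⟩ : ∃ da ∈ normOne σ, ∃ db ∈ normOne σ, ∃ dc ∈ normOne σ,
      (da ≠ 1 ∨ db ≠ 1) ∧ da * wa + db * wb + dc * wc = wa + wb + wc := by
    by_cases hW : wa + wb + wc = 0
    · obtain ⟨l, hl, hl'⟩ := exists_normOne_notMem hb {1} (by have := two_le hb; simp; omega)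
      rw [Finset.mem_singleton] at hl'
      exact ⟨l, hl, l, hl, l, hl, Or.inl hl', by rw [← mul_add, ← mul_add, hW, mul_zero]⟩
    · obtain ⟨x, hx, y, hy, z, hz, hxy, hs'⟩ := three_sum hb (length_fixed hb (u a)) (length_fixed hb (u b))
        (length_fixed hb (u c)) (norm_pos hf hb hua) (norm_pos hf hb hub) (norm_pos hf hb huc) hW
      exact ⟨x, hx, y, hy, z, hz, not_and_or.mp (fun h => hxy (h.1.trans h.2.symm)), hs'⟩
  obtain ⟨d, hdn, hd, hdM⟩ := exists_monomial_mem hf hb hM 1 k
    (fun r => if r = a then da else if r = b then db else if r = c then dc else 1)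
    (fun r _ => by split_ifs <;> simp [hda, hdb, hdc, Circle.one_mem hb])
  have hak : a ≠ k := fun e => hua (e ▸ huk)
  have hbk : b ≠ k := fun e => hub (e ▸ huk)
  have hck : c ≠ k := fun e => huc (e ▸ huk)
  set u' := ((monEl 1 d : GL (Fin n) F) : Mat) *ᵥ u with hu'
  have hu'v : ∀ p, u' p = (d p : F) * u p := fun p => congrFun (diag_mulVec hf hb d u p) p
  have h1 := dref_conj hf hb h hdM (monEl_mem_GU' hf hb hdn)
  rw [monEl_single, Equiv.Perm.one_apply] at h1
  have h1' := dref_smul_right hf hb (hdn k) h1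
  set v := u' + (-1 : F) • u with hv
  have hvv' : ∀ p, v p = ((d p : F) - 1) * u p := fun p => by rw [hv]; simp [hu'v]; ring
  have hvk : v k = 0 := by rw [hvv', huk, mul_zero]
  have hvout : ∀ p, p ≠ a → p ≠ b → p ≠ c → v p = 0 := fun p p1 p2 p3 => by
    by_cases hpk : p = k
    · rw [hpk]; exact hvk
    · rw [hvv', hd p hpk, if_neg p1, if_neg p2, if_neg p3, sub_self, zero_mul]
  have hη : η u' u = 1 := by
    have hdiff : η v u = 0 := by
      rw [herm_apply hf hb, ← Finset.sum_subset (Finset.subset_univ ({a, b, c} : Finset (Fin n))) (fun p _ hp => by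
        simp only [Finset.mem_insert, Finset.mem_singleton, not_or] at hp
        rw [hvout p hp.1 hp.2.1 hp.2.2, zero_mul]), Finset.sum_insert (by simp [hab, hac]),
        Finset.sum_pair hbc, hvv', hvv', hvv', hd a hak, hd b hbk, hd c hck, if_pos rfl, if_neg (Ne.symm hab),
        if_pos rfl, if_neg (Ne.symm hac), if_neg (Ne.symm hbc), if_pos rfl]
      rw [hwa, hwb, hwc] at hsum
      linear_combination hsum
    rw [hv, hs.add_left, hs.smul_left, h.1] at hdiff
    linear_combination hdiff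
  have hu'u' : η u' u' = 1 := h1.1
  have hvv : η v v = 0 := by
    simp only [hv, hs.add_left, hs.add_right, hs.smul_left, hs.smul_right, h.1, hu'u', hη, hf.herm u u',
      map_one, map_neg]
    ring
  have huv : η u v = 0 := by
    rw [hv, hs.add_right, hs.smul_right, h.1, hf.herm, hη, map_one, map_neg, map_one]; ring
  refine ⟨v, fun h0 => ?_, hvv, ?_, centre_of_degenerate hf hb hvv huv huk hvk h
    (by rwa [show u + v = u' by rw [hv]; module])⟩
  · rcases hne with hne | hne
    · have := congrFun h0 a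
      rw [hvv', hd a hak, if_pos rfl, Pi.zero_apply] at this
      exact hne (sub_eq_zero.mp ((mul_eq_zero.mp this).resolve_right hua))
    · have := congrFun h0 b
      rw [hvv', hd b hbk, if_neg (Ne.symm hab), if_pos rfl, Pi.zero_apply] at this
      exact hne (sub_eq_zero.mp ((mul_eq_zero.mp this).resolve_right hub))
  · refine (Finset.card_le_card (t := {a, b, c}) fun p hp => ?_).trans Finset.card_le_three
    by_contra hp'
    simp only [Finset.mem_insert, Finset.mem_singleton, not_or] at hp'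
    exact (mem_supp hf hb).mp hp (hvout p hp'.1 hp'.2.1 hp'.2.2)

theorem pair_centre (hn : 4 ≤ n) {M : Subgroup (GL (Fin n) F)} (hM : UMonoIn σ M) {v : V} (hv0 : v ≠ 0)
    (hvv : η v v = 0) (h3 : (supp v).card ≤ 3) (hc : CentreIn q σ M v) :
    ∃ v' : V, η v' v' = 0 ∧ (supp v').card = 2 ∧ CentreIn q σ M v' := by
  classical
  have hs := sesqForm_of_unitary hf
  have h2 := two_le_supp hf hb hv0 hvv
  rcases Nat.lt_or_ge (supp v).card 3 with hlt | hge
  · exact ⟨v, hvv, by omega, hc⟩
  obtain ⟨a, b, c, hab, hac, hbc, hS⟩ := Finset.card_eq_three.mp (by omega : (supp v).card = 3)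
  have hmem : ∀ p, v p ≠ 0 ↔ p = a ∨ p = b ∨ p = c := fun p => by
    rw [← mem_supp hf hb, hS]; simp
  have hva : v a ≠ 0 := (hmem a).mpr (Or.inl rfl)
  have hvb : v b ≠ 0 := (hmem b).mpr (Or.inr (Or.inl rfl))
  have hvc : v c ≠ 0 := (hmem c).mpr (Or.inr (Or.inr rfl))
  set wa := v a * σ (v a) with hwa
  set wb := v b * σ (v b) with hwb
  set wc := v c * σ (v c) with hwc
  have hsum3 : wa + wb + wc = 0 := by
    rw [← hvv, sum_norm hf hb, ← Finset.sum_subset (Finset.subset_univ ({a, b, c} : Finset (Fin n)))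
      (fun p _ hp => by
        have : v p = 0 := by
          by_contra hne
          simp only [Finset.mem_insert, Finset.mem_singleton] at hp
          exact hp ((hmem p).mp hne)
        rw [this, zero_mul]), Finset.sum_insert (by simp [hab, hac]), Finset.sum_pair hbc]
    ring
  obtain ⟨x, hx, y, hy, hx1, hxy⟩ := two_dist hb (length_fixed hb (v a)) (length_fixed hb (v b))
    (norm_pos hf hb hva) (norm_pos hf hb hvb)
  have hx' : σ (1 - x) ≠ 0 := (map_ne_zero_iff σ σ.injective).mpr (sub_ne_zero.mpr (Ne.symm hx1))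
  have hy1 : y ≠ 1 := fun e => by
    rw [e, sub_self, zero_mul, mul_zero, add_zero] at hxy
    exact mul_ne_zero (norm_pos hf hb hva) (norm_pos hf hb (sub_ne_zero.mpr (Ne.symm hx1))) hxy
  obtain ⟨k, -, hk⟩ := Finset.exists_mem_notMem_of_card_lt_card (s := ({a, b, c} : Finset (Fin n))) (t := Finset.univ)
    (Finset.card_le_three.trans_lt (by simp; omega))
  simp only [Finset.mem_insert, Finset.mem_singleton, not_or] at hk
  obtain ⟨d, hdn, hd, hdM⟩ := exists_monomial_mem hf hb hM 1 k
    (fun r => if r = a then x else if r = b then y else 1)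
    (fun r _ => by split_ifs <;> simp [hx, hy, Circle.one_mem hb])
  have hdU := monEl_mem_GU' hf hb (φ := 1) hdn
  set v₁ := ((monEl 1 d : GL (Fin n) F) : Mat) *ᵥ v with hv₁
  have hv₁v : ∀ p, v₁ p = (d p : F) * v p := fun p => congrFun (diag_mulVec hf hb d v p) p
  have hv₁v₁ : η v₁ v₁ = 0 := by rw [hv₁, mem_GU_iff_forall.mp hdU, hvv]
  have hp : ∀ p, (v + (-1 : F) • v₁) p = (1 - (d p : F)) * v p := fun p => by simp [hv₁v]; ring
  have hpa : (v + (-1 : F) • v₁) a = (1 - x) * v a := by rw [hp, hd a (Ne.symm hk.1), if_pos rfl]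
  have hpb : (v + (-1 : F) • v₁) b = (1 - y) * v b := by
    rw [hp, hd b (Ne.symm hk.2.1), if_neg (Ne.symm hab), if_pos rfl]
  have hpout : ∀ p, p ≠ a → p ≠ b → (v + (-1 : F) • v₁) p = 0 := fun p p1 p2 => by
    rw [hp]
    by_cases hpk : p = k
    · have : v p = 0 := by
        by_contra hne
        rcases (hmem p).mp hne with e | e | e
        · exact p1 e
        · exact p2 e
        · exact hk.2.2 (hpk.symm.trans e)
      rw [this, mul_zero]
    · rw [hd p hpk, if_neg p1, if_neg p2, sub_self, zero_mul]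
  have hiso : η (v + (-1 : F) • v₁) (v + (-1 : F) • v₁) = 0 := by
    rw [sum_norm hf hb, Finset.sum_eq_add a b hab (fun p _ hp' => by rw [hpout p hp'.1 hp'.2, zero_mul])
      (by simp) (by simp), hpa, hpb, map_mul, map_mul]
    rw [hwa, hwb] at *
    linear_combination hxy
  have hne : η v ((-1 : F) • v₁) ≠ 0 := by
    intro h0
    have h1 : η v (v + (-1 : F) • v₁) = 0 := by rw [hs.add_right, hvv, h0, add_zero]
    rw [herm_apply hf hb, Finset.sum_eq_add a b hab
      (fun p _ hp' => by rw [hpout p hp'.1 hp'.2, map_zero, mul_zero]) (by simp) (by simp), hpa, hpb,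
      map_mul, map_mul] at h1
    have e1 : wa * σ (1 - x) + wb * σ (1 - y) = 0 := by rw [hwa, hwb]; linear_combination h1
    have hwb0 : wb ≠ 0 := norm_pos hf hb hvb
    have hy' : σ (1 - y) ≠ 0 := (map_ne_zero_iff σ σ.injective).mpr (sub_ne_zero.mpr (Ne.symm hy1))
    have e2 : (wb * σ (1 - y)) * ((1 - y) - (1 - x)) = 0 := by linear_combination hxy - (1 - x) * e1
    have e3 : y = x := by
      have := (mul_eq_zero.mp e2).resolve_left (mul_ne_zero hwb0 hy')
      linear_combination -this
    rw [e3, ← add_mul] at e1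
    have e4 := (mul_eq_zero.mp e1).resolve_right hx'
    exact norm_pos hf hb hvc (by linear_combination hsum3 - e4)
  refine ⟨v + (-1 : F) • v₁, hiso, ?_, centreIn_add hf hc (centreIn_smul hf (centreIn_map hf hc hdU hdM) (-1))
    hvv (by rw [hs.smul_left, hs.smul_right, hv₁v₁, mul_zero, mul_zero]) hne hiso⟩
  rw [show supp (v + (-1 : F) • v₁) = {a, b} from ?_, Finset.card_pair hab]
  ext p
  rw [mem_supp hf hb, Finset.mem_insert, Finset.mem_singleton]
  refine ⟨fun hp' => by_contra fun hc' => ?_, ?_⟩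
  · push Not at hc'
    exact hp' (hpout p hc'.1 hc'.2)
  · rintro (rfl | rfl)
    · rw [hpa]; exact mul_ne_zero (sub_ne_zero.mpr (Ne.symm hx1)) hva
    · rw [hpb]; exact mul_ne_zero (sub_ne_zero.mpr (Ne.symm hy1)) hvb

/-- One centre with two coordinates gives all of them. -/
theorem all_pairs (hn : 4 ≤ n) {M : Subgroup (GL (Fin n) F)} (hM : UMonoIn σ M) {v : V} (hvv : η v v = 0)
    (h2 : (supp v).card = 2) (hc : CentreIn q σ M v) {z : V} (hzz : η z z = 0) {p r : Fin n} (hpr : p ≠ r)
    (hz : ∀ x, x ≠ p → x ≠ r → z x = 0) : CentreIn q σ M z := by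
  classical
  have hs := sesqForm_of_unitary hf
  by_cases hz0 : z = 0
  · rw [hz0]; exact centreIn_zero hf M
  obtain ⟨a, b, hab, hS⟩ := Finset.card_eq_two.mp h2
  have hva : v a ≠ 0 := (mem_supp hf hb).mp (by rw [hS]; simp)
  have hvout : ∀ x, x ≠ a → x ≠ b → v x = 0 := fun x x1 x2 => by
    by_contra hne
    have := (mem_supp hf hb).mpr hne
    rw [hS] at this
    simp [x1, x2] at this
  have hsum2 : ∀ (w : V) (a b : Fin n), a ≠ b → (∀ x, x ≠ a → x ≠ b → w x = 0) →
      η w w = w a * σ (w a) + w b * σ (w b) := fun w a b hab hw => by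
    rw [sum_norm hf hb, Finset.sum_eq_add a b hab (fun x _ hx => by rw [hw x hx.1 hx.2, zero_mul]) (by simp)
      (by simp)]
  have hv2 := hsum2 v a b hab hvout
  have hz2 := hsum2 z p r hpr hz
  rw [hvv] at hv2
  rw [hzz] at hz2
  have hzp : z p ≠ 0 := by
    intro h
    rw [h, zero_mul, zero_add] at hz2
    refine hz0 (funext fun x => ?_)
    by_cases x1 : x = p
    · subst x1; exact h
    by_cases x2 : x = r
    · subst x2
      by_contra hne
      exact norm_pos hf hb hne hz2.symm
    exact hz x x1 x2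
  set s := z p / v a with hs'
  have hs0 : s ≠ 0 := div_ne_zero hzp hva
  have hsva : s * v a = z p := div_mul_cancel₀ _ hva
  have hnormb : (s * v b) * σ (s * v b) = z r * σ (z r) := by
    have h1 : (s * v a) * σ (s * v a) = z p * σ (z p) := by rw [hsva]
    rw [map_mul] at h1 ⊢
    linear_combination -h1 - (s * σ s) * hv2 + hz2
  obtain ⟨ρ, hρ, hρe⟩ := exists_rot hb hnormb
  obtain ⟨π, hπa, hπb⟩ := LinDecomp.exists_perm_two hab hpr
  obtain ⟨k, -, hk⟩ := Finset.exists_mem_notMem_of_card_lt_card (s := ({a, b} : Finset (Fin n))) (t := Finset.univ)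
    (Finset.card_le_two.trans_lt (by simp; omega))
  simp only [Finset.mem_insert, Finset.mem_singleton, not_or] at hk
  obtain ⟨d, hdn, hd, hdM⟩ := exists_monomial_mem hf hb hM π k (fun x => if x = b then ρ else 1)
    (fun x _ => by split_ifs <;> simp [hρ, Circle.one_mem hb])
  have := centreIn_map hf (centreIn_smul hf hc s) (monEl_mem_GU' hf hb hdn) hdM
  convert this using 1
  funext x
  rw [monEl_mulVec, Pi.smul_apply, smul_eq_mul]
  by_cases x1 : x = p
  · subst x1
    rw [show π.symm x = a by rw [Equiv.symm_apply_eq, hπa], hd a (Ne.symm hk.1), if_neg hab, one_mul, hsva]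
  by_cases x2 : x = r
  · subst x2
    rw [show π.symm x = b by rw [Equiv.symm_apply_eq, hπb], hd b (Ne.symm hk.2), if_pos rfl, hρe]
  rw [hz x x1 x2, hvout _ (fun e => x1 (by rw [← hπa, ← e, Equiv.apply_symm_apply]))
    (fun e => x2 (by rw [← hπb, ← e, Equiv.apply_symm_apply])), mul_zero, mul_zero]

/-- Transvections of two isotropic lines move a vector of their plane to a normal form. -/
theorem plane_normal {M : Subgroup (GL (Fin n) F)} {e f : V} (hee : η e e = 0) (hff : η f f = 0)
    (hef : η e f = 1) (hce : CentreIn q σ M e) (hcf : CentreIn q σ M f) {p r : F}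
    (hN : p * σ r + r * σ p ≠ 0) :
    ∃ g ∈ M, g ∈ Cfsg.GU n F q ∧ (∀ z, η z e = 0 → η z f = 0 → (g : Mat) *ᵥ z = z) ∧
      ∃ r', (g : Mat) *ᵥ (p • e + r • f) = e + r' • f ∧ r' + σ r' = p * σ r + r * σ p := by
  have hs := sesqForm_of_unitary hf
  obtain ⟨δ, hδ0, hδ⟩ := exists_traceZero hf.ne_refl hf.involutive
  have hfe : η f e = 1 := by rw [hf.herm, hef, map_one]
  have stepf : ∀ c, σ c = -c → ∀ p r : F, (uTv q f c : Mat) *ᵥ (p • e + r • f) = p • e + (r + c * p) • f := by
    intro c _ p r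
    rw [uTv_mulVec hf hff, hs.add_left, hs.smul_left, hs.smul_left, hef, hff]
    module
  have stepe : ∀ c, σ c = -c → ∀ p r : F, (uTv q e c : Mat) *ᵥ (p • e + r • f) = (p + c * r) • e + r • f := by
    intro c _ p r
    rw [uTv_mulVec hf hee, hs.add_left, hs.smul_left, hs.smul_left, hee, hfe]
    module
  have hδδ : σ (δ * δ) = δ * δ := by rw [map_mul, hδ, neg_mul_neg]
  have main : ∀ p r α β : F, σ α = α → σ β = β → β ≠ 0 → α * p + β * (δ * r) = 1 →
      ∃ g ∈ M, g ∈ Cfsg.GU n F q ∧ (∀ z, η z e = 0 → η z f = 0 → (g : Mat) *ᵥ z = z) ∧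
        ∃ r', (g : Mat) *ᵥ (p • e + r • f) = e + r' • f ∧ r' + σ r' = p * σ r + r * σ p := by
    intro p r α β hα hβ hβ0 hαβ
    set t := (α - 1) / (δ * δ * β) with ht
    have hσt : σ t = t := by rw [ht, map_div₀, map_sub, map_one, map_mul, hα, hβ, hδδ]
    have hc₁ : σ (δ * t) = -(δ * t) := by rw [map_mul, hσt, hδ, neg_mul]
    have hc₂ : σ (δ * β) = -(δ * β) := by rw [map_mul, hβ, hδ, neg_mul]
    set g := uTv q e (δ * β) * uTv q f (δ * t) with hg
    have hgU : g ∈ Cfsg.GU n F q :=
      (Cfsg.GU n F q).mul_mem (uTv_mem hf hee hc₂).1 (uTv_mem hf hff hc₁).1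
    have hgx : (g : Mat) *ᵥ (p • e + r • f) = e + (r + δ * t * p) • f := by
      rw [hg, Units.val_mul, ← mulVec_mulVec, stepf _ hc₁, stepe _ hc₂,
        show p + δ * β * (r + δ * t * p) = 1 by rw [ht]; field_simp; linear_combination hαβ, one_smul]
    refine ⟨g, M.mul_mem (hce _ hc₂) (hcf _ hc₁), hgU, fun z h1 h2 => ?_, _, hgx, ?_⟩
    · rw [hg, Units.val_mul, ← mulVec_mulVec, uTv_mulVec hf hff, h2, mul_zero, zero_smul, add_zero,
        uTv_mulVec hf hee, h1, mul_zero, zero_smul, add_zero]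
    · have := mem_GU_iff_forall.mp hgU (p • e + r • f) (p • e + r • f)
      rw [hgx] at this
      simp only [hs.add_left, hs.add_right, hs.smul_left, hs.smul_right, hee, hff, hef, hfe] at this
      linear_combination this
  have hp : p ≠ 0 := fun e => hN (by rw [e]; simp)
  have hσp : σ p ≠ 0 := (map_ne_zero_iff σ σ.injective).mpr hp
  set ρ := δ * r / p with hρ
  have hρ' : ρ - σ ρ ≠ 0 := by
    intro e
    rw [hρ, map_div₀, map_mul, hδ, sub_eq_zero, div_eq_div_iff hp hσp] at e
    have : δ * (p * σ r + r * σ p) = 0 := by linear_combination e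
    exact hN ((mul_eq_zero.mp this).resolve_left hδ0)
  set β := (p⁻¹ - σ p⁻¹) / (ρ - σ ρ) with hβ
  have hσβ : σ β = β := by
    rw [hβ, map_div₀, map_sub, map_sub, hf.involutive, hf.involutive, ← neg_sub p⁻¹ (σ p⁻¹), ← neg_sub ρ (σ ρ),
      neg_div_neg_eq]
  set α := p⁻¹ - β * ρ with hα
  have hσα : σ α = α := by
    rw [hα, map_sub, map_mul, hσβ]
    have : β * (ρ - σ ρ) = p⁻¹ - σ p⁻¹ := by rw [hβ, div_mul_cancel₀ _ hρ']
    linear_combination this
  have hαβ : α * p + β * (δ * r) = 1 := by rw [hα, hρ]; field_simp; ring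
  by_cases hβ0 : β = 0
  swap
  · exact main p r α β hσα hσβ hβ0 hαβ
  have hαp : α * p = 1 := by rw [← hαβ, hβ0]; ring
  have hα0 : α ≠ 0 := fun e => by rw [e, zero_mul] at hαp; exact zero_ne_one hαp
  obtain ⟨g, hg, hgU, hgfix, r', hgr, hgN⟩ := main (p + δ * r) r α (-α) hσα (by rw [map_neg, hσα])
    (neg_ne_zero.mpr hα0) (by linear_combination hαp)
  refine ⟨g * uTv q e δ, M.mul_mem hg (hce δ hδ), (Cfsg.GU n F q).mul_mem hgU (uTv_mem hf hee hδ).1,
    fun z h1 h2 => ?_, r', ?_, ?_⟩
  · rw [Units.val_mul, ← mulVec_mulVec, uTv_mulVec hf hee, h1, mul_zero, zero_smul, add_zero]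
    exact hgfix z h1 h2
  · rw [Units.val_mul, ← mulVec_mulVec, stepe δ hδ, hgr]
  · rw [hgN, map_add, map_mul, hδ]; ring

theorem plane_step {M : Subgroup (GL (Fin n) F)}
    (hpair : ∀ (z : V) (p r : Fin n), p ≠ r → η z z = 0 → (∀ x, x ≠ p → x ≠ r → z x = 0) → CentreIn q σ M z)
    {w : V} {a b : Fin n} (hab : a ≠ b) (hN : w a * σ (w a) + w b * σ (w b) ≠ 0) :
    ∃ g ∈ M, g ∈ Cfsg.GU n F q ∧
      ∀ x, ((g : Mat) *ᵥ w) x = if x = b then 0 else if x = a then ((g : Mat) *ᵥ w) a else w x := by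
  have hs := sesqForm_of_unitary hf
  obtain ⟨β, hβ⟩ := norm_surjective hf.ne_refl hf.involutive (a := (-1 : F)) (by rw [map_neg, map_one])
  have hβ0 : β ≠ 0 := fun e => by rw [e, zero_mul] at hβ; exact one_ne_zero (neg_eq_zero.mp hβ.symm)
  obtain ⟨ζ, hζ, hζ'⟩ := exists_normOne_notMem hb {1} (by have := two_le hb; simp; omega)
  rw [Finset.mem_singleton] at hζ'
  have hζn := (mem_normOne hb).mp hζ
  have hz1 : 1 - σ ζ ≠ 0 := sub_ne_zero.mpr fun e => hζ' (by
    rw [← hb.involutive ζ, ← e, map_one])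
  have hsingle : ∀ (x y : F) (z : V), η (x • ε⟦a⟧ + y • ε⟦b⟧) z = x * σ (z a) + y * σ (z b) := fun x y z => by
    rw [hs.add_left, hs.smul_left, hs.smul_left, herm_single_left hf hb, herm_single_left hf hb]
  set e : V := (1 : F) • ε⟦a⟧ + β • ε⟦b⟧ with he
  set γ : F := σ (1 - σ ζ)⁻¹ with hγ
  set f : V := γ • ε⟦a⟧ + (γ * (ζ * β)) • ε⟦b⟧ with hf'
  have hea : e a = 1 := by simp [he, hab]
  have heb : e b = β := by simp [he, Ne.symm hab]
  have hfa : f a = γ := by simp [hf', hab]
  have hfb : f b = γ * (ζ * β) := by simp [hf', Ne.symm hab]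
  have hee : η e e = 0 := by rw [he, hsingle, ← he, hea, heb, map_one]; linear_combination hβ
  have hff : η f f = 0 := by
    rw [hf', hsingle, ← hf', hfa, hfb, map_mul, map_mul]
    linear_combination (γ * σ γ) * hβ * (ζ * σ ζ) - (γ * σ γ) * hζn
  have hef : η e f = 1 := by
    rw [he, hsingle, hfa, hfb, map_mul, map_mul]
    have : σ γ = (1 - σ ζ)⁻¹ := by rw [hγ, hf.involutive]
    rw [this]
    field_simp
    linear_combination σ ζ * hβ
  have houte : ∀ x, x ≠ a → x ≠ b → e x = 0 := fun x x1 x2 => by simp [he, x1, x2]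
  have houtf : ∀ x, x ≠ a → x ≠ b → f x = 0 := fun x x1 x2 => by simp [hf', x1, x2]
  have hce := hpair e a b hab hee houte
  have hcf := hpair f a b hab hff houtf
  have hγ0 : γ ≠ 0 := (map_ne_zero_iff σ σ.injective).mpr (inv_ne_zero hz1)
  have hζ1 : ζ - 1 ≠ 0 := sub_ne_zero.mpr hζ'
  have coords : ∀ xa xb : F, ∃ p r : F, xa • ε⟦a⟧ + xb • ε⟦b⟧ = p • e + r • f ∧
      xa * σ xa + xb * σ xb = p * σ r + r * σ p := by
    intro xa xb
    set r := (xb / β - xa) / (γ * (ζ - 1)) with hr
    refine ⟨xa - r * γ, r, ?_, ?_⟩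
    · have e2 : xb = β * (xa - r * γ) + r * (γ * (ζ * β)) := by rw [hr]; field_simp; ring
      rw [he, hf']
      nth_rewrite 1 [e2]
      module
    · have key : η (xa • ε⟦a⟧ + xb • ε⟦b⟧) (xa • ε⟦a⟧ + xb • ε⟦b⟧) = xa * σ xa + xb * σ xb := by
        rw [hsingle]; simp [hab, Ne.symm hab]
      have e2 : xa • ε⟦a⟧ + xb • ε⟦b⟧ = (xa - r * γ) • e + r • f := by
        have e3 : xb = β * (xa - r * γ) + r * (γ * (ζ * β)) := by rw [hr]; field_simp; ring
        rw [he, hf']
        nth_rewrite 1 [e3]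
        module
      rw [← key, e2]
      simp only [hs.add_left, hs.add_right, hs.smul_left, hs.smul_right, hee, hff, hef,
        show η f e = 1 by rw [hf.herm, hef, map_one]]
      ring
  set N := w a * σ (w a) + w b * σ (w b) with hNdef
  obtain ⟨s, hs'⟩ := norm_surjective hf.ne_refl hf.involutive (a := N)
    (by rw [hNdef, map_add, length_fixed hb, length_fixed hb])
  obtain ⟨p, r, hx, hxN⟩ := coords (w a) (w b)
  obtain ⟨p', r', hy, hyN⟩ := coords s 0
  rw [map_zero, mul_zero, add_zero] at hyN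
  obtain ⟨g₁, hg₁, hg₁U, hg₁f, R₁, hg₁x, hR₁⟩ := plane_normal hf hb hee hff hef hce hcf (p := p) (r := r)
    (by rw [← hxN]; exact hN)
  obtain ⟨g₂, hg₂, hg₂U, hg₂f, R₂, hg₂x, hR₂⟩ := plane_normal hf hb hee hff hef hce hcf (p := p') (r := r')
    (by rw [← hyN, hs']; exact hN)
  have hc : σ (R₂ - R₁) = -(R₂ - R₁) := by
    rw [map_sub]
    linear_combination hR₂ - hR₁ - hyN + hxN + hs'
  set T := g₂⁻¹ * (uTv q f (R₂ - R₁) * g₁) with hT
  refine ⟨T, M.mul_mem (M.inv_mem hg₂) (M.mul_mem (hcf _ hc) hg₁),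
    (Cfsg.GU n F q).mul_mem ((Cfsg.GU n F q).inv_mem hg₂U)
      ((Cfsg.GU n F q).mul_mem (uTv_mem hf hff hc).1 hg₁U), fun x => ?_⟩
  have hTx : (T : Mat) *ᵥ (w a • ε⟦a⟧ + w b • ε⟦b⟧) = s • ε⟦a⟧ := by
    have e1 : (uTv q f (R₂ - R₁) : Mat) *ᵥ (e + R₁ • f) = (g₂ : Mat) *ᵥ (p' • e + r' • f) := by
      rw [hg₂x, uTv_mulVec hf hff, hs.add_left, hs.smul_left, hef, hff]
      module
    rw [hT, Units.val_mul, ← mulVec_mulVec, Units.val_mul, ← mulVec_mulVec, hx, hg₁x, e1, mulVec_mulVec,
      Units.inv_mul, one_mulVec, ← hy, zero_smul, add_zero]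
  set z : V := w + (-(w a)) • ε⟦a⟧ + (-(w b)) • ε⟦b⟧ with hz
  have hza : z a = 0 := by simp [hz, hab]
  have hzb : z b = 0 := by simp [hz, Ne.symm hab]
  have hzf : ∀ (x y : F), η z (x • ε⟦a⟧ + y • ε⟦b⟧) = 0 := fun x y => by
    rw [hf.herm, hsingle, hza, hzb, map_zero, mul_zero, mul_zero, add_zero, map_zero]
  have hze : η z e = 0 := hzf 1 β
  have hzf' : η z f = 0 := hzf γ _
  have hTz : (T : Mat) *ᵥ z = z := by
    have e2 : ((g₂⁻¹ : GL (Fin n) F) : Mat) *ᵥ z = z := by
      conv_lhs => rw [← hg₂f z hze hzf']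
      rw [mulVec_mulVec, Units.inv_mul, one_mulVec]
    rw [hT, Units.val_mul, ← mulVec_mulVec, Units.val_mul, ← mulVec_mulVec, hg₁f z hze hzf', uTv_mulVec hf hff,
      hzf', mul_zero, zero_smul, add_zero, e2]
  have hw : w = (w a • ε⟦a⟧ + w b • ε⟦b⟧) + z := by rw [hz]; module
  have hTw : (T : Mat) *ᵥ w = s • ε⟦a⟧ + z := by rw [hw, mulVec_add, hTx, hTz]
  rw [hTw]
  by_cases x1 : x = b
  · subst x1; simp [hzb, Ne.symm hab]
  by_cases x2 : x = a
  · subst x2; simp [x1]
  · simp [hz, x1, x2]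

/-- With three fixed scalars, all centres from those with two coordinates. -/
theorem all_centres (hq : 3 ≤ q) {M : Subgroup (GL (Fin n) F)}
    (hpair : ∀ (z : V) (p r : Fin n), p ≠ r → η z z = 0 → (∀ x, x ≠ p → x ≠ r → z x = 0) → CentreIn q σ M z) :
    ∀ w : V, η w w = 0 → CentreIn q σ M w := by
  classical
  have hs := sesqForm_of_unitary hf
  suffices ∀ (N : ℕ) (w : V), (supp w).card ≤ N → η w w = 0 → CentreIn q σ M w from
    fun w => this _ w le_rfl
  intro N
  induction N with
  | zero =>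
    intro w hw _
    have : w = 0 := by
      by_contra hne
      have := supp_card_pos hf hb hne
      omega
    rw [this]; exact centreIn_zero hf M
  | succ N ih =>
    intro w hw hww
    rcases Nat.lt_or_ge (supp w).card 3 with hlt | hge
    · by_cases hw0 : w = 0
      · rw [hw0]; exact centreIn_zero hf M
      obtain ⟨a, b, hab, hS⟩ := Finset.card_eq_two.mp
        (show (supp w).card = 2 by have := two_le_supp hf hb hw0 hww; omega)
      refine hpair w a b hab hww fun x x1 x2 => ?_
      by_contra hne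
      have := (mem_supp hf hb).mpr hne
      rw [hS] at this
      simp [x1, x2] at this
    -- removing a coordinate with a pair of non-zero norm
    have step : ∀ w' : V, (∀ x, w x = 0 → w' x = 0) → η w' w' = 0 → ∀ a b, a ≠ b → w b ≠ 0 →
        w' a * σ (w' a) + w' b * σ (w' b) ≠ 0 → w a ≠ 0 → CentreIn q σ M w' := by
      intro w' hw' hww' a b hab hb0 hN ha0
      obtain ⟨g, hg, hgU, hgv⟩ := plane_step hf hb hpair hab hN
      have hsub : supp ((g : Mat) *ᵥ w') ⊆ (supp w).erase b := by
        intro x hx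
        rw [mem_supp hf hb, hgv] at hx
        rw [Finset.mem_erase, mem_supp hf hb]
        refine ⟨fun e => hx (if_pos e), fun e => hx ?_⟩
        have hxa : x ≠ a := fun e' => ha0 (e' ▸ e)
        by_cases hxb : x = b
        · rw [if_pos hxb]
        · rw [if_neg hxb, if_neg hxa, hw' x e]
      have h1 := Finset.card_le_card hsub
      rw [Finset.card_erase_of_mem ((mem_supp hf hb).mpr hb0)] at h1
      have h2 := centreIn_map hf (ih ((g : Mat) *ᵥ w') (by omega) (by rw [mem_GU_iff_forall.mp hgU, hww']))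
        ((Cfsg.GU n F q).inv_mem hgU) (M.inv_mem hg)
      rwa [mulVec_mulVec, Units.inv_mul, one_mulVec] at h2
    by_cases hex : ∃ a b, a ≠ b ∧ w a ≠ 0 ∧ w b ≠ 0 ∧ w a * σ (w a) + w b * σ (w b) ≠ 0
    · obtain ⟨a, b, hab, ha, hb', hN⟩ := hex
      exact step w (fun _ h => h) hww a b hab hb' hN ha
    push Not at hex
    obtain ⟨T, hT, hTc⟩ := Finset.exists_subset_card_eq hge
    obtain ⟨a, b, c, hab, hac, hbc, rfl⟩ := Finset.card_eq_three.mp hTc
    have hwa : w a ≠ 0 := (mem_supp hf hb).mp (hT (by simp))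
    have hwb : w b ≠ 0 := (mem_supp hf hb).mp (hT (by simp))
    have hwc : w c ≠ 0 := (mem_supp hf hb).mp (hT (by simp))
    set W := w a * σ (w a) with hW
    have e1 := hex a b hab hwa hwb
    have e2 := hex a c hac hwa hwc
    have e3 := hex b c hbc hwb hwc
    have h2 : (2 : F) = 0 := by
      have : (2 : F) * W = 0 := by linear_combination e1 + e2 - e3
      exact (mul_eq_zero.mp this).resolve_right (norm_pos hf hb hwa)
    obtain ⟨γ, hγ, hγ'⟩ := exists_normOne_notMem hb ({σ (-(w a) / w b)} : Finset F)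
      (by have := two_le hb; simp; omega)
    rw [Finset.mem_singleton] at hγ'
    have hγn := (mem_normOne hb).mp hγ
    set z : V := ε⟦a⟧ + γ • ε⟦b⟧ with hz
    have hza : z a = 1 := by simp [hz, hab]
    have hzz : η z z = 0 := by
      simp only [hz, hs.add_left, hs.add_right, hs.smul_left, hs.smul_right, herm_single_right hf hb,
        Pi.single_eq_same, Pi.single_eq_of_ne hab, Pi.single_eq_of_ne (Ne.symm hab)]
      linear_combination h2 + hγn
    have hwz : η w z = w a + σ γ * w b := by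
      rw [hz, hs.add_right, hs.smul_right, herm_single_right hf hb, herm_single_right hf hb]
    have hη0 : η w z ≠ 0 := by
      rw [hwz]
      intro h0
      refine hγ' ?_
      rw [show -(w a) / w b = σ γ by rw [div_eq_iff hwb]; linear_combination -h0, hf.involutive]
    set κ := η w z with hκ
    have hcz : CentreIn q σ M z := hpair z a b hab hzz fun x x1 x2 => by simp [hz, x1, x2]
    obtain ⟨s, hσs, hs0, hs1⟩ := exists_fixed_scalar hf hb.eq_pow hb.card (by omega)
    have hκn : κ * σ κ ≠ 0 := norm_pos hf hb hη0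
    obtain ⟨c', hc'0, hc'f, hc'T⟩ : ∃ c' : F, c' ≠ 0 ∧ σ c' = c' ∧
        (w a * σ κ + σ (w a) * κ) + c' * (κ * σ κ) ≠ 0 := by
      by_cases h : (w a * σ κ + σ (w a) * κ) + 1 * (κ * σ κ) = 0
      · refine ⟨s, hs0, hσs, fun h' => hs1 ?_⟩
        have : (s - 1) * (κ * σ κ) = 0 := by linear_combination h' - h
        linear_combination (mul_eq_zero.mp this).resolve_right hκn + h2
      · exact ⟨1, one_ne_zero, map_one σ, h⟩
    have hσc : σ c' = -c' := by rw [hc'f]; linear_combination c' * h2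
    set g := uTv q z c' with hg
    have hgU : g ∈ Cfsg.GU n F q := (uTv_mem hf hzz hσc).1
    set w' := (g : Mat) *ᵥ w with hw'
    have hw'v : ∀ x, w' x = w x + c' * κ * z x := fun x => by
      rw [hw', hg, uTv_mulVec hf hzz, ← hκ]; simp
    have hw'sub : ∀ x, w x = 0 → w' x = 0 := fun x hx => by
      have x1 : x ≠ a := fun e => hwa (e ▸ hx)
      have x2 : x ≠ b := fun e => hwb (e ▸ hx)
      rw [hw'v, hx, show z x = 0 by simp [hz, x1, x2]]; ring
    have hw'c : w' c = w c := by
      rw [hw'v, show z c = 0 by simp [hz, Ne.symm hac, Ne.symm hbc]]; ring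
    have hN' : w' a * σ (w' a) + w' c * σ (w' c) ≠ 0 := by
      rw [hw'c, hw'v, hza, mul_one, map_add, map_mul, hc'f]
      intro h0
      refine mul_ne_zero hc'0 hc'T ?_
      linear_combination h0 - e2
    have hcw' : CentreIn q σ M w' :=
      step w' hw'sub (by rw [hw', mem_GU_iff_forall.mp hgU, hww]) a c hac hwc hN' hwa
    have h3 := centreIn_map hf hcw' ((Cfsg.GU n F q).inv_mem hgU) (M.inv_mem (hcz c' hσc))
    rwa [hw', hg, mulVec_mulVec, Units.inv_mul, one_mulVec] at h3

theorem centres_of_fixer (hn : 4 ≤ n) (hq : 3 ≤ q) {M : Subgroup (GL (Fin n) F)} (hM : UMonoIn σ M)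
    (hMU : M ≤ Cfsg.GU n F q) (hfx : Fixer M) : ∀ w : V, η w w = 0 → CentreIn q σ M w := by
  obtain ⟨k, u, huk, hu2, hu⟩ := exists_dref hf hb hM hMU hfx
  obtain ⟨u', hu'k, hu'3, hu'⟩ := exists_weight_three hf hb hn hq hM huk hu2 hu
  obtain ⟨v, hv0, hvv, hv3, hcv⟩ := centre_small hf hb hM hu'k hu'3 hu'
  obtain ⟨v', hv'v, hv'2, hcv'⟩ := pair_centre hf hb hn hM hv0 hvv hv3 hcv
  exact all_centres hf hb hq fun z p r hpr hzz hz => all_pairs hf hb hn hM hv'v hv'2 hcv' hzz hpr hz

/-! ### Four elements -/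

section Four

variable (hq2 : q = 2)
include hq2

theorem fixed_two {x : F} (hx : σ x = x) (hx0 : x ≠ 0) : x = 1 := by
  rw [hb.eq_pow, show x ^ q = x ^ 2 from congrArg _ hq2, pow_two] at hx
  exact (mul_eq_left₀ hx0).mp hx

theorem two_zero : (2 : F) = 0 := by
  have h := FiniteField.cast_card_eq_zero F
  rw [hb.card, hq2] at h
  norm_num at h
  exact mul_self_eq_zero.mp (by norm_num; exact h : (2 : F) * 2 = 0)

theorem mem_normOne_two {x : F} (hx : x ≠ 0) : x ∈ normOne σ :=
  (mem_normOne hb).mpr (fixed_two hf hb hq2 (length_fixed hb x) (norm_pos hf hb hx))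

theorem supp_even {w : V} (hw : η w w = 0) : Even (supp w).card := by
  classical
  rw [sum_norm hf hb, ← Finset.sum_subset (Finset.subset_univ (supp w)) (fun x _ hx => by
    rw [mem_supp hf hb, not_not] at hx; rw [hx, zero_mul]),
    Finset.sum_congr rfl (g := fun _ => (1 : F)) (fun x hx => by
      rw [mem_supp hf hb] at hx; exact fixed_two hf hb hq2 (length_fixed hb _) (norm_pos hf hb hx)),
    Finset.sum_const, nsmul_one] at hw
  rcases Nat.even_or_odd (supp w).card with h | ⟨m, hm⟩
  · exact h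
  · rw [hm] at hw
    simp [two_zero hf hb hq2] at hw

theorem pair_monomial {M : Subgroup (GL (Fin n) F)} (hM : UMonoIn σ M) {z : V} (hzz : η z z = 0)
    {a b : Fin n} (hab : a ≠ b) (hz : ∀ x, x ≠ a → x ≠ b → z x = 0) : CentreIn q σ M z := by
  classical
  intro c hc
  have h2 := two_zero hf hb hq2
  rcases eq_or_ne c 0 with rfl | hc0
  · rw [uTv, zero_smul, tv_zero_left]; exact M.one_mem
  have hc1 : c = 1 := fixed_two hf hb hq2 (by rw [hc]; linear_combination -c * h2) hc0
  subst hc1
  by_cases hz0 : z = 0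
  · rw [hz0, uTv, smul_zero, tv_zero_left]; exact M.one_mem
  have hsum : z a * σ (z a) + z b * σ (z b) = 0 := by
    rw [← hzz, sum_norm hf hb, Finset.sum_eq_add a b hab (fun x _ hx => by rw [hz x hx.1 hx.2, zero_mul])
      (by simp) (by simp)]
  have hza : z a ≠ 0 := by
    intro e
    rw [e, zero_mul, zero_add] at hsum
    refine hz0 (funext fun x => ?_)
    by_cases x1 : x = a
    · subst x1; exact e
    by_cases x2 : x = b
    · subst x2
      by_contra hne
      exact norm_pos hf hb hne hsum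
    exact hz x x1 x2
  have hzb : z b ≠ 0 := by
    intro e
    rw [e, zero_mul, add_zero] at hsum
    exact norm_pos hf hb hza hsum
  have hNa : z a * σ (z a) = 1 := fixed_two hf hb hq2 (length_fixed hb _) (norm_pos hf hb hza)
  have hNb : z b * σ (z b) = 1 := fixed_two hf hb hq2 (length_fixed hb _) (norm_pos hf hb hzb)
  set x := Units.mk0 (z b / z a) (div_ne_zero hzb hza) with hx
  set d : Fin n → Fˣ := fun s => if s = a then x else if s = b then x⁻¹ else 1 with hd
  have hone : (-1 : F) = 1 := by linear_combination -h2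
  have hmem : monEl (Equiv.swap a b) d ∈ M := by
    refine hM _ _ (fun r => mem_normOne_two hf hb hq2 (d r).ne_zero) ?_
    rw [det_monEl, Equiv.Perm.sign_swap hab, ← Units.coe_prod,
      Finset.prod_eq_mul a b hab (fun r _ hr => by simp [hd, hr.1, hr.2]) (by simp) (by simp)]
    simp [hd, Ne.symm hab, hone]
  convert hmem using 1
  refine Units.ext (Matrix.ext_iff_mulVec.mpr fun y => ?_)
  rw [uTv_mulVec hf hzz]
  funext p
  rw [monEl_mulVec, Equiv.symm_swap, Pi.add_apply, Pi.smul_apply, one_mul, smul_eq_mul, herm_apply hf hb,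
    Finset.sum_eq_add a b hab (fun s _ hs' => by rw [hz s hs'.1 hs'.2, map_zero, mul_zero]) (by simp) (by simp)]
  have hσa : σ (z a) = (z a)⁻¹ := eq_inv_of_mul_eq_one_right hNa
  have hσb : σ (z b) = (z b)⁻¹ := eq_inv_of_mul_eq_one_right hNb
  rw [hσa, hσb]
  by_cases x1 : p = a
  · subst x1
    simp [hd, Ne.symm hab, hx]
    field_simp
    linear_combination (y p * z b) * h2
  by_cases x2 : p = b
  · subst x2
    simp [hd, hx]
    field_simp
    linear_combination (y p * z a) * h2
  · simp [hd, x1, x2, hz p x1 x2, Equiv.swap_apply_of_ne_of_ne x1 x2]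

/-- A transvection centre with at least four coordinates. -/
theorem centre_four (hn : 10 ≤ n) {M : Subgroup (GL (Fin n) F)} (hM : UMonoIn σ M)
    (hMU : M ≤ Cfsg.GU n F q) {k : Fin n} {u : V} (huk : u k = 0) (h2u : 2 ≤ (supp u).card)
    (h : DRefIn q σ M u ε⟦k⟧) : ∃ v : V, η v v = 0 ∧ 4 ≤ (supp v).card ∧ CentreIn q σ M v := by
  classical
  have hs := sesqForm_of_unitary hf
  have h2 := two_zero hf hb hq2
  obtain ⟨a, ha⟩ := Finset.card_pos.mp (by omega : 0 < (supp u).card)
  have hua := (mem_supp hf hb).mp ha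
  have hak : a ≠ k := fun e => hua (e ▸ huk)
  set z : V := ε⟦a⟧ + ε⟦k⟧ with hz
  have hzz : η z z = 0 := by
    simp only [hz, hs.add_left, hs.add_right, herm_single_right hf hb, Pi.single_eq_same,
      Pi.single_eq_of_ne hak, Pi.single_eq_of_ne (Ne.symm hak)]
    linear_combination h2
  have hcz := pair_monomial hf hb hq2 hM hzz hak fun x x1 x2 => by simp [hz, x1, x2]
  obtain ⟨ζ, hζ, hζ'⟩ := exists_normOne_notMem hb {1} (by have := two_le hb; simp; omega)
  rw [Finset.mem_singleton] at hζ'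
  obtain ⟨R, hR, hRa⟩ := h.2.2.2 ζ hζ
  have hzu : η z u = σ (u a) := by
    rw [hz, hs.add_left, herm_single_left hf hb, herm_single_left hf hb, huk, map_zero, add_zero]
  have hzk : η z ε⟦k⟧ = 1 := by rw [herm_single_right hf hb]; simp [hz, Ne.symm hak]
  have hN : u a * σ (u a) = 1 := fixed_two hf hb hq2 (length_fixed hb _) (norm_pos hf hb hua)
  have hv : ∀ p, ((R : Mat) *ᵥ z) p = z p + (ζ - 1) * σ (u a) * u p + (ζ⁻¹ - 1) * ε⟦k⟧ p := fun p => by
    rw [hRa, hzu, hzk]; simp
  have hev : Even (supp ((R : Mat) *ᵥ z)).card :=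
    supp_even hf hb hq2 (by rw [mem_GU_iff_forall.mp (hMU hR), hzz])
  refine ⟨(R : Mat) *ᵥ z, by rw [mem_GU_iff_forall.mp (hMU hR), hzz], ?_, centreIn_map hf hcz (hMU hR) hR⟩
  have hsub : insert k (supp u) ⊆ supp ((R : Mat) *ᵥ z) := by
    intro p hp
    rw [mem_supp hf hb, hv]
    rcases Finset.mem_insert.mp hp with rfl | hp
    · simp [hz, huk, Ne.symm hak, ne_zero_of_mem hb hζ]
    · have hpu := (mem_supp hf hb).mp hp
      have hpk : p ≠ k := fun e => hpu (e ▸ huk)
      by_cases hpa : p = a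
      · subst hpa
        simp [hz, hpk]
        intro h0
        exact ne_zero_of_mem hb hζ (by linear_combination h0 - (ζ - 1) * hN)
      · simp [hz, hpk, hpa, sub_ne_zero.mpr hζ', hpu, hua]
  have hle := Finset.card_le_card hsub
  rw [Finset.card_insert_of_notMem (fun hk => (mem_supp hf hb).mp hk huk)] at hle
  obtain ⟨m, hm⟩ := hev
  omega

theorem cube_one {x : F} (hx : x ≠ 0) : x ^ 3 = 1 := by
  have h := (mem_normOne hb).mp (mem_normOne_two hf hb hq2 hx)
  rw [hb.eq_pow, show x ^ q = x ^ 2 from congrArg _ hq2] at h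
  rw [← h]; ring

theorem omega_rel {ω : F} (hω : ω ≠ 0) (hω1 : ω ≠ 1) : 1 + ω + ω ^ 2 = 0 := by
  have : (ω - 1) * (1 + ω + ω ^ 2) = 0 := by linear_combination cube_one hf hb hq2 hω
  exact (mul_eq_zero.mp this).resolve_left (sub_ne_zero.mpr hω1)

theorem centre_four_exact (hn : 7 ≤ n) {M : Subgroup (GL (Fin n) F)} (hM : UMonoIn σ M) {v : V}
    (hvv : η v v = 0) (h4 : 4 ≤ (supp v).card) (hc : CentreIn q σ M v) :
    ∃ z : V, η z z = 0 ∧ (supp z).card = 4 ∧ CentreIn q σ M z := by
  classical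
  have hs := sesqForm_of_unitary hf
  have h2 := two_zero hf hb hq2
  obtain ⟨ω, hω, hω'⟩ := exists_normOne_notMem hb {1} (by have := two_le hb; simp; omega)
  rw [Finset.mem_singleton] at hω'
  have hω0 := ne_zero_of_mem hb hω
  have hrel := omega_rel hf hb hq2 hω0 hω'
  have hσω : σ ω = ω ^ 2 := by rw [hb.eq_pow, show ω ^ q = ω ^ 2 from congrArg _ hq2]
  have hNv : ∀ p, v p ≠ 0 → v p * σ (v p) = 1 := fun p hp =>
    fixed_two hf hb hq2 (length_fixed hb _) (norm_pos hf hb hp)
  -- a centre with fewer than `n` coordinates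
  have small : ∀ v : V, η v v = 0 → 4 ≤ (supp v).card → (supp v).card < n → CentreIn q σ M v →
      ∃ z : V, η z z = 0 ∧ (supp z).card = 4 ∧ CentreIn q σ M z := by
    intro v hvv h4 hlt hc
    have hNv : ∀ p, v p ≠ 0 → v p * σ (v p) = 1 := fun p hp =>
      fixed_two hf hb hq2 (length_fixed hb _) (norm_pos hf hb hp)
    have hevn : Even (supp v).card := supp_even hf hb hq2 hvv
    obtain ⟨o, -, ho⟩ := Finset.exists_mem_notMem_of_card_lt_card
      (show (supp v).card < (Finset.univ : Finset (Fin n)).card by simpa using hlt)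
    have hvo : v o = 0 := by simpa [mem_supp hf hb] using ho
    obtain ⟨T, hT, hTc⟩ := Finset.exists_subset_card_eq (show 3 ≤ (supp v).card by omega)
    obtain ⟨p, r, s, hpr, hps, hrs, rfl⟩ := Finset.card_eq_three.mp hTc
    have hvp : v p ≠ 0 := (mem_supp hf hb).mp (hT (by simp))
    have hvr : v r ≠ 0 := (mem_supp hf hb).mp (hT (by simp))
    have hvs : v s ≠ 0 := (mem_supp hf hb).mp (hT (by simp))
    have hop : o ≠ p := fun e => hvp (e ▸ hvo)
    have hor : o ≠ r := fun e => hvr (e ▸ hvo)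
    have hos : o ≠ s := fun e => hvs (e ▸ hvo)
    obtain ⟨d, hdn, hd, hdM⟩ := exists_monomial_mem hf hb hM (Equiv.swap p o) p
      (fun x => if x = r ∨ x = s then ω else 1)
      (fun x _ => by split_ifs <;> simp [hω, Circle.one_mem hb])
    set v' := (monEl (Equiv.swap p o) d : Mat) *ᵥ v with hv'
    have hcv' := centreIn_map hf hc (monEl_mem_GU' hf hb hdn) hdM
    have hv'v' : η v' v' = 0 := by rw [hv', mem_GU_iff_forall.mp (monEl_mem_GU' hf hb hdn), hvv]
    have hv'x : ∀ x, v' x = d (Equiv.swap p o x) * v (Equiv.swap p o x) := fun x => by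
      rw [hv', monEl_mulVec, Equiv.symm_swap]
    have hval : ∀ x, x ≠ p → x ≠ o → v' x = (if x = r ∨ x = s then ω else 1) * v x := fun x x1 x2 => by
      rw [hv'x, Equiv.swap_apply_of_ne_of_ne x1 x2, hd x x1]
    have hv'p : v' p = 0 := by rw [hv'x, Equiv.swap_apply_left, hvo, mul_zero]
    have hv'o : v' o ≠ 0 := by
      rw [hv'x, Equiv.swap_apply_right]; exact mul_ne_zero (d p).ne_zero hvp
    have hη : η v v' = 1 := by
      rw [herm_apply hf hb, ← Finset.sum_subset (Finset.subset_univ (supp v)) (fun x _ hx => by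
        rw [mem_supp hf hb, not_not] at hx; rw [hx, zero_mul])]
      have e : ∀ x ∈ supp v, v x * σ (v' x) =
          1 - (if x = p then 1 else 0) + (if x = r ∨ x = s then σ ω - 1 else 0) := by
        intro x hx
        have hx' := (mem_supp hf hb).mp hx
        by_cases x1 : x = p
        · subst x1
          rw [hv'p, map_zero, mul_zero, if_pos rfl, if_neg (by simp [hpr, hps])]; ring
        · have x2 : x ≠ o := fun e => hx' (e ▸ hvo)
          rw [hval x x1 x2, if_neg x1, map_mul]
          by_cases x3 : x = r ∨ x = s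
          · rw [if_pos x3, if_pos x3]; linear_combination σ ω * hNv x hx'
          · rw [if_neg x3, if_neg x3, map_one]; linear_combination hNv x hx'
      rw [Finset.sum_congr rfl e, Finset.sum_add_distrib, Finset.sum_sub_distrib, Finset.sum_const,
        Finset.sum_ite_eq' (supp v) p, if_pos ((mem_supp hf hb).mpr hvp), ← Finset.sum_filter]
      have hfil : (supp v).filter (fun x => x = r ∨ x = s) = {r, s} := by
        ext x
        simp only [Finset.mem_filter, Finset.mem_insert, Finset.mem_singleton, mem_supp hf hb]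
        exact ⟨fun h => h.2, fun h => ⟨by rcases h with rfl | rfl <;> assumption, h⟩⟩
      obtain ⟨m, hm⟩ := hevn
      rw [hfil, Finset.sum_pair hrs, hm, nsmul_one]
      push_cast
      linear_combination ((m : F) + σ ω - 2) * h2
    have hη' : η v' v = 1 := by rw [hf.herm, hη, map_one]
    have hiso : η (v + v') (v + v') = 0 := by
      rw [hs.add_left, hs.add_right, hs.add_right, hvv, hv'v', hη, hη']; linear_combination h2
    refine ⟨v + v', hiso, ?_, centreIn_add hf hc hcv' hvv hv'v' (by rw [hη]; exact one_ne_zero) hiso⟩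
    have hsupp : supp (v + v') = {p, r, s, o} := by
      ext x
      rw [mem_supp hf hb, Pi.add_apply]
      simp only [Finset.mem_insert, Finset.mem_singleton]
      by_cases x1 : x = p
      · subst x1; simp [hv'p, hvp]
      by_cases x2 : x = o
      · subst x2; simp [hvo, hv'o]
      by_cases x3 : x = r ∨ x = s
      · have hne : v x + v' x ≠ 0 := by
          rw [hval x x1 x2, if_pos x3]
          intro h0
          have hvx : v x ≠ 0 := by rcases x3 with rfl | rfl <;> assumption
          have : v x * (1 + ω) = 0 := by linear_combination h0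
          exact hω' (by linear_combination (mul_eq_zero.mp this).resolve_left hvx - h2)
        simp only [x1, x2, false_or, or_false]
        exact iff_of_true hne x3
      · rw [hval x x1 x2, if_neg x3, one_mul, ← two_mul, h2, zero_mul]
        simp only [x1, x2, false_or, or_false]
        exact iff_of_false (fun h => h rfl) x3
    rw [hsupp, Finset.card_insert_of_notMem (by simp [hpr, hps, Ne.symm hop]),
      Finset.card_insert_of_notMem (by simp [hrs, Ne.symm hor]),
      Finset.card_insert_of_notMem (by simp [Ne.symm hos]), Finset.card_singleton]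
  rcases Nat.lt_or_ge (supp v).card n with hlt | hge
  · exact small v hvv h4 hlt hc
  have hfull : ∀ x, v x ≠ 0 := fun x => (mem_supp hf hb).mp (by
    rw [Finset.eq_univ_of_card (supp v) (by
      rw [Fintype.card_fin]; exact le_antisymm (by simpa using Finset.card_le_univ (supp v)) hge)]
    exact Finset.mem_univ x)
  have hev : Even n := by
    have := supp_even hf hb hq2 hvv
    rwa [le_antisymm (by simpa using Finset.card_le_univ (supp v)) hge] at this
  obtain ⟨S₁, -, hS₁⟩ := Finset.exists_subset_card_eq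
    (show 3 ≤ (Finset.univ : Finset (Fin n)).card by simp; omega)
  obtain ⟨S₂, hS₂', hS₂⟩ := Finset.exists_subset_card_eq
    (show 3 ≤ ((Finset.univ : Finset (Fin n)) \ S₁).card by
      rw [Finset.card_sdiff, Finset.inter_univ, Finset.card_univ, Fintype.card_fin]; omega)
  have hdisj : Disjoint S₁ S₂ :=
    Finset.disjoint_left.mpr fun x hx hx' => (Finset.mem_sdiff.mp (hS₂' hx')).2 hx
  set ωu : Fˣ := Units.mk0 ω hω0 with hωu
  set d : Fin n → Fˣ := fun x => if x ∈ S₁ then ωu else if x ∈ S₂ then ωu⁻¹ else 1 with hd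
  have hdn : ∀ x, (d x : F) ∈ normOne σ := fun x => mem_normOne_two hf hb hq2 (d x).ne_zero
  have hdM : monEl 1 d ∈ M := by
    refine hM _ _ hdn ?_
    have e : ∀ x, d x = (if x ∈ S₁ then ωu else 1) * (if x ∈ S₂ then ωu⁻¹ else 1) := fun x => by
      by_cases h1 : x ∈ S₁
      · simp [hd, h1, Finset.disjoint_left.mp hdisj h1]
      · by_cases h2 : x ∈ S₂ <;> simp [hd, h1, h2]
    rw [det_monEl, map_one, Units.val_one, Int.cast_one, one_mul, ← Units.coe_prod,
      Finset.prod_congr rfl fun x _ => e x, Finset.prod_mul_distrib, Finset.prod_ite_mem, Finset.prod_ite_mem,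
      Finset.univ_inter, Finset.univ_inter, Finset.prod_const, Finset.prod_const, hS₁, hS₂]
    simp
  have hdU := monEl_mem_GU' hf hb (φ := 1) hdn
  set v' := (monEl 1 d : Mat) *ᵥ v with hv'
  have hv'x : ∀ x, v' x = (d x : F) * v x := fun x => congrFun (diag_mulVec hf hb d v x) x
  have hv'v' : η v' v' = 0 := by rw [hv', mem_GU_iff_forall.mp hdU, hvv]
  have hη : η v v' = 1 := by
    rw [herm_apply hf hb]
    have e : ∀ x, v x * σ (v' x) =
        1 + (if x ∈ S₁ then σ ω - 1 else 0) + (if x ∈ S₂ then σ ω⁻¹ - 1 else 0) := fun x => by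
      rw [hv'x, map_mul]
      by_cases h1 : x ∈ S₁
      · simp only [hd, if_pos h1, if_neg (Finset.disjoint_left.mp hdisj h1), hωu, Units.val_mk0]
        linear_combination σ ω * hNv x (hfull x)
      · by_cases h2 : x ∈ S₂
        · simp only [hd, if_neg h1, if_pos h2, hωu, Units.val_inv_eq_inv_val, Units.val_mk0]
          linear_combination σ ω⁻¹ * hNv x (hfull x)
        · simp only [hd, if_neg h1, if_neg h2, Units.val_one, map_one]
          linear_combination hNv x (hfull x)
    rw [Finset.sum_congr rfl fun x _ => e x, Finset.sum_add_distrib, Finset.sum_add_distrib,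
      Finset.sum_ite_mem, Finset.sum_ite_mem, Finset.univ_inter, Finset.univ_inter, Finset.sum_const,
      Finset.sum_const, Finset.sum_const, hS₁, hS₂, Finset.card_univ, Fintype.card_fin]
    obtain ⟨m, hm⟩ := hev
    rw [hm, nsmul_one, map_inv₀, hσω, show (ω ^ 2)⁻¹ = ω from inv_eq_of_mul_eq_one_right (by
      rw [← pow_succ]; exact cube_one hf hb hq2 hω0)]
    simp only [nsmul_eq_mul]
    push_cast
    linear_combination 3 * hrel + ((m : F) - 5) * h2
  have hη' : η v' v = 1 := by rw [hf.herm, hη, map_one]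
  have hiso : η (v + v') (v + v') = 0 := by
    rw [hs.add_left, hs.add_right, hs.add_right, hvv, hv'v', hη, hη']; linear_combination h2
  refine small (v + v') hiso ?_ ?_
    (centreIn_add hf hc (centreIn_map hf hc hdU hdM) hvv hv'v' (by rw [hη]; exact one_ne_zero) hiso)
  all_goals
    have hsupp : supp (v + v') = S₁ ∪ S₂ := by
      ext x
      rw [mem_supp hf hb, Pi.add_apply, hv'x, Finset.mem_union]
      have e1 : v x + (d x : F) * v x = (1 + (d x : F)) * v x := by ring
      rw [e1, mul_ne_zero_iff, and_iff_left (hfull x)]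
      by_cases h1 : x ∈ S₁
      · simp only [hd, if_pos h1, hωu, Units.val_mk0, h1, true_or, iff_true]
        exact fun h => hω' (by linear_combination h - h2)
      · by_cases h2' : x ∈ S₂
        · simp only [hd, if_neg h1, if_pos h2', hωu, Units.val_inv_eq_inv_val, Units.val_mk0]
          exact iff_of_true (fun h => hω' (inv_eq_one.mp (by linear_combination h - h2))) (Or.inr h2')
        · simp only [hd, if_neg h1, if_neg h2', Units.val_one]
          exact iff_of_false (not_not.mpr (by linear_combination h2)) (not_or.mpr ⟨h1, h2'⟩)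
    rw [hsupp, Finset.card_union_of_disjoint hdisj, hS₁, hS₂]
    omega

theorem all_four (hn : 7 ≤ n) {M : Subgroup (GL (Fin n) F)} (hM : UMonoIn σ M) {z : V}
    (h4 : (supp z).card = 4) (hc : CentreIn q σ M z) {w : V} (hw4 : (supp w).card = 4) :
    CentreIn q σ M w := by
  classical
  let e : {x // x ∈ supp z} ≃ {x // x ∈ supp w} := Finset.equivOfCardEq (h4.trans hw4.symm)
  let π : Equiv.Perm (Fin n) := Equiv.extendSubtype e
  obtain ⟨k, -, hk⟩ := Finset.exists_mem_notMem_of_card_lt_card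
    (show (supp z).card < (Finset.univ : Finset (Fin n)).card by rw [h4]; simp; omega)
  have hπz : ∀ x, x ∈ supp z → π x ∈ supp w := fun x hx => Equiv.extendSubtype_mem e x hx
  have hπn : ∀ x, x ∉ supp z → π x ∉ supp w := fun x hx => Equiv.extendSubtype_not_mem e x hx
  obtain ⟨d, hdn, hd, hdM⟩ := exists_monomial_mem hf hb hM π k (fun x => if x ∈ supp z then w (π x) / z x else 1)
    (fun x _ => by
      split_ifs with hx
      · exact mem_normOne_two hf hb hq2
          (div_ne_zero ((mem_supp hf hb).mp (hπz x hx)) ((mem_supp hf hb).mp hx))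
      · exact Circle.one_mem hb)
  have := centreIn_map hf hc (monEl_mem_GU' hf hb hdn) hdM
  convert this using 1
  funext x
  rw [monEl_mulVec]
  by_cases hx : π.symm x ∈ supp z
  · rw [hd _ (fun e => hk (e ▸ hx)), if_pos hx, Equiv.apply_symm_apply,
      div_mul_cancel₀ _ ((mem_supp hf hb).mp hx)]
  · have h0 := hπn _ hx
    rw [Equiv.apply_symm_apply, mem_supp hf hb, not_not] at h0
    rw [mem_supp hf hb, not_not] at hx
    rw [h0, hx, mul_zero]

theorem all_centres_four (hn : 7 ≤ n) {M : Subgroup (GL (Fin n) F)} (hM : UMonoIn σ M) {z : V}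
    (h4 : (supp z).card = 4) (hc : CentreIn q σ M z) : ∀ w : V, η w w = 0 → CentreIn q σ M w := by
  classical
  have hs := sesqForm_of_unitary hf
  have h2 := two_zero hf hb hq2
  obtain ⟨ω, hω, hω'⟩ := exists_normOne_notMem hb {1} (by have := two_le hb; simp; omega)
  rw [Finset.mem_singleton] at hω'
  have hω0 := ne_zero_of_mem hb hω
  have hrel := omega_rel hf hb hq2 hω0 hω'
  suffices ∀ (N : ℕ) (w : V), (supp w).card ≤ N → η w w = 0 → CentreIn q σ M w from
    fun w => this _ w le_rfl
  intro N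
  induction N with
  | zero =>
    intro w hw _
    have : w = 0 := by
      by_contra hne
      have := supp_card_pos hf hb hne
      omega
    rw [this]; exact centreIn_zero hf M
  | succ N ih =>
    intro w hw hww
    have hev := supp_even hf hb hq2 hww
    obtain ⟨m, hm⟩ := hev
    by_cases hw0 : w = 0
    · rw [hw0]; exact centreIn_zero hf M
    rcases (show m = 1 ∨ m = 2 ∨ 3 ≤ m by have := supp_card_pos hf hb hw0; omega) with rfl | rfl | hm3
    · obtain ⟨a, b, hab, hS⟩ := Finset.card_eq_two.mp hm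
      refine pair_monomial hf hb hq2 hM hww hab fun x x1 x2 => ?_
      by_contra hne
      have := (mem_supp hf hb).mpr hne
      rw [hS] at this
      simp [x1, x2] at this
    · exact all_four hf hb hq2 hn hM h4 hc hm
    obtain ⟨T, hT, hTc⟩ := Finset.exists_subset_card_eq (show 4 ≤ (supp w).card by omega)
    obtain ⟨p, r, s, t, hpr, hps, hpt, hrs, hrt, hst, rfl⟩ := Finset.card_eq_four.mp hTc
    let c : Fin n → F := fun x => if x = p ∨ x = r then 1 else if x = s then ω else if x = t then ω ^ 2 else 0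
    set x : V := fun i => c i * w i with hx
    have hNw : ∀ i, w i ≠ 0 → w i * σ (w i) = 1 := fun i hi =>
      fixed_two hf hb hq2 (length_fixed hb _) (norm_pos hf hb hi)
    have hin : ∀ i, i ∈ ({p, r, s, t} : Finset (Fin n)) → w i ≠ 0 := fun i hi => (mem_supp hf hb).mp (hT hi)
    have hc0 : ∀ i, i ∉ ({p, r, s, t} : Finset (Fin n)) → c i = 0 := fun i hi => by
      simp only [Finset.mem_insert, Finset.mem_singleton, not_or] at hi
      simp [c, hi.1, hi.2.1, hi.2.2.1, hi.2.2.2]
    have hcne : ∀ i, i ∈ ({p, r, s, t} : Finset (Fin n)) → c i ≠ 0 := fun i hi => by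
      simp only [Finset.mem_insert, Finset.mem_singleton] at hi
      simp only [c]
      split_ifs with h1 h2 h3
      · exact one_ne_zero
      · exact hω0
      · exact pow_ne_zero _ hω0
      · exfalso; tauto
    have hsx : supp x = {p, r, s, t} := by
      ext i
      rw [mem_supp hf hb, hx]
      by_cases hi : i ∈ ({p, r, s, t} : Finset (Fin n))
      · simp [hi, hcne i hi, hin i hi]
      · simp [hi, hc0 i hi]
    have hη : η x w = 1 := by
      rw [herm_apply hf hb, ← Finset.sum_subset (Finset.subset_univ ({p, r, s, t} : Finset (Fin n)))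
        (fun i _ hi => by rw [hx]; simp [hc0 i hi]),
        Finset.sum_congr rfl (g := c) (fun i hi => by
          rw [hx]; linear_combination c i * hNw i (hin i hi)),
        Finset.sum_insert (by simp [hpr, hps, hpt]), Finset.sum_insert (by simp [hrs, hrt]),
        Finset.sum_pair hst]
      simp only [c, true_or, or_true, if_true, Ne.symm hps, Ne.symm hrs, Ne.symm hpt, Ne.symm hrt, Ne.symm hst,
        or_self, if_false]
      linear_combination hrel
    have hη' : η w x = 1 := by rw [hf.herm, hη, map_one]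
    have hxx : η x x = 0 := by
      rw [sum_norm hf hb, ← Finset.sum_subset (Finset.subset_univ (supp x)) (fun i _ hi => by
        rw [mem_supp hf hb, not_not] at hi; rw [hi, zero_mul]),
        Finset.sum_congr rfl (g := fun _ => (1 : F)) (fun i hi => by
          rw [mem_supp hf hb] at hi; exact fixed_two hf hb hq2 (length_fixed hb _) (norm_pos hf hb hi)),
        Finset.sum_const, hsx, hTc, nsmul_one]
      push_cast
      linear_combination 2 * h2
    have hcx := all_four hf hb hq2 hn hM h4 hc (w := x) (by rw [hsx, hTc])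
    set y := w + x with hy
    have hyy : η y y = 0 := by
      rw [hy, hs.add_left, hs.add_right, hs.add_right, hww, hxx, hη, hη']; linear_combination h2
    have hsub : supp y ⊆ ((supp w).erase p).erase r := by
      intro i hi
      rw [mem_supp hf hb] at hi
      rw [Finset.mem_erase, Finset.mem_erase, mem_supp hf hb]
      refine ⟨fun e => hi ?_, fun e => hi ?_, fun e => hi (by simp [hy, hx, e])⟩
      · subst e; simp [hy, hx, c, ← two_mul, h2]
      · subst e; simp [hy, hx, c, ← two_mul, h2]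
    have hle := Finset.card_le_card hsub
    rw [Finset.card_erase_of_mem (Finset.mem_erase.mpr ⟨Ne.symm hpr, hT (by simp)⟩),
      Finset.card_erase_of_mem (hT (by simp : p ∈ ({p, r, s, t} : Finset (Fin n))))] at hle
    have hcy := ih y (by omega) hyy
    have hw' : w = x + y := by
      funext i
      simp only [hy, Pi.add_apply]
      linear_combination -(x i) * h2
    rw [hw'] at hww ⊢
    refine centreIn_add hf hcx hcy hxx hyy ?_ hww
    rw [hy, hs.add_right, hη, hxx, add_zero]
    exact one_ne_zero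

theorem centres_of_two (hn : 10 ≤ n) {M : Subgroup (GL (Fin n) F)} (hM : UMonoIn σ M)
    (hMU : M ≤ Cfsg.GU n F q) {g : GL (Fin n) F} (hg : g ∈ M) (hg' : ¬ Mono g) :
    ∀ w : V, η w w = 0 → CentreIn q σ M w := by
  obtain ⟨k, u, huk, hu2, hu⟩ := exists_dref hf hb hM hMU (exists_fixer hf hb hn hM hMU hg hg')
  obtain ⟨v, hvv, hv4, hcv⟩ := centre_four hf hb hq2 hn hM hMU huk hu2 hu
  obtain ⟨z, -, hz4, hcz⟩ := centre_four_exact hf hb hq2 (by omega : 7 ≤ n) hM hvv hv4 hcv
  exact all_centres_four hf hb hq2 (by omega : 7 ≤ n) hM hz4 hcz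

end Four

/-- A subgroup of `SU` properly above the monomial subgroup is `SU`. -/
theorem su_le_of_not_mono (hn : 10 ≤ n) {M : Subgroup (GL (Fin n) F)} (hM : UMonoIn σ M)
    (hMU : M ≤ Cfsg.GU n F q) {g : GL (Fin n) F} (hg : g ∈ M) (hg' : ¬ Mono g) : SU ≤ M := by
  refine su_le_of_forall_uTv hf hb.eq_pow hb.card (by omega) ?_
  rcases Nat.lt_or_ge q 3 with hq | hq
  · exact centres_of_two hf hb (by have := two_le hb; omega) hn hM hMU hg hg'
  · exact centres_of_fixer hf hb (by omega) hq hM hMU (exists_fixer hf hb hn hM hMU hg hg')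

end CfsgLib.MaxSub.UMono
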