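import Cfsg.Agent.MaxSub.UnitaryThreeTables
import Cfsg.Agent.MaxSub.SocleSection
import Cfsg.Agent.AschbacherForms.FormTensor
import Cfsg.Agent.MaxSub.SquareTensor

/-!
# The symplectic type group in a tensor square of unitary three-spaces over four elements
-/

set_option autoImplicit false
set_option linter.unusedSectionVars false
set_option linter.style.haveILetI false

namespace CfsgLib.MaxSub

attribute [-simp] RingEquiv.coe_refl

open Matrix Cfsg.Geo CfsgLib.Aschbacher CfsgLib.AschbacherForms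
open CfsgLib.Transpositions.SUThreeTwo (addT mulT hermT mulM oneM codeM exists_coords)
open CfsgLib.MaxSub.ThreeTables
open scoped Kronecker commutatorElement

variable {ι : Type} [Fintype ι] [DecidableEq ι] {F : Type*} [Field F] [Fintype F]

/-- Kronecker products cancel a non-zero factor. -/
theorem kronecker_left_cancel {a b : Type} {A A' : Matrix a a F} {B : Matrix b b F} {i j : b}
    (hB : B i j ≠ 0) (h : A ⊗ₖ B = A' ⊗ₖ B) : A = A' :=
  Matrix.ext fun x y => mul_right_cancel₀ hB (congrFun (congrFun h (x, i)) (y, j))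

/-- Kronecker products cancel a non-zero factor. -/
theorem kronecker_right_cancel {a b : Type} {A : Matrix a a F} {B B' : Matrix b b F} {i j : a}
    (hA : A i j ≠ 0) (h : A ⊗ₖ B = A ⊗ₖ B') : B = B' :=
  Matrix.ext fun x y => mul_left_cancel₀ hA (congrFun (congrFun h (i, x)) (j, y))

set_option maxHeartbeats 2000000 in
/-- A group of similitudes of a tensor square of unitary three-spaces over four elements normalises a
symplectic type group. -/
theorem exists_nine_socle [Nonempty ι] (hF : Fintype.card F = 4) {σ : F ≃+* F}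
    (hσ : ∀ x, σ x = x ^ 2) {f : (ι → F) → (ι → F) → F} {e : ι ≃ Fin 3 × Fin 3} {P : GL ι F} {c : F}
    (hc : c ≠ 0) (hform : ∀ x y : Fin 3 × Fin 3 → F, f (mat P *ᵥ (x ∘ e)) (mat P *ᵥ (y ∘ e)) =
      c * (x ⬝ᵥ fun i => σ (y i)))
    {H : Subgroup (GL ι F)} (hle : H ≤ tensorProductSubgroup 3 3 e P) (hsim : H ≤ similarityGroup f) :
    ∃ R : Subgroup (GL ι F), IsSymplecticTypeGroup 3 R ∧ ActsAbsolutelyIrreducibly (matrixSet R) ∧
      R ≤ similarityGroup f ∧ IsMinimalFieldFor (Nat.card (Subgroup.center R)) 2 2 F ∧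
      Nat.card (Subgroup.center R) = 3 ∧ Nat.card R = 3 ^ (1 + 2 * 2) ∧ ⁅R, R⁆ ≤ scalars ι F ∧
      H ≤ subgroupNormalizer R := by
  classical
  obtain ⟨φ, hφ, h0, h1, hadd, hmul⟩ := exists_coords F hF
  let L : (Fin 3 → Fin 3 → Fin 4) → Matrix (Fin 3) (Fin 3) F := fun A => Matrix.of fun i j => φ (A i j)
  let ψ : F → Fin 4 := Function.surjInv hφ.2
  have hψ : ∀ x, φ (ψ x) = x := Function.surjInv_eq hφ.2
  have Lext : ∀ {A B : Fin 3 → Fin 3 → Fin 4}, (∀ i j, A i j = B i j) → L A = L B := fun h =>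
    Matrix.ext fun i j => congrArg φ (h i j)
  have Lmul : ∀ A B, L A * L B = L (mulM A B) := fun A B => by
    ext i j; simp [L, Matrix.mul_apply, Fin.sum_univ_three, mulM, hadd, hmul]
  have Lone : L oneM = 1 := by
    ext i j; fin_cases i <;> fin_cases j <;> simp [L, oneM, h0, h1]
  have Lsmul : ∀ (l : Fin 4) A, L (fun i j => mulT l (A i j)) = φ l • L A := fun l A => by
    ext i j; simp [L, hmul]
  have Lstar : ∀ A, L (starM A) = (L A)ᵀ.map σ := fun A => by
    ext i j; simp [L, starM, hmul, hσ, sq]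
  have hinvσ : ∀ x, σ (σ x) = x := fun x => by
    rw [hσ, hσ, ← pow_mul, show 2 * 2 = Fintype.card F from hF.symm ▸ rfl, FiniteField.pow_card]
  have h2 : (2 : F) = 0 := by
    have : CharP F 2 := charP_of_card_eq_prime_pow (f := 2) (p := 2) (by rw [hF]; norm_num)
    exact CharTwo.two_eq_zero
  have hneg : ∀ x : F, -x = x := fun x => by linear_combination (-x) * h2
  have hφ0 : ∀ x : Fin 4, x ≠ 0 → φ x ≠ 0 := fun x hx h => hx (hφ.1 (h.trans h0.symm))
  -- unitary matrices
  have hflip : ∀ X : Matrix (Fin 3) (Fin 3) F, Xᵀ.map σ * X = 1 → Xᵀ * X.map σ = 1 := fun X hX => by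
    have h := congrArg (fun M : Matrix (Fin 3) (Fin 3) F => M.map σ) hX
    simp only [Matrix.map_mul, Matrix.map_map, Matrix.map_one σ (map_zero σ) (map_one σ)] at h
    rwa [show (σ ∘ σ : F → F) = id from funext hinvσ, Matrix.map_id] at h
  have codeUnit : ∀ p, (L (codeM p))ᵀ * (L (codeM p)).map σ = 1 := fun p => hflip _ (by
    rw [← Lstar, Lmul, Lext (code_star p), Lone])
  have cubeMem : ∀ X : Matrix (Fin 3) (Fin 3) F, Xᵀ * X.map σ = 1 → X.det = 1 → X * (X * X) = 1 →
      ∃ p, X = L (codeM p) := by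
    intro X hX hd hX3
    let A : Fin 3 → Fin 3 → Fin 4 := fun i j => ψ (X i j)
    have hA : L A = X := Matrix.ext fun i j => hψ _
    let col : Fin 3 → Fin 4 × Fin 4 × Fin 4 := fun j => (A 0 j, A 1 j, A 2 j)
    have hcols : ∀ i j, colsM (col 0) (col 1) (col 2) i j = A i j := fun i j => by
      fin_cases i <;> fin_cases j <;> rfl
    have hherm : ∀ j k, φ (hermT (vec3 (col j)) (vec3 (col k))) = (Xᵀ * X.map σ) j k := fun j k => by
      simp [hermT, hadd, hmul, vec3, col, A, hψ, Matrix.mul_apply, Fin.sum_univ_three, hσ, sq]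
    rw [hX] at hherm
    obtain ⟨p, hp⟩ := cube_code (col 0) (hφ.1 (by rw [hherm, h1]; rfl)) (col 1)
      (hφ.1 (by rw [hherm, h1]; rfl)) (hφ.1 (by rw [hherm, h0]; rfl)) (col 2)
      (hφ.1 (by rw [hherm, h1]; rfl)) (hφ.1 (by rw [hherm, h0]; rfl)) (hφ.1 (by rw [hherm, h0]; rfl))
      (hφ.1 (by
        rw [h1, ← hd, Matrix.det_fin_three, ← hA]
        simp only [detT, hadd, hmul, hcols, L, Matrix.of_apply, sub_eq_add_neg, hneg]
        ring))
      (fun i j => hφ.1 (by
        have : L (mulM (colsM (col 0) (col 1) (col 2))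
            (mulM (colsM (col 0) (col 1) (col 2)) (colsM (col 0) (col 1) (col 2)))) = L oneM := by
          rw [← Lmul, ← Lmul, Lext hcols, hA, hX3, Lone]
        exact congrFun (congrFun this i) j))
    exact ⟨p, hA ▸ Lext fun i j => (hcols i j).symm.trans (hp i j)⟩
  have codeDet : ∀ p, (L (codeM p)).det = 1 := fun p => by
    rw [← h1, ← code_det p, Matrix.det_fin_three]
    simp only [detT, hadd, hmul, L, Matrix.of_apply, sub_eq_add_neg, hneg]
    ring
  have codeCube : ∀ p, L (codeM p) * (L (codeM p) * L (codeM p)) = 1 := fun p => by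
    rw [Lmul, Lmul, Lext (code_cube p), Lone]
  -- tensor elements
  let T : Matrix (Fin 3) (Fin 3) F → Matrix (Fin 3) (Fin 3) F → Matrix ι ι F := fun A B =>
    tensorEquiv e P (A ⊗ₖ B)
  have Tmul : ∀ A B A' B', T A B * T A' B' = T (A * A') (B * B') := fun A B A' B' => by
    simp only [T, ← map_mul, Matrix.mul_kronecker_mul]
  have Tone : T 1 1 = 1 := by simp only [T, Matrix.one_kronecker_one, map_one]
  let R : Subgroup (GL ι F) :=
    { carrier := {x | ∃ p q, mat x = T (L (codeM p)) (L (codeM q))}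
      mul_mem' := fun {x y} ⟨p, q, hx⟩ ⟨p', q', hy⟩ => by
        obtain ⟨r, hr⟩ := code_mul p p'
        obtain ⟨r', hr'⟩ := code_mul q q'
        refine ⟨r, r', ?_⟩
        rw [show mat (x * y) = mat x * mat y from Units.val_mul _ _, hx, hy, Tmul, Lmul, Lmul, Lext hr,
          Lext hr']
      one_mem' := ⟨(0, 0, 0), (0, 0, 0), by
        rw [Lext code_one, Lone, Tone]; exact Units.val_one⟩
      inv_mem' := fun {x} ⟨p, q, hx⟩ => by
        obtain ⟨r, hr⟩ := code_star_mem p
        obtain ⟨r', hr'⟩ := code_star_mem q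
        refine ⟨r, r', ?_⟩
        have h : T (L (codeM r)) (L (codeM r')) * mat x = 1 := by
          rw [hx, Tmul, ← Lext hr, ← Lext hr', Lmul, Lmul, Lext (code_star p), Lext (code_star q), Lone,
            Tone]
        calc mat x⁻¹ = T (L (codeM r)) (L (codeM r')) * mat x * mat x⁻¹ := by rw [h, one_mul]
          _ = _ := by rw [mul_assoc, mat_mul_inv, mul_one] }
  have memR : ∀ p q, ∃ x ∈ R, mat x = T (L (codeM p)) (L (codeM q)) := by
    intro p q
    have hu : IsUnit (T (L (codeM p)) (L (codeM q))) := IsUnit.of_mul_eq_one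
      (T (L (codeM p) * L (codeM p)) (L (codeM q) * L (codeM q)))
      (by rw [Tmul, codeCube, codeCube, Tone])
    exact ⟨hu.unit, ⟨p, q, rfl⟩, rfl⟩
  -- isometries among the tensors
  have hcoordT : ∀ A B x, T A B *ᵥ coords e P x = coords e P ((A ⊗ₖ B) *ᵥ x) := fun A B x =>
    tensorEquiv_mulVec e P _ x
  have hf' : ∀ x y, f (coords e P x) (coords e P y) = c * formOf σ 1 x y := fun x y => by
    rw [coords_apply, coords_apply, hform, formOf, one_mulVec]
  have hiso : ∀ A B : Matrix (Fin 3) (Fin 3) F, ∀ x y,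
      f (T A B *ᵥ coords e P x) (T A B *ᵥ coords e P y) =
        c * formOf σ ((Aᵀ * A.map σ) ⊗ₖ (Bᵀ * B.map σ)) x y := fun A B x y => by
    rw [hcoordT, hcoordT, hf', formOf_mulVec, mul_one, ← Matrix.kroneckerMap_transpose,
      show (A ⊗ₖ B).map σ = A.map σ ⊗ₖ B.map σ from Matrix.ext fun _ _ => map_mul σ _ _,
      ← Matrix.mul_kronecker_mul]
  have hRsim : R ≤ similarityGroup f := by
    rintro x ⟨p, q, hx⟩
    refine ⟨1, fun u v => ?_⟩
    obtain ⟨u, rfl⟩ := (coords e P).surjective u
    obtain ⟨v, rfl⟩ := (coords e P).surjective v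
    rw [show (x : Matrix ι ι F) = mat x from rfl, hx, hiso, codeUnit, codeUnit, Matrix.one_kronecker_one,
      hf', Units.val_one, one_mul]
  let G : Subgroup (GL ι F) := tensorProductSubgroup 3 3 e P ⊓ similarityGroup f
  have hfactor : ∀ g ∈ G, ∃ a b : GL (Fin 3) F, mat g = T (mat a) (mat b) ∧
      (mat a)ᵀ * (mat a).map σ = 1 ∧ (mat b)ᵀ * (mat b).map σ = 1 := by
    intro g hg
    obtain ⟨a, b, hab⟩ := exists_of_mem_tensorProductSubgroup hg.1
    obtain ⟨ν, hν⟩ := hg.2
    set X := (mat a)ᵀ * (mat a).map σ with hX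
    set Y := (mat b)ᵀ * (mat b).map σ with hY
    have hXY : ∀ u v, formOf σ (X ⊗ₖ Y) u v = formOf σ ((ν : F) • 1) u v := fun u v => by
      refine mul_left_cancel₀ hc ?_
      rw [hX, hY, ← hiso, show T (mat a) (mat b) = mat g from hab.symm]
      refine (hν _ _).trans ?_
      rw [hf', formOf, formOf, Matrix.smul_mulVec, dotProduct_smul, smul_eq_mul]
      ring
    have hm : X ⊗ₖ Y = (ν : F) • 1 := by
      have := congrArg gramMatrix (funext fun u => funext fun v => hXY u v)
      rwa [gramMatrix_formOf, gramMatrix_formOf] at this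
    have hent : ∀ i i' j j', X i i' * Y j j' =
        (ν : F) * ((1 : Matrix (Fin 3 × Fin 3) (Fin 3 × Fin 3) F) (i, j) (i', j')) := fun i i' j j' =>
      congrFun (congrFun hm (i, j)) (i', j')
    have hscal : ∀ (M : Matrix (Fin 3) (Fin 3) F) (l : F), M = l • 1 → Mᵀ.map σ = M → l ≠ 0 → l = 1 := by
      intro M l hM hh hl
      have h := congrFun (congrFun hh 0) 0
      rw [hM] at h
      have h' : σ l = l := by simpa using h
      rw [hσ, sq] at h'
      exact (mul_eq_left₀ hl).1 h'
    have hherm : ∀ M : Matrix (Fin 3) (Fin 3) F, (Mᵀ * M.map σ)ᵀ.map σ = Mᵀ * M.map σ := fun M => by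
      ext i j
      simp only [Matrix.map_apply, Matrix.transpose_apply, Matrix.mul_apply, map_sum, map_mul, hinvσ]
      exact Finset.sum_congr rfl fun r _ => mul_comm _ _
    have hX00 : X 0 0 * Y 0 0 = ν := by simpa using hent 0 0 0 0
    have hY0 : Y 0 0 ≠ 0 := right_ne_zero_of_mul (hX00 ▸ ν.ne_zero)
    have hX0 : X 0 0 ≠ 0 := left_ne_zero_of_mul (hX00 ▸ ν.ne_zero)
    refine ⟨a, b, hab, ?_, ?_⟩
    · have hXl : X = ((ν : F) / Y 0 0) • 1 := by
        ext i i'
        have h := hent i i' 0 0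
        rw [Matrix.smul_apply, smul_eq_mul]
        by_cases hii : i = i'
        · subst hii
          rw [Matrix.one_apply_eq] at h ⊢
          rw [mul_one] at h ⊢
          rw [eq_div_iff hY0, h]
        · rw [Matrix.one_apply_ne (by simp [hii]), mul_zero] at h
          rw [Matrix.one_apply_ne hii, mul_zero]
          exact (mul_eq_zero.1 h).resolve_right hY0
      show X = 1
      rw [hXl, hscal X _ hXl (hherm _) (div_ne_zero ν.ne_zero hY0), one_smul]
    · have hYl : Y = ((ν : F) / X 0 0) • 1 := by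
        ext j j'
        have h := hent 0 0 j j'
        rw [Matrix.smul_apply, smul_eq_mul]
        by_cases hii : j = j'
        · subst hii
          rw [Matrix.one_apply_eq] at h ⊢
          rw [mul_one] at h ⊢
          rw [eq_div_iff hX0, mul_comm, h]
        · rw [Matrix.one_apply_ne (by simp [hii]), mul_zero] at h
          rw [Matrix.one_apply_ne hii, mul_zero]
          exact (mul_eq_zero.1 h).resolve_left hX0
      show Y = 1
      rw [hYl, hscal Y _ hYl (hherm _) (div_ne_zero ν.ne_zero hX0), one_smul]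
  have conjCode : ∀ (a : GL (Fin 3) F), (mat a)ᵀ * (mat a).map σ = 1 → ∀ p,
      ∃ r, mat a * L (codeM p) * mat a⁻¹ = L (codeM r) := by
    intro a ha p
    have hainv : (mat a⁻¹)ᵀ * (mat a⁻¹).map σ = 1 := by
      calc (mat a⁻¹)ᵀ * (mat a⁻¹).map σ = (mat a⁻¹)ᵀ * ((mat a)ᵀ * (mat a).map σ) * (mat a⁻¹).map σ := by
            rw [ha, mul_one]
        _ = (mat a * mat a⁻¹)ᵀ * (mat a * mat a⁻¹).map σ := by
            rw [Matrix.transpose_mul, Matrix.map_mul]; simp only [mul_assoc]
        _ = 1 := by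
            rw [mat_mul_inv, Matrix.transpose_one, Matrix.map_one σ (map_zero σ) (map_one σ), one_mul]
    refine cubeMem _ ?_ ?_ ?_
    · calc _ = (mat a⁻¹)ᵀ * ((L (codeM p))ᵀ * ((mat a)ᵀ * (mat a).map σ) * (L (codeM p)).map σ) *
            (mat a⁻¹).map σ := by
            rw [Matrix.transpose_mul, Matrix.transpose_mul, Matrix.map_mul, Matrix.map_mul]
            simp only [mul_assoc]
        _ = 1 := by rw [ha, mul_one, codeUnit, mul_one, hainv]
    · rw [Matrix.det_mul, Matrix.det_mul, codeDet, mul_one, ← Matrix.det_mul, mat_mul_inv, Matrix.det_one]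
    · have : ∀ A : Matrix (Fin 3) (Fin 3) F, mat a⁻¹ * (mat a * A) = A := fun A => by
        rw [← mul_assoc, mat_inv_mul, one_mul]
      simp only [mul_assoc, this]
      rw [← mul_assoc (L (codeM p)) (L (codeM p)) (mat a⁻¹), ← mul_assoc (L (codeM p)), codeCube, one_mul,
        mat_mul_inv]
  have hnorm : Normalizes G R := by
    rintro g hg x ⟨p, q, hx⟩
    obtain ⟨a, b, hg', ha, hb⟩ := hfactor g hg
    obtain ⟨r, hr⟩ := conjCode a ha p
    obtain ⟨r', hr'⟩ := conjCode b hb q
    have hinv : mat g⁻¹ = T (mat a⁻¹) (mat b⁻¹) := by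
      calc mat g⁻¹ = mat g⁻¹ * (mat g * T (mat a⁻¹) (mat b⁻¹)) := by
            rw [hg', Tmul, mat_mul_inv, mat_mul_inv, Tone, mul_one]
        _ = _ := by rw [← mul_assoc, mat_inv_mul, one_mul]
    refine ⟨r, r', ?_⟩
    rw [show mat (g * x * g⁻¹) = mat g * mat x * mat g⁻¹ by simp [mat], hg', hx, hinv, Tmul, Tmul, hr, hr']
  -- spanning
  have hspanR : Submodule.span F (matrixSet R) = ⊤ := by
    have hS : ∀ a b a' b', T (L (unitM a b)) (L (unitM a' b')) ∈ Submodule.span F (matrixSet R) := by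
      intro a b a' b'
      obtain ⟨l₀, l₁, l₂, u, hu⟩ := code_span a b
      obtain ⟨m₀, m₁, m₂, w, hw⟩ := code_span a' b'
      have hc' : ∀ (k₀ k₁ k₂ : Fin 4) A B C,
          L (comb k₀ k₁ k₂ A B C) = φ k₀ • L A + φ k₁ • L B + φ k₂ • L C := fun k₀ k₁ k₂ A B C => by
        ext i j; simp [L, comb, hadd, hmul]
      rw [Lext hu, Lext hw, hc', hc']
      simp only [T, Matrix.add_kronecker, Matrix.kronecker_add, Matrix.smul_kronecker,
        Matrix.kronecker_smul, map_add, map_smul]
      have hm : ∀ p q, tensorEquiv e P (L (codeM p) ⊗ₖ L (codeM q)) ∈ Submodule.span F (matrixSet R) :=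
        fun p q => by
          obtain ⟨x, hx, hx'⟩ := memR p q
          have e1 : T (L (codeM p)) (L (codeM q)) = mat x := hx'.symm
          simp only [T] at e1
          rw [e1]
          exact Submodule.subset_span (mem_matrixSet hx)
      repeat' first
        | apply Submodule.add_mem
        | apply Submodule.smul_mem
        | apply hm
    rw [eq_top_iff]
    rintro M -
    obtain ⟨X, rfl⟩ := (tensorEquiv e P).surjective M
    rw [Matrix.matrix_eq_sum_single X, map_sum]
    refine Submodule.sum_mem _ fun i _ => ?_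
    rw [map_sum]
    refine Submodule.sum_mem _ fun j _ => ?_
    have hij : Matrix.single i j (X i j) =
        X i j • ((L (unitM i.1 j.1)) ⊗ₖ (L (unitM i.2 j.2))) := by
      obtain ⟨a, a'⟩ := i
      obtain ⟨b, b'⟩ := j
      ext ⟨x, x'⟩ ⟨y, y'⟩
      by_cases hA : x = a <;> by_cases hB : x' = a' <;> by_cases hC : y = b <;> by_cases hD : y' = b' <;>
        simp [L, unitM, hA, hB, hC, hD, h0, h1, Matrix.single, Ne.symm, eq_comm]
    rw [hij, map_smul]
    exact Submodule.smul_mem _ _ (hS _ _ _ _)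
  have habs : ActsAbsolutelyIrreducibly (matrixSet R) := by
    refine ⟨actsIrreducibly_iff.2 fun W hW => ?_, fun M hM => ?_⟩
    · by_contra hW'
      push Not at hW'
      obtain ⟨w, hw, hw0⟩ := (Submodule.ne_bot_iff W).1 hW'.1
      refine hW'.2 (eq_top_iff.2 ?_)
      rintro v -
      obtain ⟨A, rfl⟩ : ∃ A : Matrix ι ι F, A *ᵥ w = v := by
        obtain ⟨i, hi⟩ := Function.ne_iff.1 hw0
        refine ⟨Matrix.vecMulVec v (Pi.single i (w i)⁻¹), ?_⟩
        rw [Matrix.vecMulVec_mulVec, single_dotProduct, inv_mul_cancel₀ hi]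
        simp
      have hA : A ∈ Submodule.span F (matrixSet R) := hspanR ▸ Submodule.mem_top
      induction hA using Submodule.span_induction with
      | mem A hA =>
        obtain ⟨x, hx, rfl⟩ := hA
        exact mem_subspaceStabilizer_iff.1 (hW hx) w hw
      | zero => simp
      | add A B _ _ hA hB => rw [add_mulVec]; exact W.add_mem hA hB
      | smul l A _ hA => rw [smul_mulVec]; exact W.smul_mem l hA
    · have hall : ∀ A : Matrix ι ι F, M * A = A * M := fun A => by
        have hA : A ∈ Submodule.span F (matrixSet R) := hspanR ▸ Submodule.mem_top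
        induction hA using Submodule.span_induction with
        | mem A hA => exact hM A hA
        | zero => simp
        | add A B _ _ hA hB => rw [mul_add, add_mul, hA, hB]
        | smul l A _ hA => rw [Matrix.mul_smul, Matrix.smul_mul, hA]
      obtain ⟨l, hl⟩ := Matrix.mem_range_scalar_of_commute_single (M := M) fun i j _ =>
        (Commute.symm (hall (Matrix.single i j 1)) : Commute (Matrix.single i j 1) M)
      exact ⟨l, by rw [← hl, Matrix.scalar_apply, Matrix.smul_one_eq_diagonal]⟩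
  -- scalars
  have hroot : ∀ u : Fˣ, u ^ 3 = 1 := fun u => Units.ext (by
    have h := FiniteField.pow_card_sub_one_eq_one (u : F) u.ne_zero
    rw [hF] at h
    simpa using h)
  have hscal : scalars ι F ≤ R := by
    intro x hx
    obtain ⟨l, rfl⟩ := exists_scHom hx
    obtain ⟨s, hs⟩ : ∃ s : Fin 3, ![1, 3, 2] s = ψ (l : F) := by
      have key : ∀ y : Fin 4, y ≠ 0 → ∃ s : Fin 3, ![1, 3, 2] s = y := by decide
      exact key _ fun h => l.ne_zero (by rw [← hψ (l : F), h, h0])
    refine ⟨(0, 0, s), (0, 0, 0), ?_⟩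
    rw [Lext (code_central (0, 0, s) ⟨rfl, rfl⟩), Lsmul, hs, hψ, Lext code_one, Lone]
    simp only [T, Matrix.smul_kronecker, Matrix.one_kronecker_one, map_smul, map_one, mat_scHom]
  have hcube : ∀ x ∈ R, x ^ 3 = 1 := by
    rintro x ⟨p, q, hx⟩
    refine Units.ext ?_
    rw [pow_succ', sq, Units.val_mul, Units.val_mul, Units.val_one]
    show mat x * (mat x * mat x) = 1
    rw [hx, Tmul, Tmul, codeCube, codeCube, Tone]
  -- socle data
  have hS : SocleData G R 3 := by
    refine ⟨Nat.prime_three, hscal, hnorm, habs, ?_, fun x hx => ?_, ?_⟩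
    · rintro x hx y hy
      obtain ⟨p, q, hx⟩ := hx
      obtain ⟨p', q', hy⟩ := hy
      obtain ⟨s, hs⟩ := code_comm p p'
      obtain ⟨s', hs'⟩ := code_comm q q'
      set κ := φ (![1, 3, 2] s) * φ (![1, 3, 2] s') with hκ
      have hs0 : ∀ t : Fin 3, (![1, 3, 2] t : Fin 4) ≠ 0 := by decide
      have hxy : x * y = scHom ι F (Units.mk0 κ (mul_ne_zero (hφ0 _ (hs0 s)) (hφ0 _ (hs0 s')))) * (y * x) := by
        refine Units.ext ?_
        show mat (x * y) = mat (scHom ι F _ * (y * x))
        simp only [mat, Units.val_mul]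
        rw [show (x : Matrix ι ι F) = mat x from rfl, show (y : Matrix ι ι F) = mat y from rfl, hx, hy,
          Tmul, Tmul, Lmul, Lmul, Lmul, Lmul, Lext hs, Lext hs', Lsmul, Lsmul]
        rw [show ((scHom ι F _ : GL ι F) : Matrix ι ι F) = _ from mat_scHom _, Matrix.smul_mul, one_mul,
          Units.val_mk0]
        simp only [T, Matrix.smul_kronecker, Matrix.kronecker_smul, map_smul, smul_smul, hκ]
        rw [mul_comm]
      rw [hxy]
      simp only [mul_assoc, mul_inv_cancel_left, mul_inv_cancel, mul_one]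
      exact scHom_mem _
    · rw [hcube x hx]; exact one_mem _
    · intro M hM hMn hMc x hx
      obtain ⟨p, q, hpq⟩ := hM hx
      have hmove : ∀ (g : GL ι F), g ∈ G → g * x * g⁻¹ * x = x * (g * x * g⁻¹) := fun g hg =>
        hMc _ (hMn g hg x hx) _ hx
      have hgen : ∀ b : Bool, ∃ u : GL (Fin 3) F, mat u = L (cond b reflM fourM) ∧
          mat u⁻¹ = L (starM (cond b reflM fourM)) ∧ (mat u)ᵀ * (mat u).map σ = 1 := fun b => by
        have h : L (starM (cond b reflM fourM)) * L (cond b reflM fourM) = 1 := by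
          rw [Lmul, Lext (refl_star b), Lone]
        refine ⟨⟨_, _, mul_eq_one_comm.1 h, h⟩, rfl, rfl, hflip _ ?_⟩
        show (L (cond b reflM fourM))ᵀ.map σ * L (cond b reflM fourM) = 1
        rw [← Lstar]; exact h
      have hmemG : ∀ (u v : GL (Fin 3) F), (mat u)ᵀ * (mat u).map σ = 1 → (mat v)ᵀ * (mat v).map σ = 1 →
          ∃ g ∈ G, mat g = T (mat u) (mat v) ∧ mat g⁻¹ = T (mat u⁻¹) (mat v⁻¹) := by
        intro u v hu hv
        let g : GL ι F := ⟨T (mat u) (mat v), T (mat u⁻¹) (mat v⁻¹),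
          by rw [Tmul, mat_mul_inv, mat_mul_inv, Tone], by rw [Tmul, mat_inv_mul, mat_inv_mul, Tone]⟩
        refine ⟨g, ⟨mem_tensorProductSubgroup_of u.isUnit v.isUnit rfl, ⟨1, fun x y => ?_⟩⟩, rfl, rfl⟩
        obtain ⟨x, rfl⟩ := (coords e P).surjective x
        obtain ⟨y, rfl⟩ := (coords e P).surjective y
        show f (T (mat u) (mat v) *ᵥ _) (T (mat u) (mat v) *ᵥ _) = _
        rw [hiso, hu, hv, Matrix.one_kronecker_one, hf', Units.val_one, one_mul]
      have hent : ∀ p : Fin 3 × Fin 3 × Fin 3, ∃ i j, L (codeM p) i j ≠ 0 := fun p => by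
        by_contra hall
        push Not at hall
        have h := codeDet p
        rw [Matrix.det_eq_zero_of_row_eq_zero 0 (hall 0)] at h
        exact zero_ne_one h
      have key : ∀ (r : Fin 3 × Fin 3 × Fin 3), (r.1 ≠ 0 ∨ r.2.1 ≠ 0) → ∃ u : GL (Fin 3) F,
          (mat u)ᵀ * (mat u).map σ = 1 ∧
          mat u * L (codeM r) * mat u⁻¹ * L (codeM r) ≠ L (codeM r) * (mat u * L (codeM r) * mat u⁻¹) := by
        intro r hr
        obtain ⟨b, i, j, hne⟩ := code_moved r hr
        obtain ⟨u, hu, hu', huu⟩ := hgen b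
        refine ⟨u, huu, fun h => hne (hφ.1 ?_)⟩
        rw [hu, hu', mul_assoc (L (cond b reflM fourM)), Lmul, Lmul, Lmul, Lmul] at h
        exact congrFun (congrFun h i) j
      have hcen : ∀ r : Fin 3 × Fin 3 × Fin 3, r.1 = 0 ∧ r.2.1 = 0 →
          ∃ l : Fˣ, L (codeM r) = (l : F) • 1 := fun r hr => by
        have hs0 : ∀ t : Fin 3, (![1, 3, 2] t : Fin 4) ≠ 0 := by decide
        exact ⟨Units.mk0 _ (hφ0 _ (hs0 r.2.2)), by rw [Lext (code_central r hr), Lsmul, Lone, Units.val_mk0]⟩
      have h1u : (mat (1 : GL (Fin 3) F))ᵀ * (mat (1 : GL (Fin 3) F)).map σ = 1 := by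
        rw [show mat (1 : GL (Fin 3) F) = 1 from Units.val_one, Matrix.transpose_one,
          Matrix.map_one σ (map_zero σ) (map_one σ), one_mul]
      have hone : mat (1 : GL (Fin 3) F) = 1 := Units.val_one
      have hp : p.1 = 0 ∧ p.2.1 = 0 := by
        by_contra hp
        obtain ⟨u, hu, hne⟩ := key p (by tauto)
        obtain ⟨g, hg, hg1, hg2⟩ := hmemG u 1 hu h1u
        have h := congrArg mat (hmove g hg)
        simp only [mat, Units.val_mul] at h
        rw [show (g : Matrix ι ι F) = mat g from rfl, show ((g⁻¹ : GL ι F) : Matrix ι ι F) = mat g⁻¹ from rfl,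
          show (x : Matrix ι ι F) = mat x from rfl, hg1, hg2, hpq, Tmul, Tmul, Tmul, Tmul, inv_one, hone,
          one_mul, mul_one] at h
        obtain ⟨i, j, hij⟩ := hent q
        obtain ⟨i', j', hij'⟩ : ∃ i j, (L (codeM q) * L (codeM q)) i j ≠ 0 := by
          obtain ⟨r, hr⟩ := code_mul q q
          rw [Lmul, Lext hr]; exact hent r
        exact hne (kronecker_left_cancel hij' ((tensorEquiv e P).injective h))
      have hq : q.1 = 0 ∧ q.2.1 = 0 := by
        by_contra hq
        obtain ⟨u, hu, hne⟩ := key q (by tauto)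
        obtain ⟨g, hg, hg1, hg2⟩ := hmemG 1 u h1u hu
        have h := congrArg mat (hmove g hg)
        simp only [mat, Units.val_mul] at h
        rw [show (g : Matrix ι ι F) = mat g from rfl, show ((g⁻¹ : GL ι F) : Matrix ι ι F) = mat g⁻¹ from rfl,
          show (x : Matrix ι ι F) = mat x from rfl, hg1, hg2, hpq, Tmul, Tmul, Tmul, Tmul, inv_one, hone,
          one_mul, mul_one] at h
        obtain ⟨i', j', hij'⟩ : ∃ i j, (L (codeM p) * L (codeM p)) i j ≠ 0 := by
          obtain ⟨r, hr⟩ := code_mul p p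
          rw [Lmul, Lext hr]; exact hent r
        exact hne (kronecker_right_cancel hij' ((tensorEquiv e P).injective h))
      obtain ⟨l, hl⟩ := hcen p hp
      obtain ⟨l', hl'⟩ := hcen q hq
      refine (mem_scalars_iff x).2 ⟨l * l', ?_⟩
      show mat x = _
      rw [hpq, hl, hl']
      simp only [T, Matrix.smul_kronecker, Matrix.kronecker_smul, Matrix.one_kronecker_one, map_smul,
        map_one, smul_smul]
      rw [mul_comm (l' : F), Units.val_mul]
  have hsec : SocleSection R R 3 := ⟨le_rfl, fun x hx => ⟨1, by rwa [map_one, one_mul]⟩,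
    fun l => ⟨fun _ => hroot l, fun _ => hscal (scHom_mem l)⟩⟩
  obtain ⟨ζ, hζ⟩ : ∃ ζ : Fˣ, IsPrimitiveRoot ζ 3 := by
    obtain ⟨g, hg⟩ := IsCyclic.exists_ofOrder_eq_natCard (α := Fˣ)
    rw [Nat.card_eq_fintype_card, Fintype.card_units, hF] at hg
    exact ⟨g, by rw [← show orderOf g = 3 from hg]; exact IsPrimitiveRoot.orderOf g⟩
  have hcard9 : Fintype.card ι = 9 := by rw [Fintype.card_congr e]; simp
  have hcen := hsec.center_card hS (by norm_num) hζ
  have hcard := hsec.card hS (by norm_num) hζ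
  rw [hcard9] at hcard
  refine ⟨R, ⟨Nat.prime_three, fun x => ⟨1, Subtype.ext (by simpa using hcube x.1 x.2)⟩,
    hsec.cyclic hS hnorm, ?_⟩, habs, hRsim, ?_, hcen, by rw [hcard]; norm_num,
    Subgroup.commutator_le.2 fun x hx y hy => by rw [commutatorElement_def]; exact hS.comm x hx y hy,
    fun g hg => mem_subgroupNormalizer_of (hnorm g ⟨hle hg, hsim hg⟩)⟩
  · have hd : Monoid.exponent R ∣ 3 := Monoid.exponent_dvd_of_forall_pow_eq_one fun x =>
      Subtype.ext (hcube x.1 x.2)
    rcases (Nat.dvd_prime Nat.prime_three).1 hd with h | h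
    · exfalso
      haveI := Monoid.exp_eq_one_iff.1 h
      rw [Nat.card_of_subsingleton (1 : R)] at hcard
      norm_num at hcard
    · rw [h]; rfl
  · rw [hcen]
    refine ⟨Nat.prime_two, charP_of_card_eq_prime_pow (f := 2) (by rw [hF]; norm_num), hF, by norm_num,
      fun d hd hd' => ?_⟩
    obtain rfl : d = 1 := by omega
    norm_num

end CfsgLib.MaxSub
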