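import Cfsg.Agent.MaxSub.UnitaryTensor
import Cfsg.Agent.MaxSub.SlotForms
import Cfsg.Agent.Forms.UnitaryOrder
import Cfsg.Agent.Characters.Burnside

/-!
# Tensor powers of a unitary form

The slot form can be made hermitian; binary slots also fix a bilinear form up to scalars, and in dimension three
over four elements there is no perfect group of isometries.
-/

set_option autoImplicit false
set_option linter.unusedSectionVars false
set_option linter.style.haveILetI false

namespace CfsgLib.MaxSub

attribute [-simp] RingEquiv.coe_refl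

open Matrix Cfsg.Geo CfsgLib.TensorNonmax CfsgLib.Aschbacher CfsgLib.AschbacherForms
  CfsgLib.AschbacherUnitary
open scoped commutatorElement

variable {ι : Type} [Fintype ι] [DecidableEq ι] {F : Type*} [Field F] [Fintype F] {σ : F ≃+* F}
variable {f : (ι → F) → (ι → F) → F} {H : Subgroup (GL ι F)} {d t : ℕ}

/-- The slot form may be taken hermitian. -/
theorem exists_hermitian_slot (hne : σ ≠ RingEquiv.refl F) (hinv : ∀ a, σ (σ a) = a)
    {e : ι ≃ (Fin t → Fin d)} {P : GL ι F} {B : (Fin d → F) → (Fin d → F) → F}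
    (hB : IsSlotPower σ f H e P B) :
    ∃ B' : (Fin d → F) → (Fin d → F) → F, IsSlotPower σ f H e P B' ∧ IsUnitaryForm σ B' := by
  obtain ⟨a, ha, har⟩ := hB.refl
  have h1 : σ a * σ (σ a) = 1 := by rw [hinv, mul_comm, ha]
  obtain ⟨w, hw0, hw⟩ := exists_hilbert90 hne hinv h1
  have hσw : σ w = a * w := by linear_combination (-σ w) * ha + a * hw
  refine ⟨fun x y => w * B x y, hB.scale hinv hw0, hne, hinv, fun x y v => ?_, fun l x v => ?_,
    fun u v => ?_, (hB.scale hinv hw0).nondegenerate⟩
  · simp only [hB.sesq.add_left, mul_add]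
  · simp only [hB.sesq.smul_left]; ring
  · show w * B u v = σ (w * B v u)
    rw [map_mul, hσw, har v u]
    ring

/-- The Gram matrix of a hermitian form is invertible and hermitian. -/
theorem gram_hermitian {B : (Fin d → F) → (Fin d → F) → F} (hB : IsUnitaryForm σ B) :
    IsUnit (gramMatrix B) ∧ (gramMatrix B)ᵀ.map σ = gramMatrix B :=
  ⟨gram_isUnit (isSesq_of_unitary hB) hB.nondegenerate,
    Matrix.ext fun _ _ => (hB.herm _ _).symm⟩

/-- No perfect isometry group of a hermitian form in dimension three over four elements. -/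
theorem perfect_unitary_three_two (h : AschbacherUnitary.IsConj 2 σ) (hF : Fintype.card F = 4)
    {B : (Fin 3 → F) → (Fin 3 → F) → F} (hB : IsUnitaryForm σ B) {G : Subgroup (GL (Fin 3) F)}
    (hG : ⁅G, G⁆ = G) (hiso : ∀ x ∈ G, ∀ u v, B (mat x *ᵥ u) (mat x *ᵥ v) = B u v) : G = ⊥ := by
  classical
  obtain ⟨hSu, hSh⟩ := gram_hermitian hB
  obtain ⟨A, hA⟩ := exists_congr_one h.ne_refl h.involutive hSu hSh
  have hmem : ∀ x ∈ G, MulAut.conj A⁻¹ x ∈ Cfsg.GU 3 F 2 := by
    intro x hx
    rw [h.mem_GU_iff]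
    have hg := (isSesq_of_unitary hB).gram_of_eq (c := (1 : F)) (g := mat x)
      (fun u v => by rw [one_mul]; exact hiso x hx u v)
    rw [one_smul] at hg
    have e : mat A * mat (MulAut.conj A⁻¹ x) = mat x * mat A := by
      simp [mat, MulAut.conj_apply, ← mul_assoc]
    calc (mat (MulAut.conj A⁻¹ x))ᵀ * (mat (MulAut.conj A⁻¹ x)).map σ
        = (mat (MulAut.conj A⁻¹ x))ᵀ * ((mat A)ᵀ * gramMatrix B * (mat A).map σ) *
            (mat (MulAut.conj A⁻¹ x)).map σ := by rw [hA, mul_one]
      _ = (mat A * mat (MulAut.conj A⁻¹ x))ᵀ * gramMatrix B *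
            (mat A * mat (MulAut.conj A⁻¹ x)).map σ := by
            rw [Matrix.transpose_mul, Matrix.map_mul]; simp only [mul_assoc]
      _ = (mat A)ᵀ * ((mat x)ᵀ * gramMatrix B * (mat x).map σ) * (mat A).map σ := by
            rw [e, Matrix.transpose_mul, Matrix.map_mul]; simp only [mul_assoc]
      _ = 1 := by rw [hg, hA]
  haveI : Group.IsSolvable (Cfsg.GU 3 F 2) := by
    refine CfsgLib.Characters.isSolvable_of_card_eq_primePow_mul 2 3 3 4 Nat.prime_two Nat.prime_three ?_
    rw [CfsgLib.Forms.card_GU (by rw [hF]; norm_num) 3]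
    decide
  let φ : G →* Cfsg.GU 3 F 2 :=
    { toFun := fun x => ⟨MulAut.conj A⁻¹ x.1, hmem x.1 x.2⟩
      map_one' := Subtype.ext (map_one _)
      map_mul' := fun x y => Subtype.ext (map_mul _ _ _) }
  have hφ : Function.Injective φ := fun x y hxy =>
    Subtype.ext ((MulAut.conj A⁻¹).injective (congrArg Subtype.val hxy))
  haveI : Group.IsSolvable G := Group.isSolvable_of_isSolvable_injective hφ
  by_contra hne
  haveI : Nontrivial G := (Subgroup.nontrivial_iff_ne_bot G).2 hne
  have htop : commutator G = ⊤ := Subgroup.map_injective G.subtype_injective (by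
    rw [Subgroup.map_subtype_commutator, hG, ← MonoidHom.range_eq_map, Subgroup.range_subtype])
  exact (Group.IsSolvable.commutator_lt_top_of_nontrivial G).ne htop

/-- A tensor power of a binary hermitian form comes with a bilinear form fixed up to scalars. -/
theorem exists_bilinear_power (hne : σ ≠ RingEquiv.refl F) (hinv : ∀ a, σ (σ a) = a) (ht : 2 ≤ t)
    (hf : IsReflexive σ 1 f) {e : ι ≃ (Fin t → Fin 2)} {P : GL ι F}
    {B : (Fin 2 → F) → (Fin 2 → F) → F} (hB : IsSlotPower σ f H e P B) (hBu : IsUnitaryForm σ B) :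
    ∃ (b : (ι → F) → (ι → F) → F) (J : (ι → F) → (ι → F)), IsBilinearForm b ∧ IsNondegenerateForm b ∧
      (∀ u v, b v u = (-1) ^ t * b u v) ∧ ((2 : F) = 0 → ∀ v, b v v = 0) ∧ H ≤ similarityGroup b ∧
      IsCompare σ f b J ∧ ∀ v, J (J v) = ((-1 : F) ^ t) • v := by
  classical
  obtain ⟨hSu, hSh⟩ := gram_hermitian hBu
  obtain ⟨A, hA⟩ := exists_congr_one hne hinv hSu hSh
  obtain ⟨P', hP'⟩ := exists_retwist e P (fun _ => A)
  obtain ⟨c, hc, hform⟩ := hB.form
  have hform' : ∀ xs ys, f (ptmul e P' xs) (ptmul e P' ys) =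
      c * ∏ i, formOf σ (1 : Matrix (Fin 2) (Fin 2) F) (xs i) (ys i) := fun xs ys => by
    rw [hP', hP', hform]
    congr 1
    refine Finset.prod_congr rfl fun i _ => ?_
    rw [hB.sesq.gram_eq]
    show formOf σ (gramMatrix B) (mat A *ᵥ xs i) (mat A *ᵥ ys i) = _
    rw [formOf_mulVec, hA]
  obtain ⟨c', hc', hflat⟩ := tensorPower_of_ptmul hf.sesq e P' ⟨c, hc, hform'⟩
  rw [gramMatrix_formOf] at hflat
  let C : ((Fin t → Fin 2) → F) ≃ₗ[F] (ι → F) :=
    LinearEquiv.ofBijective (cvec e P') ⟨cvec_injective e P', cvec_surjective e P'⟩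
  have hfC : ∀ x y, f (C x) (C y) = c' * (x ⬝ᵥ fun a => σ (y a)) := fun x y => by
    refine (hflat x y).trans ?_
    congr 1
    simp only [Matrix.one_apply, Fintype.prod_boole, ← funext_iff, dotProduct, mul_ite, mul_one, mul_zero,
      ite_mul, zero_mul, Finset.sum_ite_eq, Finset.mem_univ, if_true]
  set E : Matrix (Fin 2) (Fin 2) F := !![0, 1; -1, 0] with hE
  set M : Matrix (Fin t → Fin 2) (Fin t → Fin 2) F := Matrix.of fun a b => ∏ i, E (a i) (b i) with hMdef
  have hM : ∀ a b, M a b = ∏ i, E (a i) (b i) := fun a b => rfl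
  have hEE : ∀ i j, ∑ r, E i r * E r j = -((1 : Matrix (Fin 2) (Fin 2) F) i j) := fun i j => by
    fin_cases i <;> fin_cases j <;> simp [E, Fin.sum_univ_two]
  have hMM : M * M = ((-1 : F) ^ t) • 1 := by
    ext a b
    simp only [Matrix.mul_apply, hM, ← Finset.prod_mul_distrib]
    rw [← Fintype.prod_sum (fun i r => E (a i) r * E r (b i)), Matrix.smul_apply, smul_eq_mul]
    simp only [hEE, Finset.prod_neg, Matrix.one_apply, Fintype.prod_boole, Finset.card_univ,
      Fintype.card_fin, ← funext_iff]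
  have hEt : ∀ i j, E j i = -E i j := fun i j => by fin_cases i <;> fin_cases j <;> simp [E]
  have hMt : Mᵀ = ((-1 : F) ^ t) • M := by
    ext a b
    simp only [Matrix.transpose_apply, Matrix.smul_apply, smul_eq_mul, hM]
    rw [Finset.prod_congr rfl fun i _ => hEt (a i) (b i), Finset.prod_neg, Finset.card_univ,
      Fintype.card_fin]
  have hMσ : ∀ a b, σ (M a b) = M a b := fun a b => by
    simp only [hM, map_prod]
    refine Finset.prod_congr rfl fun i _ => ?_
    generalize a i = r
    generalize b i = s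
    fin_cases r <;> fin_cases s <;> simp [E]
  have hs1 : ((-1 : F) ^ t) * ((-1 : F) ^ t) = 1 := by rw [← mul_pow]; simp
  have hMu : IsUnit M := IsUnit.of_mul_eq_one (((-1 : F) ^ t) • M)
    (by rw [Matrix.mul_smul, hMM, smul_smul, hs1, one_smul])
  let b : (ι → F) → (ι → F) → F := fun u v => c' * formOf (RingEquiv.refl F) M (C.symm u) (C.symm v)
  let J : (ι → F) → (ι → F) := fun v => C (M *ᵥ fun a => σ (C.symm v a))
  have hb := isBilinearForm_formOf (F := F) M
  have hbb : IsBilinearForm b := by
    refine ⟨fun x y v => ?_, fun l x v => ?_, fun v x y => ?_, fun l v x => ?_⟩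
    · simp only [b, map_add, hb.add_left, mul_add]
    · simp only [b, map_smul, hb.smul_left]; ring
    · simp only [b, map_add, hb.add_right, mul_add]
    · simp only [b, map_smul, hb.smul_right]; ring
  have hpure : ∀ xs ys, b (ptmul e P' xs) (ptmul e P' ys) =
      c' * ∏ i, formOf (RingEquiv.refl F) E (xs i) (ys i) := by
    intro xs ys
    have hC : ∀ zs : Fin t → Fin 2 → F, C.symm (ptmul e P' zs) = fun a => ∏ i, zs i (a i) := fun zs => by
      rw [LinearEquiv.symm_apply_eq]; rfl
    simp only [b, hC]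
    congr 1
    simp only [formOf, dotProduct, Matrix.mulVec, RingEquiv.refl_apply, hM, ← Finset.prod_mul_distrib,
      Fintype.prod_sum]
    simp only [Finset.mul_sum, ← Finset.prod_mul_distrib, Fintype.prod_sum]
  refine ⟨b, J, hbb, fun v hv => ?_, fun u v => ?_, fun h2 v => ?_, fun g hg => ?_,
    ⟨fun u v => ?_, fun u v => ?_, fun l v => ?_⟩, fun v => ?_⟩
  · obtain ⟨⟨x, hx⟩, ⟨y, hy⟩⟩ := nondegenerate_formOf (RingEquiv.refl F) hMu (C.symm v)
      (fun h => hv (by rw [← C.apply_symm_apply v, h, map_zero]))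
    exact ⟨⟨C x, by simpa [b] using mul_ne_zero hc' hx⟩, ⟨C y, by simpa [b] using mul_ne_zero hc' hy⟩⟩
  · simp only [b]
    rw [formOf_symm hMt]; ring
  · simp only [b]
    rw [formOf_self_of_diag h2 (by
      rw [hMt, show (-1 : F) = 1 by linear_combination -h2, one_pow, one_smul]) fun a =>
      Finset.prod_eq_zero (Finset.mem_univ (⟨0, by omega⟩ : Fin t)) (by
        generalize a ⟨0, _⟩ = r
        fin_cases r <;> simp [E]), mul_zero]
  · obtain ⟨π, as, has⟩ := hB.act g hg
    let as' : Fin t → GL (Fin 2) F := fun i => A⁻¹ * as i * A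
    have has' : ∀ xs, mat g *ᵥ ptmul e P' xs = ptmul e P' fun i => mat (as' i) *ᵥ xs (π i) := by
      intro xs
      rw [hP', hP']
      refine (has _).trans ?_
      congr 1
      funext i
      rw [mulVec_mulVec, mulVec_mulVec]
      congr 1
      simp [as', mat, ← mul_assoc]
    let ν : Fˣ := ∏ i, Matrix.GeneralLinearGroup.det (as' i)
    have hgen : ∀ xs ys, b (mat g *ᵥ ptmul e P' xs) (mat g *ᵥ ptmul e P' ys) =
        (ν : F) * b (ptmul e P' xs) (ptmul e P' ys) := by
      intro xs ys
      rw [has', has', hpure, hpure]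
      simp only [ν, Units.coe_prod, Matrix.GeneralLinearGroup.val_det_apply]
      have e1 : ∀ i, formOf (RingEquiv.refl F) E (mat (as' i) *ᵥ xs (π i)) (mat (as' i) *ᵥ ys (π i)) =
          (mat (as' i)).det * formOf (RingEquiv.refl F) E (xs (π i)) (ys (π i)) := fun i => by
        rw [formOf_mulVec, show (mat (as' i)).map (RingEquiv.refl F) = mat (as' i) from
          Matrix.ext fun _ _ => rfl, hE, det_congr_two]
        simp only [formOf, Matrix.smul_mulVec, dotProduct_smul, smul_eq_mul]
      rw [Finset.prod_congr rfl fun i _ => e1 i, Finset.prod_mul_distrib,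
        Equiv.prod_comp π fun i => formOf (RingEquiv.refl F) E (xs i) (ys i)]
      ring
    refine ⟨ν, fun u v => ?_⟩
    show b (mat g *ᵥ u) (mat g *ᵥ v) = _
    have hu : u ∈ Submodule.span F (Set.range (ptmul e P')) := span_ptmul e P' ▸ Submodule.mem_top
    have hv : v ∈ Submodule.span F (Set.range (ptmul e P')) := span_ptmul e P' ▸ Submodule.mem_top
    induction hu using Submodule.span_induction with
    | mem u hu =>
      obtain ⟨xs, rfl⟩ := hu
      induction hv using Submodule.span_induction with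
      | mem v hv => obtain ⟨ys, rfl⟩ := hv; exact hgen xs ys
      | zero => rw [mulVec_zero, (isSesq_of_bilinear hbb).zero_right, (isSesq_of_bilinear hbb).zero_right, mul_zero]
      | add x y _ _ hx hy => rw [mulVec_add, hbb.add_right, hbb.add_right, hx, hy, mul_add]
      | smul l x _ hx => rw [mulVec_smul, hbb.smul_right, hbb.smul_right, hx]; ring
    | zero => rw [mulVec_zero, (isSesq_of_bilinear hbb).zero_left, (isSesq_of_bilinear hbb).zero_left, mul_zero]
    | add x y _ _ hx hy => rw [mulVec_add, hbb.add_left, hbb.add_left, hx, hy, mul_add]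
    | smul l x _ hx => rw [mulVec_smul, hbb.smul_left, hbb.smul_left, hx]; ring
  · obtain ⟨x, rfl⟩ := C.surjective u
    obtain ⟨y, rfl⟩ := C.surjective v
    show c' * formOf _ M (C.symm (C x)) (C.symm (C y)) = f (C x) (C (M *ᵥ fun i => σ (C.symm (C y) i)))
    rw [LinearEquiv.symm_apply_apply, LinearEquiv.symm_apply_apply, hfC]
    congr 1
    show x ⬝ᵥ (M *ᵥ fun i => y i) = _
    congr 1
    funext i
    simp only [Matrix.mulVec, dotProduct, map_sum, map_mul, hinv, hMσ]
  · simp only [J, map_add, Pi.add_apply]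
    rw [show (fun i => σ (C.symm u i) + σ (C.symm v i)) =
      (fun i => σ (C.symm u i)) + fun i => σ (C.symm v i) from rfl, mulVec_add, map_add]
  · simp only [J, map_smul, Pi.smul_apply, smul_eq_mul, map_mul]
    rw [show (fun i => σ l * σ (C.symm v i)) = σ l • fun i => σ (C.symm v i) from rfl, mulVec_smul,
      map_smul]
  · simp only [J, LinearEquiv.symm_apply_apply]
    rw [show (fun i => σ ((M *ᵥ fun j => σ (C.symm v j)) i)) = M *ᵥ C.symm v from funext fun i => by
      simp only [Matrix.mulVec, dotProduct, map_sum, map_mul, hinv, hMσ],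
      mulVec_mulVec, hMM, smul_mulVec, one_mulVec, map_smul, LinearEquiv.apply_symm_apply]

end CfsgLib.MaxSub
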