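import Cfsg.Agent.MaxSub.SocleSection
import Cfsg.Agent.MaxSub.FormCompare

/-!
# Socles abelian modulo scalars in the unitary groups

Such a group normalises a symplectic type group over a minimal field, or lies in a subfield group.
-/

set_option autoImplicit false
set_option linter.unusedSectionVars false

namespace CfsgLib.MaxSub

attribute [-simp] RingEquiv.coe_refl

open Matrix Cfsg.Geo CfsgLib.Aschbacher CfsgLib.AschbacherForms

variable {ι : Type} [Fintype ι] [DecidableEq ι] {F : Type*} [Field F] [Fintype F]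

set_option maxHeartbeats 1000000 in
/-- A socle abelian modulo scalars gives a subfield group or a member of the sixth class. -/
theorem unitary_socle [Nonempty ι] (hn2 : 2 ≤ Fintype.card ι) {q : ℕ} (hF : Fintype.card F = q ^ 2)
    {σ : F ≃+* F} (hσ : ∀ a, σ a = a ^ q) {f : (ι → F) → (ι → F) → F} (hf : IsReflexive σ 1 f)
    {H : Subgroup (GL ι F)} (hfix : FixesForm (matrixSet H) f) (hab : HasAbelianSocle H) :
    (∃ (F₁ : Subfield F) (s : ℕ) (P : GL ι F) (c : F), s.Prime ∧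
      Fintype.card F = Nat.card F₁ ^ s ∧ c ≠ 0 ∧ IsFormRationalStructure f F₁ c P ∧
      H ≤ subfieldSubgroup F₁ P) ∨
    ∃ (r : ℕ) (R : Subgroup (GL ι F)) (p e k : ℕ), IsSymplecticTypeGroup r R ∧
      ActsAbsolutelyIrreducibly (matrixSet R) ∧ R ≤ similarityGroup f ∧ r ≠ p ∧
      IsMinimalFieldFor (Nat.card (Subgroup.center R)) p e F ∧
      ((Odd r ∧ Nat.card (Subgroup.center R) = r ∧ 1 ≤ k ∧ Nat.card R = r ^ (1 + 2 * k)) ∨
       (r = 2 ∧ e = 2 ∧ Nat.card (Subgroup.center R) = 4 ∧ Nat.card R = 2 ^ (2 + 2 * k))) ∧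
      Fintype.card ι = r ^ k ∧ ⁅R, R⁆ ≤ scalars ι F ∧ H ≤ subgroupNormalizer R := by
  classical
  obtain ⟨E, r, m, hS, hcard, hEH⟩ := exists_socleData_le hab
  have hm : 1 ≤ m := by
    by_contra h
    obtain rfl : m = 0 := by omega
    rw [pow_zero] at hcard; omega
  obtain ⟨i₀⟩ : Nonempty ι := inferInstance
  obtain ⟨u₀, hu₀⟩ := (hf.nondegenerate (Pi.single i₀ 1) (by simp)).1
  -- isometric scalars have norm one
  have hnorm1 : ∀ c : Fˣ, scHom ι F c ∈ H → (c : F) * σ c = 1 := by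
    intro c hc
    have h := hfix _ (mem_matrixSet hc) u₀ (Pi.single i₀ 1)
    rw [mat_scHom, smul_mulVec, smul_mulVec, one_mulVec, one_mulVec, hf.sesq.smul_left,
      hf.sesq.smul_right, ← mul_assoc] at h
    exact (mul_eq_right₀ hu₀).1 h
  obtain ⟨κ, hκ⟩ := hS.exists_kappa
  obtain ⟨x, hx, y, hy, hxy⟩ := exists_kappa_ne_one hS hn2 hκ
  haveI : Fact r.Prime := ⟨hS.prime⟩
  have hord : orderOf (κ x y) = r := orderOf_eq_prime (kappa_pow_eq_one hS hκ hx hy) hxy
  have hκH : scHom ι F (κ x y) ∈ H := by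
    obtain ⟨a, ha⟩ := hEH x hx
    obtain ⟨b, hb⟩ := hEH y hy
    have h : scHom ι F (κ x y) =
        scHom ι F a * x * (scHom ι F b * y) * (scHom ι F a * x)⁻¹ * (scHom ι F b * y)⁻¹ := by
      have e1 : scHom ι F a * x * (scHom ι F b * y) = scHom ι F (a * b) * (x * y) := by
        rw [map_mul, mul_assoc, mul_assoc, ← mul_assoc x, ← scHom_comm b x]; simp only [mul_assoc]
      have e2 : (scHom ι F a * x)⁻¹ * (scHom ι F b * y)⁻¹ = (scHom ι F (a * b) * (y * x))⁻¹ := by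
        rw [← _root_.mul_inv_rev]
        congr 1
        rw [mul_comm a b, map_mul, mul_assoc, mul_assoc, ← mul_assoc y, ← scHom_comm a y]
        simp only [mul_assoc]
      rw [mul_assoc _ _ (scHom ι F b * y)⁻¹, e2, e1, hκ x hx y hy, ← mul_assoc (scHom ι F (a * b)),
        ← map_mul, mul_comm (a * b), map_mul, mul_assoc, mul_assoc, ← mul_assoc (scHom ι F (a * b)),
        mul_inv_cancel, mul_one]
    rw [h]
    exact mul_mem (mul_mem (mul_mem ha hb) (inv_mem ha)) (inv_mem hb)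
  have hrq : r ∣ q + 1 := by
    rw [← hord]
    refine orderOf_dvd_of_pow_eq_one (Units.ext ?_)
    rw [Units.val_pow_eq_pow_val, Units.val_one, pow_succ, ← hσ, mul_comm]
    exact hnorm1 _ hκH
  obtain ⟨p, hchar⟩ := CharP.exists F
  haveI := hchar
  haveI : Fact p.Prime := ⟨CharP.char_is_prime F p⟩
  haveI : ExpChar F p := ExpChar.prime Fact.out
  obtain ⟨a, hp, ha⟩ := FiniteField.card F p
  obtain ⟨a', -, hq⟩ := (Nat.dvd_prime_pow hp).1 (show q ∣ p ^ (a : ℕ) by rw [← ha, hF]; exact dvd_pow_self q two_ne_zero)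
  have haa : 2 * a' = a := by
    refine Nat.pow_right_injective hp.two_le ?_
    show p ^ (2 * a') = p ^ (a : ℕ)
    rw [← ha, hF, hq, ← pow_mul, mul_comm]
  have ha1 : 1 ≤ a' := by have := a.pos; omega
  have hrp : r ≠ p := by
    rintro rfl
    have h : r ∣ q := hq ▸ dvd_pow_self r (by omega)
    exact hS.prime.ne_one (Nat.dvd_one.1 ((Nat.dvd_add_right h).1 hrq))
  have hr2odd : r = 2 → Odd q := by
    rintro rfl
    rw [hq]
    exact (hp.odd_of_ne_two (Ne.symm hrp)).pow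
  obtain ⟨k, hk, hkdvd⟩ : ∃ k, ((r ≠ 2 ∧ k = r) ∨ (r = 2 ∧ k = 4)) ∧ k ∣ Fintype.card Fˣ := by
    rw [Fintype.card_units, hF]
    have h1 : q ^ 2 - 1 = (q + 1) * (q - 1) := by rw [← Nat.sq_sub_sq, one_pow]
    rw [h1]
    by_cases h2 : r = 2
    · obtain ⟨w, hw⟩ := hr2odd h2
      refine ⟨4, Or.inr ⟨h2, rfl⟩, ⟨w * (w + 1), ?_⟩⟩
      rw [hw, show 2 * w + 1 - 1 = 2 * w by omega]; ring
    · exact ⟨r, Or.inl ⟨h2, rfl⟩, hrq.mul_right _⟩
  have hk0 : 0 < k := by
    rcases hk with ⟨-, rfl⟩ | ⟨-, rfl⟩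
    · exact hS.prime.pos
    · norm_num
  obtain ⟨ζ, hζ⟩ : ∃ ζ : Fˣ, IsPrimitiveRoot ζ k := by
    obtain ⟨g, hg⟩ := IsCyclic.exists_ofOrder_eq_natCard (α := Fˣ)
    rw [Nat.card_eq_fintype_card] at hg
    obtain ⟨l, hl⟩ := hkdvd
    refine ⟨g ^ l, IsPrimitiveRoot.iff_orderOf.2 ?_⟩
    have hl0 : l ≠ 0 := fun h => Fintype.card_ne_zero (α := Fˣ) (by rw [hl, h, mul_zero])
    rw [orderOf_pow' g hl0, hg, hl, Nat.gcd_mul_left_left, Nat.mul_div_cancel _ (Nat.pos_of_ne_zero hl0)]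
  obtain ⟨R, hR, hRn⟩ := exists_socleCore hS hk fun z hz => exists_scale hS hk hζ hz
  have hsec := hR.socleSection hS
  have habs := hsec.absIrred hS
  -- multipliers are roots of unity
  have hmult : ∀ z ∈ R, ∃ ν : Fˣ, ν ^ k = 1 ∧
      ∀ u v, f (mat z *ᵥ u) (mat z *ᵥ v) = (ν : F) * f u v := by
    intro z hz
    obtain ⟨c, hc⟩ := hEH z (hR.le hz)
    have hσc : σ ((c : F)⁻¹) ≠ 0 := by simp
    set ν : Fˣ := Units.mk0 ((c : F)⁻¹ * σ ((c : F)⁻¹)) (mul_ne_zero (inv_ne_zero c.ne_zero) hσc) with hν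
    have hzf : ∀ u v, f (mat z *ᵥ u) (mat z *ᵥ v) = (ν : F) * f u v := fun u v => by
      have hzc : mat z = (c : F)⁻¹ • mat (scHom ι F c * z) := by
        rw [show mat (scHom ι F c * z) = mat (scHom ι F c) * mat z from Units.val_mul _ _, mat_scHom,
          Matrix.smul_mul, one_mul, smul_smul, inv_mul_cancel₀ c.ne_zero, one_smul]
      rw [hzc, smul_mulVec, smul_mulVec, hf.sesq.smul_left, hf.sesq.smul_right,
        hfix _ (mem_matrixSet hc), hν, Units.val_mk0, mul_assoc]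
    refine ⟨ν, Units.ext ?_, hzf⟩
    have hpow : ∀ (l : ℕ) u v, f ((mat z) ^ l *ᵥ u) ((mat z) ^ l *ᵥ v) = (ν : F) ^ l * f u v := by
      intro l
      induction l with
      | zero => intro u v; simp
      | succ l ih =>
        intro u v
        rw [pow_succ, ← mulVec_mulVec, ← mulVec_mulVec, ih, hzf, pow_succ, mul_assoc]
    have h := hpow k u₀ (Pi.single i₀ 1)
    rw [show (mat z) ^ k = 1 by rw [mat, ← Units.val_pow_eq_pow_val, hR.pow_eq_one z hz, Units.val_one],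
      one_mulVec, one_mulVec] at h
    rw [Units.val_pow_eq_pow_val, Units.val_one]
    exact (mul_eq_right₀ hu₀).1 h.symm
  have hdiv : k ∣ p ^ (a : ℕ) - 1 := by rwa [← ha, ← Fintype.card_units]
  have hcast : ∀ j : ℕ, (p : ZMod k) ^ j = 1 ↔ k ∣ p ^ j - 1 := fun j => by
    rw [← ZMod.natCast_eq_zero_iff, Nat.cast_sub (Nat.one_le_pow _ _ hp.pos), sub_eq_zero,
      Nat.cast_pow, Nat.cast_one]
  obtain ⟨e, he⟩ : ∃ e, orderOf (p : ZMod k) = e := ⟨_, rfl⟩
  have hea : e ∣ a := he ▸ orderOf_dvd_of_pow_eq_one ((hcast a).2 hdiv)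
  have he0 : 0 < e := Nat.pos_of_dvd_of_pos hea a.pos
  rcases (Nat.le_of_dvd a.pos hea).lt_or_eq with hlt | heq
  · left
    let F₀ : Subfield F := (iterateFrobenius F p e).eqLocusField (RingHom.id F)
    have hroots : ∀ c : Fˣ, c ^ k = 1 → (c : F) ∈ F₀ := by
      intro c hc
      obtain ⟨l, hl⟩ := (hcast e).1 (he ▸ pow_orderOf_eq_one _)
      show iterateFrobenius F p e (c : F) = c
      rw [iterateFrobenius_def]
      conv_lhs => rw [← Nat.sub_add_cancel (Nat.one_le_pow e p hp.pos), pow_succ, hl, pow_mul,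
        ← Units.val_pow_eq_pow_val, hc, Units.val_one, one_pow, one_mul]
    have hne : F₀ ≠ ⊤ := by
      intro htop
      obtain ⟨g, hg⟩ := IsCyclic.exists_generator (α := Fˣ)
      have h1 : (g : F) ^ p ^ e = g := by
        have : (g : F) ∈ F₀ := htop ▸ trivial
        exact this
      have h2 : g ^ (p ^ e - 1) = 1 := by
        apply Units.ext
        rw [Units.val_pow_eq_pow_val, Units.val_one]
        rw [← Nat.sub_add_cancel (Nat.one_le_pow e p hp.pos), pow_succ] at h1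
        exact (mul_eq_right₀ g.ne_zero).1 h1
      have h3 : Fintype.card F - 1 ∣ p ^ e - 1 := by
        rw [← Fintype.card_units, ← Nat.card_eq_fintype_card,
          ← orderOf_eq_card_of_forall_mem_zpowers hg]
        exact orderOf_dvd_of_pow_eq_one h2
      have h4 : 1 < p ^ e := Nat.one_lt_pow he0.ne' hp.one_lt
      have h5 := Nat.le_of_dvd (by omega) h3
      have h6 : p ^ e < p ^ (a : ℕ) := Nat.pow_lt_pow_right hp.one_lt hlt
      omega
    refine exists_form_subfield hf ⟨q, hσ⟩ hne hRn habs (hsec.realisable hS hroots) fun z hz => ?_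
    obtain ⟨ν, hνk, hν⟩ := hmult z hz
    exact ⟨ν, ν.ne_zero, hroots ν hνk, hν⟩
  right
  have hcen := hsec.center_card hS hk0 hζ
  have hcardR := hsec.card hS hk0 hζ
  rw [hcard] at hcardR
  have hkexp : k = r * Nat.gcd 2 r := by
    rcases hk with ⟨h2, rfl⟩ | ⟨rfl, rfl⟩
    · have h1 : Nat.gcd 2 k = 1 :=
        (Nat.coprime_primes Nat.prime_two hS.prime).2 (Ne.symm h2)
      rw [h1, mul_one]
    · rfl
  refine ⟨r, R, p, e, m, ⟨hS.prime, fun z => ?_, hsec.cyclic hS hRn, ?_⟩, habs,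
    fun z hz => ⟨(hmult z hz).choose, (hmult z hz).choose_spec.2⟩, hrp,
    ⟨hp, hchar, heq ▸ ha, ?_, fun d hd hde hdd => ?_⟩, ?_, hcard,
    Subgroup.commutator_le.2 fun y hy z hz => hS.comm y (hR.le hy) z (hR.le hz),
    fun g hg => mem_subgroupNormalizer_of (hRn g hg)⟩
  · rcases hk with ⟨-, rfl⟩ | ⟨rfl, rfl⟩
    · exact ⟨1, Subtype.ext (by simpa using hR.pow_eq_one z.1 z.2)⟩
    · exact ⟨2, Subtype.ext (by simpa using hR.pow_eq_one z.1 z.2)⟩
  · rw [← hkexp]
    refine Nat.dvd_antisymm (Monoid.exponent_dvd_of_forall_pow_eq_one fun z =>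
      Subtype.ext (hR.pow_eq_one z.1 z.2)) ?_
    have hmem : scHom ι F ζ ∈ R := (hsec.scalar_iff ζ).2 hζ.pow_eq_one
    have h := Monoid.pow_exponent_eq_one (⟨_, hmem⟩ : R)
    exact hζ.dvd_of_pow_eq_one _ (scHom_injective (ι := ι) (by rw [map_pow, map_one]; exact congrArg Subtype.val h))
  · rw [hcen, heq]; exact hdiv
  · rw [hcen] at hdd
    have h3 := Nat.le_of_dvd hd (he ▸ orderOf_dvd_of_pow_eq_one ((hcast d).2 hdd))
    omega
  · rcases hk with ⟨h2, rfl⟩ | ⟨rfl, rfl⟩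
    · refine Or.inl ⟨hS.prime.odd_of_ne_two h2, hcen, hm, ?_⟩
      rw [hcardR, ← pow_mul, ← pow_succ']; congr 1; ring
    · refine Or.inr ⟨rfl, ?_, hcen, ?_⟩
      · have hpo : Odd p := hp.odd_of_ne_two (Ne.symm hrp)
        have h4 : (p : ZMod 4) ^ 2 = 1 := by
          obtain ⟨w, hw⟩ := hpo
          rw [hw]; push_cast
          generalize (w : ZMod 4) = u
          revert u; decide
        have := Nat.le_of_dvd two_pos (he ▸ orderOf_dvd_of_pow_eq_one h4)
        omega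
      · rw [hcardR, ← pow_mul, show (4 : ℕ) = 2 ^ 2 from rfl, ← pow_add]; congr 1; ring

end CfsgLib.MaxSub
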