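import Cfsg.Agent.MaxSub.UnitaryTensor
import Cfsg.Agent.MaxSub.UnitaryPower
import Cfsg.Agent.MaxSub.UnitaryNine
import Cfsg.Agent.MaxSub.UnitarySocle
import Cfsg.Agent.MaxSub.FormReduce
import Cfsg.Agent.MaxSub.QuadraticBasic
import Cfsg.Agent.AschbacherUnitary.Descent
import Cfsg.Agent.CharTwo.AlternatingForm

/-!
# Subgroup structure of the unitary groups

Every subgroup of `SU_n(q)` lies in a member of one of the geometric classes or is in the residual class.
-/

set_option autoImplicit false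
set_option linter.unusedSectionVars false
set_option linter.style.haveILetI false

namespace CfsgLib.MaxSub

attribute [-simp] RingEquiv.coe_refl

open Matrix Cfsg.Geo CfsgLib.TensorNonmax CfsgLib.Aschbacher CfsgLib.AschbacherForms
  CfsgLib.AschbacherUnitary
open scoped Kronecker

variable {n q : ℕ} {F : Type*} [Field F] [Fintype F] {σ : F ≃+* F}

/-- A form rational over a subfield and vanishing on its diagonal lives in even dimension. -/
theorem even_of_diag_zero {ι : Type} [Fintype ι] [DecidableEq ι] {f : (ι → F) → (ι → F) → F}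
    {ε : F} (hf : IsReflexive σ ε f) {F₁ : Subfield F} {P : GL ι F}
    (hd : ∀ u : ι → F, (∀ i, u i ∈ F₁) → f (mat P *ᵥ u) (mat P *ᵥ u) = 0) :
    Even (Fintype.card ι) := by
  classical
  let g : (ι → F) → (ι → F) → F := fun u v => f (mat P *ᵥ u) (mat P *ᵥ v)
  have hg : IsSesq σ g :=
    { add_left := fun x y v => by simp [g, mulVec_add, hf.sesq.add_left]
      smul_left := fun c x v => by simp [g, mulVec_smul, hf.sesq.smul_left]
      add_right := fun v x y => by simp [g, mulVec_add, hf.sesq.add_right]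
      smul_right := fun c v x => by simp [g, mulVec_smul, hf.sesq.smul_right] }
  have hgn : IsNondegenerateForm g := fun v hv => by
    obtain ⟨⟨x, hx⟩, ⟨y, hy⟩⟩ := hf.nondegenerate (mat P *ᵥ v) fun h => hv (by
      rw [← inv_mulVec_mulVec P v, h, mulVec_zero])
    exact ⟨⟨mat P⁻¹ *ᵥ x, by simpa [g, mulVec_inv_mulVec] using hx⟩,
      ⟨mat P⁻¹ *ᵥ y, by simpa [g, mulVec_inv_mulVec] using hy⟩⟩
  have hG : IsUnit (gramMatrix g) := gram_isUnit hg hgn
  have hsingle : ∀ i j : ι, (Pi.single i (1 : F) : ι → F) j ∈ F₁ := fun i j => by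
    rcases eq_or_ne j i with rfl | h <;> simp [*, F₁.one_mem, F₁.zero_mem]
  have hdiag : ∀ i, gramMatrix g i i = 0 := fun i => hd _ (hsingle i)
  have hskew : ∀ i j, gramMatrix g i j + gramMatrix g j i = 0 := fun i j => by
    have h := hd (Pi.single i 1 + Pi.single j 1) fun l => F₁.add_mem (hsingle i l) (hsingle j l)
    change g _ _ = 0 at h
    rw [hg.add_left, hg.add_right, hg.add_right] at h
    change gramMatrix g i i + gramMatrix g i j + (gramMatrix g j i + gramMatrix g j j) = 0 at h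
    rw [hdiag, hdiag] at h
    linear_combination h
  let B : (ι → F) →ₗ[F] (ι → F) →ₗ[F] F := Matrix.toLinearMap₂' F (gramMatrix g)
  have hB : ∀ x y, B x y = x ⬝ᵥ (gramMatrix g *ᵥ y) := fun x y => Matrix.toLinearMap₂'_apply' _ _ _
  refine CfsgLib.CharTwo.even_finrank_of_isAlt _ B (Module.finrank_fintype_fun_eq_card F) (fun x => ?_)
    fun x hx => ?_
  · rw [hB]
    simp only [dotProduct, Matrix.mulVec, Finset.mul_sum]
    rw [← Finset.sum_product']
    refine Finset.sum_involution (fun p _ => (p.2, p.1)) (fun p _ => ?_) (fun p _ hp => ?_)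
      (fun p _ => Finset.mem_univ _) fun p _ => rfl
    · linear_combination (x p.1 * x p.2) * hskew p.1 p.2
    · intro he
      obtain ⟨a, b⟩ := p
      simp only [Prod.mk.injEq] at he
      obtain ⟨rfl, -⟩ := he
      exact hp (by simp [hdiag])
  · refine Matrix.vecMul_injective_iff_isUnit.2 hG (?_ : x ᵥ* gramMatrix g = 0 ᵥ* gramMatrix g)
    rw [zero_vecMul]
    funext j
    have := hx (Pi.single j 1)
    rw [hB, Matrix.dotProduct_mulVec, dotProduct_single, mul_one] at this
    exact this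

set_option maxHeartbeats 2000000 in
/-- Subgroup structure of the unitary groups. -/
theorem unitary_structure (hF : Fintype.card F = q ^ 2) (hn : 3 ≤ n) (H : Subgroup (GL (Fin n) F))
    (hH : H ≤ Cfsg.GU n F q) :
    (∃ M : Subgroup (GL (Fin n) F), InUnitaryClass n F q M ∧ H ≤ M) ∨ InUnitaryResidualClass H := by
  classical
  haveI : Nonempty (Fin n) := ⟨⟨0, by omega⟩⟩
  obtain ⟨σ, h⟩ := AschbacherUnitary.exists_isConj (F := F) hF
  have hu := h.unitary (n := n)
  have hf := isReflexive_unitary hu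
  have hfix : FixesForm (matrixSet H) (Cfsg.hermForm n F q) :=
    fixesForm_iff.2 fun g hg => MaxSub.mem_GU_iff_forall.1 (hH hg)
  have hσq : (⇑σ : F → F) = fun x => x ^ q := funext h.eq_pow
  have hq1 := h.one_lt
  have h2odd : Odd q → (2 : F) ≠ 0 := fun ho =>
    CfsgLib.MaxSub.two_ne_zero_of_odd (by rw [hF]; exact ho.pow)
  have h2even : ¬ Odd q → (2 : F) = 0 := by
    intro ho
    by_contra h2
    refine ho ?_
    have h1 : Odd (Fintype.card F) := Nat.odd_iff.2 (FiniteField.odd_card_of_char_ne_two fun hc => h2 (by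
      have := ringChar.of_eq hc
      exact CharTwo.two_eq_zero))
    rw [hF] at h1
    exact (Nat.odd_pow_iff two_ne_zero).1 h1
  -- members
  have hMem : ∀ X : Subgroup (GL (Fin n) F), InUnitaryClass n F q (X ⊓ Cfsg.GU n F q) → H ≤ X →
      ∃ M, InUnitaryClass n F q M ∧ H ≤ M := fun X hX hle => ⟨_, hX, le_inf hle hH⟩
  have hDec : ∀ {t k : ℕ} (D : Fin t → Submodule F (Fin n → F)),
      IsNondegenerateMDecomposition (Cfsg.hermForm n F q) k D → H ≤ decompositionStabilizer D →
      ∃ M, InUnitaryClass n F q M ∧ H ≤ M := fun {t k} D hD hle =>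
    hMem _ (Or.inl (Or.inr (Or.inr (Or.inl ⟨t, k, D, hD, rfl⟩)))) hle
  by_cases hirr : ActsIrreducibly (matrixSet H)
  swap
  · left
    rcases reducible_subspace hf hfix hirr with ⟨W, h0, hts, hle⟩ | ⟨W, h0, h1, hnd, hle, hlep⟩
    · exact hMem _ (Or.inl (Or.inl ⟨W, h0, hts, rfl⟩)) hle
    have hdim := hf.finrank_perp W
    rw [Fintype.card_fin] at hdim
    rcases lt_trichotomy (2 * Module.finrank F W) n with hlt | heq | hgt
    · exact hMem _ (Or.inl (Or.inr (Or.inl ⟨W, h0, hnd, hlt, rfl⟩))) hle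
    · obtain ⟨D, hD, hle'⟩ := exists_halves hf h0 hnd (by rw [Fintype.card_fin]; exact heq) hle hlep
      exact hDec D hD hle'
    · refine hMem _ (Or.inl (Or.inr (Or.inl ⟨hf.perp W, fun hb => h1 ?_, hf.isNondegenerateOn_perp hnd,
        by omega, rfl⟩))) hlep
      rw [← hf.perp_perp W, hb]
      exact eq_top_iff.2 fun x _ w hw => by rw [(Submodule.mem_bot F).1 hw, hf.zero_right]
  -- subfield groups
  have hfixedF : ∀ {F₁ : Subfield F}, Fintype.card F = Nat.card F₁ ^ 2 → ∀ x ∈ F₁, σ x = x := by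
    intro F₁ hcard x hx
    have hq1' : Nat.card F₁ = q := Nat.pow_left_injective two_ne_zero (hcard.symm.trans hF)
    have : Fintype F₁ := Fintype.ofFinite _
    rw [h.eq_pow, ← hq1', Nat.card_eq_fintype_card]
    exact congrArg Subtype.val (FiniteField.pow_card (⟨x, hx⟩ : F₁))
  have hAlt : ∀ {F₁ : Subfield F} {P : GL (Fin n) F} {ζ : F}, Fintype.card F = Nat.card F₁ ^ 2 →
      ζ ≠ 0 → ζ + ζ ^ q = 0 → IsFormRationalStructure (Cfsg.hermForm n F q) F₁ ζ P →
      (∀ u : Fin n → F, (∀ i, u i ∈ F₁) → Cfsg.hermForm n F q (mat P *ᵥ u) (mat P *ᵥ u) = 0) →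
      H ≤ subfieldSubgroup F₁ P → ∃ M, InUnitaryClass n F q M ∧ H ≤ M := by
    intro F₁ P ζ hcard hζ hζq hrat hd hle
    have hev : Even n := by simpa using even_of_diag_zero hf hd
    exact hMem _ (Or.inl (Or.inr (Or.inr (Or.inr (Or.inr (Or.inr (Or.inr (Or.inl
      ⟨F₁, P, ζ, hev, hcard, hζ, hζq, hrat, hd, rfl⟩)))))))) hle
  have hSub : ∀ {F₁ : Subfield F} {r : ℕ} {P : GL (Fin n) F} {ζ : F}, r.Prime →
      Fintype.card F = Nat.card F₁ ^ r → ζ ≠ 0 →
      IsFormRationalStructure (Cfsg.hermForm n F q) F₁ ζ P → H ≤ subfieldSubgroup F₁ P →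
      ∃ M, InUnitaryClass n F q M ∧ H ≤ M := by
    intro F₁ r B ζ hr hcard hζ hrat hle
    rcases hr.eq_two_or_odd' with rfl | hodd
    · have hσ := hfixedF hcard
      have hq1' : Nat.card F₁ = q := Nat.pow_left_injective two_ne_zero (hcard.symm.trans hF)
      have hlt : Fintype.card F < Nat.card F₁ ^ Fintype.card (Fin n) := by
        rw [hcard, Fintype.card_fin, hq1']
        exact Nat.pow_lt_pow_right hq1 (by omega)
      rcases rational_multiplier hu hζ hrat with ⟨B', hrat', hB'⟩ | ⟨-, hneg⟩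
      · rw [← hB'] at hle
        by_cases hodd : Odd q
        · exact hMem _ (Or.inl (Or.inr (Or.inr (Or.inr (Or.inr (Or.inr (Or.inl
            ⟨F₁, B', hodd, hcard, hrat', rfl⟩))))))) hle
        · have h2 := h2even hodd
          exact hAlt hcard one_ne_zero (by rw [one_pow]; linear_combination h2) hrat'
            (fun u hu' => diag_zero_of_two hu h2 one_ne_zero hσ (map_one σ) hlt hrat' hfix hirr hle hu') hle
      · refine hAlt hcard hζ (by rw [← h.eq_pow, hneg, add_neg_cancel]) hrat (fun u hu' => ?_) hle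
        by_cases hodd : Odd q
        · exact diag_zero_of_neg hu (h2odd hodd) hζ hσ hneg hrat hu'
        · have h2 := h2even hodd
          exact diag_zero_of_two hu h2 hζ hσ (by rw [hneg]; linear_combination -ζ * h2) hlt hrat hfix hirr hle hu'
    · rcases rational_multiplier hu hζ hrat with ⟨B', hrat', hB'⟩ | ⟨hall, -⟩
      · rw [← hB'] at hle
        exact hMem _ (Or.inl (Or.inr (Or.inr (Or.inr (Or.inr (Or.inl
          ⟨F₁, r, B', hr, hodd, hcard, hrat', rfl⟩)))))) hle
      · obtain ⟨w, hw, hwσ⟩ := exists_moved_of_odd hF h hodd hcard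
        exact absurd (hall w hw) hwσ
  -- a bilinear form fixed up to scalars
  have hIndex : ∀ {b : (Fin n → F) → (Fin n → F) → F} {J : (Fin n → F) → (Fin n → F)} {δ l : F},
      IsBilinearForm b → IsNondegenerateForm b → (∀ u v, b v u = δ * b u v) → (δ = 1 ∨ δ = -1) →
      ((2 : F) = 0 → ∀ v, b v v = 0) → H ≤ similarityGroup b → IsCompare σ (Cfsg.hermForm n F q) b J →
      (∀ v, J (J v) = l • v) → ∃ M, InUnitaryClass n F q M ∧ H ≤ M := by
    intro b J δ l hb hbn hδ hδ1 h2b hsim hJ hJJ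
    obtain ⟨F₀, P, -, hcard, hmem, hle, hval, halt, -⟩ :=
      exists_index_two hf h.ne_refl hb hbn hδ hfix hsim hJ hJJ
    by_cases hd : δ = 1
    · have hrat : IsFormRationalStructure (Cfsg.hermForm n F q) F₀ 1 P := fun u v hu hv => by
        rw [one_mul, hmem]
        exact (hval u v hu hv).trans (by rw [hd, one_mul])
      by_cases hodd : Odd q
      · exact hMem _ (Or.inl (Or.inr (Or.inr (Or.inr (Or.inr (Or.inr (Or.inl
          ⟨F₀, P, hodd, hcard, hrat, rfl⟩))))))) hle
      · exact hAlt hcard one_ne_zero (by rw [one_pow]; linear_combination h2even hodd) hrat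
          (halt (h2b (h2even hodd))) hle
    · obtain rfl := hδ1.resolve_left hd
      have h2 : (2 : F) ≠ 0 := fun h2 => hd (by linear_combination -h2)
      obtain ⟨z, hz0, hz⟩ := exists_traceZero h.ne_refl h.involutive
      have hzσ : σ z = -z := by linear_combination hz
      refine hAlt hcard hz0 (by rw [← h.eq_pow, hzσ, add_neg_cancel]) (fun u v hu hv => ?_)
        (halt fun v => (mul_eq_zero.1 (by linear_combination hδ v v :
          (2 : F) * b v v = 0)).resolve_left h2) hle
      rw [hmem, map_mul, hzσ, hval u v hu hv]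
      ring
  rcases star_reduction_spanned (by rw [Fintype.card_fin]; omega) hf hfix hirr with
    ⟨t, k, D, hD, -, hle⟩ | ⟨k, D, hD, hk, hts, hle, -⟩ | ⟨r, K, hr, -, hK, hle, hadj⟩ |
    ⟨k, d, e, P, S, T, hk, hd, -, hS, hT, hle, hform⟩ | hab | hsp | ⟨P, hP⟩
  · exact Or.inl (hDec D hD hle)
  · rw [Fintype.card_fin] at hk
    exact Or.inl (hMem _ (Or.inl (Or.inr (Or.inr (Or.inr (Or.inl ⟨k, D, hk, hD, hts, rfl⟩))))) hle)
  · have hodd := (closedField_involution hf hK hadj).2 h.ne_refl
    exact Or.inl (hMem _ (Or.inr (Or.inl ⟨r, K, hr, hodd, hK,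
      fun x hx => ⟨_, hadj x hx, fun u v => hf.adj_spec x u v⟩, rfl⟩)) hle)
  · -- tensor decompositions
    left
    obtain ⟨S', T', c, hS', hT', hc, hSh, hTh, -, hform'⟩ :=
      CfsgLib.AschbacherTwelve.exists_hermitian_factors h (by omega) hS hT hform
    have hmember : ∀ {n₁ n₂ : ℕ} {e : Fin n ≃ Fin n₁ × Fin n₂} {S : Matrix (Fin n₁) (Fin n₁) F}
        {T : Matrix (Fin n₂) (Fin n₂) F}, 2 ≤ n₁ → n₁ < n₂ → IsUnit S → IsUnit T → Sᵀ.map σ = S →
        Tᵀ.map σ = T → H ≤ tensorProductSubgroup n₁ n₂ e P →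
        (∀ x y : Fin n₁ × Fin n₂ → F, Cfsg.hermForm n F q (mat P *ᵥ (x ∘ e)) (mat P *ᵥ (y ∘ e)) =
          c * formOfGram σ (S ⊗ₖ T) x y) → ∃ M, InUnitaryClass n F q M ∧ H ≤ M := by
      intro n₁ n₂ e S T h1 h12 hS hT hSh hTh hle hform
      have hstr : IsTensorFormStructure (fun x : F => x ^ q) (Cfsg.hermForm n F q) (formOf σ S)
          (formOf σ T) e P := ⟨c, hc, fun x y => by
        rw [gramMatrix_formOf, gramMatrix_formOf, ← hσq]
        exact hform x y⟩
      exact hMem _ (Or.inr (Or.inr (Or.inl ⟨n₁, n₂, e, P, _, _, h1, h12,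
        CfsgLib.AschbacherTwelve.isUnitaryFormPow_formOf h hS hSh,
        CfsgLib.AschbacherTwelve.isUnitaryFormPow_formOf h hT hTh, hstr, rfl⟩))) hle
    rcases lt_trichotomy k d with hlt | heq | hgt
    · exact hmember hk hlt hS' hT' hSh hTh hle hform'
    · subst heq
      obtain ⟨P', hle', hstd⟩ :=
        exists_standard_factors h.ne_refl h.involutive hS' hT' hSh hTh hle hform'
      rcases (show k = 2 ∨ 3 ≤ k by omega) with rfl | h3
      · obtain ⟨b, J, hb, hbn, hbs, h2b, hsim, hJ, hJJ⟩ := exists_bilinear_two_two hf hc hle' hstd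
        exact hIndex (δ := 1) hb hbn (fun u v => by rw [one_mul]; exact hbs u v) (Or.inl rfl) h2b hsim hJ hJJ
      by_cases hex : q = 2 ∧ k = 3
      · obtain ⟨rfl, rfl⟩ := hex
        have hsim : H ≤ similarityGroup (Cfsg.hermForm n F 2) := fun g hg =>
          ⟨1, fun u v => by rw [Units.val_one, one_mul]; exact hfix _ (mem_matrixSet hg) u v⟩
        obtain ⟨R, h1, h2, h3', h4, h5, h6, -, h7⟩ :=
          exists_nine_socle (by rw [hF]; norm_num) h.eq_pow hc hstd hle' hsim
        exact hMem _ (Or.inl (Or.inr (Or.inr (Or.inr (Or.inr (Or.inr (Or.inr (Or.inr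
          ⟨3, R, 2, 2, 2, h1, h2, h3', by norm_num, h4,
            Or.inl ⟨by decide, h5, by norm_num, h6⟩, rfl⟩)))))))) h7
      obtain ⟨e', P'', hstr, hle''⟩ := exists_square_standard hf hc hle' hstd
      rw [hσq] at hstr
      exact hMem _ (Or.inr (Or.inr (Or.inr ⟨k, 2, e', P'', _, h3, le_rfl, hex, by
        rw [← hσq]
        exact CfsgLib.AschbacherTwelve.isUnitaryFormPow_formOf h isUnit_one (by
          rw [Matrix.transpose_one, Matrix.map_one σ (map_zero σ) (map_one σ)]),
        hstr, rfl⟩))) hle''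
    · refine hmember hd hgt hT' hS' hTh hSh (hle.trans (tensorProductSubgroup_swap e P)) fun x y => ?_
      have e1 := formTensor_swap (σ := σ) (f := fun u v => c⁻¹ * Cfsg.hermForm n F q u v)
        (fun x y => by rw [hform', inv_mul_cancel_left₀ hc]) x y
      rw [inv_mul_eq_iff_eq_mul₀ hc] at e1
      exact e1
  · -- socles abelian modulo scalars
    left
    rcases unitary_socle (by rw [Fintype.card_fin]; omega) hF h.eq_pow hf hfix hab with
      ⟨F₁, s, P, c, hs, hc, hc0, hP, hle⟩ | ⟨r, R, p, e, k, h1, h2, h3, h4, h5, h6, -, -, hle⟩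
    · exact hSub hs hc hc0 hP hle
    · exact hMem _ (Or.inl (Or.inr (Or.inr (Or.inr (Or.inr (Or.inr (Or.inr (Or.inr
        ⟨r, R, p, e, k, h1, h2, h3, h4, h5, h6, rfl⟩)))))))) hle
  · -- tensor powers
    left
    obtain ⟨d, t, e, P, B₀, hd, ht, -, hB₀⟩ := exists_slotPower hf hfix hsp
    obtain ⟨B, hB, hBu⟩ := exists_hermitian_slot h.ne_refl h.involutive hB₀
    rcases (show d = 2 ∨ 3 ≤ d by omega) with rfl | h3
    · obtain ⟨b, J, hb, hbn, hbs, h2b, hsim, hJ, hJJ⟩ :=
        exists_bilinear_power h.ne_refl h.involutive ht hf hB hBu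
      exact hIndex hb hbn hbs (neg_one_pow_eq_or F t) h2b hsim hJ hJJ
    · have hex : ¬ (q = 2 ∧ d = 3) := by
        rintro ⟨rfl, rfl⟩
        obtain ⟨G, hG, hG0, hiso⟩ := hB.perfect
        exact hG0 (perfect_unitary_three_two h (by rw [hF]; norm_num) hBu hG hiso)
      have hpow : IsUnitaryFormPow q B :=
        ⟨hBu.add_left, hBu.smul_left, fun v w => by rw [← h.eq_pow]; exact hBu.herm v w, hBu.nondegenerate⟩
      have hstr := hB.structure' hf
      rw [hσq] at hstr
      exact hMem _ (Or.inr (Or.inr (Or.inr ⟨d, t, e, P, B, h3, ht, hex, hpow, hstr, rfl⟩))) hB.le_wreath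
  · -- almost simple groups
    have hPfix : FixesForm (matrixSet P) (Cfsg.hermForm n F q) :=
      fun s hs => hfix s (Set.image_mono hP.le hs)
    by_cases hreal : ∃ F₀ : Subfield F, F₀ ≠ ⊤ ∧ RealisableOver F₀ (matrixSet P)
    · obtain ⟨F₀, h0, hreal⟩ := hreal
      obtain ⟨F₁, r, B, ζ, hr, hc, hζ, hrat, hle⟩ :=
        AschbacherForms.exists_form_subfield hf h0 hP.normal hP.absIrred hPfix hreal
      exact Or.inl (hSub hr hc hζ hrat hle)
    refine Or.inr ⟨P, hP.toResidualCore fun F₀ h0 hr => hreal ⟨F₀, h0, hr⟩, ?_, ?_⟩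
    · rintro ⟨Q, hQ, hQP⟩
      have hpolfix : FixesForm (matrixSet P) (QuadraticMap.polar Q) := fun s hs u v => by
        simp only [QuadraticMap.polar, ← Matrix.mulVec_add, hQP s hs]
      exact hreal (AschbacherForms.realisable_of_two_forms (isReflexive_polar hQ) hu hP.absIrred hpolfix hPfix)
    · rintro ⟨f, hf', hfP⟩
      exact hreal (AschbacherForms.realisable_of_two_forms (isReflexive_symplectic hf') hu hP.absIrred hfP hPfix)

end CfsgLib.MaxSub
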