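import Cfsg.Agent.MaxSub.UnitaryFrame

/-!
# Stabilisers of subspaces in the special unitary group
-/

set_option autoImplicit false
set_option linter.unusedSectionVars false

namespace CfsgLib.MaxSub.UC

open Matrix Cfsg.Geo

variable {F : Type*} [Field F] [Fintype F] {n q : ℕ} {σ : F ≃+* F}

local notation "V" => (Fin n → F)
local notation "η" => Cfsg.hermForm n F q
local notation "Mat" => Matrix (Fin n) (Fin n) F
local notation "SU" => (Cfsg.GU n F q ⊓ specialLinear (Fin n) F)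

variable (hf : IsUnitaryForm σ (Cfsg.hermForm n F q))
include hf

/-- The transvections with centre in `W` or in its complement stabilise `W`. -/
theorem uTv_mem_stab {W : Submodule F V} {v : V} (hv0 : η v v = 0) (hv : v ∈ W ∨ v ∈ uPerp hf W)
    {c : F} (hc : σ c = -c) : uTv q v c ∈ subspaceStabilizer W ⊓ SU := by
  refine ⟨mem_subspaceStabilizer_of_le fun x hx => ?_, uTv_mem hf hv0 hc⟩
  rw [uTv_mulVec hf hv0]
  rcases hv with h | h
  · exact W.add_mem hx (W.smul_mem _ h)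
  · rw [unitary_orth_symm hf (h x hx), mul_zero, zero_smul, add_zero]; exact hx

/-- An Eichler element of a totally singular subspace moving `x` to `u`. -/
theorem exists_stab_move {W : Submodule F V} (hW : IsTotallySingularFor η W) {a x u : V}
    (ha : a ∈ W) (hxa : η x a = 1) (hua : η u a = 1) (hx : η x x = 0) (hu : η u u = 0) :
    ∃ g ∈ subspaceStabilizer W ⊓ SU, (g : Mat) *ᵥ x = u := by
  have hs := sesqForm_of_unitary hf
  have haa : η a a = 0 := hW a ha a ha
  set b := u - x with hb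
  have hba : η b a = 0 := by rw [hb, hs.sub_left, hua, hxa, sub_self]
  have hab : η a b = 0 := unitary_orth_symm hf hba
  set lam := η x u with hlam
  have hl : lam + σ lam + η b b = 0 := by
    rw [hb, hs.sub_left, hs.sub_right, hs.sub_right, hx, hu, hf.herm u x, ← hlam]
    ring
  let L : V →ₗ[F] V :=
    { toFun := fun y => y + η y a • b + (lam * η y a - η y b) • a
      map_add' := fun y z => by
        simp only [hs.add_left]
        module
      map_smul' := fun c y => by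
        simp only [hs.smul_left, RingHom.id_apply]
        module }
  set A : Mat := LinearMap.toMatrix' L with hA
  have happ : ∀ y, A *ᵥ y = y + η y a • b + (lam * η y a - η y b) • a := fun y => by
    rw [hA, LinearMap.toMatrix'_mulVec]; rfl
  have hdet : A.det = 1 := by
    have hN : ∀ y, (A - 1) *ᵥ y = η y a • b + (lam * η y a - η y b) • a := fun y => by
      rw [sub_mulVec, one_mulVec, happ]; abel
    refine CfsgLib.RepBounds.Unit.det_eq_one_of_cube _ (Matrix.ext_iff_mulVec.2 fun y => ?_)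
    rw [pow_succ, pow_two, ← mulVec_mulVec, ← mulVec_mulVec, hN, hN, hN, zero_mulVec]
    simp [hs.add_left, hs.neg_left, hs.smul_left, haa, hba, hab]
  refine ⟨GeneralLinearGroup.mkOfDetNeZero A (by simp [hdet]),
    ⟨mem_subspaceStabilizer_of_le fun w hw => ?_, mem_GU_iff_forall.mpr fun y z => ?_,
      (su_det hf).mpr hdet⟩, ?_⟩
  · show A *ᵥ w ∈ W
    rw [happ, hW w hw a ha, zero_smul, add_zero]
    exact W.add_mem hw (W.smul_mem _ ha)
  · show η (A *ᵥ y) (A *ᵥ z) = η y z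
    simp only [happ, hs.add_left, hs.add_right, hs.smul_left, hs.smul_right, haa, hba, hab,
      map_sub, map_mul, ← hf.herm]
    linear_combination η y a * η a z * hl
  · show A *ᵥ x = u
    rw [happ, hxa, one_smul, mul_one, hb, hs.sub_right, hx, sub_zero, ← hlam, sub_self, zero_smul,
      add_zero, add_sub_cancel]

/-- The stabiliser of a totally singular subspace is maximal in `SU`. -/
theorem isMaximalIn_uSingular (hσ : ∀ a, σ a = a ^ q) (hF : Fintype.card F = q ^ 2) (hn : 4 ≤ n)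
    {W : Submodule F V} (hW0 : W ≠ ⊥) (hW : IsTotallySingularFor η W) :
    IsMaximalIn SU (subspaceStabilizer W ⊓ SU) := by
  have hs := sesqForm_of_unitary hf
  obtain ⟨δ, hδ0, hδ⟩ := exists_traceZero hf.ne_refl hf.involutive
  have hWP : W ≤ uPerp hf W := fun w hw z hz => hW w hw z hz
  obtain ⟨w₀, hw₀, hw₀0⟩ := Submodule.exists_mem_ne_zero_of_ne_bot hW0
  obtain ⟨y₀, hy₀⟩ := hs.exists_left_ne_zero hw₀0
  obtain ⟨x₀, -, hx₀, hx₀w⟩ := exists_iso_partner hf (U := ⊤) Submodule.mem_top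
    (hW w₀ hw₀ w₀ hw₀) Submodule.mem_top hy₀
  have hx₀P : x₀ ∉ uPerp hf W := fun h => one_ne_zero (hx₀w.symm.trans (h w₀ hw₀))
  refine isMaximalIn_of inf_le_right ⟨uTv q x₀ δ, uTv_mem hf hx₀ hδ, fun h => ?_⟩
    fun M hHM hMK g hg hg' => ?_
  · have := (mem_subspaceStabilizer_iff.mp h.1 w₀).mp hw₀
    rw [uTv_mulVec hf hx₀, W.add_mem_iff_right hw₀, W.smul_mem_iff (mul_ne_zero hδ0
      (unitary_ne_symm hf (by rw [hx₀w]; exact one_ne_zero)))] at this
    exact hx₀P (hWP this)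
  have hgs : g ∈ Cfsg.GU n F q := (hMK hg).1
  have hcP : ∀ v, η v v = 0 → v ∈ uPerp hf W → CentreIn q σ M v := fun v hv0 hv c hc =>
    hHM (uTv_mem_stab hf hv0 (Or.inr hv) hc)
  -- an isotropic centre outside `W⊥`
  obtain ⟨x, hx, hxP, hcx⟩ : ∃ x, η x x = 0 ∧ x ∉ uPerp hf W ∧ CentreIn q σ M x := by
    suffices ∃ v, η v v = 0 ∧ v ∈ uPerp hf W ∧ (g : Mat) *ᵥ v ∉ uPerp hf W by
      obtain ⟨v, h1, h2, h3⟩ := this
      exact ⟨_, by rw [mem_GU_iff_forall.mp hgs, h1], h3, centreIn_map hf (hcP v h1 h2) hgs hg⟩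
    by_contra hcon
    push Not at hcon
    refine hg' ⟨mem_subspaceStabilizer_of_le fun w hw => ?_, hMK hg⟩
    -- `W` lies in the image of `W⊥`
    have hpre : ∀ w' ∈ W, ((g⁻¹ : GL (Fin n) F) : Mat) *ᵥ w' ∈ uPerp hf W := fun w' hw' z hz => by
      rw [← mem_GU_iff_forall.mp hgs, mulVec_mulVec, Units.mul_inv, one_mulVec]
      exact unitary_orth_symm hf (hcon z (hW z hz z hz) (hWP hz) w' hw')
    by_contra hgw
    rw [← uPerp_uPerp hf W, mem_uPerp hf] at hgw
    push Not at hgw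
    obtain ⟨z, hz, hzw⟩ := hgw
    -- otherwise some isotropic vector of the image leaves `W⊥`
    obtain ⟨y, hy, hy'⟩ : ∃ y ∈ uPerp hf W, (g : Mat) *ᵥ y ∉ uPerp hf W := by
      by_contra hcon'
      push Not at hcon'
      have hle : (uPerp hf W).map (g : Mat).mulVecLin ≤ uPerp hf W := by
        rintro _ ⟨t, ht, rfl⟩; exact hcon' t ht
      have := Submodule.eq_of_le_of_finrank_le hle (finrank_map_gl hf g _).ge
      rw [← this] at hz
      obtain ⟨z', hz', rfl⟩ := hz
      rw [mulVecLin_apply, mem_GU_iff_forall.mp hgs] at hzw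
      exact hzw (unitary_orth_symm hf (hz' w hw))
    rw [mem_uPerp hf] at hy'
    push Not at hy'
    obtain ⟨w', hw', hyw⟩ := hy'
    have hgv : (g : Mat) *ᵥ (((g⁻¹ : GL (Fin n) F) : Mat) *ᵥ w') = w' := by
      rw [mulVec_mulVec, Units.mul_inv, one_mulVec]
    obtain ⟨y', hy'P, hy'0, hy'1⟩ := exists_iso_partner hf (U := uPerp hf W) (hpre w' hw')
      (z := ((g⁻¹ : GL (Fin n) F) : Mat) *ᵥ w') (w := y)
      (by rw [← mem_GU_iff_forall.mp hgs, hgv, hW w' hw' w' hw']) hy
      (by rwa [← mem_GU_iff_forall.mp hgs, hgv])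
    have := hcon y' hy'0 hy'P w' hw'
    rw [← hgv, mem_GU_iff_forall.mp hgs, hy'1] at this
    exact one_ne_zero this
  refine su_le_of_forall_uTv hf hσ hF hn fun u hu => ?_
  by_cases huP : u ∈ uPerp hf W
  · exact hcP u hu huP
  -- reaching every isotropic vector paired with `W` like `x`
  have key : ∀ u', η u' u' = 0 → (∃ a ∈ W, η x a ≠ 0 ∧ η u' a = η x a) → CentreIn q σ M u' := by
    rintro u' hu' ⟨a, ha, hxa, hua⟩
    set s := σ (η x a)⁻¹ with hs'
    have h1 : η x (s • a) = 1 := by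
      rw [hs.smul_right, hs', hf.involutive, inv_mul_cancel₀ hxa]
    have h2 : η u' (s • a) = 1 := by rw [hs.smul_right, hua, ← hs.smul_right, h1]
    obtain ⟨E, hE, hEx⟩ := exists_stab_move hf hW (W.smul_mem s ha) h1 h2 hx hu'
    have := centreIn_map hf hcx hE.2.1 (hHM hE)
    rwa [hEx] at this
  rw [mem_uPerp hf] at huP hxP
  push Not at huP hxP
  by_cases hex : ∃ a ∈ W, η x a ≠ 0 ∧ η u a = η x a
  · exact key u hu hex
  push Not at hex
  obtain ⟨a₀, ha₀, hxa₀⟩ := hxP
  have hd₀ : η x a₀ - η u a₀ ≠ 0 := sub_ne_zero.mpr fun h => hex a₀ ha₀ hxa₀ h.symm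
  set k := η x a₀ / (η x a₀ - η u a₀) with hk
  have hprop : ∀ a ∈ W, η x a = k * (η x a - η u a) := by
    intro a ha
    set t := σ ((η x a - η u a) / (η x a₀ - η u a₀)) with ht
    have hmem := W.sub_mem ha (W.smul_mem t ha₀)
    have hσt : σ t * (η x a₀ - η u a₀) = η x a - η u a := by
      rw [ht, hf.involutive, div_mul_cancel₀ _ hd₀]
    by_contra hne
    refine hex _ hmem ?_ ?_
    · rw [hs.sub_right, hs.smul_right, sub_ne_zero]
      refine fun h => hne (h.trans ?_)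
      rw [hk, ht, hf.involutive]
      field_simp
    · rw [hs.sub_right, hs.sub_right, hs.smul_right, hs.smul_right]
      linear_combination hσt
  have hk0 : k ≠ 0 := div_ne_zero hxa₀ hd₀
  have hux : ∀ a ∈ W, η u a = (1 - k⁻¹) * η x a := fun a ha => by
    field_simp
    linear_combination hprop a ha
  have hc0 : (1 - k⁻¹) ≠ 0 := fun h => by
    obtain ⟨w, hw, hw'⟩ := huP
    exact hw' (by rw [hux w hw, h, zero_mul])
  have := centreIn_smul hf (key ((1 - k⁻¹)⁻¹ • u)
    (by rw [hs.smul_left, hs.smul_right, hu, mul_zero, mul_zero])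
    ⟨a₀, ha₀, hxa₀, by rw [hs.smul_left, hux a₀ ha₀, ← mul_assoc, inv_mul_cancel₀ hc0, one_mul]⟩)
    (1 - k⁻¹)
  rwa [smul_inv_smul₀ hc0] at this

/-- A non-isotropic vector of the complement orthogonal to a given vector. -/
theorem exists_noniso_orth {W : Submodule F V} (hWn : IsNondegenerateOn η W) (hn : 4 ≤ n)
    (hdim : 2 * Module.finrank F W < n) (u : V) :
    ∃ e ∈ uPerp hf W, η e e ≠ 0 ∧ η e u = 0 := by
  have hs := sesqForm_of_unitary hf
  set K := orthIn hf (uPerp hf W) u with hK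
  suffices ∃ e ∈ K, η e e ≠ 0 by
    obtain ⟨e, he, hne⟩ := this
    exact ⟨e, ((mem_orthIn hf).mp he).1, hne, ((mem_orthIn hf).mp he).2⟩
  by_contra hcon
  push Not at hcon
  have hts := singular_of_forall_iso hf hcon
  have hKW : K ⊔ W ≤ uPerp hf K := sup_le (fun s hs' t ht => hts s hs' t ht)
    fun w hw t ht => unitary_orth_symm hf (((mem_orthIn hf).mp ht).1 w hw)
  have hinf : K ⊓ W = ⊥ := by
    rw [eq_bot_iff]
    rintro w ⟨hw', hw⟩
    by_contra h0
    obtain ⟨z, hz, hz'⟩ := (hWn w hw (by simpa using h0)).2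
    exact hz' (((mem_orthIn hf).mp hw').1 z hz)
  have h1 := Submodule.finrank_mono hKW
  have h2 := Submodule.finrank_sup_add_finrank_inf_eq K W
  rw [hinf, finrank_bot] at h2
  have h3 := finrank_uPerp hf K
  have h4 := finrank_uPerp hf W
  have h5 := finrank_orthIn_ge hf (uPerp hf W) u
  rw [← hK] at h5
  omega

/-- An element of the stabiliser moving an isotropic `x` by a vector `d` of `W` or of `W⊥`. -/
theorem centreIn_step {W : Submodule F V} (hWn : IsNondegenerateOn η W) (hn : 4 ≤ n)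
    (hdim : 2 * Module.finrank F W < n) {M : Subgroup (GL (Fin n) F)}
    (hHM : subspaceStabilizer W ⊓ SU ≤ M) {x d : V} (hd : d ∈ W ∨ d ∈ uPerp hf W)
    (hcx : CentreIn q σ M x) (hx : η x x = 0) (hxd : η x d ≠ 0)
    (hsum : η (x + d) (x + d) = 0) : CentreIn q σ M (x + d) := by
  have hs := sesqForm_of_unitary hf
  rw [hs.add_left, hs.add_right, hs.add_right, hx, hf.herm d x, zero_add] at hsum
  set c := (η x d)⁻¹ with hc
  have hσne : σ (η x d) ≠ 0 := (map_ne_zero_iff σ σ.injective).mpr hxd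
  have hcond : c + σ c + c * σ c * η d d = 0 := by
    rw [hc, map_inv₀]
    field_simp
    linear_combination hsum
  obtain ⟨R, hR, hRd, hRa⟩ := exists_quasiReflection hf hcond
  obtain ⟨e, he, hee, hexd⟩ := exists_noniso_orth hf hWn hn hdim (x + d)
  have hne : 1 + c * η d d ≠ 0 := hRd ▸ ((isUnit_iff_isUnit_det _).mp R.isUnit).ne_zero
  set c' := ((1 + c * η d d)⁻¹ - 1) / η e e with hc'
  have hnorm : (1 + c * η d d)⁻¹ * σ (1 + c * η d d)⁻¹ = 1 := by
    rw [map_inv₀, ← mul_inv, inv_eq_one, map_add, map_one, map_mul, herm_self hf]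
    linear_combination η d d * hcond
  have key : ∀ t E : F, t * σ t = 1 → E ≠ 0 → σ E = E →
      (t - 1) / E + σ ((t - 1) / E) + (t - 1) / E * σ ((t - 1) / E) * E = 0 := by
    intro t E ht hE hσE
    rw [map_div₀, map_sub, map_one, hσE]
    field_simp
    linear_combination ht
  have hcond' : c' + σ c' + c' * σ c' * η e e = 0 := key _ _ hnorm hee (herm_self hf e)
  obtain ⟨R', hR', hR'd, hR'a⟩ := exists_quasiReflection hf hcond'
  have hxde : η (x + d) e = 0 := unitary_orth_symm hf hexd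
  have hmove : ((R' * R : GL (Fin n) F) : Mat) *ᵥ x = x + d := by
    rw [Units.val_mul, ← mulVec_mulVec, hRa, hR'a, inv_mul_cancel₀ hxd, one_smul,
      hxde, mul_zero, zero_smul, add_zero]
  have hmem : R' * R ∈ subspaceStabilizer W ⊓ SU := by
    refine ⟨mem_subspaceStabilizer_of_le fun w hw => ?_, mul_mem hR' hR, (su_det hf).mpr ?_⟩
    · have hw' : (R : Mat) *ᵥ w ∈ W := by
        rw [hRa]
        rcases hd with h | h
        · exact W.add_mem hw (W.smul_mem _ h)
        · rw [unitary_orth_symm hf (h w hw), mul_zero, zero_smul, add_zero]; exact hw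
      rw [Units.val_mul, ← mulVec_mulVec, hR'a, unitary_orth_symm hf (he _ hw'), mul_zero, zero_smul,
        add_zero]
      exact hw'
    · rw [Units.val_mul, det_mul, hRd, hR'd, hc', div_mul_cancel₀ _ hee, add_sub_cancel,
        inv_mul_cancel₀ hne]
  rw [← hmove]
  exact centreIn_map hf hcx hmem.2.1 (hHM hmem)

/-- The component of a centre in `W` or in `W⊥` may be replaced by one of the same norm. -/
theorem centreIn_change {W : Submodule F V} (hWn : IsNondegenerateOn η W) (hn : 4 ≤ n)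
    (hdim : 2 * Module.finrank F W < n) {M : Subgroup (GL (Fin n) F)}
    (hHM : subspaceStabilizer W ⊓ SU ≤ M) {U : Submodule F V}
    (hU : ∀ u ∈ U, u ≠ 0 → ∃ z ∈ U, η u z ≠ 0) (hUW : ∀ u ∈ U, u ∈ W ∨ u ∈ uPerp hf W)
    {a a' b : V} (ha : a ∈ U) (ha' : a' ∈ U) (ha0 : a ≠ 0) (ha'0 : a' ≠ 0)
    (hb : ∀ z ∈ U, η b z = 0) (hN : η a a = η a' a') (hiso : η (a + b) (a + b) = 0)
    (hc : CentreIn q σ M (a + b)) : CentreIn q σ M (a' + b) := by
  have hs := sesqForm_of_unitary hf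
  have hiso' : ∀ a₂ ∈ U, η a₂ a₂ = η a a → η (a₂ + b) (a₂ + b) = 0 := by
    intro a₂ h₂ hN₂
    rw [hs.add_left, hs.add_right, hs.add_right, hb a₂ h₂, unitary_orth_symm hf (hb a₂ h₂), hN₂]
    rw [hs.add_left, hs.add_right, hs.add_right, hb a ha, unitary_orth_symm hf (hb a ha)] at hiso
    exact hiso
  have one : ∀ a₁ ∈ U, ∀ a₂ ∈ U, η a₁ a₁ = η a a → η a₂ a₂ = η a a → η a₁ a₂ ≠ η a a →
      CentreIn q σ M (a₁ + b) → CentreIn q σ M (a₂ + b) := by
    intro a₁ h₁ a₂ h₂ hN₁ hN₂ hne hc₁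
    have e : a₁ + b + (a₂ - a₁) = a₂ + b := by abel
    rw [← e]
    refine centreIn_step hf hWn hn hdim hHM (hUW _ (U.sub_mem h₂ h₁)) hc₁ (hiso' a₁ h₁ hN₁) ?_ ?_
    · rw [hs.add_left, hb _ (U.sub_mem h₂ h₁), add_zero, hs.sub_right, hN₁]
      exact sub_ne_zero.mpr hne
    · rw [e]; exact hiso' a₂ h₂ hN₂
  by_cases h1 : η a a' ≠ η a a
  · exact one a ha a' ha' rfl hN.symm h1 hc
  rw [not_not] at h1
  rcases eq_or_ne (η a a) 0 with hN0 | hN0
  · -- both isotropic and orthogonal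
    rw [hN0] at h1
    have part : ∀ y ∈ U, y ≠ 0 → η y y = 0 → ∃ z ∈ U, η z z = 0 ∧ η z y = 1 := by
      intro y hy hy0 hyy
      obtain ⟨z, hz, hz'⟩ := hU y hy hy0
      exact exists_iso_partner hf hy hyy hz (unitary_ne_symm hf hz')
    obtain ⟨z₁, hz₁, hz₁0, hz₁a⟩ := part a ha ha0 hN0
    obtain ⟨z₂, hz₂, hz₂0, hz₂a⟩ := part a' ha' ha'0 (hN ▸ hN0)
    obtain ⟨z, hz, hzz, hza, hza'⟩ : ∃ z ∈ U, η z z = 0 ∧ η z a ≠ 0 ∧ η z a' ≠ 0 := by
      by_cases c₁ : η z₁ a' = 0
      · by_cases c₂ : η z₂ a = 0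
        · obtain ⟨δ, hδ0, hδ⟩ := exists_traceZero hf.ne_refl hf.involutive
          obtain ⟨t, ht0, ht⟩ : ∃ t, t ≠ 0 ∧ σ t * η z₁ z₂ + t * η z₂ z₁ = 0 := by
            rcases eq_or_ne (η z₁ z₂) 0 with h | h
            · exact ⟨1, one_ne_zero, by rw [h, unitary_orth_symm hf h, mul_zero, mul_zero, add_zero]⟩
            · refine ⟨δ * η z₁ z₂, mul_ne_zero hδ0 h, ?_⟩
              rw [map_mul, hδ, ← hf.herm z₂ z₁]
              ring
          refine ⟨z₁ + t • z₂, U.add_mem hz₁ (U.smul_mem _ hz₂), ?_, ?_, ?_⟩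
          · simp only [hs.add_left, hs.add_right, hs.smul_left, hs.smul_right, hz₁0, hz₂0]
            linear_combination ht
          · rw [hs.add_left, hs.smul_left, c₂, mul_zero, add_zero, hz₁a]; exact one_ne_zero
          · rw [hs.add_left, hs.smul_left, c₁, zero_add, hz₂a, mul_one]; exact ht0
        · exact ⟨z₂, hz₂, hz₂0, c₂, by rw [hz₂a]; exact one_ne_zero⟩
      · exact ⟨z₁, hz₁, hz₁0, by rw [hz₁a]; exact one_ne_zero, c₁⟩
    refine one z hz a' ha' (hzz.trans hN0.symm) hN.symm (by rwa [hN0]) ?_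
    exact one a ha z hz rfl (hzz.trans hN0.symm) (by rw [hN0]; exact unitary_ne_symm hf hza) hc
  · obtain ⟨d, hd⟩ := exists_moved hf.ne_refl
    have hσd : σ d ≠ 0 := fun h => hd (h.trans ((map_eq_zero_iff σ σ.injective).mp h).symm)
    have hd0 : d ≠ 0 := fun h => hd (by rw [h, map_zero])
    set ζ := d / σ d with hζ
    have hζ1 : ζ ≠ 1 := fun h => hd ((div_eq_one_iff_eq hσd).mp h).symm
    have hζn : ζ * σ ζ = 1 := by
      rw [hζ, map_div₀, hf.involutive]; field_simp
    have hNz : η (ζ • a) (ζ • a) = η a a := by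
      rw [hs.smul_left, hs.smul_right, ← mul_assoc, hζn, one_mul]
    refine one (ζ • a) (U.smul_mem _ ha) a' ha' hNz hN.symm ?_ ?_
    · rw [hs.smul_left, h1]
      exact fun h => hζ1 ((mul_eq_right₀ hN0).mp h)
    · refine one a ha (ζ • a) (U.smul_mem _ ha) rfl hNz ?_ hc
      rw [hs.smul_right]
      exact fun h => hζ1 (σ.injective (((mul_eq_right₀ hN0).mp h).trans (map_one σ).symm))

set_option maxHeartbeats 1000000 in
/-- The stabiliser of a non-degenerate subspace of less than half dimension is maximal in `SU`. -/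
theorem isMaximalIn_uNondeg (hσ : ∀ a, σ a = a ^ q) (hF : Fintype.card F = q ^ 2) (hn : 4 ≤ n)
    {W : Submodule F V} (hW0 : W ≠ ⊥) (hW : IsNondegenerateOn η W)
    (hdim : 2 * Module.finrank F W < n) : IsMaximalIn SU (subspaceStabilizer W ⊓ SU) := by
  have hs := sesqForm_of_unitary hf
  obtain ⟨δ, hδ0, hδ⟩ := exists_traceZero hf.ne_refl hf.involutive
  have hWn : ∀ w ∈ W, w ≠ 0 → ∃ z ∈ W, η w z ≠ 0 := fun w hw h0 => (hW w hw h0).2
  set P := uPerp hf W with hP
  have hinf : W ⊓ P = ⊥ := by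
    rw [eq_bot_iff]
    rintro w ⟨hw, hw'⟩
    by_contra h0
    obtain ⟨z, hz, hz'⟩ := hWn w hw (by simpa using h0)
    exact hz' (hw' z hz)
  have hperp := finrank_uPerp hf W
  rw [← hP] at hperp
  have hsup : W ⊔ P = ⊤ := by
    apply Submodule.eq_top_of_finrank_eq
    have h1 := Submodule.finrank_sup_add_finrank_inf_eq W P
    rw [hinf, finrank_bot] at h1
    rw [Module.finrank_fin_fun]
    omega
  have hdec : ∀ v : V, ∃ a ∈ W, ∃ b ∈ P, a + b = v := fun v =>
    Submodule.mem_sup.mp (hsup ▸ Submodule.mem_top)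
  have hPn : ∀ w ∈ P, w ≠ 0 → ∃ z ∈ P, η w z ≠ 0 := by
    intro w hw h0
    obtain ⟨x, hx⟩ := (hf.nondegenerate w h0).2
    obtain ⟨a, ha, b, hb, rfl⟩ := hdec x
    exact ⟨b, hb, by rwa [hs.add_right, hw a ha, zero_add] at hx⟩
  have hWW : ∀ u ∈ W, u ∈ W ∨ u ∈ uPerp hf W := fun u hu => Or.inl hu
  have hPW : ∀ u ∈ P, u ∈ W ∨ u ∈ uPerp hf W := fun u hu => Or.inr hu
  have hbW : ∀ b ∈ P, ∀ z ∈ W, η b z = 0 := fun b hb z hz => hb z hz
  have haP : ∀ a ∈ W, ∀ z ∈ P, η a z = 0 := fun a ha z hz => unitary_orth_symm hf (hz a ha)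
  have hnorm : ∀ a ∈ W, ∀ b ∈ P, η (a + b) (a + b) = η a a + η b b := by
    intro a ha b hb
    rw [hs.add_left, hs.add_right, hs.add_right, hbW b hb a ha, haP a ha b hb]
    ring
  -- vectors of prescribed norm in the complement
  have hPnorm : ∀ u r, σ r = r → r ≠ 0 → ∃ e ∈ P, η e e = r ∧ η e u = 0 := by
    intro u r hr hr0
    obtain ⟨e, he, hee, heu⟩ := exists_noniso_orth hf hW hn hdim u
    obtain ⟨s, hs'⟩ := norm_surjective hf.ne_refl hf.involutive (a := r / η e e)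
      (by rw [map_div₀, hr, herm_self hf])
    refine ⟨s • e, P.smul_mem _ he, ?_, by rw [hs.smul_left, heu, mul_zero]⟩
    rw [hs.smul_left, hs.smul_right, ← mul_assoc, hs', div_mul_cancel₀ _ hee]
  obtain ⟨a₁, ha₁, ha₁N⟩ : ∃ a ∈ W, η a a ≠ 0 := by
    by_contra hcon
    push Not at hcon
    obtain ⟨a, ha, ha0⟩ := Submodule.exists_mem_ne_zero_of_ne_bot hW0
    obtain ⟨z, hz, hz'⟩ := hWn a ha ha0
    exact hz' (singular_of_forall_iso hf hcon a ha z hz)
  obtain ⟨b₁, hb₁, hb₁N, -⟩ := hPnorm 0 (-η a₁ a₁) (by rw [map_neg, herm_self hf])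
    (neg_ne_zero.mpr ha₁N)
  have hv₁ : η (a₁ + b₁) (a₁ + b₁) = 0 := by rw [hnorm a₁ ha₁ b₁ hb₁, hb₁N, add_neg_cancel]
  refine isMaximalIn_of inf_le_right ⟨uTv q (a₁ + b₁) δ, uTv_mem hf hv₁ hδ, fun h => ?_⟩
    fun M hHM hMK g hg hg' => ?_
  · have := (mem_subspaceStabilizer_iff.mp h.1 a₁).mp ha₁
    rw [uTv_mulVec hf hv₁, W.add_mem_iff_right ha₁, hs.add_right, haP a₁ ha₁ b₁ hb₁, add_zero,
      W.smul_mem_iff (mul_ne_zero hδ0 ha₁N), W.add_mem_iff_right ha₁] at this
    have hb0 : b₁ = 0 := by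
      simpa [hinf] using (Submodule.mem_inf.mpr ⟨this, hb₁⟩ : b₁ ∈ W ⊓ P)
    rw [hb0, hs.zero_left, eq_comm, neg_eq_zero] at hb₁N
    exact ha₁N hb₁N
  have hgs : g ∈ Cfsg.GU n F q := (hMK hg).1
  have hcW : ∀ v, η v v = 0 → v ∈ W → CentreIn q σ M v := fun v hv0 hv c hc =>
    hHM (uTv_mem_stab hf hv0 (Or.inl hv) hc)
  have hcP : ∀ v, η v v = 0 → v ∈ P → CentreIn q σ M v := fun v hv0 hv c hc =>
    hHM (uTv_mem_stab hf hv0 (Or.inr hv) hc)
  -- a centre outside both
  obtain ⟨x, hx, hxW, hxP, hcx⟩ : ∃ x, η x x = 0 ∧ x ∉ W ∧ x ∉ P ∧ CentreIn q σ M x := by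
    suffices ∃ v, η v v = 0 ∧ v ∈ P ∧ (g : Mat) *ᵥ v ∉ W ∧ (g : Mat) *ᵥ v ∉ P by
      obtain ⟨v, h1, h2, h3, h4⟩ := this
      exact ⟨_, by rw [mem_GU_iff_forall.mp hgs, h1], h3, h4,
        centreIn_map hf (hcP v h1 h2) hgs hg⟩
    by_contra hcon
    push Not at hcon
    -- the isotropic vectors of `P` span it
    have hspan : ∀ S : Submodule F V, (∀ v ∈ P, η v v = 0 → (g : Mat) *ᵥ v ∈ S) →
        P.map (g : Mat).mulVecLin ≤ S := by
      intro S hS
      obtain ⟨z₀, hz₀, hz₀0, hz₀z⟩ := exists_iso_mem hf P (by omega)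
      obtain ⟨w, hw, hwz⟩ := hPn z₀ hz₀ hz₀0
      obtain ⟨z₁, hz₁, hz₁z, hz₁1⟩ :=
        exists_iso_partner hf hz₀ hz₀z hw (unitary_ne_symm hf hwz)
      have main : ∀ u ∈ P, ∀ z ∈ P, η z z = 0 → η u z ≠ 0 → (g : Mat) *ᵥ u ∈ S := by
        intro u hu z hz hzz huz
        obtain ⟨t, ht, -⟩ := exists_iso_shift hf hzz huz
        have h1 := hS _ (P.add_mem hu (P.smul_mem t hz)) ht
        rwa [mulVec_add, mulVec_smul, S.add_mem_iff_left (S.smul_mem t (hS z hz hzz))] at h1
      rintro _ ⟨u, hu, rfl⟩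
      rw [mulVecLin_apply]
      by_cases h1 : η u z₁ = 0
      · have h2 := main (u + z₀) (P.add_mem hu hz₀) z₁ hz₁ hz₁z (by
          rw [hs.add_left, h1, zero_add, hf.herm, hz₁1, map_one]; exact one_ne_zero)
        rwa [mulVec_add, S.add_mem_iff_left (hS z₀ hz₀ hz₀z)] at h2
      · exact main u hu z₁ hz₁ hz₁z h1
    rcases em (∀ v ∈ P, η v v = 0 → (g : Mat) *ᵥ v ∈ P) with hall | hnot
    · have hle := hspan P hall
      have heq := Submodule.eq_of_le_of_finrank_le hle (finrank_map_gl hf g _).ge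
      refine hg' ⟨mem_subspaceStabilizer_of_le fun w hw => ?_, hMK hg⟩
      rw [← uPerp_uPerp hf W, mem_uPerp hf]
      intro z hz
      rw [← hP, ← heq] at hz
      obtain ⟨z', hz', rfl⟩ := hz
      rw [mulVecLin_apply, mem_GU_iff_forall.mp hgs]
      exact haP w hw z' hz'
    push Not at hnot
    obtain ⟨y, hy, hy0, hgy⟩ := hnot
    have hyW : (g : Mat) *ᵥ y ∈ W := by
      by_contra h
      exact hgy (hcon y hy0 hy h)
    have hle := hspan W fun z hz hzz => by
      by_contra hzW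
      have hzP := hcon z hzz hz hzW
      have hyz : η y z = 0 := by
        rw [← mem_GU_iff_forall.mp hgs]; exact haP _ hyW _ hzP
      have hsum : η (y + z) (y + z) = 0 := by
        rw [hs.add_left, hs.add_right, hs.add_right, hy0, hzz, hyz, unitary_orth_symm hf hyz]
        ring
      have hW' : (g : Mat) *ᵥ (y + z) ∉ W := fun h =>
        hzW (by rwa [mulVec_add, W.add_mem_iff_right hyW] at h)
      exact hgy (by simpa [mulVec_add, P.add_mem_iff_left hzP] using hcon _ hsum (P.add_mem hy hz) hW')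
    have := Submodule.finrank_mono hle
    rw [finrank_map_gl hf] at this
    omega
  obtain ⟨a, ha, b, hb, hab⟩ := hdec x
  rw [← hab] at hx hcx hxW hxP
  have ha0 : a ≠ 0 := fun h => hxP (by rwa [h, zero_add])
  have hb0 : b ≠ 0 := fun h => hxW (by rwa [h, add_zero])
  -- one mixed centre for a norm gives all of that norm
  have same : ∀ a ∈ W, ∀ b ∈ P, ∀ a' ∈ W, ∀ b' ∈ P, a ≠ 0 → b ≠ 0 → a' ≠ 0 → b' ≠ 0 →
      η a a = η a' a' → η (a + b) (a + b) = 0 → η (a' + b') (a' + b') = 0 →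
      CentreIn q σ M (a + b) → CentreIn q σ M (a' + b') := by
    intro a ha b hb a' ha' b' hb' ha0 hb0 ha'0 hb'0 hN hi hi' hc
    have h1 := centreIn_change hf hW hn hdim hHM hWn hWW ha ha' ha0 ha'0 (hbW b hb) hN hi hc
    rw [add_comm] at h1
    rw [hnorm a ha b hb] at hi
    rw [hnorm a' ha' b' hb'] at hi'
    have hi2 : η (b + a') (b + a') = 0 := by
      rw [add_comm b, hnorm a' ha' b hb, ← hN, hi]
    have h2 := centreIn_change hf hW hn hdim hHM hPn hPW hb hb' hb0 hb'0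
      (fun z hz => haP a' ha' z hz) (by linear_combination hi - hi' - hN) hi2 h1
    rwa [add_comm] at h2
  have scale : ∀ a ∈ W, ∀ b ∈ P, ∀ a' ∈ W, ∀ b' ∈ P, η a a ≠ 0 → η a' a' ≠ 0 →
      η (a + b) (a + b) = 0 → η (a' + b') (a' + b') = 0 →
      CentreIn q σ M (a + b) → CentreIn q σ M (a' + b') := by
    intro a ha b hb a' ha' b' hb' hN hN' hi hi' hc
    obtain ⟨s, hs'⟩ := norm_surjective hf.ne_refl hf.involutive (a := η a' a' / η a a)
      (by rw [map_div₀, herm_self hf, herm_self hf])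
    have hs0 : s ≠ 0 := fun h => by
      rw [h, zero_mul, eq_comm, div_eq_zero_iff] at hs'
      exact hs'.elim hN' hN
    have nz : ∀ {a b : V}, a ∈ W → b ∈ P → η a a ≠ 0 → η (a + b) (a + b) = 0 → a ≠ 0 ∧ b ≠ 0 := by
      intro a b ha hb hN hi
      rw [hnorm a ha b hb] at hi
      exact ⟨fun h => hN (by rw [h, hs.zero_left]), fun h => hN (by
        rwa [h, hs.zero_left, add_zero] at hi)⟩
    obtain ⟨na, nb⟩ := nz ha hb hN hi
    obtain ⟨na', nb'⟩ := nz ha' hb' hN' hi'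
    have hc' := centreIn_smul hf hc s
    rw [smul_add] at hc'
    refine same _ (W.smul_mem s ha) _ (P.smul_mem s hb) a' ha' b' hb' (smul_ne_zero hs0 na)
      (smul_ne_zero hs0 nb) na' nb' ?_ ?_ hi' hc'
    · rw [hs.smul_left, hs.smul_right, ← mul_assoc, hs', div_mul_cancel₀ _ hN]
    · rw [← smul_add, hs.smul_left, hs.smul_right, hi, mul_zero, mul_zero]
  obtain ⟨m, hm⟩ := trace_surjective hf.ne_refl hf.involutive (a := (1 : F)) (map_one σ)
  have hm0 : m ≠ 0 := fun h => by simp [h] at hm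
  refine su_le_of_forall_uTv hf hσ hF (by omega) fun u hu => ?_
  obtain ⟨a', ha', b', hb', rfl⟩ := hdec u
  rcases eq_or_ne a' 0 with rfl | ha'0
  · rw [zero_add] at hu ⊢; exact hcP b' hu hb'
  rcases eq_or_ne b' 0 with rfl | hb'0
  · rw [add_zero] at hu ⊢; exact hcW a' hu ha'
  by_cases hN : η a a = 0 <;> by_cases hN' : η a' a' = 0
  · exact same a ha b hb a' ha' b' hb' ha0 hb0 ha'0 hb'0 (hN.trans hN'.symm) hx hu hcx
  · -- from isotropic components to anisotropic ones
    obtain ⟨z, hz, hz'⟩ := hWn a ha ha0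
    obtain ⟨w₂, hw₂, hw₂0, hw₂1⟩ := exists_iso_partner hf ha hN hz (unitary_ne_symm hf hz')
    obtain ⟨e, he, he0, hee⟩ := exists_iso_mem hf P (by omega)
    obtain ⟨z, hz, hz'⟩ := hPn e he he0
    obtain ⟨e₁, he₁, he₁0, he₁1⟩ := exists_iso_partner hf he hee hz (unitary_ne_symm hf hz')
    set p := -m + δ with hp
    have hp0 : p ≠ 0 := fun h => by
      have h1 := congrArg (fun r => r + σ r) h
      simp only [hp, map_add, map_neg, hδ, map_zero, add_zero] at h1
      exact one_ne_zero (by linear_combination -h1 - hm)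
    have hi1 : η (m • w₂ + p • e₁) (m • w₂ + p • e₁) = 0 := by
      rw [hnorm _ (W.smul_mem _ hw₂) _ (P.smul_mem _ he₁), hs.smul_left, hs.smul_right, hw₂0,
        hs.smul_left, hs.smul_right, he₁0]
      ring
    have hi2 : η (a + e) (a + e) = 0 := by rw [hnorm a ha e he, hN, hee, add_zero]
    have hne₁ : e₁ ≠ 0 := fun h => by simp [h, hs.zero_left] at he₁1
    have hne₂ : w₂ ≠ 0 := fun h => by simp [h, hs.zero_left] at hw₂1
    have c1 := same a ha b hb _ (W.smul_mem m hw₂) _ (P.smul_mem p he₁) ha0 hb0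
      (smul_ne_zero hm0 hne₂) (smul_ne_zero hp0 hne₁)
      (by rw [hN, hs.smul_left, hs.smul_right, hw₂0, mul_zero, mul_zero]) hx hi1 hcx
    have c2 := same a ha b hb a ha e he ha0 hb0 ha0 he0 rfl hx hi2 hcx
    have hxy : η (m • w₂ + p • e₁) (a + e) = δ := by
      rw [hs.add_left, hs.add_right, hs.add_right, hs.smul_left, hs.smul_left, hs.smul_left,
        hs.smul_left, hw₂1, he₁1, hbW e₁ he₁ a ha, haP w₂ hw₂ e he, hp]
      ring
    have hyx : η (a + e) (m • w₂ + p • e₁) = -δ := by rw [hf.herm, hxy, hδ]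
    have hiz : η (m • w₂ + p • e₁ + (a + e)) (m • w₂ + p • e₁ + (a + e)) = 0 := by
      rw [hs.add_left (m • w₂ + p • e₁) (a + e),
        hs.add_right (m • w₂ + p • e₁) (m • w₂ + p • e₁) (a + e),
        hs.add_right (a + e) (m • w₂ + p • e₁) (a + e), hi1, hi2, hxy, hyx]
      ring
    have c3 := centreIn_add hf c1 c2 hi1 hi2 (by rw [hxy]; exact hδ0) hiz
    have e3 : m • w₂ + p • e₁ + (a + e) = (m • w₂ + a) + (p • e₁ + e) := by abel
    rw [e3] at c3 hiz
    refine scale _ (W.add_mem (W.smul_mem _ hw₂) ha) _ (P.add_mem (P.smul_mem _ he₁) he) a' ha' b' hb'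
      ?_ hN' hiz hu c3
    simp only [hs.add_left, hs.add_right, hs.smul_left, hs.smul_right, hw₂0, hN, hw₂1,
      hf.herm a w₂, map_one, mul_zero, mul_one, zero_add, add_zero]
    exact fun h => one_ne_zero (by linear_combination h - hm)
  · -- from anisotropic components to isotropic ones
    obtain ⟨z, hz, hz'⟩ := hWn a' ha' ha'0
    obtain ⟨w₂, hw₂, hw₂0, hw₂1⟩ := exists_iso_partner hf ha' hN' hz (unitary_ne_symm hf hz')
    have hbN : η b' b' = 0 := by rwa [hnorm a' ha' b' hb', hN', zero_add] at hu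
    set r := σ (m / δ) with hr
    set A := δ • w₂ + r • a' with hA
    have hAW : A ∈ W := W.add_mem (W.smul_mem _ hw₂) (W.smul_mem _ ha')
    have hAa : η A a' = δ := by rw [hA, hs.add_left, hs.smul_left, hs.smul_left, hw₂1, hN']; ring
    have haA : η a' A = -δ := by rw [hf.herm, hAa, hδ]
    have hσr : σ r = m / δ := by rw [hr, hf.involutive]
    have hr' : r = σ m / -δ := by rw [hr, map_div₀, hδ]
    have hAN : η A A = 1 := by
      simp only [hA, hs.add_left, hs.add_right, hs.smul_left, hs.smul_right, hw₂0, hN', hw₂1,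
        hf.herm a' w₂, map_one, hδ]
      rw [hσr, hr']
      field_simp
      linear_combination δ ^ 2 * hm
    obtain ⟨B, hB, hBN, hBb⟩ := hPnorm b' (-1) (by rw [map_neg, map_one]) (by norm_num)
    have hbB : η b' B = 0 := unitary_orth_symm hf hBb
    have hA2N : η (A - a') (A - a') = 1 := by
      rw [hs.sub_left, hs.sub_right, hs.sub_right, hAN, hN', hAa, haA]; ring
    have hi1 : η (A + B) (A + B) = 0 := by rw [hnorm A hAW B hB, hAN, hBN]; ring
    have hi2 : η (A - a' + (B - b')) (A - a' + (B - b')) = 0 := by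
      rw [hnorm _ (W.sub_mem hAW ha') _ (P.sub_mem hB hb'), hA2N, hs.sub_left B, hs.sub_right B,
        hs.sub_right b', hBN, hbN, hBb, hbB]
      ring
    have c1 := scale a ha b hb A hAW B hB hN (by rw [hAN]; exact one_ne_zero) hx hi1 hcx
    have c2 := scale a ha b hb _ (W.sub_mem hAW ha') _ (P.sub_mem hB hb') hN
      (by rw [hA2N]; exact one_ne_zero) hx hi2 hcx
    have c2' := centreIn_smul hf c2 (-1 : F)
    rw [neg_one_smul] at c2'
    have e3 : A + B + -(A - a' + (B - b')) = a' + b' := by abel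
    rw [← e3] at hu ⊢
    refine centreIn_add hf c1 c2' hi1 (by rw [hs.neg_left, hs.neg_right, hi2]; ring) ?_ hu
    rw [hs.neg_right, hs.add_right (A + B), hs.add_left A B, hs.add_left A B, hs.sub_right A A a',
      hs.sub_right B B b',
      hbW B hB _ (W.sub_mem hAW ha'), haP A hAW _ (P.sub_mem hB hb'), hAN, hAa, hBN, hBb]
    intro h
    exact hδ0 (by linear_combination h)
  · exact scale a ha b hb a' ha' b' hb' hN hN' hx hu hcx

end CfsgLib.MaxSub.UC
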