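import Cfsg.Agent.Transpositions.SUThreeTwo

/-!
# Tables for the Heisenberg group of order 27 in the unitary group of dimension three over four elements
-/

set_option autoImplicit false
set_option maxRecDepth 100000

namespace CfsgLib.MaxSub.ThreeTables

open CfsgLib.Transpositions.SUThreeTwo

/-- Conjugate transpose over the table field. -/
def starM (A : Fin 3 → Fin 3 → Fin 4) : Fin 3 → Fin 3 → Fin 4 := fun i j => mulT (A j i) (A j i)

/-- Determinant over the table field. -/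
def detT (A : Fin 3 → Fin 3 → Fin 4) : Fin 4 :=
  addT (addT (addT (mulT (mulT (A 0 0) (A 1 1)) (A 2 2)) (mulT (mulT (A 0 1) (A 1 2)) (A 2 0)))
      (addT (mulT (mulT (A 0 2) (A 1 0)) (A 2 1)) (mulT (mulT (A 0 2) (A 1 1)) (A 2 0))))
    (addT (mulT (mulT (A 0 1) (A 1 0)) (A 2 2)) (mulT (mulT (A 0 0) (A 1 2)) (A 2 1)))

/-- A diagonal unitary matrix of determinant different from one. -/
def reflM : Fin 3 → Fin 3 → Fin 4 := ![![1,0,0],![0,1,0],![0,0,2]]

/-- The unitary Fourier matrix. -/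
def fourM : Fin 3 → Fin 3 → Fin 4 := ![![1,1,1],![1,2,3],![1,3,2]]

/-- Sum of three multiples. -/
def comb (l₀ l₁ l₂ : Fin 4) (A B C : Fin 3 → Fin 3 → Fin 4) : Fin 3 → Fin 3 → Fin 4 := fun i j =>
  addT (addT (mulT l₀ (A i j)) (mulT l₁ (B i j))) (mulT l₂ (C i j))

/-- A matrix unit. -/
def unitM (a b : Fin 3) : Fin 3 → Fin 3 → Fin 4 := fun i j => if i = a ∧ j = b then 1 else 0

/-- Vectors from triples. -/
def vec3 (a : Fin 4 × Fin 4 × Fin 4) : Fin 3 → Fin 4 := ![a.1, a.2.1, a.2.2]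

/-- The matrix with the given columns. -/
def colsM (a b c : Fin 4 × Fin 4 × Fin 4) : Fin 3 → Fin 3 → Fin 4 := fun i j => ![vec3 a, vec3 b, vec3 c] j i

theorem code_mul : ∀ p q, ∃ r, ∀ i j, mulM (codeM p) (codeM q) i j = codeM r i j := by decide +kernel

theorem code_one : ∀ i j, codeM (0, 0, 0) i j = oneM i j := by decide +kernel

theorem code_star : ∀ p, ∀ i j, mulM (starM (codeM p)) (codeM p) i j = oneM i j := by decide +kernel

theorem code_star_mem : ∀ p, ∃ r, ∀ i j, starM (codeM p) i j = codeM r i j := by decide +kernel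

theorem code_det : ∀ p, detT (codeM p) = 1 := by decide +kernel

theorem code_cube : ∀ p, ∀ i j, mulM (codeM p) (mulM (codeM p) (codeM p)) i j = oneM i j := by
  decide +kernel

theorem code_central : ∀ p, p.1 = 0 ∧ p.2.1 = 0 → ∀ i j,
    codeM p i j = mulT (![1, 3, 2] p.2.2) (oneM i j) := by decide +kernel

theorem code_comm : ∀ p q, ∃ s : Fin 3, ∀ i j,
    mulM (codeM p) (codeM q) i j = mulT (![1, 3, 2] s) (mulM (codeM q) (codeM p) i j) := by
  decide +kernel

theorem code_moved : ∀ p, p.1 ≠ 0 ∨ p.2.1 ≠ 0 → ∃ b : Bool,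
    let g := cond b reflM fourM
    let p' := mulM g (mulM (codeM p) (starM g))
    ∃ i j, mulM p' (codeM p) i j ≠ mulM (codeM p) p' i j := by decide +kernel

theorem refl_star : ∀ b : Bool, ∀ i j,
    mulM (starM (cond b reflM fourM)) (cond b reflM fourM) i j = oneM i j := by decide +kernel

theorem code_span : ∀ a b, ∃ (l₀ l₁ l₂ : Fin 4) (u : Fin 3), ∀ i j, unitM a b i j =
    comb l₀ l₁ l₂ (codeM (u, 0, 0)) (codeM (u, 1, 0)) (codeM (u, 2, 0)) i j := by decide +kernel

theorem cube_code : ∀ a, hermT (vec3 a) (vec3 a) = 1 → ∀ b, hermT (vec3 b) (vec3 b) = 1 →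
    hermT (vec3 a) (vec3 b) = 0 → ∀ c, hermT (vec3 c) (vec3 c) = 1 →
    hermT (vec3 a) (vec3 c) = 0 → hermT (vec3 b) (vec3 c) = 0 → detT (colsM a b c) = 1 →
    (∀ i j, mulM (colsM a b c) (mulM (colsM a b c) (colsM a b c)) i j = oneM i j) →
    ∃ p, ∀ i j, colsM a b c i j = codeM p i j := by decide +kernel

end CfsgLib.MaxSub.ThreeTables
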